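import Cfsg.Agent.Lib.Helper29.TcCox
import Cfsg.Prelude.Def_Spor_Fi23
import Cfsg.Agent.Lib.Helper29.S1689.Tab0
import Cfsg.Agent.Lib.Helper29.S1689.Tab1
import Cfsg.Agent.Lib.Helper29.S1689.Tab2
import Cfsg.Agent.Lib.Helper29.S1689.Tab3

/-! Generated certificate data for S1689 (Fi23): tables of a Todd–Coxeter trace and of the coset action. -/

set_option autoImplicit false

namespace Cfsg.Agent.Lib.Helper29.S1689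

open Cfsg.Agent.Lib.Helper29.TcTrace Cfsg.Agent.Lib.Helper29.TcCert Cfsg.Agent.Lib.Helper29.TcPerm

def nodesL : List Cfsg.Spor.Fi23.Gen := [.a, .b, .c, .d, .e, .f, .g, .j, .h, .i]
def extraWords : List (List (Cfsg.Spor.Fi23.Gen × Bool)) := [[(.d, true), (.c, true), (.b, true), (.d, true), (.e, true), (.f, true), (.d, true), (.h, true), (.i, true), (.d, true), (.c, true), (.b, true), (.d, true), (.e, true), (.f, true), (.d, true), (.h, true), (.i, true), (.d, true), (.c, true), (.b, true), (.d, true), (.e, true), (.f, true), (.d, true), (.h, true), (.i, true), (.d, true), (.c, true), (.b, true), (.d, true), (.e, true), (.f, true), (.d, true), (.h, true), (.i, true), (.d, true), (.c, true), (.b, true), (.d, true), (.e, true), (.f, true), (.d, true), (.h, true), (.i, true),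 (.d, true), (.c, true), (.b, true), (.d, true), (.e, true), (.f, true), (.d, true), (.h, true), (.i, true), (.d, true), (.c, true), (.b, true), (.d, true), (.e, true), (.f, true), (.d, true), (.h, true), (.i, true), (.d, true), (.c, true), (.b, true), (.d, true), (.e, true), (.f, true), (.d, true), (.h, true), (.i, true), (.d, true), (.c, true), (.b, true), (.d, true), (.e, true), (.f, true), (.d, true), (.h, true), (.i, true), (.d, true), (.c, true), (.b, true), (.d, true), (.e, true), (.f, true), (.d, true), (.h, true), (.i, true)],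
  [(.a, true), (.b, true), (.c, true), (.d, true), (.e, true), (.f, true), (.h, true), (.a, true), (.b, true), (.c, true), (.d, true), (.e, true), (.f, true), (.h, true), (.a, true), (.b, true), (.c, true), (.d, true), (.e, true), (.f, true), (.h, true), (.a, true), (.b, true), (.c, true), (.d, true), (.e, true), (.f, true), (.h, true), (.a, true), (.b, true), (.c, true), (.d, true), (.e, true), (.f, true), (.h, true), (.a, true), (.b, true), (.c, true), (.d, true), (.e, true), (.f, true), (.h, true), (.a, true), (.b, true), (.c, true), (.d, true), (.e, true), (.f, true), (.h, true), (.a, true), (.b, true), (.c, true), (.d, true), (.e, true), (.f, true), (.h, true), (.a, true), (.b, true), (.c, true), (.d, true), (.e, true), (.f, true), (.h, true)]]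
def hWords : List (List (Cfsg.Spor.Fi23.Gen × Bool)) := [[(.a, true)],
  [(.b, true)],
  [(.c, true)],
  [(.d, true)],
  [(.e, true)],
  [(.f, true)],
  [(.g, true)],
  [(.h, true)],
  [(.i, true)]]
def colOf : Cfsg.Spor.Fi23.Gen × Bool → ℕ
  | (.a, _) => 0
  | (.b, _) => 1
  | (.c, _) => 2
  | (.d, _) => 3
  | (.e, _) => 4
  | (.f, _) => 5
  | (.g, _) => 6
  | (.j, _) => 7
  | (.h, _) => 8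
  | (.i, _) => 9
def colLetters : List (Cfsg.Spor.Fi23.Gen × Bool) := [(.a, true), (.b, true), (.c, true), (.d, true), (.e, true), (.f, true), (.g, true), (.j, true), (.h, true), (.i, true)]
def invL : List ℕ := [0, 1, 2, 3, 4, 5, 6, 7, 8, 9]
def vtree : WTree := (.node (.node (.node (.node (.node (.node (.node (.node (.leaf 76 0 []) (.leaf 72 1 [15, 5])) (.node (.leaf 33 1 [9, 3, 9, 3]) (.leaf 76 0 []))) (.node (.node (.leaf 16 1 [7, 1, 7, 1]) (.leaf 76 0 [])) (.node (.leaf 51 1 [9, 7, 9, 7]) (.leaf 76 0 [])))) (.node (.node (.node (.leaf 8 0 [0, 8, 0, 8]) (.leaf 76 0 [])) (.node (.leaf 42 1 [7, 5, 7, 5]) (.leaf 76 0 []))) (.node (.node (.leaf 25 0 [2, 8, 2, 8]) (.leaf 76 0 [])) (.node (.leaf 56 2 [2, 3, 4, 5, 8, 0, 1, 2, 3, 4, 5, 8, 0, 1, 2, 3, 4, 5, 8, 0, 1, 2, 3, 4,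 5, 8, 0, 1, 2, 3, 4, 5, 8, 0, 1, 2, 3, 4, 5, 8, 0, 1, 2, 3, 4, 5, 8, 0, 1, 2, 3, 4, 5, 8, 0, 1, 2, 3, 4, 5, 8, 0, 1]) (.leaf 76 0 []))))) (.node (.node (.node (.node (.leaf 4 0 [0, 4, 0, 4]) (.leaf 76 0 [])) (.node (.leaf 38 0 [4, 8, 4, 8]) (.leaf 76 0 []))) (.node (.node (.leaf 21 0 [2, 4, 2, 4]) (.leaf 76 0 [])) (.node (.leaf 55 3 [3, 4, 5, 3, 8, 9, 3, 2, 1, 3, 4, 5, 3, 8, 9, 3, 2, 1, 3, 4, 5, 3, 8, 9, 3, 2, 1, 3, 4, 5, 3, 8, 9, 3, 2, 1, 3, 4, 5, 3, 8, 9, 3, 2, 1, 3, 4, 5, 3, 8, 9, 3, 2, 1, 3, 4, 5, 3, 8, 9, 3, 2, 1, 3, 4, 5, 3, 8, 9, 3, 2, 1, 3, 4, 5, 3, 8, 9, 3, 2, 1, 3, 4, 5, 3, 8, 9, 3, 2, 1]) (.leaf 76 0 [])))) (.node (.node (.node (.leaf 12 1 [3, 1, 3, 1]) (.leaf 76 0 [])) (.node (.leaf 47 0 [6, 8, 6, 8]) (.leaf 76 0 []))) (.node (.node (.leaf 29 1 [5, 3, 5, 3])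 (.leaf 76 0 [])) (.node (.leaf 68 1 [11, 1]) (.leaf 76 0 [])))))) (.node (.node (.node (.node (.node (.leaf 2 0 [0, 2, 0, 2]) (.leaf 74 1 [17, 8])) (.node (.leaf 36 0 [4, 6, 4, 6]) (.leaf 76 0 []))) (.node (.node (.leaf 18 1 [9, 1, 9, 1]) (.leaf 76 0 [])) (.node (.leaf 54 0 [9, 9]) (.leaf 76 0 [])))) (.node (.node (.node (.leaf 10 0 [1, 1]) (.leaf 76 0 [])) (.node (.leaf 44 1 [9, 5, 9, 5]) (.leaf 76 0 []))) (.node (.node (.leaf 27 0 [3, 3]) (.leaf 76 0 [])) (.node (.leaf 56 6 [8, 0, 1, 2, 3, 4, 5, 8, 0, 1, 2, 3, 4, 5, 8, 0, 1, 2, 3, 4, 5, 8, 0, 1, 2, 3, 4, 5, 8, 0, 1, 2, 3, 4, 5, 8, 0, 1, 2, 3, 4, 5, 8, 0, 1, 2, 3, 4, 5, 8, 0, 1, 2, 3, 4, 5, 8, 0, 1, 2, 3, 4, 5]) (.leaf 76 0 []))))) (.node (.node (.node (.node (.leaf 6 0 [0, 6, 0, 6]) (.leaf 76 0 [])) (.node (.leaf 40 0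 [5, 5]) (.leaf 76 0 []))) (.node (.node (.leaf 23 0 [2, 6, 2, 6]) (.leaf 76 0 [])) (.node (.leaf 55 7 [8, 9, 3, 2, 1, 3, 4, 5, 3, 8, 9, 3, 2, 1, 3, 4, 5, 3, 8, 9, 3, 2, 1, 3, 4, 5, 3, 8, 9, 3, 2, 1, 3, 4, 5, 3, 8, 9, 3, 2, 1, 3, 4, 5, 3, 8, 9, 3, 2, 1, 3, 4, 5, 3, 8, 9, 3, 2, 1, 3, 4, 5, 3, 8, 9, 3, 2, 1, 3, 4, 5, 3, 8, 9, 3, 2, 1, 3, 4, 5, 3, 8, 9, 3, 2, 1, 3, 4, 5, 3]) (.leaf 76 0 [])))) (.node (.node (.node (.leaf 14 1 [5, 1, 5, 1]) (.leaf 76 0 [])) (.node (.leaf 49 0 [7, 7]) (.leaf 76 0 []))) (.node (.node (.leaf 31 1 [7, 3, 7, 3]) (.leaf 76 0 [])) (.node (.leaf 70 1 [13, 3]) (.leaf 76 0 []))))))) (.node (.node (.node (.node (.node (.node (.leaf 1 0 [0, 1, 0, 1, 0, 1]) (.leaf 73 1 [16, 6])) (.node (.leaf 35 0 [4, 5, 4, 5, 4, 5]) (.leaf 76 0 []))) (.node (.node (.leaf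 17 1 [8, 1, 8, 1]) (.leaf 76 0 [])) (.node (.leaf 53 0 [8, 9, 8, 9, 8, 9]) (.leaf 76 0 [])))) (.node (.node (.node (.leaf 9 0 [0, 9, 0, 9]) (.leaf 76 0 [])) (.node (.leaf 43 1 [8, 5, 8, 5]) (.leaf 76 0 []))) (.node (.node (.leaf 26 0 [2, 9, 2, 9]) (.leaf 76 0 [])) (.node (.leaf 56 4 [4, 5, 8, 0, 1, 2, 3, 4, 5, 8, 0, 1, 2, 3, 4, 5, 8, 0, 1, 2, 3, 4, 5, 8, 0, 1, 2, 3, 4, 5, 8, 0, 1, 2, 3, 4, 5, 8, 0, 1, 2, 3, 4, 5, 8, 0, 1, 2, 3, 4, 5, 8, 0, 1, 2, 3, 4, 5, 8, 0, 1, 2, 3]) (.leaf 76 0 []))))) (.node (.node (.node (.node (.leaf 5 0 [0, 5, 0, 5]) (.leaf 76 0 [])) (.node (.leaf 39 0 [4, 9, 4, 9]) (.leaf 76 0 []))) (.node (.node (.leaf 22 0 [2, 5, 2, 5]) (.leaf 76 0 [])) (.node (.leaf 55 5 [5, 3, 8, 9, 3, 2, 1, 3, 4, 5, 3, 8, 9, 3, 2, 1, 3, 4, 5, 3, 8, 9, 3, 2, 1, 3, 4, 5, 3, 8,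 9, 3, 2, 1, 3, 4, 5, 3, 8, 9, 3, 2, 1, 3, 4, 5, 3, 8, 9, 3, 2, 1, 3, 4, 5, 3, 8, 9, 3, 2, 1, 3, 4, 5, 3, 8, 9, 3, 2, 1, 3, 4, 5, 3, 8, 9, 3, 2, 1, 3, 4, 5, 3, 8, 9, 3, 2, 1, 3, 4]) (.leaf 76 0 [])))) (.node (.node (.node (.leaf 13 1 [4, 1, 4, 1]) (.leaf 76 0 [])) (.node (.leaf 48 0 [6, 9, 6, 9]) (.leaf 76 0 []))) (.node (.node (.leaf 30 1 [6, 3, 6, 3]) (.leaf 76 0 [])) (.node (.leaf 69 1 [12, 2]) (.leaf 76 0 [])))))) (.node (.node (.node (.node (.node (.leaf 3 0 [0, 3, 0, 3]) (.leaf 75 1 [18, 9])) (.node (.leaf 37 0 [4, 7, 4, 7]) (.leaf 76 0 []))) (.node (.node (.leaf 20 0 [2, 3, 2, 3, 2, 3]) (.leaf 76 0 [])) (.node (.leaf 55 1 [2, 1, 3, 4, 5, 3, 8, 9, 3, 2, 1, 3, 4, 5, 3, 8, 9, 3, 2, 1, 3, 4, 5, 3, 8, 9, 3, 2, 1, 3, 4, 5, 3, 8, 9, 3, 2, 1, 3, 4, 5, 3, 8, 9, 3, 2, 1, 3,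 4, 5, 3, 8, 9, 3, 2, 1, 3, 4, 5, 3, 8, 9, 3, 2, 1, 3, 4, 5, 3, 8, 9, 3, 2, 1, 3, 4, 5, 3, 8, 9, 3, 2, 1, 3, 4, 5, 3, 8, 9, 3]) (.leaf 76 0 [])))) (.node (.node (.node (.leaf 11 1 [2, 1, 2, 1, 2, 1]) (.leaf 76 0 [])) (.node (.leaf 46 0 [6, 7, 6, 7, 6, 7]) (.leaf 76 0 []))) (.node (.node (.leaf 28 1 [4, 3, 4, 3, 4, 3]) (.leaf 76 0 [])) (.node (.leaf 67 1 [10, 0]) (.leaf 76 0 []))))) (.node (.node (.node (.node (.leaf 7 0 [0, 7, 0, 7]) (.leaf 76 0 [])) (.node (.leaf 41 1 [6, 5, 6, 5, 6, 5]) (.leaf 76 0 []))) (.node (.node (.leaf 24 0 [2, 7, 2, 7]) (.leaf 76 0 [])) (.node (.leaf 56 0 [0, 1, 2, 3, 4, 5, 8, 0, 1, 2, 3, 4, 5, 8, 0, 1, 2, 3, 4, 5, 8, 0, 1, 2, 3, 4, 5, 8, 0, 1, 2, 3, 4, 5, 8, 0, 1, 2, 3, 4, 5, 8, 0, 1, 2, 3, 4, 5, 8, 0, 1, 2, 3, 4, 5, 8, 0, 1, 2, 3, 4, 5, 8]) (.leaf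 76 0 [])))) (.node (.node (.node (.leaf 15 1 [6, 1, 6, 1]) (.leaf 76 0 [])) (.node (.leaf 50 1 [8, 7, 8, 7]) (.leaf 76 0 []))) (.node (.node (.leaf 32 1 [8, 3, 8, 3, 8, 3]) (.leaf 76 0 [])) (.node (.leaf 71 1 [14, 4]) (.leaf 76 0 [])))))))) (.node (.node (.node (.node (.node (.node (.node (.leaf 0 0 [0, 0]) (.leaf 73 0 [6, 16])) (.node (.leaf 34 0 [4, 4]) (.leaf 76 0 []))) (.node (.node (.leaf 17 0 [1, 8, 1, 8]) (.leaf 76 0 [])) (.node (.leaf 52 0 [8, 8]) (.leaf 76 0 [])))) (.node (.node (.node (.leaf 8 1 [8, 0, 8, 0]) (.leaf 76 0 [])) (.node (.leaf 43 0 [5, 8, 5, 8]) (.leaf 76 0 []))) (.node (.node (.leaf 25 1 [8, 2, 8, 2]) (.leaf 76 0 [])) (.node (.leaf 56 3 [3, 4, 5, 8, 0, 1, 2, 3, 4, 5, 8, 0, 1, 2, 3, 4, 5, 8, 0, 1, 2, 3, 4, 5, 8, 0, 1, 2, 3, 4, 5, 8, 0, 1, 2, 3, 4,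 5, 8, 0, 1, 2, 3, 4, 5, 8, 0, 1, 2, 3, 4, 5, 8, 0, 1, 2, 3, 4, 5, 8, 0, 1, 2]) (.leaf 76 0 []))))) (.node (.node (.node (.node (.leaf 4 1 [4, 0, 4, 0]) (.leaf 76 0 [])) (.node (.leaf 38 1 [8, 4, 8, 4]) (.leaf 76 0 []))) (.node (.node (.leaf 21 1 [4, 2, 4, 2]) (.leaf 76 0 [])) (.node (.leaf 55 4 [4, 5, 3, 8, 9, 3, 2, 1, 3, 4, 5, 3, 8, 9, 3, 2, 1, 3, 4, 5, 3, 8, 9, 3, 2, 1, 3, 4, 5, 3, 8, 9, 3, 2, 1, 3, 4, 5, 3, 8, 9, 3, 2, 1, 3, 4, 5, 3, 8, 9, 3, 2, 1, 3, 4, 5, 3, 8, 9, 3, 2, 1, 3, 4, 5, 3, 8, 9, 3, 2, 1, 3, 4, 5, 3, 8, 9, 3, 2, 1, 3, 4, 5, 3, 8, 9, 3, 2, 1, 3]) (.leaf 76 0 [])))) (.node (.node (.node (.leaf 13 0 [1, 4, 1, 4]) (.leaf 76 0 [])) (.node (.leaf 47 1 [8, 6, 8, 6]) (.leaf 76 0 []))) (.node (.node (.leaf 30 0 [3, 6, 3, 6]) (.leaf 76 0 [])) (.node (.leaf 69 0 [2,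 12]) (.leaf 76 0 [])))))) (.node (.node (.node (.node (.node (.leaf 2 1 [2, 0, 2, 0]) (.leaf 75 0 [9, 18])) (.node (.leaf 36 1 [6, 4, 6, 4]) (.leaf 76 0 []))) (.node (.node (.leaf 19 0 [2, 2]) (.leaf 76 0 [])) (.node (.leaf 55 0 [3, 2, 1, 3, 4, 5, 3, 8, 9, 3, 2, 1, 3, 4, 5, 3, 8, 9, 3, 2, 1, 3, 4, 5, 3, 8, 9, 3, 2, 1, 3, 4, 5, 3, 8, 9, 3, 2, 1, 3, 4, 5, 3, 8, 9, 3, 2, 1, 3, 4, 5, 3, 8, 9, 3, 2, 1, 3, 4, 5, 3, 8, 9, 3, 2, 1, 3, 4, 5, 3, 8, 9, 3, 2, 1, 3, 4, 5, 3, 8, 9, 3, 2, 1, 3, 4, 5, 3, 8, 9]) (.leaf 76 0 [])))) (.node (.node (.node (.leaf 11 0 [1, 2, 1, 2, 1, 2]) (.leaf 76 0 [])) (.node (.leaf 45 0 [6, 6]) (.leaf 76 0 []))) (.node (.node (.leaf 28 0 [3, 4, 3, 4, 3, 4]) (.leaf 76 0 [])) (.node (.leaf 67 0 [0, 10]) (.leaf 76 0 []))))) (.node (.node (.node (.node (.leaf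 6 1 [6, 0, 6, 0]) (.leaf 76 0 [])) (.node (.leaf 41 0 [5, 6, 5, 6, 5, 6]) (.leaf 76 0 []))) (.node (.node (.leaf 23 1 [6, 2, 6, 2]) (.leaf 76 0 [])) (.node (.leaf 55 8 [9, 3, 2, 1, 3, 4, 5, 3, 8, 9, 3, 2, 1, 3, 4, 5, 3, 8, 9, 3, 2, 1, 3, 4, 5, 3, 8, 9, 3, 2, 1, 3, 4, 5, 3, 8, 9, 3, 2, 1, 3, 4, 5, 3, 8, 9, 3, 2, 1, 3, 4, 5, 3, 8, 9, 3, 2, 1, 3, 4, 5, 3, 8, 9, 3, 2, 1, 3, 4, 5, 3, 8, 9, 3, 2, 1, 3, 4, 5, 3, 8, 9, 3, 2, 1, 3, 4, 5, 3, 8]) (.leaf 76 0 [])))) (.node (.node (.node (.leaf 15 0 [1, 6, 1, 6]) (.leaf 76 0 [])) (.node (.leaf 50 0 [7, 8, 7, 8]) (.leaf 76 0 []))) (.node (.node (.leaf 32 0 [3, 8, 3, 8, 3, 8]) (.leaf 76 0 [])) (.node (.leaf 71 0 [4, 14]) (.leaf 76 0 []))))))) (.node (.node (.node (.node (.node (.node (.leaf 1 1 [1, 0, 1, 0, 1, 0]) (.leaf 74 0 [8, 17]))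 (.node (.leaf 35 1 [5, 4, 5, 4, 5, 4]) (.leaf 76 0 []))) (.node (.node (.leaf 18 0 [1, 9, 1, 9]) (.leaf 76 0 [])) (.node (.leaf 53 1 [9, 8, 9, 8, 9, 8]) (.leaf 76 0 [])))) (.node (.node (.node (.leaf 9 1 [9, 0, 9, 0]) (.leaf 76 0 [])) (.node (.leaf 44 0 [5, 9, 5, 9]) (.leaf 76 0 []))) (.node (.node (.leaf 26 1 [9, 2, 9, 2]) (.leaf 76 0 [])) (.node (.leaf 56 5 [5, 8, 0, 1, 2, 3, 4, 5, 8, 0, 1, 2, 3, 4, 5, 8, 0, 1, 2, 3, 4, 5, 8, 0, 1, 2, 3, 4, 5, 8, 0, 1, 2, 3, 4, 5, 8, 0, 1, 2, 3, 4, 5, 8, 0, 1, 2, 3, 4, 5, 8, 0, 1, 2, 3, 4, 5, 8, 0, 1, 2, 3, 4]) (.leaf 76 0 []))))) (.node (.node (.node (.node (.leaf 5 1 [5, 0, 5, 0]) (.leaf 76 0 [])) (.node (.leaf 39 1 [9, 4, 9, 4]) (.leaf 76 0 []))) (.node (.node (.leaf 22 1 [5, 2, 5, 2]) (.leaf 76 0 [])) (.node (.leaf 55 6 [3, 8, 9, 3,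 2, 1, 3, 4, 5, 3, 8, 9, 3, 2, 1, 3, 4, 5, 3, 8, 9, 3, 2, 1, 3, 4, 5, 3, 8, 9, 3, 2, 1, 3, 4, 5, 3, 8, 9, 3, 2, 1, 3, 4, 5, 3, 8, 9, 3, 2, 1, 3, 4, 5, 3, 8, 9, 3, 2, 1, 3, 4, 5, 3, 8, 9, 3, 2, 1, 3, 4, 5, 3, 8, 9, 3, 2, 1, 3, 4, 5, 3, 8, 9, 3, 2, 1, 3, 4, 5]) (.leaf 76 0 [])))) (.node (.node (.node (.leaf 14 0 [1, 5, 1, 5]) (.leaf 76 0 [])) (.node (.leaf 48 1 [9, 6, 9, 6]) (.leaf 76 0 []))) (.node (.node (.leaf 31 0 [3, 7, 3, 7]) (.leaf 76 0 [])) (.node (.leaf 70 0 [3, 13]) (.leaf 76 0 [])))))) (.node (.node (.node (.node (.node (.leaf 3 1 [3, 0, 3, 0]) (.leaf 76 0 [])) (.node (.leaf 37 1 [7, 4, 7, 4]) (.leaf 76 0 []))) (.node (.node (.leaf 20 1 [3, 2, 3, 2, 3, 2]) (.leaf 76 0 [])) (.node (.leaf 55 2 [1, 3, 4, 5, 3, 8, 9, 3, 2, 1, 3, 4, 5, 3, 8, 9, 3, 2, 1, 3, 4, 5, 3, 8,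 9, 3, 2, 1, 3, 4, 5, 3, 8, 9, 3, 2, 1, 3, 4, 5, 3, 8, 9, 3, 2, 1, 3, 4, 5, 3, 8, 9, 3, 2, 1, 3, 4, 5, 3, 8, 9, 3, 2, 1, 3, 4, 5, 3, 8, 9, 3, 2, 1, 3, 4, 5, 3, 8, 9, 3, 2, 1, 3, 4, 5, 3, 8, 9, 3, 2]) (.leaf 76 0 [])))) (.node (.node (.node (.leaf 12 0 [1, 3, 1, 3]) (.leaf 76 0 [])) (.node (.leaf 46 1 [7, 6, 7, 6, 7, 6]) (.leaf 76 0 []))) (.node (.node (.leaf 29 0 [3, 5, 3, 5]) (.leaf 76 0 [])) (.node (.leaf 68 0 [1, 11]) (.leaf 76 0 []))))) (.node (.node (.node (.node (.leaf 7 1 [7, 0, 7, 0]) (.leaf 76 0 [])) (.node (.leaf 42 0 [5, 7, 5, 7]) (.leaf 76 0 []))) (.node (.node (.leaf 24 1 [7, 2, 7, 2]) (.leaf 76 0 [])) (.node (.leaf 56 1 [1, 2, 3, 4, 5, 8, 0, 1, 2, 3, 4, 5, 8, 0, 1, 2, 3, 4, 5, 8, 0, 1, 2, 3, 4, 5, 8, 0, 1, 2, 3, 4, 5, 8, 0, 1, 2, 3, 4, 5, 8, 0, 1, 2, 3, 4, 5,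 8, 0, 1, 2, 3, 4, 5, 8, 0, 1, 2, 3, 4, 5, 8, 0]) (.leaf 76 0 [])))) (.node (.node (.node (.leaf 16 0 [1, 7, 1, 7]) (.leaf 76 0 [])) (.node (.leaf 51 0 [7, 9, 7, 9]) (.leaf 76 0 []))) (.node (.node (.leaf 33 0 [3, 9, 3, 9]) (.leaf 76 0 [])) (.node (.leaf 72 0 [5, 15]) (.leaf 76 0 [])))))))))
noncomputable def VL : List ℕ := [V0, V1, V2, V3, V4, V5, V6, V7, V8, V9]
noncomputable def RL : List ℕ := [R0, R1, R2, R3, R4, R5, R6, R7, R8, R9, R10, R11, R12, R13, R14, R15, R16, R17, R18]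
noncomputable def D : Data := mkData 21 1354164 31671 8 2097151 VL RL MG MT PAR PL FIN VERT vtree
def lay : Layout := ⟨21, 2097151, 8, 255, 109⟩
def cols : List ℕ := [0, 1, 2, 3, 4, 5, 6, 7, 8, 9]
def baseL : List (List ℕ) := [[0, 0],
  [0, 1, 0, 1, 0, 1],
  [0, 2, 0, 2],
  [0, 3, 0, 3],
  [0, 4, 0, 4],
  [0, 5, 0, 5],
  [0, 6, 0, 6],
  [0, 7, 0, 7],
  [0, 8, 0, 8],
  [0, 9, 0, 9],
  [1, 1],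
  [1, 2, 1, 2, 1, 2],
  [1, 3, 1, 3],
  [1, 4, 1, 4],
  [1, 5, 1, 5],
  [1, 6, 1, 6],
  [1, 7, 1, 7],
  [1, 8, 1, 8],
  [1, 9, 1, 9],
  [2, 2],
  [2, 3, 2, 3, 2, 3],
  [2, 4, 2, 4],
  [2, 5, 2, 5],
  [2, 6, 2, 6],
  [2, 7, 2, 7],
  [2, 8, 2, 8],
  [2, 9, 2, 9],
  [3, 3],
  [3, 4, 3, 4, 3, 4],
  [3, 5, 3, 5],
  [3, 6, 3, 6],
  [3, 7, 3, 7],
  [3, 8, 3, 8, 3, 8],
  [3, 9, 3, 9],
  [4, 4],
  [4, 5, 4, 5, 4, 5],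
  [4, 6, 4, 6],
  [4, 7, 4, 7],
  [4, 8, 4, 8],
  [4, 9, 4, 9],
  [5, 5],
  [5, 6, 5, 6, 5, 6],
  [5, 7, 5, 7],
  [5, 8, 5, 8],
  [5, 9, 5, 9],
  [6, 6],
  [6, 7, 6, 7, 6, 7],
  [6, 8, 6, 8],
  [6, 9, 6, 9],
  [7, 7],
  [7, 8, 7, 8],
  [7, 9, 7, 9],
  [8, 8],
  [8, 9, 8, 9, 8, 9],
  [9, 9],
  [3, 2, 1, 3, 4, 5, 3, 8, 9, 3, 2, 1, 3, 4, 5, 3, 8, 9, 3, 2, 1, 3, 4, 5, 3, 8, 9, 3, 2, 1, 3, 4, 5, 3, 8, 9, 3, 2, 1, 3, 4, 5, 3, 8, 9, 3, 2, 1, 3, 4, 5, 3, 8, 9, 3, 2, 1, 3, 4, 5, 3, 8, 9, 3, 2, 1, 3, 4, 5, 3, 8, 9, 3, 2, 1, 3, 4, 5, 3, 8, 9, 3, 2, 1, 3, 4, 5, 3, 8, 9],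
  [0, 1, 2, 3, 4, 5, 8, 0, 1, 2, 3, 4, 5, 8, 0, 1, 2, 3, 4, 5, 8, 0, 1, 2, 3, 4, 5, 8, 0, 1, 2, 3, 4, 5, 8, 0, 1, 2, 3, 4, 5, 8, 0, 1, 2, 3, 4, 5, 8, 0, 1, 2, 3, 4, 5, 8, 0, 1, 2, 3, 4, 5, 8],
  [0, 0],
  [1, 1],
  [2, 2],
  [3, 3],
  [4, 4],
  [5, 5],
  [6, 6],
  [7, 7],
  [8, 8],
  [9, 9],
  [0, 10],
  [1, 11],
  [2, 12],
  [3, 13],
  [4, 14],
  [5, 15],
  [6, 16],
  [8, 17],
  [9, 18]]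
noncomputable def LL : List ℕ := [L0, L1, L2, L3, L4, L5, L6, L7, L8, L9]
noncomputable def P : LP where
  WL := 20
  WLn := 633420
  mskL := 1048575
  LL := LL
  cols := [0, 1, 2, 3, 4, 5, 6, 7, 8, 9]
  rels := [[0, 0],
    [0, 1, 0, 1, 0, 1],
    [0, 2, 0, 2],
    [0, 3, 0, 3],
    [0, 4, 0, 4],
    [0, 5, 0, 5],
    [0, 6, 0, 6],
    [0, 7, 0, 7],
    [0, 8, 0, 8],
    [0, 9, 0, 9],
    [1, 1],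
    [1, 2, 1, 2, 1, 2],
    [1, 3, 1, 3],
    [1, 4, 1, 4],
    [1, 5, 1, 5],
    [1, 6, 1, 6],
    [1, 7, 1, 7],
    [1, 8, 1, 8],
    [1, 9, 1, 9],
    [2, 2],
    [2, 3, 2, 3, 2, 3],
    [2, 4, 2, 4],
    [2, 5, 2, 5],
    [2, 6, 2, 6],
    [2, 7, 2, 7],
    [2, 8, 2, 8],
    [2, 9, 2, 9],
    [3, 3],
    [3, 4, 3, 4, 3, 4],
    [3, 5, 3, 5],
    [3, 6, 3, 6],
    [3, 7, 3, 7],
    [3, 8, 3, 8, 3, 8],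
    [3, 9, 3, 9],
    [4, 4],
    [4, 5, 4, 5, 4, 5],
    [4, 6, 4, 6],
    [4, 7, 4, 7],
    [4, 8, 4, 8],
    [4, 9, 4, 9],
    [5, 5],
    [5, 6, 5, 6, 5, 6],
    [5, 7, 5, 7],
    [5, 8, 5, 8],
    [5, 9, 5, 9],
    [6, 6],
    [6, 7, 6, 7, 6, 7],
    [6, 8, 6, 8],
    [6, 9, 6, 9],
    [7, 7],
    [7, 8, 7, 8],
    [7, 9, 7, 9],
    [8, 8],
    [8, 9, 8, 9, 8, 9],
    [9, 9],
    [3, 2, 1, 3, 4, 5, 3, 8, 9, 3, 2, 1, 3, 4, 5, 3, 8, 9, 3, 2, 1, 3, 4, 5, 3, 8, 9, 3, 2, 1, 3, 4, 5, 3, 8, 9, 3, 2, 1, 3, 4, 5, 3, 8, 9, 3, 2, 1, 3, 4, 5, 3, 8, 9, 3, 2, 1, 3, 4, 5, 3, 8, 9, 3, 2, 1, 3, 4, 5, 3, 8, 9, 3, 2, 1, 3, 4, 5, 3, 8, 9, 3, 2, 1, 3, 4, 5, 3, 8, 9],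
    [0, 1, 2, 3, 4, 5, 8, 0, 1, 2, 3, 4, 5, 8, 0, 1, 2, 3, 4, 5, 8, 0, 1, 2, 3, 4, 5, 8, 0, 1, 2, 3, 4, 5, 8, 0, 1, 2, 3, 4, 5, 8, 0, 1, 2, 3, 4, 5, 8, 0, 1, 2, 3, 4, 5, 8, 0, 1, 2, 3, 4, 5, 8],
    [0, 0],
    [1, 1],
    [2, 2],
    [3, 3],
    [4, 4],
    [5, 5],
    [6, 6],
    [7, 7],
    [8, 8],
    [9, 9]]
  hws := [[0],
    [1],
    [2],
    [3],
    [4],
    [5],
    [6],
    [8],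
    [9]]
  twl := [[],
    [0],
    [1],
    [2],
    [3],
    [4],
    [5],
    [6],
    [8],
    [9],
    [0],
    [1],
    [2],
    [3],
    [4],
    [5],
    [6],
    [7],
    [8],
    [9]]
  nH := 9
  bounds := [20, 563220]

end Cfsg.Agent.Lib.Helper29.S1689
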