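import Cfsg.Agent.Lib.Helper29.S1689.Data

set_option autoImplicit false
set_option Elab.async false

namespace Cfsg.Agent.Lib.Helper29.S1689

open Cfsg.Agent.Lib.Helper29.TcTrace Cfsg.Agent.Lib.Helper29.TcCert Cfsg.Agent.Lib.Helper29.TcPerm

theorem lblk_0 : chkPBlk P 5 31 18 31671 0 0x124424880a50240c8531e20 = true := by decide +kernel
theorem lblk_1 : chkPBlk P 5 31 18 31671 1 0x109324a928d09324a349125 = true := by decide +kernel
theorem lblk_2 : chkPBlk P 5 31 18 31671 2 0x109424e8498884992512127 = true := by decide +kernel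
theorem lblk_3 : chkPBlk P 5 31 18 31671 3 0x124424e9419093a126224a4 = true := by decide +kernel
theorem lblk_4 : chkPBlk P 5 31 18 31671 4 0x109221274a0c84988322088 = true := by decide +kernel
theorem lblk_5 : chkPBlk P 5 31 18 31671 5 0x4519064414884a12941ca4 = true := by decide +kernel
theorem lblk_6 : chkPBlk P 5 31 18 31671 6 0xa4425094a0e5221274a0c3 = true := by decide +kernel
theorem lblk_7 : chkPBlk P 5 31 18 31671 7 0x8628c88221094a12838c88 = true := by decide +kernel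
theorem lblk_8 : chkPBlk P 5 31 18 31671 8 0x1284a5072a50609445188a3 = true := by decide +kernel
theorem lblk_9 : chkPBlk P 5 31 18 31671 9 0xc519104421294250728c88 = true := by decide +kernel
theorem lblk_10 : chkPBlk P 5 31 18 31671 10 0x8519088425092250611464 = true := by decide +kernel
theorem lblk_11 : chkPBlk P 5 31 18 31671 11 0xa4284c5104a228ce6288a3 = true := by decide +kernel
theorem lblk_12 : chkPBlk P 5 31 18 31671 12 0x64411084a50941d0922507 = true := by decide +kernel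
theorem lblk_13 : chkPBlk P 5 31 18 31671 13 0x6428c844212849128318a5 = true := by decide +kernel
theorem lblk_14 : chkPBlk P 5 31 18 31671 14 0x1091a1244a0251146731445 = true := by decide +kernel
theorem lblk_15 : chkPBlk P 5 31 18 31671 15 0xa131445198a228ca321104 = true := by decide +kernel
theorem lblk_16 : chkPBlk P 5 31 18 31671 16 0x10722085310a121426288e6 = true := by decide +kernel
theorem lblk_17 : chkPBlk P 5 31 18 31671 17 0x10942489418884950922509 = true := by decide +kernel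
theorem lblk_18 : chkPBlk P 5 31 18 31671 18 0x1244a0e6218a228c8519088 = true := by decide +kernel
theorem lblk_19 : chkPBlk P 5 31 18 31671 19 0x45198a228ca32110442468 = true := by decide +kernel
theorem lblk_20 : chkPBlk P 5 31 18 31671 20 0x1091a12421426288e6284c5 = true := by decide +kernel
theorem lblk_21 : chkPBlk P 5 31 18 31671 21 0xc5118a228ca32146442444 = true := by decide +kernel
theorem lblk_22 : chkPBlk P 5 31 18 31671 22 0xa1398a7310a131447310a1 = true := by decide +kernel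
theorem lblk_23 : chkPBlk P 5 31 18 31671 23 0x1094a0c939106310a8214c4 = true := by decide +kernel
theorem lblk_24 : chkPBlk P 5 31 18 31671 24 0x1094248941464424884a124 = true := by decide +kernel
theorem lblk_25 : chkPBlk P 5 31 18 31671 25 0xa131445198a228ca321104 = true := by decide +kernel
theorem lblk_26 : chkPBlk P 5 31 18 31671 26 0xa32212442468490e831cc4 = true := by decide +kernel
theorem lblk_27 : chkPBlk P 5 31 18 31671 27 0xa239885098a23144519464 = true := by decide +kernel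
theorem lblk_28 : chkPBlk P 5 31 18 31671 28 0xa3410a621427314e621426 = true := by decide +kernel
theorem lblk_29 : chkPBlk P 5 31 18 31671 29 0x45198a228c851910911109 = true := by decide +kernel
theorem lblk_30 : chkPBlk P 5 31 18 31671 30 0xc429cc4284e621426288c5 = true := by decide +kernel
theorem lblk_31 : chkPBlk P 5 31 18 31671 31 0xc429cc7418c429cc4284e6 = true := by decide +kernel
theorem lblk_32 : chkPBlk P 5 31 18 31671 32 0x1244212942126414c621106 = true := by decide +kernel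
theorem lblk_33 : chkPBlk P 5 31 18 31671 33 0x10942486288a3220a322088 = true := by decide +kernel
theorem lblk_34 : chkPBlk P 5 31 18 31671 34 0xa131446288a328c8519104 = true := by decide +kernel
theorem lblk_35 : chkPBlk P 5 31 18 31671 35 0xa7418c429cc4284c511cc4 = true := by decide +kernel
theorem lblk_36 : chkPBlk P 5 31 18 31671 36 0xa228c8519109221251a507 = true := by decide +kernel
theorem lblk_37 : chkPBlk P 5 31 18 31671 37 0xc4284e621426288c511466 = true := by decide +kernel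
theorem lblk_38 : chkPBlk P 5 31 18 31671 38 0xc7418c429cc4284e6310a7 = true := by decide +kernel
theorem lblk_39 : chkPBlk P 5 31 18 31671 39 0xa3221292892819106310a7 = true := by decide +kernel
theorem lblk_40 : chkPBlk P 5 31 18 31671 40 0xa131447310a6294c511464 = true := by decide +kernel
theorem lblk_41 : chkPBlk P 5 31 18 31671 41 0xc6214e8318853988509cc4 = true := by decide +kernel
theorem lblk_42 : chkPBlk P 5 31 18 31671 42 0xc621d06310a729cc3310e8 = true := by decide +kernel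
theorem lblk_43 : chkPBlk P 5 31 18 31671 43 0x10922125414c8298c43a0e7 = true := by decide +kernel
theorem lblk_44 : chkPBlk P 5 31 18 31671 44 0xa3218a228c851910519088 = true := by decide +kernel
theorem lblk_45 : chkPBlk P 5 31 18 31671 45 0x6428c882212539885098a2 = true := by decide +kernel
theorem lblk_46 : chkPBlk P 5 31 18 31671 46 0x27310a131446288a331445 = true := by decide +kernel
theorem lblk_47 : chkPBlk P 5 31 18 31671 47 0xc429cc4284e83188539885 = true := by decide +kernel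
theorem lblk_48 : chkPBlk P 5 31 18 31671 48 0x1254a1074a0e53a0c621d06 = true := by decide +kernel
theorem lblk_49 : chkPBlk P 5 31 18 31671 49 0x85098a2298a228c8519109 = true := by decide +kernel
theorem lblk_50 : chkPBlk P 5 31 18 31671 50 0xc429cc4284e621426288e6 = true := by decide +kernel
theorem lblk_51 : chkPBlk P 5 31 18 31671 51 0x85394e619887418c429d06 = true := by decide +kernel
theorem lblk_52 : chkPBlk P 5 31 18 31671 52 0xc3310e941ce830cc43a0c6 = true := by decide +kernel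
theorem lblk_53 : chkPBlk P 5 31 18 31671 53 0xa53144519109215034a0a8 = true := by decide +kernel
theorem lblk_54 : chkPBlk P 5 31 18 31671 54 0xc4284e831887310c7310a6 = true := by decide +kernel
theorem lblk_55 : chkPBlk P 5 31 18 31671 55 0xa731887418c429d06310a7 = true := by decide +kernel
theorem lblk_56 : chkPBlk P 5 31 18 31671 56 0xe7298e61a0e53a0c331107 = true := by decide +kernel
theorem lblk_57 : chkPBlk P 5 31 18 31671 57 0x10921505320e7320e5398c4 = true := by decide +kernel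
theorem lblk_58 : chkPBlk P 5 31 18 31671 58 0xa228c86288a328c8441464 = true := by decide +kernel
theorem lblk_59 : chkPBlk P 5 31 18 31671 59 0xa13144519cc4284c511466 = true := by decide +kernel
theorem lblk_60 : chkPBlk P 5 31 18 31671 60 0x45190a322127418c429cc4 = true := by decide +kernel
theorem lblk_61 : chkPBlk P 5 31 18 31671 61 0x85098a239885098a228cc5 = true := by decide +kernel
theorem lblk_62 : chkPBlk P 5 31 18 31671 62 0x106310a7418c429cc4284e6 = true := by decide +kernel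
theorem lblk_63 : chkPBlk P 5 31 18 31671 63 0x87418c42a50729d0619887 = true := by decide +kernel
theorem lblk_64 : chkPBlk P 5 31 18 31671 64 0x1074a0e53a0c941ca741866 = true := by decide +kernel
theorem lblk_65 : chkPBlk P 5 31 18 31671 65 0x4531445191092252441928 = true := by decide +kernel
theorem lblk_66 : chkPBlk P 5 31 18 31671 66 0xe8318853988531cc4284c5 = true := by decide +kernel
theorem lblk_67 : chkPBlk P 5 31 18 31671 67 0x87418c429d06310a7310a1 = true := by decide +kernel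
theorem lblk_68 : chkPBlk P 5 31 18 31671 68 0x10729d061988941ca741866 = true := by decide +kernel
theorem lblk_69 : chkPBlk P 5 31 18 31671 69 0x6941ca74186621ce531cc3 = true := by decide +kernel
theorem lblk_70 : chkPBlk P 5 31 18 31671 70 0x844a105418c34a107418e6 = true := by decide +kernel
theorem lblk_71 : chkPBlk P 5 31 18 31671 71 0x106310e6218e6214c529128 = true := by decide +kernel
theorem lblk_72 : chkPBlk P 5 31 18 31671 72 0x87418c42a0e53a0c3398e7 = true := by decide +kernel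
theorem lblk_73 : chkPBlk P 5 31 18 31671 73 0xe729cc8394e63110729cc6 = true := by decide +kernel
theorem lblk_74 : chkPBlk P 5 31 18 31671 74 0xe5309083a0e5418e830d08 = true := by decide +kernel
theorem lblk_75 : chkPBlk P 5 31 18 31671 75 0x6440c853a107394e631ce5 = true := by decide +kernel
theorem lblk_76 : chkPBlk P 5 31 18 31671 76 0x85098a2314451946431445 = true := by decide +kernel
theorem lblk_77 : chkPBlk P 5 31 18 31671 77 0x85098a239885098a228ce6 = true := by decide +kernel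
theorem lblk_78 : chkPBlk P 5 31 18 31671 78 0x8539885098a23a0c6214e6 = true := by decide +kernel
theorem lblk_79 : chkPBlk P 5 31 18 31671 79 0xa322128394e830cc43a0c6 = true := by decide +kernel
theorem lblk_80 : chkPBlk P 5 31 18 31671 80 0xc4298a7310a131445198a2 = true := by decide +kernel
theorem lblk_81 : chkPBlk P 5 31 18 31671 81 0xe8318853988509d06310a7 = true := by decide +kernel
theorem lblk_82 : chkPBlk P 5 31 18 31671 82 0xc44a0e53a0c3310e831885 = true := by decide +kernel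
theorem lblk_83 : chkPBlk P 5 31 18 31671 83 0x128395063a0c34a0e53a0c3 = true := by decide +kernel
theorem lblk_84 : chkPBlk P 5 31 18 31671 84 0xe830d28394e830cc44a107 = true := by decide +kernel
theorem lblk_85 : chkPBlk P 5 31 18 31671 85 0x12841d283952841d2839506 = true := by decide +kernel
theorem lblk_86 : chkPBlk P 5 31 18 31671 86 0x26288a44a1234910949106 = true := by decide +kernel
theorem lblk_87 : chkPBlk P 5 31 18 31671 87 0xc439d06310a7310a639885 = true := by decide +kernel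
theorem lblk_88 : chkPBlk P 5 31 18 31671 88 0xe8318854a0e53a0c3310e6 = true := by decide +kernel
theorem lblk_89 : chkPBlk P 5 31 18 31671 89 0xe53a0c331128394e830cc4 = true := by decide +kernel
theorem lblk_90 : chkPBlk P 5 31 18 31671 90 0xe830d2841d072a0c730d28 = true := by decide +kernel
theorem lblk_91 : chkPBlk P 5 31 18 31671 91 0xc331ce5394c2420e839506 = true := by decide +kernel
theorem lblk_92 : chkPBlk P 5 31 18 31671 92 0xc9411073992841d072a0c7 = true := by decide +kernel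
theorem lblk_93 : chkPBlk P 5 31 18 31671 93 0xc621cc4315032a488220a5 = true := by decide +kernel
theorem lblk_94 : chkPBlk P 5 31 18 31671 94 0x107298e541ca74186731ce8 = true := by decide +kernel
theorem lblk_95 : chkPBlk P 5 31 18 31671 95 0xc841ce53990729cc622107 = true := by decide +kernel
theorem lblk_96 : chkPBlk P 5 31 18 31671 96 0xa839506120c73950839ca7 = true := by decide +kernel
theorem lblk_97 : chkPBlk P 5 31 18 31671 97 0xe531c87394c44190839107 = true := by decide +kernel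
theorem lblk_98 : chkPBlk P 5 31 18 31671 98 0x4519cc4284c51146419107 = true := by decide +kernel
theorem lblk_99 : chkPBlk P 5 31 18 31671 99 0xc6214e6214e621426288c5 = true := by decide +kernel
theorem lblk_100 : chkPBlk P 5 31 18 31671 100 0xa13a0c6214e621426288e8 = true := by decide +kernel
theorem lblk_101 : chkPBlk P 5 31 18 31671 101 0x10729d0619887418c429cc4 = true := by decide +kernel
theorem lblk_102 : chkPBlk P 5 31 18 31671 102 0xe830cc43a0c6214e621429 = true := by decide +kernel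
theorem lblk_103 : chkPBlk P 5 31 18 31671 103 0x12841d28395063a0c34a0e5 = true := by decide +kernel
theorem lblk_104 : chkPBlk P 5 31 18 31671 104 0xa7310a629cc4284c511464 = true := by decide +kernel
theorem lblk_105 : chkPBlk P 5 31 18 31671 105 0x10619887418c439887418c4 = true := by decide +kernel
theorem lblk_106 : chkPBlk P 5 31 18 31671 106 0xa74186621d06310a941ca7 = true := by decide +kernel
theorem lblk_107 : chkPBlk P 5 31 18 31671 107 0xc74186941ca74186622507 = true := by decide +kernel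
theorem lblk_108 : chkPBlk P 5 31 18 31671 108 0x1083a0e531cc9420e941ca8 = true := by decide +kernel
theorem lblk_109 : chkPBlk P 5 31 18 31671 109 0x69491064a10741ca8394c9 = true := by decide +kernel
theorem lblk_110 : chkPBlk P 5 31 18 31671 110 0x1072a0c9420e941ca831d06 = true := by decide +kernel
theorem lblk_111 : chkPBlk P 5 31 18 31671 111 0x1083a5244192841d2441ca9 = true := by decide +kernel
theorem lblk_112 : chkPBlk P 5 31 18 31671 112 0x109124692246922129220c9 = true := by decide +kernel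
theorem lblk_113 : chkPBlk P 5 31 18 31671 113 0x87318873a0c6214e6214c5 = true := by decide +kernel
theorem lblk_114 : chkPBlk P 5 31 18 31671 114 0xe830ce53986941ca741866 = true := by decide +kernel
theorem lblk_115 : chkPBlk P 5 31 18 31671 115 0xe53a0c33112841d2839506 = true := by decide +kernel
theorem lblk_116 : chkPBlk P 5 31 18 31671 116 0xc730d2841d072a0c730d28 = true := by decide +kernel
theorem lblk_117 : chkPBlk P 5 31 18 31671 117 0x1083910729ca64a10741ca8 = true := by decide +kernel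
theorem lblk_118 : chkPBlk P 5 31 18 31671 118 0xc4419083a0e541ca64a506 = true := by decide +kernel
theorem lblk_119 : chkPBlk P 5 31 18 31671 119 0x88420e441ca7298c721ce5 = true := by decide +kernel
theorem lblk_120 : chkPBlk P 5 31 18 31671 120 0xe64192321488214a441d29 = true := by decide +kernel
theorem lblk_121 : chkPBlk P 5 31 18 31671 121 0x1083a0e531ca8394e830ce6 = true := by decide +kernel
theorem lblk_122 : chkPBlk P 5 31 18 31671 122 0xe5420e729cc44190839ca7 = true := by decide +kernel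
theorem lblk_123 : chkPBlk P 5 31 18 31671 123 0xe8394c831c8831ce5220c7 = true := by decide +kernel
theorem lblk_124 : chkPBlk P 5 31 18 31671 124 0xc721ca3220883110839108 = true := by decide +kernel
theorem lblk_125 : chkPBlk P 5 31 18 31671 125 0xc429cc4284c51146321cc7 = true := by decide +kernel
theorem lblk_126 : chkPBlk P 5 31 18 31671 126 0xc429cc429cc4284c511d06 = true := by decide +kernel
theorem lblk_127 : chkPBlk P 5 31 18 31671 127 0x128394e830cc43a0c621d06 = true := by decide +kernel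
theorem lblk_128 : chkPBlk P 5 31 18 31671 128 0xa74186621d06310a7310a1 = true := by decide +kernel
theorem lblk_129 : chkPBlk P 5 31 18 31671 129 0x10729d0619887418c42a507 = true := by decide +kernel
theorem lblk_130 : chkPBlk P 5 31 18 31671 130 0xe6325083a5072a0c741869 = true := by decide +kernel
theorem lblk_131 : chkPBlk P 5 31 18 31671 131 0xa64a10741ca63990729cc6 = true := by decide +kernel
theorem lblk_132 : chkPBlk P 5 31 18 31671 132 0xc528d29220c9420e839507 = true := by decide +kernel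
theorem lblk_133 : chkPBlk P 5 31 18 31671 133 0xe831887310e83188539885 = true := by decide +kernel
theorem lblk_134 : chkPBlk P 5 31 18 31671 134 0xa74186741928394e830cc4 = true := by decide +kernel
theorem lblk_135 : chkPBlk P 5 31 18 31671 135 0x89420e941ca831d061a507 = true := by decide +kernel
theorem lblk_136 : chkPBlk P 5 31 18 31671 136 0x1072a0c74186941ca741866 = true := by decide +kernel
theorem lblk_137 : chkPBlk P 5 31 18 31671 137 0x1083a5072a0c741869420e9 = true := by decide +kernel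
theorem lblk_138 : chkPBlk P 5 31 18 31671 138 0xc9420e9220e54a0e541849 = true := by decide +kernel
theorem lblk_139 : chkPBlk P 5 31 18 31671 139 0xe54a48832107394e54a488 = true := by decide +kernel
theorem lblk_140 : chkPBlk P 5 31 18 31671 140 0xc91a4884a4883210722107 = true := by decide +kernel
theorem lblk_141 : chkPBlk P 5 31 18 31671 141 0x1244192841d2441ca941ca8 = true := by decide +kernel
theorem lblk_142 : chkPBlk P 5 31 18 31671 142 0x10649524420e9420e941ca9 = true := by decide +kernel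
theorem lblk_143 : chkPBlk P 5 31 18 31671 143 0x123491094910648d2442524 = true := by decide +kernel
theorem lblk_144 : chkPBlk P 5 31 18 31671 144 0xe642428489251a12248d24 = true := by decide +kernel
theorem lblk_145 : chkPBlk P 5 31 18 31671 145 0xe539868394e830cc4398c4 = true := by decide +kernel
theorem lblk_146 : chkPBlk P 5 31 18 31671 146 0xe72992841d28395063a0c3 = true := by decide +kernel
theorem lo_0_1 : ∀ b, 0 ≤ b → b < 1 → ∃ J, chkPBlk P 5 31 18 31671 b J = true := fun b h1 h2 => by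
  have hb : b = 0 := Nat.le_antisymm (Nat.le_of_lt_succ h2) h1
  subst hb; exact ⟨_, lblk_0⟩
theorem lo_1_2 : ∀ b, 1 ≤ b → b < 2 → ∃ J, chkPBlk P 5 31 18 31671 b J = true := fun b h1 h2 => by
  have hb : b = 1 := Nat.le_antisymm (Nat.le_of_lt_succ h2) h1
  subst hb; exact ⟨_, lblk_1⟩
theorem lo_0_2 : ∀ b, 0 ≤ b → b < 2 → ∃ J, chkPBlk P 5 31 18 31671 b J = true := fun b h1 h2 =>
  if h : b < 1 then lo_0_1 b h1 h else lo_1_2 b (Nat.le_of_not_lt h) h2
theorem lo_2_3 : ∀ b, 2 ≤ b → b < 3 → ∃ J, chkPBlk P 5 31 18 31671 b J = true := fun b h1 h2 => by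
  have hb : b = 2 := Nat.le_antisymm (Nat.le_of_lt_succ h2) h1
  subst hb; exact ⟨_, lblk_2⟩
theorem lo_3_4 : ∀ b, 3 ≤ b → b < 4 → ∃ J, chkPBlk P 5 31 18 31671 b J = true := fun b h1 h2 => by
  have hb : b = 3 := Nat.le_antisymm (Nat.le_of_lt_succ h2) h1
  subst hb; exact ⟨_, lblk_3⟩
theorem lo_2_4 : ∀ b, 2 ≤ b → b < 4 → ∃ J, chkPBlk P 5 31 18 31671 b J = true := fun b h1 h2 =>
  if h : b < 3 then lo_2_3 b h1 h else lo_3_4 b (Nat.le_of_not_lt h) h2
theorem lo_0_4 : ∀ b, 0 ≤ b → b < 4 → ∃ J, chkPBlk P 5 31 18 31671 b J = true := fun b h1 h2 =>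
  if h : b < 2 then lo_0_2 b h1 h else lo_2_4 b (Nat.le_of_not_lt h) h2
theorem lo_4_5 : ∀ b, 4 ≤ b → b < 5 → ∃ J, chkPBlk P 5 31 18 31671 b J = true := fun b h1 h2 => by
  have hb : b = 4 := Nat.le_antisymm (Nat.le_of_lt_succ h2) h1
  subst hb; exact ⟨_, lblk_4⟩
theorem lo_5_6 : ∀ b, 5 ≤ b → b < 6 → ∃ J, chkPBlk P 5 31 18 31671 b J = true := fun b h1 h2 => by
  have hb : b = 5 := Nat.le_antisymm (Nat.le_of_lt_succ h2) h1
  subst hb; exact ⟨_, lblk_5⟩
theorem lo_4_6 : ∀ b, 4 ≤ b → b < 6 → ∃ J, chkPBlk P 5 31 18 31671 b J = true := fun b h1 h2 =>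
  if h : b < 5 then lo_4_5 b h1 h else lo_5_6 b (Nat.le_of_not_lt h) h2
theorem lo_6_7 : ∀ b, 6 ≤ b → b < 7 → ∃ J, chkPBlk P 5 31 18 31671 b J = true := fun b h1 h2 => by
  have hb : b = 6 := Nat.le_antisymm (Nat.le_of_lt_succ h2) h1
  subst hb; exact ⟨_, lblk_6⟩
theorem lo_7_8 : ∀ b, 7 ≤ b → b < 8 → ∃ J, chkPBlk P 5 31 18 31671 b J = true := fun b h1 h2 => by
  have hb : b = 7 := Nat.le_antisymm (Nat.le_of_lt_succ h2) h1
  subst hb; exact ⟨_, lblk_7⟩
theorem lo_8_9 : ∀ b, 8 ≤ b → b < 9 → ∃ J, chkPBlk P 5 31 18 31671 b J = true := fun b h1 h2 => by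
  have hb : b = 8 := Nat.le_antisymm (Nat.le_of_lt_succ h2) h1
  subst hb; exact ⟨_, lblk_8⟩
theorem lo_7_9 : ∀ b, 7 ≤ b → b < 9 → ∃ J, chkPBlk P 5 31 18 31671 b J = true := fun b h1 h2 =>
  if h : b < 8 then lo_7_8 b h1 h else lo_8_9 b (Nat.le_of_not_lt h) h2
theorem lo_6_9 : ∀ b, 6 ≤ b → b < 9 → ∃ J, chkPBlk P 5 31 18 31671 b J = true := fun b h1 h2 =>
  if h : b < 7 then lo_6_7 b h1 h else lo_7_9 b (Nat.le_of_not_lt h) h2
theorem lo_4_9 : ∀ b, 4 ≤ b → b < 9 → ∃ J, chkPBlk P 5 31 18 31671 b J = true := fun b h1 h2 =>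
  if h : b < 6 then lo_4_6 b h1 h else lo_6_9 b (Nat.le_of_not_lt h) h2
theorem lo_0_9 : ∀ b, 0 ≤ b → b < 9 → ∃ J, chkPBlk P 5 31 18 31671 b J = true := fun b h1 h2 =>
  if h : b < 4 then lo_0_4 b h1 h else lo_4_9 b (Nat.le_of_not_lt h) h2
theorem lo_9_10 : ∀ b, 9 ≤ b → b < 10 → ∃ J, chkPBlk P 5 31 18 31671 b J = true := fun b h1 h2 => by
  have hb : b = 9 := Nat.le_antisymm (Nat.le_of_lt_succ h2) h1
  subst hb; exact ⟨_, lblk_9⟩
theorem lo_10_11 : ∀ b, 10 ≤ b → b < 11 → ∃ J, chkPBlk P 5 31 18 31671 b J = true := fun b h1 h2 => by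
  have hb : b = 10 := Nat.le_antisymm (Nat.le_of_lt_succ h2) h1
  subst hb; exact ⟨_, lblk_10⟩
theorem lo_9_11 : ∀ b, 9 ≤ b → b < 11 → ∃ J, chkPBlk P 5 31 18 31671 b J = true := fun b h1 h2 =>
  if h : b < 10 then lo_9_10 b h1 h else lo_10_11 b (Nat.le_of_not_lt h) h2
theorem lo_11_12 : ∀ b, 11 ≤ b → b < 12 → ∃ J, chkPBlk P 5 31 18 31671 b J = true := fun b h1 h2 => by
  have hb : b = 11 := Nat.le_antisymm (Nat.le_of_lt_succ h2) h1
  subst hb; exact ⟨_, lblk_11⟩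
theorem lo_12_13 : ∀ b, 12 ≤ b → b < 13 → ∃ J, chkPBlk P 5 31 18 31671 b J = true := fun b h1 h2 => by
  have hb : b = 12 := Nat.le_antisymm (Nat.le_of_lt_succ h2) h1
  subst hb; exact ⟨_, lblk_12⟩
theorem lo_11_13 : ∀ b, 11 ≤ b → b < 13 → ∃ J, chkPBlk P 5 31 18 31671 b J = true := fun b h1 h2 =>
  if h : b < 12 then lo_11_12 b h1 h else lo_12_13 b (Nat.le_of_not_lt h) h2
theorem lo_9_13 : ∀ b, 9 ≤ b → b < 13 → ∃ J, chkPBlk P 5 31 18 31671 b J = true := fun b h1 h2 =>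
  if h : b < 11 then lo_9_11 b h1 h else lo_11_13 b (Nat.le_of_not_lt h) h2
theorem lo_13_14 : ∀ b, 13 ≤ b → b < 14 → ∃ J, chkPBlk P 5 31 18 31671 b J = true := fun b h1 h2 => by
  have hb : b = 13 := Nat.le_antisymm (Nat.le_of_lt_succ h2) h1
  subst hb; exact ⟨_, lblk_13⟩
theorem lo_14_15 : ∀ b, 14 ≤ b → b < 15 → ∃ J, chkPBlk P 5 31 18 31671 b J = true := fun b h1 h2 => by
  have hb : b = 14 := Nat.le_antisymm (Nat.le_of_lt_succ h2) h1
  subst hb; exact ⟨_, lblk_14⟩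
theorem lo_13_15 : ∀ b, 13 ≤ b → b < 15 → ∃ J, chkPBlk P 5 31 18 31671 b J = true := fun b h1 h2 =>
  if h : b < 14 then lo_13_14 b h1 h else lo_14_15 b (Nat.le_of_not_lt h) h2
theorem lo_15_16 : ∀ b, 15 ≤ b → b < 16 → ∃ J, chkPBlk P 5 31 18 31671 b J = true := fun b h1 h2 => by
  have hb : b = 15 := Nat.le_antisymm (Nat.le_of_lt_succ h2) h1
  subst hb; exact ⟨_, lblk_15⟩
theorem lo_16_17 : ∀ b, 16 ≤ b → b < 17 → ∃ J, chkPBlk P 5 31 18 31671 b J = true := fun b h1 h2 => by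
  have hb : b = 16 := Nat.le_antisymm (Nat.le_of_lt_succ h2) h1
  subst hb; exact ⟨_, lblk_16⟩
theorem lo_17_18 : ∀ b, 17 ≤ b → b < 18 → ∃ J, chkPBlk P 5 31 18 31671 b J = true := fun b h1 h2 => by
  have hb : b = 17 := Nat.le_antisymm (Nat.le_of_lt_succ h2) h1
  subst hb; exact ⟨_, lblk_17⟩
theorem lo_16_18 : ∀ b, 16 ≤ b → b < 18 → ∃ J, chkPBlk P 5 31 18 31671 b J = true := fun b h1 h2 =>
  if h : b < 17 then lo_16_17 b h1 h else lo_17_18 b (Nat.le_of_not_lt h) h2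
theorem lo_15_18 : ∀ b, 15 ≤ b → b < 18 → ∃ J, chkPBlk P 5 31 18 31671 b J = true := fun b h1 h2 =>
  if h : b < 16 then lo_15_16 b h1 h else lo_16_18 b (Nat.le_of_not_lt h) h2
theorem lo_13_18 : ∀ b, 13 ≤ b → b < 18 → ∃ J, chkPBlk P 5 31 18 31671 b J = true := fun b h1 h2 =>
  if h : b < 15 then lo_13_15 b h1 h else lo_15_18 b (Nat.le_of_not_lt h) h2
theorem lo_9_18 : ∀ b, 9 ≤ b → b < 18 → ∃ J, chkPBlk P 5 31 18 31671 b J = true := fun b h1 h2 =>
  if h : b < 13 then lo_9_13 b h1 h else lo_13_18 b (Nat.le_of_not_lt h) h2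
theorem lo_0_18 : ∀ b, 0 ≤ b → b < 18 → ∃ J, chkPBlk P 5 31 18 31671 b J = true := fun b h1 h2 =>
  if h : b < 9 then lo_0_9 b h1 h else lo_9_18 b (Nat.le_of_not_lt h) h2
theorem lo_18_19 : ∀ b, 18 ≤ b → b < 19 → ∃ J, chkPBlk P 5 31 18 31671 b J = true := fun b h1 h2 => by
  have hb : b = 18 := Nat.le_antisymm (Nat.le_of_lt_succ h2) h1
  subst hb; exact ⟨_, lblk_18⟩
theorem lo_19_20 : ∀ b, 19 ≤ b → b < 20 → ∃ J, chkPBlk P 5 31 18 31671 b J = true := fun b h1 h2 => by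
  have hb : b = 19 := Nat.le_antisymm (Nat.le_of_lt_succ h2) h1
  subst hb; exact ⟨_, lblk_19⟩
theorem lo_18_20 : ∀ b, 18 ≤ b → b < 20 → ∃ J, chkPBlk P 5 31 18 31671 b J = true := fun b h1 h2 =>
  if h : b < 19 then lo_18_19 b h1 h else lo_19_20 b (Nat.le_of_not_lt h) h2
theorem lo_20_21 : ∀ b, 20 ≤ b → b < 21 → ∃ J, chkPBlk P 5 31 18 31671 b J = true := fun b h1 h2 => by
  have hb : b = 20 := Nat.le_antisymm (Nat.le_of_lt_succ h2) h1
  subst hb; exact ⟨_, lblk_20⟩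
theorem lo_21_22 : ∀ b, 21 ≤ b → b < 22 → ∃ J, chkPBlk P 5 31 18 31671 b J = true := fun b h1 h2 => by
  have hb : b = 21 := Nat.le_antisymm (Nat.le_of_lt_succ h2) h1
  subst hb; exact ⟨_, lblk_21⟩
theorem lo_20_22 : ∀ b, 20 ≤ b → b < 22 → ∃ J, chkPBlk P 5 31 18 31671 b J = true := fun b h1 h2 =>
  if h : b < 21 then lo_20_21 b h1 h else lo_21_22 b (Nat.le_of_not_lt h) h2
theorem lo_18_22 : ∀ b, 18 ≤ b → b < 22 → ∃ J, chkPBlk P 5 31 18 31671 b J = true := fun b h1 h2 =>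
  if h : b < 20 then lo_18_20 b h1 h else lo_20_22 b (Nat.le_of_not_lt h) h2
theorem lo_22_23 : ∀ b, 22 ≤ b → b < 23 → ∃ J, chkPBlk P 5 31 18 31671 b J = true := fun b h1 h2 => by
  have hb : b = 22 := Nat.le_antisymm (Nat.le_of_lt_succ h2) h1
  subst hb; exact ⟨_, lblk_22⟩
theorem lo_23_24 : ∀ b, 23 ≤ b → b < 24 → ∃ J, chkPBlk P 5 31 18 31671 b J = true := fun b h1 h2 => by
  have hb : b = 23 := Nat.le_antisymm (Nat.le_of_lt_succ h2) h1
  subst hb; exact ⟨_, lblk_23⟩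
theorem lo_22_24 : ∀ b, 22 ≤ b → b < 24 → ∃ J, chkPBlk P 5 31 18 31671 b J = true := fun b h1 h2 =>
  if h : b < 23 then lo_22_23 b h1 h else lo_23_24 b (Nat.le_of_not_lt h) h2
theorem lo_24_25 : ∀ b, 24 ≤ b → b < 25 → ∃ J, chkPBlk P 5 31 18 31671 b J = true := fun b h1 h2 => by
  have hb : b = 24 := Nat.le_antisymm (Nat.le_of_lt_succ h2) h1
  subst hb; exact ⟨_, lblk_24⟩
theorem lo_25_26 : ∀ b, 25 ≤ b → b < 26 → ∃ J, chkPBlk P 5 31 18 31671 b J = true := fun b h1 h2 => by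
  have hb : b = 25 := Nat.le_antisymm (Nat.le_of_lt_succ h2) h1
  subst hb; exact ⟨_, lblk_25⟩
theorem lo_26_27 : ∀ b, 26 ≤ b → b < 27 → ∃ J, chkPBlk P 5 31 18 31671 b J = true := fun b h1 h2 => by
  have hb : b = 26 := Nat.le_antisymm (Nat.le_of_lt_succ h2) h1
  subst hb; exact ⟨_, lblk_26⟩
theorem lo_25_27 : ∀ b, 25 ≤ b → b < 27 → ∃ J, chkPBlk P 5 31 18 31671 b J = true := fun b h1 h2 =>
  if h : b < 26 then lo_25_26 b h1 h else lo_26_27 b (Nat.le_of_not_lt h) h2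
theorem lo_24_27 : ∀ b, 24 ≤ b → b < 27 → ∃ J, chkPBlk P 5 31 18 31671 b J = true := fun b h1 h2 =>
  if h : b < 25 then lo_24_25 b h1 h else lo_25_27 b (Nat.le_of_not_lt h) h2
theorem lo_22_27 : ∀ b, 22 ≤ b → b < 27 → ∃ J, chkPBlk P 5 31 18 31671 b J = true := fun b h1 h2 =>
  if h : b < 24 then lo_22_24 b h1 h else lo_24_27 b (Nat.le_of_not_lt h) h2
theorem lo_18_27 : ∀ b, 18 ≤ b → b < 27 → ∃ J, chkPBlk P 5 31 18 31671 b J = true := fun b h1 h2 =>
  if h : b < 22 then lo_18_22 b h1 h else lo_22_27 b (Nat.le_of_not_lt h) h2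
theorem lo_27_28 : ∀ b, 27 ≤ b → b < 28 → ∃ J, chkPBlk P 5 31 18 31671 b J = true := fun b h1 h2 => by
  have hb : b = 27 := Nat.le_antisymm (Nat.le_of_lt_succ h2) h1
  subst hb; exact ⟨_, lblk_27⟩
theorem lo_28_29 : ∀ b, 28 ≤ b → b < 29 → ∃ J, chkPBlk P 5 31 18 31671 b J = true := fun b h1 h2 => by
  have hb : b = 28 := Nat.le_antisymm (Nat.le_of_lt_succ h2) h1
  subst hb; exact ⟨_, lblk_28⟩
theorem lo_27_29 : ∀ b, 27 ≤ b → b < 29 → ∃ J, chkPBlk P 5 31 18 31671 b J = true := fun b h1 h2 =>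
  if h : b < 28 then lo_27_28 b h1 h else lo_28_29 b (Nat.le_of_not_lt h) h2
theorem lo_29_30 : ∀ b, 29 ≤ b → b < 30 → ∃ J, chkPBlk P 5 31 18 31671 b J = true := fun b h1 h2 => by
  have hb : b = 29 := Nat.le_antisymm (Nat.le_of_lt_succ h2) h1
  subst hb; exact ⟨_, lblk_29⟩
theorem lo_30_31 : ∀ b, 30 ≤ b → b < 31 → ∃ J, chkPBlk P 5 31 18 31671 b J = true := fun b h1 h2 => by
  have hb : b = 30 := Nat.le_antisymm (Nat.le_of_lt_succ h2) h1
  subst hb; exact ⟨_, lblk_30⟩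
theorem lo_29_31 : ∀ b, 29 ≤ b → b < 31 → ∃ J, chkPBlk P 5 31 18 31671 b J = true := fun b h1 h2 =>
  if h : b < 30 then lo_29_30 b h1 h else lo_30_31 b (Nat.le_of_not_lt h) h2
theorem lo_27_31 : ∀ b, 27 ≤ b → b < 31 → ∃ J, chkPBlk P 5 31 18 31671 b J = true := fun b h1 h2 =>
  if h : b < 29 then lo_27_29 b h1 h else lo_29_31 b (Nat.le_of_not_lt h) h2
theorem lo_31_32 : ∀ b, 31 ≤ b → b < 32 → ∃ J, chkPBlk P 5 31 18 31671 b J = true := fun b h1 h2 => by
  have hb : b = 31 := Nat.le_antisymm (Nat.le_of_lt_succ h2) h1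
  subst hb; exact ⟨_, lblk_31⟩
theorem lo_32_33 : ∀ b, 32 ≤ b → b < 33 → ∃ J, chkPBlk P 5 31 18 31671 b J = true := fun b h1 h2 => by
  have hb : b = 32 := Nat.le_antisymm (Nat.le_of_lt_succ h2) h1
  subst hb; exact ⟨_, lblk_32⟩
theorem lo_31_33 : ∀ b, 31 ≤ b → b < 33 → ∃ J, chkPBlk P 5 31 18 31671 b J = true := fun b h1 h2 =>
  if h : b < 32 then lo_31_32 b h1 h else lo_32_33 b (Nat.le_of_not_lt h) h2
theorem lo_33_34 : ∀ b, 33 ≤ b → b < 34 → ∃ J, chkPBlk P 5 31 18 31671 b J = true := fun b h1 h2 => by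
  have hb : b = 33 := Nat.le_antisymm (Nat.le_of_lt_succ h2) h1
  subst hb; exact ⟨_, lblk_33⟩
theorem lo_34_35 : ∀ b, 34 ≤ b → b < 35 → ∃ J, chkPBlk P 5 31 18 31671 b J = true := fun b h1 h2 => by
  have hb : b = 34 := Nat.le_antisymm (Nat.le_of_lt_succ h2) h1
  subst hb; exact ⟨_, lblk_34⟩
theorem lo_35_36 : ∀ b, 35 ≤ b → b < 36 → ∃ J, chkPBlk P 5 31 18 31671 b J = true := fun b h1 h2 => by
  have hb : b = 35 := Nat.le_antisymm (Nat.le_of_lt_succ h2) h1
  subst hb; exact ⟨_, lblk_35⟩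
theorem lo_34_36 : ∀ b, 34 ≤ b → b < 36 → ∃ J, chkPBlk P 5 31 18 31671 b J = true := fun b h1 h2 =>
  if h : b < 35 then lo_34_35 b h1 h else lo_35_36 b (Nat.le_of_not_lt h) h2
theorem lo_33_36 : ∀ b, 33 ≤ b → b < 36 → ∃ J, chkPBlk P 5 31 18 31671 b J = true := fun b h1 h2 =>
  if h : b < 34 then lo_33_34 b h1 h else lo_34_36 b (Nat.le_of_not_lt h) h2
theorem lo_31_36 : ∀ b, 31 ≤ b → b < 36 → ∃ J, chkPBlk P 5 31 18 31671 b J = true := fun b h1 h2 =>
  if h : b < 33 then lo_31_33 b h1 h else lo_33_36 b (Nat.le_of_not_lt h) h2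
theorem lo_27_36 : ∀ b, 27 ≤ b → b < 36 → ∃ J, chkPBlk P 5 31 18 31671 b J = true := fun b h1 h2 =>
  if h : b < 31 then lo_27_31 b h1 h else lo_31_36 b (Nat.le_of_not_lt h) h2
theorem lo_18_36 : ∀ b, 18 ≤ b → b < 36 → ∃ J, chkPBlk P 5 31 18 31671 b J = true := fun b h1 h2 =>
  if h : b < 27 then lo_18_27 b h1 h else lo_27_36 b (Nat.le_of_not_lt h) h2
theorem lo_0_36 : ∀ b, 0 ≤ b → b < 36 → ∃ J, chkPBlk P 5 31 18 31671 b J = true := fun b h1 h2 =>
  if h : b < 18 then lo_0_18 b h1 h else lo_18_36 b (Nat.le_of_not_lt h) h2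
theorem lo_36_37 : ∀ b, 36 ≤ b → b < 37 → ∃ J, chkPBlk P 5 31 18 31671 b J = true := fun b h1 h2 => by
  have hb : b = 36 := Nat.le_antisymm (Nat.le_of_lt_succ h2) h1
  subst hb; exact ⟨_, lblk_36⟩
theorem lo_37_38 : ∀ b, 37 ≤ b → b < 38 → ∃ J, chkPBlk P 5 31 18 31671 b J = true := fun b h1 h2 => by
  have hb : b = 37 := Nat.le_antisymm (Nat.le_of_lt_succ h2) h1
  subst hb; exact ⟨_, lblk_37⟩
theorem lo_36_38 : ∀ b, 36 ≤ b → b < 38 → ∃ J, chkPBlk P 5 31 18 31671 b J = true := fun b h1 h2 =>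
  if h : b < 37 then lo_36_37 b h1 h else lo_37_38 b (Nat.le_of_not_lt h) h2
theorem lo_38_39 : ∀ b, 38 ≤ b → b < 39 → ∃ J, chkPBlk P 5 31 18 31671 b J = true := fun b h1 h2 => by
  have hb : b = 38 := Nat.le_antisymm (Nat.le_of_lt_succ h2) h1
  subst hb; exact ⟨_, lblk_38⟩
theorem lo_39_40 : ∀ b, 39 ≤ b → b < 40 → ∃ J, chkPBlk P 5 31 18 31671 b J = true := fun b h1 h2 => by
  have hb : b = 39 := Nat.le_antisymm (Nat.le_of_lt_succ h2) h1
  subst hb; exact ⟨_, lblk_39⟩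
theorem lo_38_40 : ∀ b, 38 ≤ b → b < 40 → ∃ J, chkPBlk P 5 31 18 31671 b J = true := fun b h1 h2 =>
  if h : b < 39 then lo_38_39 b h1 h else lo_39_40 b (Nat.le_of_not_lt h) h2
theorem lo_36_40 : ∀ b, 36 ≤ b → b < 40 → ∃ J, chkPBlk P 5 31 18 31671 b J = true := fun b h1 h2 =>
  if h : b < 38 then lo_36_38 b h1 h else lo_38_40 b (Nat.le_of_not_lt h) h2
theorem lo_40_41 : ∀ b, 40 ≤ b → b < 41 → ∃ J, chkPBlk P 5 31 18 31671 b J = true := fun b h1 h2 => by
  have hb : b = 40 := Nat.le_antisymm (Nat.le_of_lt_succ h2) h1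
  subst hb; exact ⟨_, lblk_40⟩
theorem lo_41_42 : ∀ b, 41 ≤ b → b < 42 → ∃ J, chkPBlk P 5 31 18 31671 b J = true := fun b h1 h2 => by
  have hb : b = 41 := Nat.le_antisymm (Nat.le_of_lt_succ h2) h1
  subst hb; exact ⟨_, lblk_41⟩
theorem lo_40_42 : ∀ b, 40 ≤ b → b < 42 → ∃ J, chkPBlk P 5 31 18 31671 b J = true := fun b h1 h2 =>
  if h : b < 41 then lo_40_41 b h1 h else lo_41_42 b (Nat.le_of_not_lt h) h2
theorem lo_42_43 : ∀ b, 42 ≤ b → b < 43 → ∃ J, chkPBlk P 5 31 18 31671 b J = true := fun b h1 h2 => by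
  have hb : b = 42 := Nat.le_antisymm (Nat.le_of_lt_succ h2) h1
  subst hb; exact ⟨_, lblk_42⟩
theorem lo_43_44 : ∀ b, 43 ≤ b → b < 44 → ∃ J, chkPBlk P 5 31 18 31671 b J = true := fun b h1 h2 => by
  have hb : b = 43 := Nat.le_antisymm (Nat.le_of_lt_succ h2) h1
  subst hb; exact ⟨_, lblk_43⟩
theorem lo_44_45 : ∀ b, 44 ≤ b → b < 45 → ∃ J, chkPBlk P 5 31 18 31671 b J = true := fun b h1 h2 => by
  have hb : b = 44 := Nat.le_antisymm (Nat.le_of_lt_succ h2) h1
  subst hb; exact ⟨_, lblk_44⟩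
theorem lo_43_45 : ∀ b, 43 ≤ b → b < 45 → ∃ J, chkPBlk P 5 31 18 31671 b J = true := fun b h1 h2 =>
  if h : b < 44 then lo_43_44 b h1 h else lo_44_45 b (Nat.le_of_not_lt h) h2
theorem lo_42_45 : ∀ b, 42 ≤ b → b < 45 → ∃ J, chkPBlk P 5 31 18 31671 b J = true := fun b h1 h2 =>
  if h : b < 43 then lo_42_43 b h1 h else lo_43_45 b (Nat.le_of_not_lt h) h2
theorem lo_40_45 : ∀ b, 40 ≤ b → b < 45 → ∃ J, chkPBlk P 5 31 18 31671 b J = true := fun b h1 h2 =>
  if h : b < 42 then lo_40_42 b h1 h else lo_42_45 b (Nat.le_of_not_lt h) h2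
theorem lo_36_45 : ∀ b, 36 ≤ b → b < 45 → ∃ J, chkPBlk P 5 31 18 31671 b J = true := fun b h1 h2 =>
  if h : b < 40 then lo_36_40 b h1 h else lo_40_45 b (Nat.le_of_not_lt h) h2
theorem lo_45_46 : ∀ b, 45 ≤ b → b < 46 → ∃ J, chkPBlk P 5 31 18 31671 b J = true := fun b h1 h2 => by
  have hb : b = 45 := Nat.le_antisymm (Nat.le_of_lt_succ h2) h1
  subst hb; exact ⟨_, lblk_45⟩
theorem lo_46_47 : ∀ b, 46 ≤ b → b < 47 → ∃ J, chkPBlk P 5 31 18 31671 b J = true := fun b h1 h2 => by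
  have hb : b = 46 := Nat.le_antisymm (Nat.le_of_lt_succ h2) h1
  subst hb; exact ⟨_, lblk_46⟩
theorem lo_45_47 : ∀ b, 45 ≤ b → b < 47 → ∃ J, chkPBlk P 5 31 18 31671 b J = true := fun b h1 h2 =>
  if h : b < 46 then lo_45_46 b h1 h else lo_46_47 b (Nat.le_of_not_lt h) h2
theorem lo_47_48 : ∀ b, 47 ≤ b → b < 48 → ∃ J, chkPBlk P 5 31 18 31671 b J = true := fun b h1 h2 => by
  have hb : b = 47 := Nat.le_antisymm (Nat.le_of_lt_succ h2) h1
  subst hb; exact ⟨_, lblk_47⟩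
theorem lo_48_49 : ∀ b, 48 ≤ b → b < 49 → ∃ J, chkPBlk P 5 31 18 31671 b J = true := fun b h1 h2 => by
  have hb : b = 48 := Nat.le_antisymm (Nat.le_of_lt_succ h2) h1
  subst hb; exact ⟨_, lblk_48⟩
theorem lo_47_49 : ∀ b, 47 ≤ b → b < 49 → ∃ J, chkPBlk P 5 31 18 31671 b J = true := fun b h1 h2 =>
  if h : b < 48 then lo_47_48 b h1 h else lo_48_49 b (Nat.le_of_not_lt h) h2
theorem lo_45_49 : ∀ b, 45 ≤ b → b < 49 → ∃ J, chkPBlk P 5 31 18 31671 b J = true := fun b h1 h2 =>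
  if h : b < 47 then lo_45_47 b h1 h else lo_47_49 b (Nat.le_of_not_lt h) h2
theorem lo_49_50 : ∀ b, 49 ≤ b → b < 50 → ∃ J, chkPBlk P 5 31 18 31671 b J = true := fun b h1 h2 => by
  have hb : b = 49 := Nat.le_antisymm (Nat.le_of_lt_succ h2) h1
  subst hb; exact ⟨_, lblk_49⟩
theorem lo_50_51 : ∀ b, 50 ≤ b → b < 51 → ∃ J, chkPBlk P 5 31 18 31671 b J = true := fun b h1 h2 => by
  have hb : b = 50 := Nat.le_antisymm (Nat.le_of_lt_succ h2) h1
  subst hb; exact ⟨_, lblk_50⟩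
theorem lo_49_51 : ∀ b, 49 ≤ b → b < 51 → ∃ J, chkPBlk P 5 31 18 31671 b J = true := fun b h1 h2 =>
  if h : b < 50 then lo_49_50 b h1 h else lo_50_51 b (Nat.le_of_not_lt h) h2
theorem lo_51_52 : ∀ b, 51 ≤ b → b < 52 → ∃ J, chkPBlk P 5 31 18 31671 b J = true := fun b h1 h2 => by
  have hb : b = 51 := Nat.le_antisymm (Nat.le_of_lt_succ h2) h1
  subst hb; exact ⟨_, lblk_51⟩
theorem lo_52_53 : ∀ b, 52 ≤ b → b < 53 → ∃ J, chkPBlk P 5 31 18 31671 b J = true := fun b h1 h2 => by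
  have hb : b = 52 := Nat.le_antisymm (Nat.le_of_lt_succ h2) h1
  subst hb; exact ⟨_, lblk_52⟩
theorem lo_53_54 : ∀ b, 53 ≤ b → b < 54 → ∃ J, chkPBlk P 5 31 18 31671 b J = true := fun b h1 h2 => by
  have hb : b = 53 := Nat.le_antisymm (Nat.le_of_lt_succ h2) h1
  subst hb; exact ⟨_, lblk_53⟩
theorem lo_52_54 : ∀ b, 52 ≤ b → b < 54 → ∃ J, chkPBlk P 5 31 18 31671 b J = true := fun b h1 h2 =>
  if h : b < 53 then lo_52_53 b h1 h else lo_53_54 b (Nat.le_of_not_lt h) h2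
theorem lo_51_54 : ∀ b, 51 ≤ b → b < 54 → ∃ J, chkPBlk P 5 31 18 31671 b J = true := fun b h1 h2 =>
  if h : b < 52 then lo_51_52 b h1 h else lo_52_54 b (Nat.le_of_not_lt h) h2
theorem lo_49_54 : ∀ b, 49 ≤ b → b < 54 → ∃ J, chkPBlk P 5 31 18 31671 b J = true := fun b h1 h2 =>
  if h : b < 51 then lo_49_51 b h1 h else lo_51_54 b (Nat.le_of_not_lt h) h2
theorem lo_45_54 : ∀ b, 45 ≤ b → b < 54 → ∃ J, chkPBlk P 5 31 18 31671 b J = true := fun b h1 h2 =>
  if h : b < 49 then lo_45_49 b h1 h else lo_49_54 b (Nat.le_of_not_lt h) h2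
theorem lo_36_54 : ∀ b, 36 ≤ b → b < 54 → ∃ J, chkPBlk P 5 31 18 31671 b J = true := fun b h1 h2 =>
  if h : b < 45 then lo_36_45 b h1 h else lo_45_54 b (Nat.le_of_not_lt h) h2
theorem lo_54_55 : ∀ b, 54 ≤ b → b < 55 → ∃ J, chkPBlk P 5 31 18 31671 b J = true := fun b h1 h2 => by
  have hb : b = 54 := Nat.le_antisymm (Nat.le_of_lt_succ h2) h1
  subst hb; exact ⟨_, lblk_54⟩
theorem lo_55_56 : ∀ b, 55 ≤ b → b < 56 → ∃ J, chkPBlk P 5 31 18 31671 b J = true := fun b h1 h2 => by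
  have hb : b = 55 := Nat.le_antisymm (Nat.le_of_lt_succ h2) h1
  subst hb; exact ⟨_, lblk_55⟩
theorem lo_54_56 : ∀ b, 54 ≤ b → b < 56 → ∃ J, chkPBlk P 5 31 18 31671 b J = true := fun b h1 h2 =>
  if h : b < 55 then lo_54_55 b h1 h else lo_55_56 b (Nat.le_of_not_lt h) h2
theorem lo_56_57 : ∀ b, 56 ≤ b → b < 57 → ∃ J, chkPBlk P 5 31 18 31671 b J = true := fun b h1 h2 => by
  have hb : b = 56 := Nat.le_antisymm (Nat.le_of_lt_succ h2) h1
  subst hb; exact ⟨_, lblk_56⟩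
theorem lo_57_58 : ∀ b, 57 ≤ b → b < 58 → ∃ J, chkPBlk P 5 31 18 31671 b J = true := fun b h1 h2 => by
  have hb : b = 57 := Nat.le_antisymm (Nat.le_of_lt_succ h2) h1
  subst hb; exact ⟨_, lblk_57⟩
theorem lo_56_58 : ∀ b, 56 ≤ b → b < 58 → ∃ J, chkPBlk P 5 31 18 31671 b J = true := fun b h1 h2 =>
  if h : b < 57 then lo_56_57 b h1 h else lo_57_58 b (Nat.le_of_not_lt h) h2
theorem lo_54_58 : ∀ b, 54 ≤ b → b < 58 → ∃ J, chkPBlk P 5 31 18 31671 b J = true := fun b h1 h2 =>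
  if h : b < 56 then lo_54_56 b h1 h else lo_56_58 b (Nat.le_of_not_lt h) h2
theorem lo_58_59 : ∀ b, 58 ≤ b → b < 59 → ∃ J, chkPBlk P 5 31 18 31671 b J = true := fun b h1 h2 => by
  have hb : b = 58 := Nat.le_antisymm (Nat.le_of_lt_succ h2) h1
  subst hb; exact ⟨_, lblk_58⟩
theorem lo_59_60 : ∀ b, 59 ≤ b → b < 60 → ∃ J, chkPBlk P 5 31 18 31671 b J = true := fun b h1 h2 => by
  have hb : b = 59 := Nat.le_antisymm (Nat.le_of_lt_succ h2) h1
  subst hb; exact ⟨_, lblk_59⟩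
theorem lo_58_60 : ∀ b, 58 ≤ b → b < 60 → ∃ J, chkPBlk P 5 31 18 31671 b J = true := fun b h1 h2 =>
  if h : b < 59 then lo_58_59 b h1 h else lo_59_60 b (Nat.le_of_not_lt h) h2
theorem lo_60_61 : ∀ b, 60 ≤ b → b < 61 → ∃ J, chkPBlk P 5 31 18 31671 b J = true := fun b h1 h2 => by
  have hb : b = 60 := Nat.le_antisymm (Nat.le_of_lt_succ h2) h1
  subst hb; exact ⟨_, lblk_60⟩
theorem lo_61_62 : ∀ b, 61 ≤ b → b < 62 → ∃ J, chkPBlk P 5 31 18 31671 b J = true := fun b h1 h2 => by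
  have hb : b = 61 := Nat.le_antisymm (Nat.le_of_lt_succ h2) h1
  subst hb; exact ⟨_, lblk_61⟩
theorem lo_62_63 : ∀ b, 62 ≤ b → b < 63 → ∃ J, chkPBlk P 5 31 18 31671 b J = true := fun b h1 h2 => by
  have hb : b = 62 := Nat.le_antisymm (Nat.le_of_lt_succ h2) h1
  subst hb; exact ⟨_, lblk_62⟩
theorem lo_61_63 : ∀ b, 61 ≤ b → b < 63 → ∃ J, chkPBlk P 5 31 18 31671 b J = true := fun b h1 h2 =>
  if h : b < 62 then lo_61_62 b h1 h else lo_62_63 b (Nat.le_of_not_lt h) h2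
theorem lo_60_63 : ∀ b, 60 ≤ b → b < 63 → ∃ J, chkPBlk P 5 31 18 31671 b J = true := fun b h1 h2 =>
  if h : b < 61 then lo_60_61 b h1 h else lo_61_63 b (Nat.le_of_not_lt h) h2
theorem lo_58_63 : ∀ b, 58 ≤ b → b < 63 → ∃ J, chkPBlk P 5 31 18 31671 b J = true := fun b h1 h2 =>
  if h : b < 60 then lo_58_60 b h1 h else lo_60_63 b (Nat.le_of_not_lt h) h2
theorem lo_54_63 : ∀ b, 54 ≤ b → b < 63 → ∃ J, chkPBlk P 5 31 18 31671 b J = true := fun b h1 h2 =>
  if h : b < 58 then lo_54_58 b h1 h else lo_58_63 b (Nat.le_of_not_lt h) h2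
theorem lo_63_64 : ∀ b, 63 ≤ b → b < 64 → ∃ J, chkPBlk P 5 31 18 31671 b J = true := fun b h1 h2 => by
  have hb : b = 63 := Nat.le_antisymm (Nat.le_of_lt_succ h2) h1
  subst hb; exact ⟨_, lblk_63⟩
theorem lo_64_65 : ∀ b, 64 ≤ b → b < 65 → ∃ J, chkPBlk P 5 31 18 31671 b J = true := fun b h1 h2 => by
  have hb : b = 64 := Nat.le_antisymm (Nat.le_of_lt_succ h2) h1
  subst hb; exact ⟨_, lblk_64⟩
theorem lo_63_65 : ∀ b, 63 ≤ b → b < 65 → ∃ J, chkPBlk P 5 31 18 31671 b J = true := fun b h1 h2 =>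
  if h : b < 64 then lo_63_64 b h1 h else lo_64_65 b (Nat.le_of_not_lt h) h2
theorem lo_65_66 : ∀ b, 65 ≤ b → b < 66 → ∃ J, chkPBlk P 5 31 18 31671 b J = true := fun b h1 h2 => by
  have hb : b = 65 := Nat.le_antisymm (Nat.le_of_lt_succ h2) h1
  subst hb; exact ⟨_, lblk_65⟩
theorem lo_66_67 : ∀ b, 66 ≤ b → b < 67 → ∃ J, chkPBlk P 5 31 18 31671 b J = true := fun b h1 h2 => by
  have hb : b = 66 := Nat.le_antisymm (Nat.le_of_lt_succ h2) h1
  subst hb; exact ⟨_, lblk_66⟩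
theorem lo_67_68 : ∀ b, 67 ≤ b → b < 68 → ∃ J, chkPBlk P 5 31 18 31671 b J = true := fun b h1 h2 => by
  have hb : b = 67 := Nat.le_antisymm (Nat.le_of_lt_succ h2) h1
  subst hb; exact ⟨_, lblk_67⟩
theorem lo_66_68 : ∀ b, 66 ≤ b → b < 68 → ∃ J, chkPBlk P 5 31 18 31671 b J = true := fun b h1 h2 =>
  if h : b < 67 then lo_66_67 b h1 h else lo_67_68 b (Nat.le_of_not_lt h) h2
theorem lo_65_68 : ∀ b, 65 ≤ b → b < 68 → ∃ J, chkPBlk P 5 31 18 31671 b J = true := fun b h1 h2 =>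
  if h : b < 66 then lo_65_66 b h1 h else lo_66_68 b (Nat.le_of_not_lt h) h2
theorem lo_63_68 : ∀ b, 63 ≤ b → b < 68 → ∃ J, chkPBlk P 5 31 18 31671 b J = true := fun b h1 h2 =>
  if h : b < 65 then lo_63_65 b h1 h else lo_65_68 b (Nat.le_of_not_lt h) h2
theorem lo_68_69 : ∀ b, 68 ≤ b → b < 69 → ∃ J, chkPBlk P 5 31 18 31671 b J = true := fun b h1 h2 => by
  have hb : b = 68 := Nat.le_antisymm (Nat.le_of_lt_succ h2) h1
  subst hb; exact ⟨_, lblk_68⟩
theorem lo_69_70 : ∀ b, 69 ≤ b → b < 70 → ∃ J, chkPBlk P 5 31 18 31671 b J = true := fun b h1 h2 => by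
  have hb : b = 69 := Nat.le_antisymm (Nat.le_of_lt_succ h2) h1
  subst hb; exact ⟨_, lblk_69⟩
theorem lo_68_70 : ∀ b, 68 ≤ b → b < 70 → ∃ J, chkPBlk P 5 31 18 31671 b J = true := fun b h1 h2 =>
  if h : b < 69 then lo_68_69 b h1 h else lo_69_70 b (Nat.le_of_not_lt h) h2
theorem lo_70_71 : ∀ b, 70 ≤ b → b < 71 → ∃ J, chkPBlk P 5 31 18 31671 b J = true := fun b h1 h2 => by
  have hb : b = 70 := Nat.le_antisymm (Nat.le_of_lt_succ h2) h1
  subst hb; exact ⟨_, lblk_70⟩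
theorem lo_71_72 : ∀ b, 71 ≤ b → b < 72 → ∃ J, chkPBlk P 5 31 18 31671 b J = true := fun b h1 h2 => by
  have hb : b = 71 := Nat.le_antisymm (Nat.le_of_lt_succ h2) h1
  subst hb; exact ⟨_, lblk_71⟩
theorem lo_72_73 : ∀ b, 72 ≤ b → b < 73 → ∃ J, chkPBlk P 5 31 18 31671 b J = true := fun b h1 h2 => by
  have hb : b = 72 := Nat.le_antisymm (Nat.le_of_lt_succ h2) h1
  subst hb; exact ⟨_, lblk_72⟩
theorem lo_71_73 : ∀ b, 71 ≤ b → b < 73 → ∃ J, chkPBlk P 5 31 18 31671 b J = true := fun b h1 h2 =>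
  if h : b < 72 then lo_71_72 b h1 h else lo_72_73 b (Nat.le_of_not_lt h) h2
theorem lo_70_73 : ∀ b, 70 ≤ b → b < 73 → ∃ J, chkPBlk P 5 31 18 31671 b J = true := fun b h1 h2 =>
  if h : b < 71 then lo_70_71 b h1 h else lo_71_73 b (Nat.le_of_not_lt h) h2
theorem lo_68_73 : ∀ b, 68 ≤ b → b < 73 → ∃ J, chkPBlk P 5 31 18 31671 b J = true := fun b h1 h2 =>
  if h : b < 70 then lo_68_70 b h1 h else lo_70_73 b (Nat.le_of_not_lt h) h2
theorem lo_63_73 : ∀ b, 63 ≤ b → b < 73 → ∃ J, chkPBlk P 5 31 18 31671 b J = true := fun b h1 h2 =>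
  if h : b < 68 then lo_63_68 b h1 h else lo_68_73 b (Nat.le_of_not_lt h) h2
theorem lo_54_73 : ∀ b, 54 ≤ b → b < 73 → ∃ J, chkPBlk P 5 31 18 31671 b J = true := fun b h1 h2 =>
  if h : b < 63 then lo_54_63 b h1 h else lo_63_73 b (Nat.le_of_not_lt h) h2
theorem lo_36_73 : ∀ b, 36 ≤ b → b < 73 → ∃ J, chkPBlk P 5 31 18 31671 b J = true := fun b h1 h2 =>
  if h : b < 54 then lo_36_54 b h1 h else lo_54_73 b (Nat.le_of_not_lt h) h2
theorem lo_0_73 : ∀ b, 0 ≤ b → b < 73 → ∃ J, chkPBlk P 5 31 18 31671 b J = true := fun b h1 h2 =>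
  if h : b < 36 then lo_0_36 b h1 h else lo_36_73 b (Nat.le_of_not_lt h) h2
theorem lo_73_74 : ∀ b, 73 ≤ b → b < 74 → ∃ J, chkPBlk P 5 31 18 31671 b J = true := fun b h1 h2 => by
  have hb : b = 73 := Nat.le_antisymm (Nat.le_of_lt_succ h2) h1
  subst hb; exact ⟨_, lblk_73⟩
theorem lo_74_75 : ∀ b, 74 ≤ b → b < 75 → ∃ J, chkPBlk P 5 31 18 31671 b J = true := fun b h1 h2 => by
  have hb : b = 74 := Nat.le_antisymm (Nat.le_of_lt_succ h2) h1
  subst hb; exact ⟨_, lblk_74⟩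
theorem lo_73_75 : ∀ b, 73 ≤ b → b < 75 → ∃ J, chkPBlk P 5 31 18 31671 b J = true := fun b h1 h2 =>
  if h : b < 74 then lo_73_74 b h1 h else lo_74_75 b (Nat.le_of_not_lt h) h2
theorem lo_75_76 : ∀ b, 75 ≤ b → b < 76 → ∃ J, chkPBlk P 5 31 18 31671 b J = true := fun b h1 h2 => by
  have hb : b = 75 := Nat.le_antisymm (Nat.le_of_lt_succ h2) h1
  subst hb; exact ⟨_, lblk_75⟩
theorem lo_76_77 : ∀ b, 76 ≤ b → b < 77 → ∃ J, chkPBlk P 5 31 18 31671 b J = true := fun b h1 h2 => by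
  have hb : b = 76 := Nat.le_antisymm (Nat.le_of_lt_succ h2) h1
  subst hb; exact ⟨_, lblk_76⟩
theorem lo_75_77 : ∀ b, 75 ≤ b → b < 77 → ∃ J, chkPBlk P 5 31 18 31671 b J = true := fun b h1 h2 =>
  if h : b < 76 then lo_75_76 b h1 h else lo_76_77 b (Nat.le_of_not_lt h) h2
theorem lo_73_77 : ∀ b, 73 ≤ b → b < 77 → ∃ J, chkPBlk P 5 31 18 31671 b J = true := fun b h1 h2 =>
  if h : b < 75 then lo_73_75 b h1 h else lo_75_77 b (Nat.le_of_not_lt h) h2
theorem lo_77_78 : ∀ b, 77 ≤ b → b < 78 → ∃ J, chkPBlk P 5 31 18 31671 b J = true := fun b h1 h2 => by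
  have hb : b = 77 := Nat.le_antisymm (Nat.le_of_lt_succ h2) h1
  subst hb; exact ⟨_, lblk_77⟩
theorem lo_78_79 : ∀ b, 78 ≤ b → b < 79 → ∃ J, chkPBlk P 5 31 18 31671 b J = true := fun b h1 h2 => by
  have hb : b = 78 := Nat.le_antisymm (Nat.le_of_lt_succ h2) h1
  subst hb; exact ⟨_, lblk_78⟩
theorem lo_77_79 : ∀ b, 77 ≤ b → b < 79 → ∃ J, chkPBlk P 5 31 18 31671 b J = true := fun b h1 h2 =>
  if h : b < 78 then lo_77_78 b h1 h else lo_78_79 b (Nat.le_of_not_lt h) h2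
theorem lo_79_80 : ∀ b, 79 ≤ b → b < 80 → ∃ J, chkPBlk P 5 31 18 31671 b J = true := fun b h1 h2 => by
  have hb : b = 79 := Nat.le_antisymm (Nat.le_of_lt_succ h2) h1
  subst hb; exact ⟨_, lblk_79⟩
theorem lo_80_81 : ∀ b, 80 ≤ b → b < 81 → ∃ J, chkPBlk P 5 31 18 31671 b J = true := fun b h1 h2 => by
  have hb : b = 80 := Nat.le_antisymm (Nat.le_of_lt_succ h2) h1
  subst hb; exact ⟨_, lblk_80⟩
theorem lo_81_82 : ∀ b, 81 ≤ b → b < 82 → ∃ J, chkPBlk P 5 31 18 31671 b J = true := fun b h1 h2 => by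
  have hb : b = 81 := Nat.le_antisymm (Nat.le_of_lt_succ h2) h1
  subst hb; exact ⟨_, lblk_81⟩
theorem lo_80_82 : ∀ b, 80 ≤ b → b < 82 → ∃ J, chkPBlk P 5 31 18 31671 b J = true := fun b h1 h2 =>
  if h : b < 81 then lo_80_81 b h1 h else lo_81_82 b (Nat.le_of_not_lt h) h2
theorem lo_79_82 : ∀ b, 79 ≤ b → b < 82 → ∃ J, chkPBlk P 5 31 18 31671 b J = true := fun b h1 h2 =>
  if h : b < 80 then lo_79_80 b h1 h else lo_80_82 b (Nat.le_of_not_lt h) h2
theorem lo_77_82 : ∀ b, 77 ≤ b → b < 82 → ∃ J, chkPBlk P 5 31 18 31671 b J = true := fun b h1 h2 =>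
  if h : b < 79 then lo_77_79 b h1 h else lo_79_82 b (Nat.le_of_not_lt h) h2
theorem lo_73_82 : ∀ b, 73 ≤ b → b < 82 → ∃ J, chkPBlk P 5 31 18 31671 b J = true := fun b h1 h2 =>
  if h : b < 77 then lo_73_77 b h1 h else lo_77_82 b (Nat.le_of_not_lt h) h2
theorem lo_82_83 : ∀ b, 82 ≤ b → b < 83 → ∃ J, chkPBlk P 5 31 18 31671 b J = true := fun b h1 h2 => by
  have hb : b = 82 := Nat.le_antisymm (Nat.le_of_lt_succ h2) h1
  subst hb; exact ⟨_, lblk_82⟩
theorem lo_83_84 : ∀ b, 83 ≤ b → b < 84 → ∃ J, chkPBlk P 5 31 18 31671 b J = true := fun b h1 h2 => by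
  have hb : b = 83 := Nat.le_antisymm (Nat.le_of_lt_succ h2) h1
  subst hb; exact ⟨_, lblk_83⟩
theorem lo_82_84 : ∀ b, 82 ≤ b → b < 84 → ∃ J, chkPBlk P 5 31 18 31671 b J = true := fun b h1 h2 =>
  if h : b < 83 then lo_82_83 b h1 h else lo_83_84 b (Nat.le_of_not_lt h) h2
theorem lo_84_85 : ∀ b, 84 ≤ b → b < 85 → ∃ J, chkPBlk P 5 31 18 31671 b J = true := fun b h1 h2 => by
  have hb : b = 84 := Nat.le_antisymm (Nat.le_of_lt_succ h2) h1
  subst hb; exact ⟨_, lblk_84⟩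
theorem lo_85_86 : ∀ b, 85 ≤ b → b < 86 → ∃ J, chkPBlk P 5 31 18 31671 b J = true := fun b h1 h2 => by
  have hb : b = 85 := Nat.le_antisymm (Nat.le_of_lt_succ h2) h1
  subst hb; exact ⟨_, lblk_85⟩
theorem lo_84_86 : ∀ b, 84 ≤ b → b < 86 → ∃ J, chkPBlk P 5 31 18 31671 b J = true := fun b h1 h2 =>
  if h : b < 85 then lo_84_85 b h1 h else lo_85_86 b (Nat.le_of_not_lt h) h2
theorem lo_82_86 : ∀ b, 82 ≤ b → b < 86 → ∃ J, chkPBlk P 5 31 18 31671 b J = true := fun b h1 h2 =>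
  if h : b < 84 then lo_82_84 b h1 h else lo_84_86 b (Nat.le_of_not_lt h) h2
theorem lo_86_87 : ∀ b, 86 ≤ b → b < 87 → ∃ J, chkPBlk P 5 31 18 31671 b J = true := fun b h1 h2 => by
  have hb : b = 86 := Nat.le_antisymm (Nat.le_of_lt_succ h2) h1
  subst hb; exact ⟨_, lblk_86⟩
theorem lo_87_88 : ∀ b, 87 ≤ b → b < 88 → ∃ J, chkPBlk P 5 31 18 31671 b J = true := fun b h1 h2 => by
  have hb : b = 87 := Nat.le_antisymm (Nat.le_of_lt_succ h2) h1
  subst hb; exact ⟨_, lblk_87⟩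
theorem lo_86_88 : ∀ b, 86 ≤ b → b < 88 → ∃ J, chkPBlk P 5 31 18 31671 b J = true := fun b h1 h2 =>
  if h : b < 87 then lo_86_87 b h1 h else lo_87_88 b (Nat.le_of_not_lt h) h2
theorem lo_88_89 : ∀ b, 88 ≤ b → b < 89 → ∃ J, chkPBlk P 5 31 18 31671 b J = true := fun b h1 h2 => by
  have hb : b = 88 := Nat.le_antisymm (Nat.le_of_lt_succ h2) h1
  subst hb; exact ⟨_, lblk_88⟩
theorem lo_89_90 : ∀ b, 89 ≤ b → b < 90 → ∃ J, chkPBlk P 5 31 18 31671 b J = true := fun b h1 h2 => by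
  have hb : b = 89 := Nat.le_antisymm (Nat.le_of_lt_succ h2) h1
  subst hb; exact ⟨_, lblk_89⟩
theorem lo_90_91 : ∀ b, 90 ≤ b → b < 91 → ∃ J, chkPBlk P 5 31 18 31671 b J = true := fun b h1 h2 => by
  have hb : b = 90 := Nat.le_antisymm (Nat.le_of_lt_succ h2) h1
  subst hb; exact ⟨_, lblk_90⟩
theorem lo_89_91 : ∀ b, 89 ≤ b → b < 91 → ∃ J, chkPBlk P 5 31 18 31671 b J = true := fun b h1 h2 =>
  if h : b < 90 then lo_89_90 b h1 h else lo_90_91 b (Nat.le_of_not_lt h) h2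
theorem lo_88_91 : ∀ b, 88 ≤ b → b < 91 → ∃ J, chkPBlk P 5 31 18 31671 b J = true := fun b h1 h2 =>
  if h : b < 89 then lo_88_89 b h1 h else lo_89_91 b (Nat.le_of_not_lt h) h2
theorem lo_86_91 : ∀ b, 86 ≤ b → b < 91 → ∃ J, chkPBlk P 5 31 18 31671 b J = true := fun b h1 h2 =>
  if h : b < 88 then lo_86_88 b h1 h else lo_88_91 b (Nat.le_of_not_lt h) h2
theorem lo_82_91 : ∀ b, 82 ≤ b → b < 91 → ∃ J, chkPBlk P 5 31 18 31671 b J = true := fun b h1 h2 =>
  if h : b < 86 then lo_82_86 b h1 h else lo_86_91 b (Nat.le_of_not_lt h) h2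
theorem lo_73_91 : ∀ b, 73 ≤ b → b < 91 → ∃ J, chkPBlk P 5 31 18 31671 b J = true := fun b h1 h2 =>
  if h : b < 82 then lo_73_82 b h1 h else lo_82_91 b (Nat.le_of_not_lt h) h2
theorem lo_91_92 : ∀ b, 91 ≤ b → b < 92 → ∃ J, chkPBlk P 5 31 18 31671 b J = true := fun b h1 h2 => by
  have hb : b = 91 := Nat.le_antisymm (Nat.le_of_lt_succ h2) h1
  subst hb; exact ⟨_, lblk_91⟩
theorem lo_92_93 : ∀ b, 92 ≤ b → b < 93 → ∃ J, chkPBlk P 5 31 18 31671 b J = true := fun b h1 h2 => by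
  have hb : b = 92 := Nat.le_antisymm (Nat.le_of_lt_succ h2) h1
  subst hb; exact ⟨_, lblk_92⟩
theorem lo_91_93 : ∀ b, 91 ≤ b → b < 93 → ∃ J, chkPBlk P 5 31 18 31671 b J = true := fun b h1 h2 =>
  if h : b < 92 then lo_91_92 b h1 h else lo_92_93 b (Nat.le_of_not_lt h) h2
theorem lo_93_94 : ∀ b, 93 ≤ b → b < 94 → ∃ J, chkPBlk P 5 31 18 31671 b J = true := fun b h1 h2 => by
  have hb : b = 93 := Nat.le_antisymm (Nat.le_of_lt_succ h2) h1
  subst hb; exact ⟨_, lblk_93⟩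
theorem lo_94_95 : ∀ b, 94 ≤ b → b < 95 → ∃ J, chkPBlk P 5 31 18 31671 b J = true := fun b h1 h2 => by
  have hb : b = 94 := Nat.le_antisymm (Nat.le_of_lt_succ h2) h1
  subst hb; exact ⟨_, lblk_94⟩
theorem lo_93_95 : ∀ b, 93 ≤ b → b < 95 → ∃ J, chkPBlk P 5 31 18 31671 b J = true := fun b h1 h2 =>
  if h : b < 94 then lo_93_94 b h1 h else lo_94_95 b (Nat.le_of_not_lt h) h2
theorem lo_91_95 : ∀ b, 91 ≤ b → b < 95 → ∃ J, chkPBlk P 5 31 18 31671 b J = true := fun b h1 h2 =>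
  if h : b < 93 then lo_91_93 b h1 h else lo_93_95 b (Nat.le_of_not_lt h) h2
theorem lo_95_96 : ∀ b, 95 ≤ b → b < 96 → ∃ J, chkPBlk P 5 31 18 31671 b J = true := fun b h1 h2 => by
  have hb : b = 95 := Nat.le_antisymm (Nat.le_of_lt_succ h2) h1
  subst hb; exact ⟨_, lblk_95⟩
theorem lo_96_97 : ∀ b, 96 ≤ b → b < 97 → ∃ J, chkPBlk P 5 31 18 31671 b J = true := fun b h1 h2 => by
  have hb : b = 96 := Nat.le_antisymm (Nat.le_of_lt_succ h2) h1
  subst hb; exact ⟨_, lblk_96⟩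
theorem lo_95_97 : ∀ b, 95 ≤ b → b < 97 → ∃ J, chkPBlk P 5 31 18 31671 b J = true := fun b h1 h2 =>
  if h : b < 96 then lo_95_96 b h1 h else lo_96_97 b (Nat.le_of_not_lt h) h2
theorem lo_97_98 : ∀ b, 97 ≤ b → b < 98 → ∃ J, chkPBlk P 5 31 18 31671 b J = true := fun b h1 h2 => by
  have hb : b = 97 := Nat.le_antisymm (Nat.le_of_lt_succ h2) h1
  subst hb; exact ⟨_, lblk_97⟩
theorem lo_98_99 : ∀ b, 98 ≤ b → b < 99 → ∃ J, chkPBlk P 5 31 18 31671 b J = true := fun b h1 h2 => by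
  have hb : b = 98 := Nat.le_antisymm (Nat.le_of_lt_succ h2) h1
  subst hb; exact ⟨_, lblk_98⟩
theorem lo_99_100 : ∀ b, 99 ≤ b → b < 100 → ∃ J, chkPBlk P 5 31 18 31671 b J = true := fun b h1 h2 => by
  have hb : b = 99 := Nat.le_antisymm (Nat.le_of_lt_succ h2) h1
  subst hb; exact ⟨_, lblk_99⟩
theorem lo_98_100 : ∀ b, 98 ≤ b → b < 100 → ∃ J, chkPBlk P 5 31 18 31671 b J = true := fun b h1 h2 =>
  if h : b < 99 then lo_98_99 b h1 h else lo_99_100 b (Nat.le_of_not_lt h) h2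
theorem lo_97_100 : ∀ b, 97 ≤ b → b < 100 → ∃ J, chkPBlk P 5 31 18 31671 b J = true := fun b h1 h2 =>
  if h : b < 98 then lo_97_98 b h1 h else lo_98_100 b (Nat.le_of_not_lt h) h2
theorem lo_95_100 : ∀ b, 95 ≤ b → b < 100 → ∃ J, chkPBlk P 5 31 18 31671 b J = true := fun b h1 h2 =>
  if h : b < 97 then lo_95_97 b h1 h else lo_97_100 b (Nat.le_of_not_lt h) h2
theorem lo_91_100 : ∀ b, 91 ≤ b → b < 100 → ∃ J, chkPBlk P 5 31 18 31671 b J = true := fun b h1 h2 =>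
  if h : b < 95 then lo_91_95 b h1 h else lo_95_100 b (Nat.le_of_not_lt h) h2
theorem lo_100_101 : ∀ b, 100 ≤ b → b < 101 → ∃ J, chkPBlk P 5 31 18 31671 b J = true := fun b h1 h2 => by
  have hb : b = 100 := Nat.le_antisymm (Nat.le_of_lt_succ h2) h1
  subst hb; exact ⟨_, lblk_100⟩
theorem lo_101_102 : ∀ b, 101 ≤ b → b < 102 → ∃ J, chkPBlk P 5 31 18 31671 b J = true := fun b h1 h2 => by
  have hb : b = 101 := Nat.le_antisymm (Nat.le_of_lt_succ h2) h1
  subst hb; exact ⟨_, lblk_101⟩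
theorem lo_100_102 : ∀ b, 100 ≤ b → b < 102 → ∃ J, chkPBlk P 5 31 18 31671 b J = true := fun b h1 h2 =>
  if h : b < 101 then lo_100_101 b h1 h else lo_101_102 b (Nat.le_of_not_lt h) h2
theorem lo_102_103 : ∀ b, 102 ≤ b → b < 103 → ∃ J, chkPBlk P 5 31 18 31671 b J = true := fun b h1 h2 => by
  have hb : b = 102 := Nat.le_antisymm (Nat.le_of_lt_succ h2) h1
  subst hb; exact ⟨_, lblk_102⟩
theorem lo_103_104 : ∀ b, 103 ≤ b → b < 104 → ∃ J, chkPBlk P 5 31 18 31671 b J = true := fun b h1 h2 => by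
  have hb : b = 103 := Nat.le_antisymm (Nat.le_of_lt_succ h2) h1
  subst hb; exact ⟨_, lblk_103⟩
theorem lo_104_105 : ∀ b, 104 ≤ b → b < 105 → ∃ J, chkPBlk P 5 31 18 31671 b J = true := fun b h1 h2 => by
  have hb : b = 104 := Nat.le_antisymm (Nat.le_of_lt_succ h2) h1
  subst hb; exact ⟨_, lblk_104⟩
theorem lo_103_105 : ∀ b, 103 ≤ b → b < 105 → ∃ J, chkPBlk P 5 31 18 31671 b J = true := fun b h1 h2 =>
  if h : b < 104 then lo_103_104 b h1 h else lo_104_105 b (Nat.le_of_not_lt h) h2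
theorem lo_102_105 : ∀ b, 102 ≤ b → b < 105 → ∃ J, chkPBlk P 5 31 18 31671 b J = true := fun b h1 h2 =>
  if h : b < 103 then lo_102_103 b h1 h else lo_103_105 b (Nat.le_of_not_lt h) h2
theorem lo_100_105 : ∀ b, 100 ≤ b → b < 105 → ∃ J, chkPBlk P 5 31 18 31671 b J = true := fun b h1 h2 =>
  if h : b < 102 then lo_100_102 b h1 h else lo_102_105 b (Nat.le_of_not_lt h) h2
theorem lo_105_106 : ∀ b, 105 ≤ b → b < 106 → ∃ J, chkPBlk P 5 31 18 31671 b J = true := fun b h1 h2 => by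
  have hb : b = 105 := Nat.le_antisymm (Nat.le_of_lt_succ h2) h1
  subst hb; exact ⟨_, lblk_105⟩
theorem lo_106_107 : ∀ b, 106 ≤ b → b < 107 → ∃ J, chkPBlk P 5 31 18 31671 b J = true := fun b h1 h2 => by
  have hb : b = 106 := Nat.le_antisymm (Nat.le_of_lt_succ h2) h1
  subst hb; exact ⟨_, lblk_106⟩
theorem lo_105_107 : ∀ b, 105 ≤ b → b < 107 → ∃ J, chkPBlk P 5 31 18 31671 b J = true := fun b h1 h2 =>
  if h : b < 106 then lo_105_106 b h1 h else lo_106_107 b (Nat.le_of_not_lt h) h2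
theorem lo_107_108 : ∀ b, 107 ≤ b → b < 108 → ∃ J, chkPBlk P 5 31 18 31671 b J = true := fun b h1 h2 => by
  have hb : b = 107 := Nat.le_antisymm (Nat.le_of_lt_succ h2) h1
  subst hb; exact ⟨_, lblk_107⟩
theorem lo_108_109 : ∀ b, 108 ≤ b → b < 109 → ∃ J, chkPBlk P 5 31 18 31671 b J = true := fun b h1 h2 => by
  have hb : b = 108 := Nat.le_antisymm (Nat.le_of_lt_succ h2) h1
  subst hb; exact ⟨_, lblk_108⟩
theorem lo_109_110 : ∀ b, 109 ≤ b → b < 110 → ∃ J, chkPBlk P 5 31 18 31671 b J = true := fun b h1 h2 => by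
  have hb : b = 109 := Nat.le_antisymm (Nat.le_of_lt_succ h2) h1
  subst hb; exact ⟨_, lblk_109⟩
theorem lo_108_110 : ∀ b, 108 ≤ b → b < 110 → ∃ J, chkPBlk P 5 31 18 31671 b J = true := fun b h1 h2 =>
  if h : b < 109 then lo_108_109 b h1 h else lo_109_110 b (Nat.le_of_not_lt h) h2
theorem lo_107_110 : ∀ b, 107 ≤ b → b < 110 → ∃ J, chkPBlk P 5 31 18 31671 b J = true := fun b h1 h2 =>
  if h : b < 108 then lo_107_108 b h1 h else lo_108_110 b (Nat.le_of_not_lt h) h2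
theorem lo_105_110 : ∀ b, 105 ≤ b → b < 110 → ∃ J, chkPBlk P 5 31 18 31671 b J = true := fun b h1 h2 =>
  if h : b < 107 then lo_105_107 b h1 h else lo_107_110 b (Nat.le_of_not_lt h) h2
theorem lo_100_110 : ∀ b, 100 ≤ b → b < 110 → ∃ J, chkPBlk P 5 31 18 31671 b J = true := fun b h1 h2 =>
  if h : b < 105 then lo_100_105 b h1 h else lo_105_110 b (Nat.le_of_not_lt h) h2
theorem lo_91_110 : ∀ b, 91 ≤ b → b < 110 → ∃ J, chkPBlk P 5 31 18 31671 b J = true := fun b h1 h2 =>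
  if h : b < 100 then lo_91_100 b h1 h else lo_100_110 b (Nat.le_of_not_lt h) h2
theorem lo_73_110 : ∀ b, 73 ≤ b → b < 110 → ∃ J, chkPBlk P 5 31 18 31671 b J = true := fun b h1 h2 =>
  if h : b < 91 then lo_73_91 b h1 h else lo_91_110 b (Nat.le_of_not_lt h) h2
theorem lo_110_111 : ∀ b, 110 ≤ b → b < 111 → ∃ J, chkPBlk P 5 31 18 31671 b J = true := fun b h1 h2 => by
  have hb : b = 110 := Nat.le_antisymm (Nat.le_of_lt_succ h2) h1
  subst hb; exact ⟨_, lblk_110⟩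
theorem lo_111_112 : ∀ b, 111 ≤ b → b < 112 → ∃ J, chkPBlk P 5 31 18 31671 b J = true := fun b h1 h2 => by
  have hb : b = 111 := Nat.le_antisymm (Nat.le_of_lt_succ h2) h1
  subst hb; exact ⟨_, lblk_111⟩
theorem lo_110_112 : ∀ b, 110 ≤ b → b < 112 → ∃ J, chkPBlk P 5 31 18 31671 b J = true := fun b h1 h2 =>
  if h : b < 111 then lo_110_111 b h1 h else lo_111_112 b (Nat.le_of_not_lt h) h2
theorem lo_112_113 : ∀ b, 112 ≤ b → b < 113 → ∃ J, chkPBlk P 5 31 18 31671 b J = true := fun b h1 h2 => by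
  have hb : b = 112 := Nat.le_antisymm (Nat.le_of_lt_succ h2) h1
  subst hb; exact ⟨_, lblk_112⟩
theorem lo_113_114 : ∀ b, 113 ≤ b → b < 114 → ∃ J, chkPBlk P 5 31 18 31671 b J = true := fun b h1 h2 => by
  have hb : b = 113 := Nat.le_antisymm (Nat.le_of_lt_succ h2) h1
  subst hb; exact ⟨_, lblk_113⟩
theorem lo_112_114 : ∀ b, 112 ≤ b → b < 114 → ∃ J, chkPBlk P 5 31 18 31671 b J = true := fun b h1 h2 =>
  if h : b < 113 then lo_112_113 b h1 h else lo_113_114 b (Nat.le_of_not_lt h) h2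
theorem lo_110_114 : ∀ b, 110 ≤ b → b < 114 → ∃ J, chkPBlk P 5 31 18 31671 b J = true := fun b h1 h2 =>
  if h : b < 112 then lo_110_112 b h1 h else lo_112_114 b (Nat.le_of_not_lt h) h2
theorem lo_114_115 : ∀ b, 114 ≤ b → b < 115 → ∃ J, chkPBlk P 5 31 18 31671 b J = true := fun b h1 h2 => by
  have hb : b = 114 := Nat.le_antisymm (Nat.le_of_lt_succ h2) h1
  subst hb; exact ⟨_, lblk_114⟩
theorem lo_115_116 : ∀ b, 115 ≤ b → b < 116 → ∃ J, chkPBlk P 5 31 18 31671 b J = true := fun b h1 h2 => by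
  have hb : b = 115 := Nat.le_antisymm (Nat.le_of_lt_succ h2) h1
  subst hb; exact ⟨_, lblk_115⟩
theorem lo_114_116 : ∀ b, 114 ≤ b → b < 116 → ∃ J, chkPBlk P 5 31 18 31671 b J = true := fun b h1 h2 =>
  if h : b < 115 then lo_114_115 b h1 h else lo_115_116 b (Nat.le_of_not_lt h) h2
theorem lo_116_117 : ∀ b, 116 ≤ b → b < 117 → ∃ J, chkPBlk P 5 31 18 31671 b J = true := fun b h1 h2 => by
  have hb : b = 116 := Nat.le_antisymm (Nat.le_of_lt_succ h2) h1
  subst hb; exact ⟨_, lblk_116⟩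
theorem lo_117_118 : ∀ b, 117 ≤ b → b < 118 → ∃ J, chkPBlk P 5 31 18 31671 b J = true := fun b h1 h2 => by
  have hb : b = 117 := Nat.le_antisymm (Nat.le_of_lt_succ h2) h1
  subst hb; exact ⟨_, lblk_117⟩
theorem lo_118_119 : ∀ b, 118 ≤ b → b < 119 → ∃ J, chkPBlk P 5 31 18 31671 b J = true := fun b h1 h2 => by
  have hb : b = 118 := Nat.le_antisymm (Nat.le_of_lt_succ h2) h1
  subst hb; exact ⟨_, lblk_118⟩
theorem lo_117_119 : ∀ b, 117 ≤ b → b < 119 → ∃ J, chkPBlk P 5 31 18 31671 b J = true := fun b h1 h2 =>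
  if h : b < 118 then lo_117_118 b h1 h else lo_118_119 b (Nat.le_of_not_lt h) h2
theorem lo_116_119 : ∀ b, 116 ≤ b → b < 119 → ∃ J, chkPBlk P 5 31 18 31671 b J = true := fun b h1 h2 =>
  if h : b < 117 then lo_116_117 b h1 h else lo_117_119 b (Nat.le_of_not_lt h) h2
theorem lo_114_119 : ∀ b, 114 ≤ b → b < 119 → ∃ J, chkPBlk P 5 31 18 31671 b J = true := fun b h1 h2 =>
  if h : b < 116 then lo_114_116 b h1 h else lo_116_119 b (Nat.le_of_not_lt h) h2
theorem lo_110_119 : ∀ b, 110 ≤ b → b < 119 → ∃ J, chkPBlk P 5 31 18 31671 b J = true := fun b h1 h2 =>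
  if h : b < 114 then lo_110_114 b h1 h else lo_114_119 b (Nat.le_of_not_lt h) h2
theorem lo_119_120 : ∀ b, 119 ≤ b → b < 120 → ∃ J, chkPBlk P 5 31 18 31671 b J = true := fun b h1 h2 => by
  have hb : b = 119 := Nat.le_antisymm (Nat.le_of_lt_succ h2) h1
  subst hb; exact ⟨_, lblk_119⟩
theorem lo_120_121 : ∀ b, 120 ≤ b → b < 121 → ∃ J, chkPBlk P 5 31 18 31671 b J = true := fun b h1 h2 => by
  have hb : b = 120 := Nat.le_antisymm (Nat.le_of_lt_succ h2) h1
  subst hb; exact ⟨_, lblk_120⟩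
theorem lo_119_121 : ∀ b, 119 ≤ b → b < 121 → ∃ J, chkPBlk P 5 31 18 31671 b J = true := fun b h1 h2 =>
  if h : b < 120 then lo_119_120 b h1 h else lo_120_121 b (Nat.le_of_not_lt h) h2
theorem lo_121_122 : ∀ b, 121 ≤ b → b < 122 → ∃ J, chkPBlk P 5 31 18 31671 b J = true := fun b h1 h2 => by
  have hb : b = 121 := Nat.le_antisymm (Nat.le_of_lt_succ h2) h1
  subst hb; exact ⟨_, lblk_121⟩
theorem lo_122_123 : ∀ b, 122 ≤ b → b < 123 → ∃ J, chkPBlk P 5 31 18 31671 b J = true := fun b h1 h2 => by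
  have hb : b = 122 := Nat.le_antisymm (Nat.le_of_lt_succ h2) h1
  subst hb; exact ⟨_, lblk_122⟩
theorem lo_121_123 : ∀ b, 121 ≤ b → b < 123 → ∃ J, chkPBlk P 5 31 18 31671 b J = true := fun b h1 h2 =>
  if h : b < 122 then lo_121_122 b h1 h else lo_122_123 b (Nat.le_of_not_lt h) h2
theorem lo_119_123 : ∀ b, 119 ≤ b → b < 123 → ∃ J, chkPBlk P 5 31 18 31671 b J = true := fun b h1 h2 =>
  if h : b < 121 then lo_119_121 b h1 h else lo_121_123 b (Nat.le_of_not_lt h) h2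
theorem lo_123_124 : ∀ b, 123 ≤ b → b < 124 → ∃ J, chkPBlk P 5 31 18 31671 b J = true := fun b h1 h2 => by
  have hb : b = 123 := Nat.le_antisymm (Nat.le_of_lt_succ h2) h1
  subst hb; exact ⟨_, lblk_123⟩
theorem lo_124_125 : ∀ b, 124 ≤ b → b < 125 → ∃ J, chkPBlk P 5 31 18 31671 b J = true := fun b h1 h2 => by
  have hb : b = 124 := Nat.le_antisymm (Nat.le_of_lt_succ h2) h1
  subst hb; exact ⟨_, lblk_124⟩
theorem lo_123_125 : ∀ b, 123 ≤ b → b < 125 → ∃ J, chkPBlk P 5 31 18 31671 b J = true := fun b h1 h2 =>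
  if h : b < 124 then lo_123_124 b h1 h else lo_124_125 b (Nat.le_of_not_lt h) h2
theorem lo_125_126 : ∀ b, 125 ≤ b → b < 126 → ∃ J, chkPBlk P 5 31 18 31671 b J = true := fun b h1 h2 => by
  have hb : b = 125 := Nat.le_antisymm (Nat.le_of_lt_succ h2) h1
  subst hb; exact ⟨_, lblk_125⟩
theorem lo_126_127 : ∀ b, 126 ≤ b → b < 127 → ∃ J, chkPBlk P 5 31 18 31671 b J = true := fun b h1 h2 => by
  have hb : b = 126 := Nat.le_antisymm (Nat.le_of_lt_succ h2) h1
  subst hb; exact ⟨_, lblk_126⟩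
theorem lo_127_128 : ∀ b, 127 ≤ b → b < 128 → ∃ J, chkPBlk P 5 31 18 31671 b J = true := fun b h1 h2 => by
  have hb : b = 127 := Nat.le_antisymm (Nat.le_of_lt_succ h2) h1
  subst hb; exact ⟨_, lblk_127⟩
theorem lo_126_128 : ∀ b, 126 ≤ b → b < 128 → ∃ J, chkPBlk P 5 31 18 31671 b J = true := fun b h1 h2 =>
  if h : b < 127 then lo_126_127 b h1 h else lo_127_128 b (Nat.le_of_not_lt h) h2
theorem lo_125_128 : ∀ b, 125 ≤ b → b < 128 → ∃ J, chkPBlk P 5 31 18 31671 b J = true := fun b h1 h2 =>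
  if h : b < 126 then lo_125_126 b h1 h else lo_126_128 b (Nat.le_of_not_lt h) h2
theorem lo_123_128 : ∀ b, 123 ≤ b → b < 128 → ∃ J, chkPBlk P 5 31 18 31671 b J = true := fun b h1 h2 =>
  if h : b < 125 then lo_123_125 b h1 h else lo_125_128 b (Nat.le_of_not_lt h) h2
theorem lo_119_128 : ∀ b, 119 ≤ b → b < 128 → ∃ J, chkPBlk P 5 31 18 31671 b J = true := fun b h1 h2 =>
  if h : b < 123 then lo_119_123 b h1 h else lo_123_128 b (Nat.le_of_not_lt h) h2
theorem lo_110_128 : ∀ b, 110 ≤ b → b < 128 → ∃ J, chkPBlk P 5 31 18 31671 b J = true := fun b h1 h2 =>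
  if h : b < 119 then lo_110_119 b h1 h else lo_119_128 b (Nat.le_of_not_lt h) h2
theorem lo_128_129 : ∀ b, 128 ≤ b → b < 129 → ∃ J, chkPBlk P 5 31 18 31671 b J = true := fun b h1 h2 => by
  have hb : b = 128 := Nat.le_antisymm (Nat.le_of_lt_succ h2) h1
  subst hb; exact ⟨_, lblk_128⟩
theorem lo_129_130 : ∀ b, 129 ≤ b → b < 130 → ∃ J, chkPBlk P 5 31 18 31671 b J = true := fun b h1 h2 => by
  have hb : b = 129 := Nat.le_antisymm (Nat.le_of_lt_succ h2) h1
  subst hb; exact ⟨_, lblk_129⟩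
theorem lo_128_130 : ∀ b, 128 ≤ b → b < 130 → ∃ J, chkPBlk P 5 31 18 31671 b J = true := fun b h1 h2 =>
  if h : b < 129 then lo_128_129 b h1 h else lo_129_130 b (Nat.le_of_not_lt h) h2
theorem lo_130_131 : ∀ b, 130 ≤ b → b < 131 → ∃ J, chkPBlk P 5 31 18 31671 b J = true := fun b h1 h2 => by
  have hb : b = 130 := Nat.le_antisymm (Nat.le_of_lt_succ h2) h1
  subst hb; exact ⟨_, lblk_130⟩
theorem lo_131_132 : ∀ b, 131 ≤ b → b < 132 → ∃ J, chkPBlk P 5 31 18 31671 b J = true := fun b h1 h2 => by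
  have hb : b = 131 := Nat.le_antisymm (Nat.le_of_lt_succ h2) h1
  subst hb; exact ⟨_, lblk_131⟩
theorem lo_130_132 : ∀ b, 130 ≤ b → b < 132 → ∃ J, chkPBlk P 5 31 18 31671 b J = true := fun b h1 h2 =>
  if h : b < 131 then lo_130_131 b h1 h else lo_131_132 b (Nat.le_of_not_lt h) h2
theorem lo_128_132 : ∀ b, 128 ≤ b → b < 132 → ∃ J, chkPBlk P 5 31 18 31671 b J = true := fun b h1 h2 =>
  if h : b < 130 then lo_128_130 b h1 h else lo_130_132 b (Nat.le_of_not_lt h) h2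
theorem lo_132_133 : ∀ b, 132 ≤ b → b < 133 → ∃ J, chkPBlk P 5 31 18 31671 b J = true := fun b h1 h2 => by
  have hb : b = 132 := Nat.le_antisymm (Nat.le_of_lt_succ h2) h1
  subst hb; exact ⟨_, lblk_132⟩
theorem lo_133_134 : ∀ b, 133 ≤ b → b < 134 → ∃ J, chkPBlk P 5 31 18 31671 b J = true := fun b h1 h2 => by
  have hb : b = 133 := Nat.le_antisymm (Nat.le_of_lt_succ h2) h1
  subst hb; exact ⟨_, lblk_133⟩
theorem lo_132_134 : ∀ b, 132 ≤ b → b < 134 → ∃ J, chkPBlk P 5 31 18 31671 b J = true := fun b h1 h2 =>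
  if h : b < 133 then lo_132_133 b h1 h else lo_133_134 b (Nat.le_of_not_lt h) h2
theorem lo_134_135 : ∀ b, 134 ≤ b → b < 135 → ∃ J, chkPBlk P 5 31 18 31671 b J = true := fun b h1 h2 => by
  have hb : b = 134 := Nat.le_antisymm (Nat.le_of_lt_succ h2) h1
  subst hb; exact ⟨_, lblk_134⟩
theorem lo_135_136 : ∀ b, 135 ≤ b → b < 136 → ∃ J, chkPBlk P 5 31 18 31671 b J = true := fun b h1 h2 => by
  have hb : b = 135 := Nat.le_antisymm (Nat.le_of_lt_succ h2) h1
  subst hb; exact ⟨_, lblk_135⟩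
theorem lo_136_137 : ∀ b, 136 ≤ b → b < 137 → ∃ J, chkPBlk P 5 31 18 31671 b J = true := fun b h1 h2 => by
  have hb : b = 136 := Nat.le_antisymm (Nat.le_of_lt_succ h2) h1
  subst hb; exact ⟨_, lblk_136⟩
theorem lo_135_137 : ∀ b, 135 ≤ b → b < 137 → ∃ J, chkPBlk P 5 31 18 31671 b J = true := fun b h1 h2 =>
  if h : b < 136 then lo_135_136 b h1 h else lo_136_137 b (Nat.le_of_not_lt h) h2
theorem lo_134_137 : ∀ b, 134 ≤ b → b < 137 → ∃ J, chkPBlk P 5 31 18 31671 b J = true := fun b h1 h2 =>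
  if h : b < 135 then lo_134_135 b h1 h else lo_135_137 b (Nat.le_of_not_lt h) h2
theorem lo_132_137 : ∀ b, 132 ≤ b → b < 137 → ∃ J, chkPBlk P 5 31 18 31671 b J = true := fun b h1 h2 =>
  if h : b < 134 then lo_132_134 b h1 h else lo_134_137 b (Nat.le_of_not_lt h) h2
theorem lo_128_137 : ∀ b, 128 ≤ b → b < 137 → ∃ J, chkPBlk P 5 31 18 31671 b J = true := fun b h1 h2 =>
  if h : b < 132 then lo_128_132 b h1 h else lo_132_137 b (Nat.le_of_not_lt h) h2
theorem lo_137_138 : ∀ b, 137 ≤ b → b < 138 → ∃ J, chkPBlk P 5 31 18 31671 b J = true := fun b h1 h2 => by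
  have hb : b = 137 := Nat.le_antisymm (Nat.le_of_lt_succ h2) h1
  subst hb; exact ⟨_, lblk_137⟩
theorem lo_138_139 : ∀ b, 138 ≤ b → b < 139 → ∃ J, chkPBlk P 5 31 18 31671 b J = true := fun b h1 h2 => by
  have hb : b = 138 := Nat.le_antisymm (Nat.le_of_lt_succ h2) h1
  subst hb; exact ⟨_, lblk_138⟩
theorem lo_137_139 : ∀ b, 137 ≤ b → b < 139 → ∃ J, chkPBlk P 5 31 18 31671 b J = true := fun b h1 h2 =>
  if h : b < 138 then lo_137_138 b h1 h else lo_138_139 b (Nat.le_of_not_lt h) h2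
theorem lo_139_140 : ∀ b, 139 ≤ b → b < 140 → ∃ J, chkPBlk P 5 31 18 31671 b J = true := fun b h1 h2 => by
  have hb : b = 139 := Nat.le_antisymm (Nat.le_of_lt_succ h2) h1
  subst hb; exact ⟨_, lblk_139⟩
theorem lo_140_141 : ∀ b, 140 ≤ b → b < 141 → ∃ J, chkPBlk P 5 31 18 31671 b J = true := fun b h1 h2 => by
  have hb : b = 140 := Nat.le_antisymm (Nat.le_of_lt_succ h2) h1
  subst hb; exact ⟨_, lblk_140⟩
theorem lo_141_142 : ∀ b, 141 ≤ b → b < 142 → ∃ J, chkPBlk P 5 31 18 31671 b J = true := fun b h1 h2 => by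
  have hb : b = 141 := Nat.le_antisymm (Nat.le_of_lt_succ h2) h1
  subst hb; exact ⟨_, lblk_141⟩
theorem lo_140_142 : ∀ b, 140 ≤ b → b < 142 → ∃ J, chkPBlk P 5 31 18 31671 b J = true := fun b h1 h2 =>
  if h : b < 141 then lo_140_141 b h1 h else lo_141_142 b (Nat.le_of_not_lt h) h2
theorem lo_139_142 : ∀ b, 139 ≤ b → b < 142 → ∃ J, chkPBlk P 5 31 18 31671 b J = true := fun b h1 h2 =>
  if h : b < 140 then lo_139_140 b h1 h else lo_140_142 b (Nat.le_of_not_lt h) h2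
theorem lo_137_142 : ∀ b, 137 ≤ b → b < 142 → ∃ J, chkPBlk P 5 31 18 31671 b J = true := fun b h1 h2 =>
  if h : b < 139 then lo_137_139 b h1 h else lo_139_142 b (Nat.le_of_not_lt h) h2
theorem lo_142_143 : ∀ b, 142 ≤ b → b < 143 → ∃ J, chkPBlk P 5 31 18 31671 b J = true := fun b h1 h2 => by
  have hb : b = 142 := Nat.le_antisymm (Nat.le_of_lt_succ h2) h1
  subst hb; exact ⟨_, lblk_142⟩
theorem lo_143_144 : ∀ b, 143 ≤ b → b < 144 → ∃ J, chkPBlk P 5 31 18 31671 b J = true := fun b h1 h2 => by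
  have hb : b = 143 := Nat.le_antisymm (Nat.le_of_lt_succ h2) h1
  subst hb; exact ⟨_, lblk_143⟩
theorem lo_142_144 : ∀ b, 142 ≤ b → b < 144 → ∃ J, chkPBlk P 5 31 18 31671 b J = true := fun b h1 h2 =>
  if h : b < 143 then lo_142_143 b h1 h else lo_143_144 b (Nat.le_of_not_lt h) h2
theorem lo_144_145 : ∀ b, 144 ≤ b → b < 145 → ∃ J, chkPBlk P 5 31 18 31671 b J = true := fun b h1 h2 => by
  have hb : b = 144 := Nat.le_antisymm (Nat.le_of_lt_succ h2) h1
  subst hb; exact ⟨_, lblk_144⟩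
theorem lo_145_146 : ∀ b, 145 ≤ b → b < 146 → ∃ J, chkPBlk P 5 31 18 31671 b J = true := fun b h1 h2 => by
  have hb : b = 145 := Nat.le_antisymm (Nat.le_of_lt_succ h2) h1
  subst hb; exact ⟨_, lblk_145⟩
theorem lo_146_147 : ∀ b, 146 ≤ b → b < 147 → ∃ J, chkPBlk P 5 31 18 31671 b J = true := fun b h1 h2 => by
  have hb : b = 146 := Nat.le_antisymm (Nat.le_of_lt_succ h2) h1
  subst hb; exact ⟨_, lblk_146⟩
theorem lo_145_147 : ∀ b, 145 ≤ b → b < 147 → ∃ J, chkPBlk P 5 31 18 31671 b J = true := fun b h1 h2 =>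
  if h : b < 146 then lo_145_146 b h1 h else lo_146_147 b (Nat.le_of_not_lt h) h2
theorem lo_144_147 : ∀ b, 144 ≤ b → b < 147 → ∃ J, chkPBlk P 5 31 18 31671 b J = true := fun b h1 h2 =>
  if h : b < 145 then lo_144_145 b h1 h else lo_145_147 b (Nat.le_of_not_lt h) h2
theorem lo_142_147 : ∀ b, 142 ≤ b → b < 147 → ∃ J, chkPBlk P 5 31 18 31671 b J = true := fun b h1 h2 =>
  if h : b < 144 then lo_142_144 b h1 h else lo_144_147 b (Nat.le_of_not_lt h) h2
theorem lo_137_147 : ∀ b, 137 ≤ b → b < 147 → ∃ J, chkPBlk P 5 31 18 31671 b J = true := fun b h1 h2 =>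
  if h : b < 142 then lo_137_142 b h1 h else lo_142_147 b (Nat.le_of_not_lt h) h2
theorem lo_128_147 : ∀ b, 128 ≤ b → b < 147 → ∃ J, chkPBlk P 5 31 18 31671 b J = true := fun b h1 h2 =>
  if h : b < 137 then lo_128_137 b h1 h else lo_137_147 b (Nat.le_of_not_lt h) h2
theorem lo_110_147 : ∀ b, 110 ≤ b → b < 147 → ∃ J, chkPBlk P 5 31 18 31671 b J = true := fun b h1 h2 =>
  if h : b < 128 then lo_110_128 b h1 h else lo_128_147 b (Nat.le_of_not_lt h) h2
theorem lo_73_147 : ∀ b, 73 ≤ b → b < 147 → ∃ J, chkPBlk P 5 31 18 31671 b J = true := fun b h1 h2 =>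
  if h : b < 110 then lo_73_110 b h1 h else lo_110_147 b (Nat.le_of_not_lt h) h2
theorem lo_0_147 : ∀ b, 0 ≤ b → b < 147 → ∃ J, chkPBlk P 5 31 18 31671 b J = true := fun b h1 h2 =>
  if h : b < 73 then lo_0_73 b h1 h else lo_73_147 b (Nat.le_of_not_lt h) h2

end Cfsg.Agent.Lib.Helper29.S1689
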