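import Cfsg.Agent.Lib.Helper29.S1689.Data

set_option autoImplicit false
set_option Elab.async false

namespace Cfsg.Agent.Lib.Helper29.S1689

open Cfsg.Agent.Lib.Helper29.TcTrace Cfsg.Agent.Lib.Helper29.TcCert Cfsg.Agent.Lib.Helper29.TcPerm

theorem lblk_147 : chkPBlk P 5 31 18 31671 147 0x1244192841c88395072a0c2 = true := by decide +kernel
theorem lblk_148 : chkPBlk P 5 31 18 31671 148 0xe5394c9420e83950639869 = true := by decide +kernel
theorem lblk_149 : chkPBlk P 5 31 18 31671 149 0x10741ca729929220c841c88 = true := by decide +kernel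
theorem lblk_150 : chkPBlk P 5 31 18 31671 150 0x1083148841c8739529220c8 = true := by decide +kernel
theorem lblk_151 : chkPBlk P 5 31 18 31671 151 0xe519104419083910839ca9 = true := by decide +kernel
theorem lblk_152 : chkPBlk P 5 31 18 31671 152 0x844148841c87394c8398e4 = true := by decide +kernel
theorem lblk_153 : chkPBlk P 5 31 18 31671 153 0xe43a122198a4410c522469 = true := by decide +kernel
theorem lblk_154 : chkPBlk P 5 31 18 31671 154 0x106420e729d083a0e5418e5 = true := by decide +kernel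
theorem lblk_155 : chkPBlk P 5 31 18 31671 155 0x1063910639ca441106390c4 = true := by decide +kernel
theorem lblk_156 : chkPBlk P 5 31 18 31671 156 0xc7220c841c872988831c64 = true := by decide +kernel
theorem lblk_157 : chkPBlk P 5 31 18 31671 157 0x85098a2198c73906422088 = true := by decide +kernel
theorem lblk_158 : chkPBlk P 5 31 18 31671 158 0x128394e830cc43a0c6214e6 = true := by decide +kernel
theorem lblk_159 : chkPBlk P 5 31 18 31671 159 0x6621d06310e83188539885 = true := by decide +kernel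
theorem lblk_160 : chkPBlk P 5 31 18 31671 160 0x1061a50729d061a50729d06 = true := by decide +kernel
theorem lblk_161 : chkPBlk P 5 31 18 31671 161 0x87418c42a5083a5072a0c7 = true := by decide +kernel
theorem lblk_162 : chkPBlk P 5 31 18 31671 162 0x1072a0c74186941ca741866 = true := by decide +kernel
theorem lblk_163 : chkPBlk P 5 31 18 31671 163 0x1061a50729d0619889420e9 = true := by decide +kernel
theorem lblk_164 : chkPBlk P 5 31 18 31671 164 0x12839506125083a5072a0c7 = true := by decide +kernel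
theorem lblk_165 : chkPBlk P 5 31 18 31671 165 0xe729d29220c9420e9220e5 = true := by decide +kernel
theorem lblk_166 : chkPBlk P 5 31 18 31671 166 0xa949106420e729ca841ce5 = true := by decide +kernel
theorem lblk_167 : chkPBlk P 5 31 18 31671 167 0x1234910949106420e4420e7 = true := by decide +kernel
theorem lblk_168 : chkPBlk P 5 31 18 31671 168 0xe53a0c3310e831887310c5 = true := by decide +kernel
theorem lblk_169 : chkPBlk P 5 31 18 31671 169 0xc74186941ca74186741928 = true := by decide +kernel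
theorem lblk_170 : chkPBlk P 5 31 18 31671 170 0x1072a0c941ca9420e941ca8 = true := by decide +kernel
theorem lblk_171 : chkPBlk P 5 31 18 31671 171 0xe9220e54a0e541849420e9 = true := by decide +kernel
theorem lblk_172 : chkPBlk P 5 31 18 31671 172 0x128395063a0c34a48832508 = true := by decide +kernel
theorem lblk_173 : chkPBlk P 5 31 18 31671 173 0x107491072a5072a0c24a107 = true := by decide +kernel
theorem lblk_174 : chkPBlk P 5 31 18 31671 174 0x8839528395061252441928 = true := by decide +kernel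
theorem lblk_175 : chkPBlk P 5 31 18 31671 175 0x1083a50729929220c9420e9 = true := by decide +kernel
theorem lblk_176 : chkPBlk P 5 31 18 31671 176 0x6922129220c92a48841c89 = true := by decide +kernel
theorem lblk_177 : chkPBlk P 5 31 18 31671 177 0xe4418e448d2441106390e9 = true := by decide +kernel
theorem lblk_178 : chkPBlk P 5 31 18 31671 178 0xe5424491a4891a488220c8 = true := by decide +kernel
theorem lblk_179 : chkPBlk P 5 31 18 31671 179 0x12441925491083912841d28 = true := by decide +kernel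
theorem lblk_180 : chkPBlk P 5 31 18 31671 180 0x88325244192841d2349109 = true := by decide +kernel
theorem lblk_181 : chkPBlk P 5 31 18 31671 181 0x12248d2448d24424c92a489 = true := by decide +kernel
theorem lblk_182 : chkPBlk P 5 31 18 31671 182 0x12249468489234912349108 = true := by decide +kernel
theorem lblk_183 : chkPBlk P 5 31 18 31671 183 0xc339109424284a4a242428 = true := by decide +kernel
theorem lblk_184 : chkPBlk P 5 31 18 31671 184 0xe53210741ca831d0619ca7 = true := by decide +kernel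
theorem lblk_185 : chkPBlk P 5 31 18 31671 185 0x8832508391072a0e541847 = true := by decide +kernel
theorem lblk_186 : chkPBlk P 5 31 18 31671 186 0x8841c8841d07298c739529 = true := by decide +kernel
theorem lblk_187 : chkPBlk P 5 31 18 31671 187 0x10741ca72992922129220c5 = true := by decide +kernel
theorem lblk_188 : chkPBlk P 5 31 18 31671 188 0x883148841c8739529220c8 = true := by decide +kernel
theorem lblk_189 : chkPBlk P 5 31 18 31671 189 0x12441106420e439ca91a488 = true := by decide +kernel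
theorem lblk_190 : chkPBlk P 5 31 18 31671 190 0x10639128314844190731c89 = true := by decide +kernel
theorem lblk_191 : chkPBlk P 5 31 18 31671 191 0xc641ce410c8322088320e4 = true := by decide +kernel
theorem lblk_192 : chkPBlk P 5 31 18 31671 192 0x10912463218a42210739128 = true := by decide +kernel
theorem lblk_193 : chkPBlk P 5 31 18 31671 193 0x10729ca8488e628d2441cc5 = true := by decide +kernel
theorem lblk_194 : chkPBlk P 5 31 18 31671 194 0xc719104418e431106420e4 = true := by decide +kernel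
theorem lblk_195 : chkPBlk P 5 31 18 31671 195 0x10831ce4218643110639088 = true := by decide +kernel
theorem lblk_196 : chkPBlk P 5 31 18 31671 196 0x8539885094c638ca3220c4 = true := by decide +kernel
theorem lblk_197 : chkPBlk P 5 31 18 31671 197 0xe830d28394e830cc43a0c6 = true := by decide +kernel
theorem lblk_198 : chkPBlk P 5 31 18 31671 198 0x6621d063112841d2839506 = true := by decide +kernel
theorem lblk_199 : chkPBlk P 5 31 18 31671 199 0x1061a50729d061a50729d06 = true := by decide +kernel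
theorem lblk_200 : chkPBlk P 5 31 18 31671 200 0xe941ca8325083a5072a0c7 = true := by decide +kernel
theorem lblk_201 : chkPBlk P 5 31 18 31671 201 0x1083a488395283950612508 = true := by decide +kernel
theorem lblk_202 : chkPBlk P 5 31 18 31671 202 0xc34a0e53a0c331129220c9 = true := by decide +kernel
theorem lblk_203 : chkPBlk P 5 31 18 31671 203 0x1072a0c24a1074a0e5418e8 = true := by decide +kernel
theorem lblk_204 : chkPBlk P 5 31 18 31671 204 0x1061a5244192841d2441ca9 = true := by decide +kernel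
theorem lblk_205 : chkPBlk P 5 31 18 31671 205 0x12839506125083a5072a0c7 = true := by decide +kernel
theorem lblk_206 : chkPBlk P 5 31 18 31671 206 0xe541929220c9420e9220e5 = true := by decide +kernel
theorem lblk_207 : chkPBlk P 5 31 18 31671 207 0x88324a922107225083a488 = true := by decide +kernel
theorem lblk_208 : chkPBlk P 5 31 18 31671 208 0x8831c87220c73a46922129 = true := by decide +kernel
theorem lblk_209 : chkPBlk P 5 31 18 31671 209 0x1244110641c8831c891a488 = true := by decide +kernel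
theorem lblk_210 : chkPBlk P 5 31 18 31671 210 0x10619d06398884892349123 = true := by decide +kernel
theorem lblk_211 : chkPBlk P 5 31 18 31671 211 0xe54a1074a0e531cc941ca7 = true := by decide +kernel
theorem lblk_212 : chkPBlk P 5 31 18 31671 212 0x1072a0c24a1074a0e541928 = true := by decide +kernel
theorem lblk_213 : chkPBlk P 5 31 18 31671 213 0x1083a5244192841d2441ca9 = true := by decide +kernel
theorem lblk_214 : chkPBlk P 5 31 18 31671 214 0xe541929220c9420e941ca9 = true := by decide +kernel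
theorem lblk_215 : chkPBlk P 5 31 18 31671 215 0x88324a922107225083a488 = true := by decide +kernel
theorem lblk_216 : chkPBlk P 5 31 18 31671 216 0x8839528395061246922129 = true := by decide +kernel
theorem lblk_217 : chkPBlk P 5 31 18 31671 217 0x1083a50729929220c9420e9 = true := by decide +kernel
theorem lblk_218 : chkPBlk P 5 31 18 31671 218 0x6922129220c92a48841c89 = true := by decide +kernel
theorem lblk_219 : chkPBlk P 5 31 18 31671 219 0xc9491083912841d28394c9 = true := by decide +kernel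
theorem lblk_220 : chkPBlk P 5 31 18 31671 220 0x1064a10721ca91a4884a488 = true := by decide +kernel
theorem lblk_221 : chkPBlk P 5 31 18 31671 221 0x124424c92a489220c83a524 = true := by decide +kernel
theorem lblk_222 : chkPBlk P 5 31 18 31671 222 0x1241910641cc84892349123 = true := by decide +kernel
theorem lblk_223 : chkPBlk P 5 31 18 31671 223 0x644248830c88320e848923 = true := by decide +kernel
theorem lblk_224 : chkPBlk P 5 31 18 31671 224 0xe442428489251a12248d24 = true := by decide +kernel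
theorem lblk_225 : chkPBlk P 5 31 18 31671 225 0x12549124419074a48832508 = true := by decide +kernel
theorem lblk_226 : chkPBlk P 5 31 18 31671 226 0x12441909124692246922126 = true := by decide +kernel
theorem lblk_227 : chkPBlk P 5 31 18 31671 227 0x12749925494692212349109 = true := by decide +kernel
theorem lblk_228 : chkPBlk P 5 31 18 31671 228 0x12442428489251a12248d24 = true := by decide +kernel
theorem lblk_229 : chkPBlk P 5 31 18 31671 229 0x129289090a1224946848923 = true := by decide +kernel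
theorem lblk_230 : chkPBlk P 5 31 18 31671 230 0x10442508491250910942428 = true := by decide +kernel
theorem lblk_231 : chkPBlk P 5 31 18 31671 231 0x106420e839507298e7298a4 = true := by decide +kernel
theorem lblk_232 : chkPBlk P 5 31 18 31671 232 0xa4420e4420e8394c639ca4 = true := by decide +kernel
theorem lblk_233 : chkPBlk P 5 31 18 31671 233 0x10721ca6391234910949106 = true := by decide +kernel
theorem lblk_234 : chkPBlk P 5 31 18 31671 234 0x891a4883148441907220c8 = true := by decide +kernel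
theorem lblk_235 : chkPBlk P 5 31 18 31671 235 0xe44a488220c841c8739529 = true := by decide +kernel
theorem lblk_236 : chkPBlk P 5 31 18 31671 236 0x12248d241910629088320e6 = true := by decide +kernel
theorem lblk_237 : chkPBlk P 5 31 18 31671 237 0xc83a524191044190731c88 = true := by decide +kernel
theorem lblk_238 : chkPBlk P 5 31 18 31671 238 0x1061910641ce62948849106 = true := by decide +kernel
theorem lblk_239 : chkPBlk P 5 31 18 31671 239 0x12831907188a310c8322124 = true := by decide +kernel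
theorem lblk_240 : chkPBlk P 5 31 18 31671 240 0x12210ce629464491083a505 = true := by decide +kernel
theorem lblk_241 : chkPBlk P 5 31 18 31671 241 0x8841c8631cc928d2732128 = true := by decide +kernel
theorem lblk_242 : chkPBlk P 5 31 18 31671 242 0x64314861908831c6441106 = true := by decide +kernel
theorem lblk_243 : chkPBlk P 5 31 18 31671 243 0xc6398c531ca52910631c65 = true := by decide +kernel
theorem lblk_244 : chkPBlk P 5 31 18 31671 244 0x12841d28395063a0c341ca7 = true := by decide +kernel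
theorem lblk_245 : chkPBlk P 5 31 18 31671 245 0x1064a107491072a5072a0c2 = true := by decide +kernel
theorem lblk_246 : chkPBlk P 5 31 18 31671 246 0xe8394c73250729d061a524 = true := by decide +kernel
theorem lblk_247 : chkPBlk P 5 31 18 31671 247 0xe541849420e941ca832508 = true := by decide +kernel
theorem lblk_248 : chkPBlk P 5 31 18 31671 248 0xe54a488325083a48839528 = true := by decide +kernel
theorem lblk_249 : chkPBlk P 5 31 18 31671 249 0x88395064a488325083a488 = true := by decide +kernel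
theorem lblk_250 : chkPBlk P 5 31 18 31671 250 0x129220c92a48841c89420e9 = true := by decide +kernel
theorem lblk_251 : chkPBlk P 5 31 18 31671 251 0x1083a5072a0c7418691a488 = true := by decide +kernel
theorem lblk_252 : chkPBlk P 5 31 18 31671 252 0xc9420e9220e54a0e541849 = true := by decide +kernel
theorem lblk_253 : chkPBlk P 5 31 18 31671 253 0x107225083a488395064a488 = true := by decide +kernel
theorem lblk_254 : chkPBlk P 5 31 18 31671 254 0x1061246922129220c92a488 = true := by decide +kernel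
theorem lblk_255 : chkPBlk P 5 31 18 31671 255 0xc9491064a107491072a507 = true := by decide +kernel
theorem lblk_256 : chkPBlk P 5 31 18 31671 256 0x125491083912841d2441ca8 = true := by decide +kernel
theorem lblk_257 : chkPBlk P 5 31 18 31671 257 0x10839128395234910949106 = true := by decide +kernel
theorem lblk_258 : chkPBlk P 5 31 18 31671 258 0x12549124419074a48832524 = true := by decide +kernel
theorem lblk_259 : chkPBlk P 5 31 18 31671 259 0x1063212248d2448d2442126 = true := by decide +kernel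
theorem lblk_260 : chkPBlk P 5 31 18 31671 260 0x107424491a483220c839864 = true := by decide +kernel
theorem lblk_261 : chkPBlk P 5 31 18 31671 261 0x1091246920c884910619106 = true := by decide +kernel
theorem lblk_262 : chkPBlk P 5 31 18 31671 262 0x1064a0e53a0c848509124a3 = true := by decide +kernel
theorem lblk_263 : chkPBlk P 5 31 18 31671 263 0x1064a107394e54a1074a0e5 = true := by decide +kernel
theorem lblk_264 : chkPBlk P 5 31 18 31671 264 0x88325083a5072a5083a524 = true := by decide +kernel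
theorem lblk_265 : chkPBlk P 5 31 18 31671 265 0x8841c89420e9220e541929 = true := by decide +kernel
theorem lblk_266 : chkPBlk P 5 31 18 31671 266 0x129220c91a4884a488324a9 = true := by decide +kernel
theorem lblk_267 : chkPBlk P 5 31 18 31671 267 0x1072a46922129220c9420e4 = true := by decide +kernel
theorem lblk_268 : chkPBlk P 5 31 18 31671 268 0x88320e9491064a48841c89 = true := by decide +kernel
theorem lblk_269 : chkPBlk P 5 31 18 31671 269 0x12248d2448d24424c92a489 = true := by decide +kernel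
theorem lblk_270 : chkPBlk P 5 31 18 31671 270 0xc9491083912841d28394c8 = true := by decide +kernel
theorem lblk_271 : chkPBlk P 5 31 18 31671 271 0x1064a10721ca91a4884a488 = true := by decide +kernel
theorem lblk_272 : chkPBlk P 5 31 18 31671 272 0x124424c92a489220c83a524 = true := by decide +kernel
theorem lblk_273 : chkPBlk P 5 31 18 31671 273 0x1283250839ca84892349123 = true := by decide +kernel
theorem lblk_274 : chkPBlk P 5 31 18 31671 274 0x12448d24424a922488320e9 = true := by decide +kernel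
theorem lblk_275 : chkPBlk P 5 31 18 31671 275 0x6922129220c839c8848923 = true := by decide +kernel
theorem lblk_276 : chkPBlk P 5 31 18 31671 276 0x893a4c92a4a349109220c9 = true := by decide +kernel
theorem lblk_277 : chkPBlk P 5 31 18 31671 277 0x128321214244928d0912469 = true := by decide +kernel
theorem lblk_278 : chkPBlk P 5 31 18 31671 278 0x4322506424284892518864 = true := by decide +kernel
theorem lblk_279 : chkPBlk P 5 31 18 31671 279 0x1090a122494621912349105 = true := by decide +kernel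
theorem lblk_280 : chkPBlk P 5 31 18 31671 280 0x129220c839109424284a4a2 = true := by decide +kernel
theorem lblk_281 : chkPBlk P 5 31 18 31671 281 0xc92a4a349109220c91a488 = true := by decide +kernel
theorem lblk_282 : chkPBlk P 5 31 18 31671 282 0x1214244928d0912469224e9 = true := by decide +kernel
theorem lblk_283 : chkPBlk P 5 31 18 31671 283 0x1251a488489234912349108 = true := by decide +kernel
theorem lblk_284 : chkPBlk P 5 31 18 31671 284 0x28489251a52749909324a2 = true := by decide +kernel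
theorem lblk_285 : chkPBlk P 5 31 18 31671 285 0x12249464425090a12928909 = true := by decide +kernel
theorem lblk_286 : chkPBlk P 5 31 18 31671 286 0x12509109424284a4a242428 = true := by decide +kernel
theorem lblk_287 : chkPBlk P 5 31 18 31671 287 0x10942124494a44110942124 = true := by decide +kernel
theorem lblk_288 : chkPBlk P 5 31 18 31671 288 0x1083910839ca639ca522084 = true := by decide +kernel
theorem lblk_289 : chkPBlk P 5 31 18 31671 289 0x883210721ca63906441106 = true := by decide +kernel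
theorem lblk_290 : chkPBlk P 5 31 18 31671 290 0x491a4891a4883148441907 = true := by decide +kernel
theorem lblk_291 : chkPBlk P 5 31 18 31671 291 0x124418644110641ce4320e9 = true := by decide +kernel
theorem lblk_292 : chkPBlk P 5 31 18 31671 292 0xe6391254a46921cc528c88 = true := by decide +kernel
theorem lblk_293 : chkPBlk P 5 31 18 31671 293 0x124418c83a12920c88220c8 = true := by decide +kernel
theorem lo_147_148 : ∀ b, 147 ≤ b → b < 148 → ∃ J, chkPBlk P 5 31 18 31671 b J = true := fun b h1 h2 => by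
  have hb : b = 147 := Nat.le_antisymm (Nat.le_of_lt_succ h2) h1
  subst hb; exact ⟨_, lblk_147⟩
theorem lo_148_149 : ∀ b, 148 ≤ b → b < 149 → ∃ J, chkPBlk P 5 31 18 31671 b J = true := fun b h1 h2 => by
  have hb : b = 148 := Nat.le_antisymm (Nat.le_of_lt_succ h2) h1
  subst hb; exact ⟨_, lblk_148⟩
theorem lo_147_149 : ∀ b, 147 ≤ b → b < 149 → ∃ J, chkPBlk P 5 31 18 31671 b J = true := fun b h1 h2 =>
  if h : b < 148 then lo_147_148 b h1 h else lo_148_149 b (Nat.le_of_not_lt h) h2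
theorem lo_149_150 : ∀ b, 149 ≤ b → b < 150 → ∃ J, chkPBlk P 5 31 18 31671 b J = true := fun b h1 h2 => by
  have hb : b = 149 := Nat.le_antisymm (Nat.le_of_lt_succ h2) h1
  subst hb; exact ⟨_, lblk_149⟩
theorem lo_150_151 : ∀ b, 150 ≤ b → b < 151 → ∃ J, chkPBlk P 5 31 18 31671 b J = true := fun b h1 h2 => by
  have hb : b = 150 := Nat.le_antisymm (Nat.le_of_lt_succ h2) h1
  subst hb; exact ⟨_, lblk_150⟩
theorem lo_149_151 : ∀ b, 149 ≤ b → b < 151 → ∃ J, chkPBlk P 5 31 18 31671 b J = true := fun b h1 h2 =>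
  if h : b < 150 then lo_149_150 b h1 h else lo_150_151 b (Nat.le_of_not_lt h) h2
theorem lo_147_151 : ∀ b, 147 ≤ b → b < 151 → ∃ J, chkPBlk P 5 31 18 31671 b J = true := fun b h1 h2 =>
  if h : b < 149 then lo_147_149 b h1 h else lo_149_151 b (Nat.le_of_not_lt h) h2
theorem lo_151_152 : ∀ b, 151 ≤ b → b < 152 → ∃ J, chkPBlk P 5 31 18 31671 b J = true := fun b h1 h2 => by
  have hb : b = 151 := Nat.le_antisymm (Nat.le_of_lt_succ h2) h1
  subst hb; exact ⟨_, lblk_151⟩
theorem lo_152_153 : ∀ b, 152 ≤ b → b < 153 → ∃ J, chkPBlk P 5 31 18 31671 b J = true := fun b h1 h2 => by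
  have hb : b = 152 := Nat.le_antisymm (Nat.le_of_lt_succ h2) h1
  subst hb; exact ⟨_, lblk_152⟩
theorem lo_151_153 : ∀ b, 151 ≤ b → b < 153 → ∃ J, chkPBlk P 5 31 18 31671 b J = true := fun b h1 h2 =>
  if h : b < 152 then lo_151_152 b h1 h else lo_152_153 b (Nat.le_of_not_lt h) h2
theorem lo_153_154 : ∀ b, 153 ≤ b → b < 154 → ∃ J, chkPBlk P 5 31 18 31671 b J = true := fun b h1 h2 => by
  have hb : b = 153 := Nat.le_antisymm (Nat.le_of_lt_succ h2) h1
  subst hb; exact ⟨_, lblk_153⟩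
theorem lo_154_155 : ∀ b, 154 ≤ b → b < 155 → ∃ J, chkPBlk P 5 31 18 31671 b J = true := fun b h1 h2 => by
  have hb : b = 154 := Nat.le_antisymm (Nat.le_of_lt_succ h2) h1
  subst hb; exact ⟨_, lblk_154⟩
theorem lo_155_156 : ∀ b, 155 ≤ b → b < 156 → ∃ J, chkPBlk P 5 31 18 31671 b J = true := fun b h1 h2 => by
  have hb : b = 155 := Nat.le_antisymm (Nat.le_of_lt_succ h2) h1
  subst hb; exact ⟨_, lblk_155⟩
theorem lo_154_156 : ∀ b, 154 ≤ b → b < 156 → ∃ J, chkPBlk P 5 31 18 31671 b J = true := fun b h1 h2 =>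
  if h : b < 155 then lo_154_155 b h1 h else lo_155_156 b (Nat.le_of_not_lt h) h2
theorem lo_153_156 : ∀ b, 153 ≤ b → b < 156 → ∃ J, chkPBlk P 5 31 18 31671 b J = true := fun b h1 h2 =>
  if h : b < 154 then lo_153_154 b h1 h else lo_154_156 b (Nat.le_of_not_lt h) h2
theorem lo_151_156 : ∀ b, 151 ≤ b → b < 156 → ∃ J, chkPBlk P 5 31 18 31671 b J = true := fun b h1 h2 =>
  if h : b < 153 then lo_151_153 b h1 h else lo_153_156 b (Nat.le_of_not_lt h) h2
theorem lo_147_156 : ∀ b, 147 ≤ b → b < 156 → ∃ J, chkPBlk P 5 31 18 31671 b J = true := fun b h1 h2 =>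
  if h : b < 151 then lo_147_151 b h1 h else lo_151_156 b (Nat.le_of_not_lt h) h2
theorem lo_156_157 : ∀ b, 156 ≤ b → b < 157 → ∃ J, chkPBlk P 5 31 18 31671 b J = true := fun b h1 h2 => by
  have hb : b = 156 := Nat.le_antisymm (Nat.le_of_lt_succ h2) h1
  subst hb; exact ⟨_, lblk_156⟩
theorem lo_157_158 : ∀ b, 157 ≤ b → b < 158 → ∃ J, chkPBlk P 5 31 18 31671 b J = true := fun b h1 h2 => by
  have hb : b = 157 := Nat.le_antisymm (Nat.le_of_lt_succ h2) h1
  subst hb; exact ⟨_, lblk_157⟩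
theorem lo_156_158 : ∀ b, 156 ≤ b → b < 158 → ∃ J, chkPBlk P 5 31 18 31671 b J = true := fun b h1 h2 =>
  if h : b < 157 then lo_156_157 b h1 h else lo_157_158 b (Nat.le_of_not_lt h) h2
theorem lo_158_159 : ∀ b, 158 ≤ b → b < 159 → ∃ J, chkPBlk P 5 31 18 31671 b J = true := fun b h1 h2 => by
  have hb : b = 158 := Nat.le_antisymm (Nat.le_of_lt_succ h2) h1
  subst hb; exact ⟨_, lblk_158⟩
theorem lo_159_160 : ∀ b, 159 ≤ b → b < 160 → ∃ J, chkPBlk P 5 31 18 31671 b J = true := fun b h1 h2 => by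
  have hb : b = 159 := Nat.le_antisymm (Nat.le_of_lt_succ h2) h1
  subst hb; exact ⟨_, lblk_159⟩
theorem lo_158_160 : ∀ b, 158 ≤ b → b < 160 → ∃ J, chkPBlk P 5 31 18 31671 b J = true := fun b h1 h2 =>
  if h : b < 159 then lo_158_159 b h1 h else lo_159_160 b (Nat.le_of_not_lt h) h2
theorem lo_156_160 : ∀ b, 156 ≤ b → b < 160 → ∃ J, chkPBlk P 5 31 18 31671 b J = true := fun b h1 h2 =>
  if h : b < 158 then lo_156_158 b h1 h else lo_158_160 b (Nat.le_of_not_lt h) h2
theorem lo_160_161 : ∀ b, 160 ≤ b → b < 161 → ∃ J, chkPBlk P 5 31 18 31671 b J = true := fun b h1 h2 => by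
  have hb : b = 160 := Nat.le_antisymm (Nat.le_of_lt_succ h2) h1
  subst hb; exact ⟨_, lblk_160⟩
theorem lo_161_162 : ∀ b, 161 ≤ b → b < 162 → ∃ J, chkPBlk P 5 31 18 31671 b J = true := fun b h1 h2 => by
  have hb : b = 161 := Nat.le_antisymm (Nat.le_of_lt_succ h2) h1
  subst hb; exact ⟨_, lblk_161⟩
theorem lo_160_162 : ∀ b, 160 ≤ b → b < 162 → ∃ J, chkPBlk P 5 31 18 31671 b J = true := fun b h1 h2 =>
  if h : b < 161 then lo_160_161 b h1 h else lo_161_162 b (Nat.le_of_not_lt h) h2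
theorem lo_162_163 : ∀ b, 162 ≤ b → b < 163 → ∃ J, chkPBlk P 5 31 18 31671 b J = true := fun b h1 h2 => by
  have hb : b = 162 := Nat.le_antisymm (Nat.le_of_lt_succ h2) h1
  subst hb; exact ⟨_, lblk_162⟩
theorem lo_163_164 : ∀ b, 163 ≤ b → b < 164 → ∃ J, chkPBlk P 5 31 18 31671 b J = true := fun b h1 h2 => by
  have hb : b = 163 := Nat.le_antisymm (Nat.le_of_lt_succ h2) h1
  subst hb; exact ⟨_, lblk_163⟩
theorem lo_164_165 : ∀ b, 164 ≤ b → b < 165 → ∃ J, chkPBlk P 5 31 18 31671 b J = true := fun b h1 h2 => by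
  have hb : b = 164 := Nat.le_antisymm (Nat.le_of_lt_succ h2) h1
  subst hb; exact ⟨_, lblk_164⟩
theorem lo_163_165 : ∀ b, 163 ≤ b → b < 165 → ∃ J, chkPBlk P 5 31 18 31671 b J = true := fun b h1 h2 =>
  if h : b < 164 then lo_163_164 b h1 h else lo_164_165 b (Nat.le_of_not_lt h) h2
theorem lo_162_165 : ∀ b, 162 ≤ b → b < 165 → ∃ J, chkPBlk P 5 31 18 31671 b J = true := fun b h1 h2 =>
  if h : b < 163 then lo_162_163 b h1 h else lo_163_165 b (Nat.le_of_not_lt h) h2
theorem lo_160_165 : ∀ b, 160 ≤ b → b < 165 → ∃ J, chkPBlk P 5 31 18 31671 b J = true := fun b h1 h2 =>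
  if h : b < 162 then lo_160_162 b h1 h else lo_162_165 b (Nat.le_of_not_lt h) h2
theorem lo_156_165 : ∀ b, 156 ≤ b → b < 165 → ∃ J, chkPBlk P 5 31 18 31671 b J = true := fun b h1 h2 =>
  if h : b < 160 then lo_156_160 b h1 h else lo_160_165 b (Nat.le_of_not_lt h) h2
theorem lo_147_165 : ∀ b, 147 ≤ b → b < 165 → ∃ J, chkPBlk P 5 31 18 31671 b J = true := fun b h1 h2 =>
  if h : b < 156 then lo_147_156 b h1 h else lo_156_165 b (Nat.le_of_not_lt h) h2
theorem lo_165_166 : ∀ b, 165 ≤ b → b < 166 → ∃ J, chkPBlk P 5 31 18 31671 b J = true := fun b h1 h2 => by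
  have hb : b = 165 := Nat.le_antisymm (Nat.le_of_lt_succ h2) h1
  subst hb; exact ⟨_, lblk_165⟩
theorem lo_166_167 : ∀ b, 166 ≤ b → b < 167 → ∃ J, chkPBlk P 5 31 18 31671 b J = true := fun b h1 h2 => by
  have hb : b = 166 := Nat.le_antisymm (Nat.le_of_lt_succ h2) h1
  subst hb; exact ⟨_, lblk_166⟩
theorem lo_165_167 : ∀ b, 165 ≤ b → b < 167 → ∃ J, chkPBlk P 5 31 18 31671 b J = true := fun b h1 h2 =>
  if h : b < 166 then lo_165_166 b h1 h else lo_166_167 b (Nat.le_of_not_lt h) h2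
theorem lo_167_168 : ∀ b, 167 ≤ b → b < 168 → ∃ J, chkPBlk P 5 31 18 31671 b J = true := fun b h1 h2 => by
  have hb : b = 167 := Nat.le_antisymm (Nat.le_of_lt_succ h2) h1
  subst hb; exact ⟨_, lblk_167⟩
theorem lo_168_169 : ∀ b, 168 ≤ b → b < 169 → ∃ J, chkPBlk P 5 31 18 31671 b J = true := fun b h1 h2 => by
  have hb : b = 168 := Nat.le_antisymm (Nat.le_of_lt_succ h2) h1
  subst hb; exact ⟨_, lblk_168⟩
theorem lo_167_169 : ∀ b, 167 ≤ b → b < 169 → ∃ J, chkPBlk P 5 31 18 31671 b J = true := fun b h1 h2 =>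
  if h : b < 168 then lo_167_168 b h1 h else lo_168_169 b (Nat.le_of_not_lt h) h2
theorem lo_165_169 : ∀ b, 165 ≤ b → b < 169 → ∃ J, chkPBlk P 5 31 18 31671 b J = true := fun b h1 h2 =>
  if h : b < 167 then lo_165_167 b h1 h else lo_167_169 b (Nat.le_of_not_lt h) h2
theorem lo_169_170 : ∀ b, 169 ≤ b → b < 170 → ∃ J, chkPBlk P 5 31 18 31671 b J = true := fun b h1 h2 => by
  have hb : b = 169 := Nat.le_antisymm (Nat.le_of_lt_succ h2) h1
  subst hb; exact ⟨_, lblk_169⟩
theorem lo_170_171 : ∀ b, 170 ≤ b → b < 171 → ∃ J, chkPBlk P 5 31 18 31671 b J = true := fun b h1 h2 => by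
  have hb : b = 170 := Nat.le_antisymm (Nat.le_of_lt_succ h2) h1
  subst hb; exact ⟨_, lblk_170⟩
theorem lo_169_171 : ∀ b, 169 ≤ b → b < 171 → ∃ J, chkPBlk P 5 31 18 31671 b J = true := fun b h1 h2 =>
  if h : b < 170 then lo_169_170 b h1 h else lo_170_171 b (Nat.le_of_not_lt h) h2
theorem lo_171_172 : ∀ b, 171 ≤ b → b < 172 → ∃ J, chkPBlk P 5 31 18 31671 b J = true := fun b h1 h2 => by
  have hb : b = 171 := Nat.le_antisymm (Nat.le_of_lt_succ h2) h1
  subst hb; exact ⟨_, lblk_171⟩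
theorem lo_172_173 : ∀ b, 172 ≤ b → b < 173 → ∃ J, chkPBlk P 5 31 18 31671 b J = true := fun b h1 h2 => by
  have hb : b = 172 := Nat.le_antisymm (Nat.le_of_lt_succ h2) h1
  subst hb; exact ⟨_, lblk_172⟩
theorem lo_173_174 : ∀ b, 173 ≤ b → b < 174 → ∃ J, chkPBlk P 5 31 18 31671 b J = true := fun b h1 h2 => by
  have hb : b = 173 := Nat.le_antisymm (Nat.le_of_lt_succ h2) h1
  subst hb; exact ⟨_, lblk_173⟩
theorem lo_172_174 : ∀ b, 172 ≤ b → b < 174 → ∃ J, chkPBlk P 5 31 18 31671 b J = true := fun b h1 h2 =>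
  if h : b < 173 then lo_172_173 b h1 h else lo_173_174 b (Nat.le_of_not_lt h) h2
theorem lo_171_174 : ∀ b, 171 ≤ b → b < 174 → ∃ J, chkPBlk P 5 31 18 31671 b J = true := fun b h1 h2 =>
  if h : b < 172 then lo_171_172 b h1 h else lo_172_174 b (Nat.le_of_not_lt h) h2
theorem lo_169_174 : ∀ b, 169 ≤ b → b < 174 → ∃ J, chkPBlk P 5 31 18 31671 b J = true := fun b h1 h2 =>
  if h : b < 171 then lo_169_171 b h1 h else lo_171_174 b (Nat.le_of_not_lt h) h2
theorem lo_165_174 : ∀ b, 165 ≤ b → b < 174 → ∃ J, chkPBlk P 5 31 18 31671 b J = true := fun b h1 h2 =>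
  if h : b < 169 then lo_165_169 b h1 h else lo_169_174 b (Nat.le_of_not_lt h) h2
theorem lo_174_175 : ∀ b, 174 ≤ b → b < 175 → ∃ J, chkPBlk P 5 31 18 31671 b J = true := fun b h1 h2 => by
  have hb : b = 174 := Nat.le_antisymm (Nat.le_of_lt_succ h2) h1
  subst hb; exact ⟨_, lblk_174⟩
theorem lo_175_176 : ∀ b, 175 ≤ b → b < 176 → ∃ J, chkPBlk P 5 31 18 31671 b J = true := fun b h1 h2 => by
  have hb : b = 175 := Nat.le_antisymm (Nat.le_of_lt_succ h2) h1
  subst hb; exact ⟨_, lblk_175⟩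
theorem lo_174_176 : ∀ b, 174 ≤ b → b < 176 → ∃ J, chkPBlk P 5 31 18 31671 b J = true := fun b h1 h2 =>
  if h : b < 175 then lo_174_175 b h1 h else lo_175_176 b (Nat.le_of_not_lt h) h2
theorem lo_176_177 : ∀ b, 176 ≤ b → b < 177 → ∃ J, chkPBlk P 5 31 18 31671 b J = true := fun b h1 h2 => by
  have hb : b = 176 := Nat.le_antisymm (Nat.le_of_lt_succ h2) h1
  subst hb; exact ⟨_, lblk_176⟩
theorem lo_177_178 : ∀ b, 177 ≤ b → b < 178 → ∃ J, chkPBlk P 5 31 18 31671 b J = true := fun b h1 h2 => by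
  have hb : b = 177 := Nat.le_antisymm (Nat.le_of_lt_succ h2) h1
  subst hb; exact ⟨_, lblk_177⟩
theorem lo_176_178 : ∀ b, 176 ≤ b → b < 178 → ∃ J, chkPBlk P 5 31 18 31671 b J = true := fun b h1 h2 =>
  if h : b < 177 then lo_176_177 b h1 h else lo_177_178 b (Nat.le_of_not_lt h) h2
theorem lo_174_178 : ∀ b, 174 ≤ b → b < 178 → ∃ J, chkPBlk P 5 31 18 31671 b J = true := fun b h1 h2 =>
  if h : b < 176 then lo_174_176 b h1 h else lo_176_178 b (Nat.le_of_not_lt h) h2
theorem lo_178_179 : ∀ b, 178 ≤ b → b < 179 → ∃ J, chkPBlk P 5 31 18 31671 b J = true := fun b h1 h2 => by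
  have hb : b = 178 := Nat.le_antisymm (Nat.le_of_lt_succ h2) h1
  subst hb; exact ⟨_, lblk_178⟩
theorem lo_179_180 : ∀ b, 179 ≤ b → b < 180 → ∃ J, chkPBlk P 5 31 18 31671 b J = true := fun b h1 h2 => by
  have hb : b = 179 := Nat.le_antisymm (Nat.le_of_lt_succ h2) h1
  subst hb; exact ⟨_, lblk_179⟩
theorem lo_178_180 : ∀ b, 178 ≤ b → b < 180 → ∃ J, chkPBlk P 5 31 18 31671 b J = true := fun b h1 h2 =>
  if h : b < 179 then lo_178_179 b h1 h else lo_179_180 b (Nat.le_of_not_lt h) h2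
theorem lo_180_181 : ∀ b, 180 ≤ b → b < 181 → ∃ J, chkPBlk P 5 31 18 31671 b J = true := fun b h1 h2 => by
  have hb : b = 180 := Nat.le_antisymm (Nat.le_of_lt_succ h2) h1
  subst hb; exact ⟨_, lblk_180⟩
theorem lo_181_182 : ∀ b, 181 ≤ b → b < 182 → ∃ J, chkPBlk P 5 31 18 31671 b J = true := fun b h1 h2 => by
  have hb : b = 181 := Nat.le_antisymm (Nat.le_of_lt_succ h2) h1
  subst hb; exact ⟨_, lblk_181⟩
theorem lo_182_183 : ∀ b, 182 ≤ b → b < 183 → ∃ J, chkPBlk P 5 31 18 31671 b J = true := fun b h1 h2 => by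
  have hb : b = 182 := Nat.le_antisymm (Nat.le_of_lt_succ h2) h1
  subst hb; exact ⟨_, lblk_182⟩
theorem lo_181_183 : ∀ b, 181 ≤ b → b < 183 → ∃ J, chkPBlk P 5 31 18 31671 b J = true := fun b h1 h2 =>
  if h : b < 182 then lo_181_182 b h1 h else lo_182_183 b (Nat.le_of_not_lt h) h2
theorem lo_180_183 : ∀ b, 180 ≤ b → b < 183 → ∃ J, chkPBlk P 5 31 18 31671 b J = true := fun b h1 h2 =>
  if h : b < 181 then lo_180_181 b h1 h else lo_181_183 b (Nat.le_of_not_lt h) h2
theorem lo_178_183 : ∀ b, 178 ≤ b → b < 183 → ∃ J, chkPBlk P 5 31 18 31671 b J = true := fun b h1 h2 =>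
  if h : b < 180 then lo_178_180 b h1 h else lo_180_183 b (Nat.le_of_not_lt h) h2
theorem lo_174_183 : ∀ b, 174 ≤ b → b < 183 → ∃ J, chkPBlk P 5 31 18 31671 b J = true := fun b h1 h2 =>
  if h : b < 178 then lo_174_178 b h1 h else lo_178_183 b (Nat.le_of_not_lt h) h2
theorem lo_165_183 : ∀ b, 165 ≤ b → b < 183 → ∃ J, chkPBlk P 5 31 18 31671 b J = true := fun b h1 h2 =>
  if h : b < 174 then lo_165_174 b h1 h else lo_174_183 b (Nat.le_of_not_lt h) h2
theorem lo_147_183 : ∀ b, 147 ≤ b → b < 183 → ∃ J, chkPBlk P 5 31 18 31671 b J = true := fun b h1 h2 =>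
  if h : b < 165 then lo_147_165 b h1 h else lo_165_183 b (Nat.le_of_not_lt h) h2
theorem lo_183_184 : ∀ b, 183 ≤ b → b < 184 → ∃ J, chkPBlk P 5 31 18 31671 b J = true := fun b h1 h2 => by
  have hb : b = 183 := Nat.le_antisymm (Nat.le_of_lt_succ h2) h1
  subst hb; exact ⟨_, lblk_183⟩
theorem lo_184_185 : ∀ b, 184 ≤ b → b < 185 → ∃ J, chkPBlk P 5 31 18 31671 b J = true := fun b h1 h2 => by
  have hb : b = 184 := Nat.le_antisymm (Nat.le_of_lt_succ h2) h1
  subst hb; exact ⟨_, lblk_184⟩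
theorem lo_183_185 : ∀ b, 183 ≤ b → b < 185 → ∃ J, chkPBlk P 5 31 18 31671 b J = true := fun b h1 h2 =>
  if h : b < 184 then lo_183_184 b h1 h else lo_184_185 b (Nat.le_of_not_lt h) h2
theorem lo_185_186 : ∀ b, 185 ≤ b → b < 186 → ∃ J, chkPBlk P 5 31 18 31671 b J = true := fun b h1 h2 => by
  have hb : b = 185 := Nat.le_antisymm (Nat.le_of_lt_succ h2) h1
  subst hb; exact ⟨_, lblk_185⟩
theorem lo_186_187 : ∀ b, 186 ≤ b → b < 187 → ∃ J, chkPBlk P 5 31 18 31671 b J = true := fun b h1 h2 => by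
  have hb : b = 186 := Nat.le_antisymm (Nat.le_of_lt_succ h2) h1
  subst hb; exact ⟨_, lblk_186⟩
theorem lo_185_187 : ∀ b, 185 ≤ b → b < 187 → ∃ J, chkPBlk P 5 31 18 31671 b J = true := fun b h1 h2 =>
  if h : b < 186 then lo_185_186 b h1 h else lo_186_187 b (Nat.le_of_not_lt h) h2
theorem lo_183_187 : ∀ b, 183 ≤ b → b < 187 → ∃ J, chkPBlk P 5 31 18 31671 b J = true := fun b h1 h2 =>
  if h : b < 185 then lo_183_185 b h1 h else lo_185_187 b (Nat.le_of_not_lt h) h2
theorem lo_187_188 : ∀ b, 187 ≤ b → b < 188 → ∃ J, chkPBlk P 5 31 18 31671 b J = true := fun b h1 h2 => by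
  have hb : b = 187 := Nat.le_antisymm (Nat.le_of_lt_succ h2) h1
  subst hb; exact ⟨_, lblk_187⟩
theorem lo_188_189 : ∀ b, 188 ≤ b → b < 189 → ∃ J, chkPBlk P 5 31 18 31671 b J = true := fun b h1 h2 => by
  have hb : b = 188 := Nat.le_antisymm (Nat.le_of_lt_succ h2) h1
  subst hb; exact ⟨_, lblk_188⟩
theorem lo_187_189 : ∀ b, 187 ≤ b → b < 189 → ∃ J, chkPBlk P 5 31 18 31671 b J = true := fun b h1 h2 =>
  if h : b < 188 then lo_187_188 b h1 h else lo_188_189 b (Nat.le_of_not_lt h) h2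
theorem lo_189_190 : ∀ b, 189 ≤ b → b < 190 → ∃ J, chkPBlk P 5 31 18 31671 b J = true := fun b h1 h2 => by
  have hb : b = 189 := Nat.le_antisymm (Nat.le_of_lt_succ h2) h1
  subst hb; exact ⟨_, lblk_189⟩
theorem lo_190_191 : ∀ b, 190 ≤ b → b < 191 → ∃ J, chkPBlk P 5 31 18 31671 b J = true := fun b h1 h2 => by
  have hb : b = 190 := Nat.le_antisymm (Nat.le_of_lt_succ h2) h1
  subst hb; exact ⟨_, lblk_190⟩
theorem lo_191_192 : ∀ b, 191 ≤ b → b < 192 → ∃ J, chkPBlk P 5 31 18 31671 b J = true := fun b h1 h2 => by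
  have hb : b = 191 := Nat.le_antisymm (Nat.le_of_lt_succ h2) h1
  subst hb; exact ⟨_, lblk_191⟩
theorem lo_190_192 : ∀ b, 190 ≤ b → b < 192 → ∃ J, chkPBlk P 5 31 18 31671 b J = true := fun b h1 h2 =>
  if h : b < 191 then lo_190_191 b h1 h else lo_191_192 b (Nat.le_of_not_lt h) h2
theorem lo_189_192 : ∀ b, 189 ≤ b → b < 192 → ∃ J, chkPBlk P 5 31 18 31671 b J = true := fun b h1 h2 =>
  if h : b < 190 then lo_189_190 b h1 h else lo_190_192 b (Nat.le_of_not_lt h) h2
theorem lo_187_192 : ∀ b, 187 ≤ b → b < 192 → ∃ J, chkPBlk P 5 31 18 31671 b J = true := fun b h1 h2 =>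
  if h : b < 189 then lo_187_189 b h1 h else lo_189_192 b (Nat.le_of_not_lt h) h2
theorem lo_183_192 : ∀ b, 183 ≤ b → b < 192 → ∃ J, chkPBlk P 5 31 18 31671 b J = true := fun b h1 h2 =>
  if h : b < 187 then lo_183_187 b h1 h else lo_187_192 b (Nat.le_of_not_lt h) h2
theorem lo_192_193 : ∀ b, 192 ≤ b → b < 193 → ∃ J, chkPBlk P 5 31 18 31671 b J = true := fun b h1 h2 => by
  have hb : b = 192 := Nat.le_antisymm (Nat.le_of_lt_succ h2) h1
  subst hb; exact ⟨_, lblk_192⟩
theorem lo_193_194 : ∀ b, 193 ≤ b → b < 194 → ∃ J, chkPBlk P 5 31 18 31671 b J = true := fun b h1 h2 => by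
  have hb : b = 193 := Nat.le_antisymm (Nat.le_of_lt_succ h2) h1
  subst hb; exact ⟨_, lblk_193⟩
theorem lo_192_194 : ∀ b, 192 ≤ b → b < 194 → ∃ J, chkPBlk P 5 31 18 31671 b J = true := fun b h1 h2 =>
  if h : b < 193 then lo_192_193 b h1 h else lo_193_194 b (Nat.le_of_not_lt h) h2
theorem lo_194_195 : ∀ b, 194 ≤ b → b < 195 → ∃ J, chkPBlk P 5 31 18 31671 b J = true := fun b h1 h2 => by
  have hb : b = 194 := Nat.le_antisymm (Nat.le_of_lt_succ h2) h1
  subst hb; exact ⟨_, lblk_194⟩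
theorem lo_195_196 : ∀ b, 195 ≤ b → b < 196 → ∃ J, chkPBlk P 5 31 18 31671 b J = true := fun b h1 h2 => by
  have hb : b = 195 := Nat.le_antisymm (Nat.le_of_lt_succ h2) h1
  subst hb; exact ⟨_, lblk_195⟩
theorem lo_194_196 : ∀ b, 194 ≤ b → b < 196 → ∃ J, chkPBlk P 5 31 18 31671 b J = true := fun b h1 h2 =>
  if h : b < 195 then lo_194_195 b h1 h else lo_195_196 b (Nat.le_of_not_lt h) h2
theorem lo_192_196 : ∀ b, 192 ≤ b → b < 196 → ∃ J, chkPBlk P 5 31 18 31671 b J = true := fun b h1 h2 =>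
  if h : b < 194 then lo_192_194 b h1 h else lo_194_196 b (Nat.le_of_not_lt h) h2
theorem lo_196_197 : ∀ b, 196 ≤ b → b < 197 → ∃ J, chkPBlk P 5 31 18 31671 b J = true := fun b h1 h2 => by
  have hb : b = 196 := Nat.le_antisymm (Nat.le_of_lt_succ h2) h1
  subst hb; exact ⟨_, lblk_196⟩
theorem lo_197_198 : ∀ b, 197 ≤ b → b < 198 → ∃ J, chkPBlk P 5 31 18 31671 b J = true := fun b h1 h2 => by
  have hb : b = 197 := Nat.le_antisymm (Nat.le_of_lt_succ h2) h1
  subst hb; exact ⟨_, lblk_197⟩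
theorem lo_196_198 : ∀ b, 196 ≤ b → b < 198 → ∃ J, chkPBlk P 5 31 18 31671 b J = true := fun b h1 h2 =>
  if h : b < 197 then lo_196_197 b h1 h else lo_197_198 b (Nat.le_of_not_lt h) h2
theorem lo_198_199 : ∀ b, 198 ≤ b → b < 199 → ∃ J, chkPBlk P 5 31 18 31671 b J = true := fun b h1 h2 => by
  have hb : b = 198 := Nat.le_antisymm (Nat.le_of_lt_succ h2) h1
  subst hb; exact ⟨_, lblk_198⟩
theorem lo_199_200 : ∀ b, 199 ≤ b → b < 200 → ∃ J, chkPBlk P 5 31 18 31671 b J = true := fun b h1 h2 => by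
  have hb : b = 199 := Nat.le_antisymm (Nat.le_of_lt_succ h2) h1
  subst hb; exact ⟨_, lblk_199⟩
theorem lo_200_201 : ∀ b, 200 ≤ b → b < 201 → ∃ J, chkPBlk P 5 31 18 31671 b J = true := fun b h1 h2 => by
  have hb : b = 200 := Nat.le_antisymm (Nat.le_of_lt_succ h2) h1
  subst hb; exact ⟨_, lblk_200⟩
theorem lo_199_201 : ∀ b, 199 ≤ b → b < 201 → ∃ J, chkPBlk P 5 31 18 31671 b J = true := fun b h1 h2 =>
  if h : b < 200 then lo_199_200 b h1 h else lo_200_201 b (Nat.le_of_not_lt h) h2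
theorem lo_198_201 : ∀ b, 198 ≤ b → b < 201 → ∃ J, chkPBlk P 5 31 18 31671 b J = true := fun b h1 h2 =>
  if h : b < 199 then lo_198_199 b h1 h else lo_199_201 b (Nat.le_of_not_lt h) h2
theorem lo_196_201 : ∀ b, 196 ≤ b → b < 201 → ∃ J, chkPBlk P 5 31 18 31671 b J = true := fun b h1 h2 =>
  if h : b < 198 then lo_196_198 b h1 h else lo_198_201 b (Nat.le_of_not_lt h) h2
theorem lo_192_201 : ∀ b, 192 ≤ b → b < 201 → ∃ J, chkPBlk P 5 31 18 31671 b J = true := fun b h1 h2 =>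
  if h : b < 196 then lo_192_196 b h1 h else lo_196_201 b (Nat.le_of_not_lt h) h2
theorem lo_183_201 : ∀ b, 183 ≤ b → b < 201 → ∃ J, chkPBlk P 5 31 18 31671 b J = true := fun b h1 h2 =>
  if h : b < 192 then lo_183_192 b h1 h else lo_192_201 b (Nat.le_of_not_lt h) h2
theorem lo_201_202 : ∀ b, 201 ≤ b → b < 202 → ∃ J, chkPBlk P 5 31 18 31671 b J = true := fun b h1 h2 => by
  have hb : b = 201 := Nat.le_antisymm (Nat.le_of_lt_succ h2) h1
  subst hb; exact ⟨_, lblk_201⟩
theorem lo_202_203 : ∀ b, 202 ≤ b → b < 203 → ∃ J, chkPBlk P 5 31 18 31671 b J = true := fun b h1 h2 => by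
  have hb : b = 202 := Nat.le_antisymm (Nat.le_of_lt_succ h2) h1
  subst hb; exact ⟨_, lblk_202⟩
theorem lo_201_203 : ∀ b, 201 ≤ b → b < 203 → ∃ J, chkPBlk P 5 31 18 31671 b J = true := fun b h1 h2 =>
  if h : b < 202 then lo_201_202 b h1 h else lo_202_203 b (Nat.le_of_not_lt h) h2
theorem lo_203_204 : ∀ b, 203 ≤ b → b < 204 → ∃ J, chkPBlk P 5 31 18 31671 b J = true := fun b h1 h2 => by
  have hb : b = 203 := Nat.le_antisymm (Nat.le_of_lt_succ h2) h1
  subst hb; exact ⟨_, lblk_203⟩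
theorem lo_204_205 : ∀ b, 204 ≤ b → b < 205 → ∃ J, chkPBlk P 5 31 18 31671 b J = true := fun b h1 h2 => by
  have hb : b = 204 := Nat.le_antisymm (Nat.le_of_lt_succ h2) h1
  subst hb; exact ⟨_, lblk_204⟩
theorem lo_203_205 : ∀ b, 203 ≤ b → b < 205 → ∃ J, chkPBlk P 5 31 18 31671 b J = true := fun b h1 h2 =>
  if h : b < 204 then lo_203_204 b h1 h else lo_204_205 b (Nat.le_of_not_lt h) h2
theorem lo_201_205 : ∀ b, 201 ≤ b → b < 205 → ∃ J, chkPBlk P 5 31 18 31671 b J = true := fun b h1 h2 =>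
  if h : b < 203 then lo_201_203 b h1 h else lo_203_205 b (Nat.le_of_not_lt h) h2
theorem lo_205_206 : ∀ b, 205 ≤ b → b < 206 → ∃ J, chkPBlk P 5 31 18 31671 b J = true := fun b h1 h2 => by
  have hb : b = 205 := Nat.le_antisymm (Nat.le_of_lt_succ h2) h1
  subst hb; exact ⟨_, lblk_205⟩
theorem lo_206_207 : ∀ b, 206 ≤ b → b < 207 → ∃ J, chkPBlk P 5 31 18 31671 b J = true := fun b h1 h2 => by
  have hb : b = 206 := Nat.le_antisymm (Nat.le_of_lt_succ h2) h1
  subst hb; exact ⟨_, lblk_206⟩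
theorem lo_205_207 : ∀ b, 205 ≤ b → b < 207 → ∃ J, chkPBlk P 5 31 18 31671 b J = true := fun b h1 h2 =>
  if h : b < 206 then lo_205_206 b h1 h else lo_206_207 b (Nat.le_of_not_lt h) h2
theorem lo_207_208 : ∀ b, 207 ≤ b → b < 208 → ∃ J, chkPBlk P 5 31 18 31671 b J = true := fun b h1 h2 => by
  have hb : b = 207 := Nat.le_antisymm (Nat.le_of_lt_succ h2) h1
  subst hb; exact ⟨_, lblk_207⟩
theorem lo_208_209 : ∀ b, 208 ≤ b → b < 209 → ∃ J, chkPBlk P 5 31 18 31671 b J = true := fun b h1 h2 => by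
  have hb : b = 208 := Nat.le_antisymm (Nat.le_of_lt_succ h2) h1
  subst hb; exact ⟨_, lblk_208⟩
theorem lo_209_210 : ∀ b, 209 ≤ b → b < 210 → ∃ J, chkPBlk P 5 31 18 31671 b J = true := fun b h1 h2 => by
  have hb : b = 209 := Nat.le_antisymm (Nat.le_of_lt_succ h2) h1
  subst hb; exact ⟨_, lblk_209⟩
theorem lo_208_210 : ∀ b, 208 ≤ b → b < 210 → ∃ J, chkPBlk P 5 31 18 31671 b J = true := fun b h1 h2 =>
  if h : b < 209 then lo_208_209 b h1 h else lo_209_210 b (Nat.le_of_not_lt h) h2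
theorem lo_207_210 : ∀ b, 207 ≤ b → b < 210 → ∃ J, chkPBlk P 5 31 18 31671 b J = true := fun b h1 h2 =>
  if h : b < 208 then lo_207_208 b h1 h else lo_208_210 b (Nat.le_of_not_lt h) h2
theorem lo_205_210 : ∀ b, 205 ≤ b → b < 210 → ∃ J, chkPBlk P 5 31 18 31671 b J = true := fun b h1 h2 =>
  if h : b < 207 then lo_205_207 b h1 h else lo_207_210 b (Nat.le_of_not_lt h) h2
theorem lo_201_210 : ∀ b, 201 ≤ b → b < 210 → ∃ J, chkPBlk P 5 31 18 31671 b J = true := fun b h1 h2 =>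
  if h : b < 205 then lo_201_205 b h1 h else lo_205_210 b (Nat.le_of_not_lt h) h2
theorem lo_210_211 : ∀ b, 210 ≤ b → b < 211 → ∃ J, chkPBlk P 5 31 18 31671 b J = true := fun b h1 h2 => by
  have hb : b = 210 := Nat.le_antisymm (Nat.le_of_lt_succ h2) h1
  subst hb; exact ⟨_, lblk_210⟩
theorem lo_211_212 : ∀ b, 211 ≤ b → b < 212 → ∃ J, chkPBlk P 5 31 18 31671 b J = true := fun b h1 h2 => by
  have hb : b = 211 := Nat.le_antisymm (Nat.le_of_lt_succ h2) h1
  subst hb; exact ⟨_, lblk_211⟩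
theorem lo_210_212 : ∀ b, 210 ≤ b → b < 212 → ∃ J, chkPBlk P 5 31 18 31671 b J = true := fun b h1 h2 =>
  if h : b < 211 then lo_210_211 b h1 h else lo_211_212 b (Nat.le_of_not_lt h) h2
theorem lo_212_213 : ∀ b, 212 ≤ b → b < 213 → ∃ J, chkPBlk P 5 31 18 31671 b J = true := fun b h1 h2 => by
  have hb : b = 212 := Nat.le_antisymm (Nat.le_of_lt_succ h2) h1
  subst hb; exact ⟨_, lblk_212⟩
theorem lo_213_214 : ∀ b, 213 ≤ b → b < 214 → ∃ J, chkPBlk P 5 31 18 31671 b J = true := fun b h1 h2 => by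
  have hb : b = 213 := Nat.le_antisymm (Nat.le_of_lt_succ h2) h1
  subst hb; exact ⟨_, lblk_213⟩
theorem lo_214_215 : ∀ b, 214 ≤ b → b < 215 → ∃ J, chkPBlk P 5 31 18 31671 b J = true := fun b h1 h2 => by
  have hb : b = 214 := Nat.le_antisymm (Nat.le_of_lt_succ h2) h1
  subst hb; exact ⟨_, lblk_214⟩
theorem lo_213_215 : ∀ b, 213 ≤ b → b < 215 → ∃ J, chkPBlk P 5 31 18 31671 b J = true := fun b h1 h2 =>
  if h : b < 214 then lo_213_214 b h1 h else lo_214_215 b (Nat.le_of_not_lt h) h2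
theorem lo_212_215 : ∀ b, 212 ≤ b → b < 215 → ∃ J, chkPBlk P 5 31 18 31671 b J = true := fun b h1 h2 =>
  if h : b < 213 then lo_212_213 b h1 h else lo_213_215 b (Nat.le_of_not_lt h) h2
theorem lo_210_215 : ∀ b, 210 ≤ b → b < 215 → ∃ J, chkPBlk P 5 31 18 31671 b J = true := fun b h1 h2 =>
  if h : b < 212 then lo_210_212 b h1 h else lo_212_215 b (Nat.le_of_not_lt h) h2
theorem lo_215_216 : ∀ b, 215 ≤ b → b < 216 → ∃ J, chkPBlk P 5 31 18 31671 b J = true := fun b h1 h2 => by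
  have hb : b = 215 := Nat.le_antisymm (Nat.le_of_lt_succ h2) h1
  subst hb; exact ⟨_, lblk_215⟩
theorem lo_216_217 : ∀ b, 216 ≤ b → b < 217 → ∃ J, chkPBlk P 5 31 18 31671 b J = true := fun b h1 h2 => by
  have hb : b = 216 := Nat.le_antisymm (Nat.le_of_lt_succ h2) h1
  subst hb; exact ⟨_, lblk_216⟩
theorem lo_215_217 : ∀ b, 215 ≤ b → b < 217 → ∃ J, chkPBlk P 5 31 18 31671 b J = true := fun b h1 h2 =>
  if h : b < 216 then lo_215_216 b h1 h else lo_216_217 b (Nat.le_of_not_lt h) h2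
theorem lo_217_218 : ∀ b, 217 ≤ b → b < 218 → ∃ J, chkPBlk P 5 31 18 31671 b J = true := fun b h1 h2 => by
  have hb : b = 217 := Nat.le_antisymm (Nat.le_of_lt_succ h2) h1
  subst hb; exact ⟨_, lblk_217⟩
theorem lo_218_219 : ∀ b, 218 ≤ b → b < 219 → ∃ J, chkPBlk P 5 31 18 31671 b J = true := fun b h1 h2 => by
  have hb : b = 218 := Nat.le_antisymm (Nat.le_of_lt_succ h2) h1
  subst hb; exact ⟨_, lblk_218⟩
theorem lo_219_220 : ∀ b, 219 ≤ b → b < 220 → ∃ J, chkPBlk P 5 31 18 31671 b J = true := fun b h1 h2 => by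
  have hb : b = 219 := Nat.le_antisymm (Nat.le_of_lt_succ h2) h1
  subst hb; exact ⟨_, lblk_219⟩
theorem lo_218_220 : ∀ b, 218 ≤ b → b < 220 → ∃ J, chkPBlk P 5 31 18 31671 b J = true := fun b h1 h2 =>
  if h : b < 219 then lo_218_219 b h1 h else lo_219_220 b (Nat.le_of_not_lt h) h2
theorem lo_217_220 : ∀ b, 217 ≤ b → b < 220 → ∃ J, chkPBlk P 5 31 18 31671 b J = true := fun b h1 h2 =>
  if h : b < 218 then lo_217_218 b h1 h else lo_218_220 b (Nat.le_of_not_lt h) h2
theorem lo_215_220 : ∀ b, 215 ≤ b → b < 220 → ∃ J, chkPBlk P 5 31 18 31671 b J = true := fun b h1 h2 =>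
  if h : b < 217 then lo_215_217 b h1 h else lo_217_220 b (Nat.le_of_not_lt h) h2
theorem lo_210_220 : ∀ b, 210 ≤ b → b < 220 → ∃ J, chkPBlk P 5 31 18 31671 b J = true := fun b h1 h2 =>
  if h : b < 215 then lo_210_215 b h1 h else lo_215_220 b (Nat.le_of_not_lt h) h2
theorem lo_201_220 : ∀ b, 201 ≤ b → b < 220 → ∃ J, chkPBlk P 5 31 18 31671 b J = true := fun b h1 h2 =>
  if h : b < 210 then lo_201_210 b h1 h else lo_210_220 b (Nat.le_of_not_lt h) h2
theorem lo_183_220 : ∀ b, 183 ≤ b → b < 220 → ∃ J, chkPBlk P 5 31 18 31671 b J = true := fun b h1 h2 =>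
  if h : b < 201 then lo_183_201 b h1 h else lo_201_220 b (Nat.le_of_not_lt h) h2
theorem lo_147_220 : ∀ b, 147 ≤ b → b < 220 → ∃ J, chkPBlk P 5 31 18 31671 b J = true := fun b h1 h2 =>
  if h : b < 183 then lo_147_183 b h1 h else lo_183_220 b (Nat.le_of_not_lt h) h2
theorem lo_220_221 : ∀ b, 220 ≤ b → b < 221 → ∃ J, chkPBlk P 5 31 18 31671 b J = true := fun b h1 h2 => by
  have hb : b = 220 := Nat.le_antisymm (Nat.le_of_lt_succ h2) h1
  subst hb; exact ⟨_, lblk_220⟩
theorem lo_221_222 : ∀ b, 221 ≤ b → b < 222 → ∃ J, chkPBlk P 5 31 18 31671 b J = true := fun b h1 h2 => by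
  have hb : b = 221 := Nat.le_antisymm (Nat.le_of_lt_succ h2) h1
  subst hb; exact ⟨_, lblk_221⟩
theorem lo_220_222 : ∀ b, 220 ≤ b → b < 222 → ∃ J, chkPBlk P 5 31 18 31671 b J = true := fun b h1 h2 =>
  if h : b < 221 then lo_220_221 b h1 h else lo_221_222 b (Nat.le_of_not_lt h) h2
theorem lo_222_223 : ∀ b, 222 ≤ b → b < 223 → ∃ J, chkPBlk P 5 31 18 31671 b J = true := fun b h1 h2 => by
  have hb : b = 222 := Nat.le_antisymm (Nat.le_of_lt_succ h2) h1
  subst hb; exact ⟨_, lblk_222⟩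
theorem lo_223_224 : ∀ b, 223 ≤ b → b < 224 → ∃ J, chkPBlk P 5 31 18 31671 b J = true := fun b h1 h2 => by
  have hb : b = 223 := Nat.le_antisymm (Nat.le_of_lt_succ h2) h1
  subst hb; exact ⟨_, lblk_223⟩
theorem lo_222_224 : ∀ b, 222 ≤ b → b < 224 → ∃ J, chkPBlk P 5 31 18 31671 b J = true := fun b h1 h2 =>
  if h : b < 223 then lo_222_223 b h1 h else lo_223_224 b (Nat.le_of_not_lt h) h2
theorem lo_220_224 : ∀ b, 220 ≤ b → b < 224 → ∃ J, chkPBlk P 5 31 18 31671 b J = true := fun b h1 h2 =>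
  if h : b < 222 then lo_220_222 b h1 h else lo_222_224 b (Nat.le_of_not_lt h) h2
theorem lo_224_225 : ∀ b, 224 ≤ b → b < 225 → ∃ J, chkPBlk P 5 31 18 31671 b J = true := fun b h1 h2 => by
  have hb : b = 224 := Nat.le_antisymm (Nat.le_of_lt_succ h2) h1
  subst hb; exact ⟨_, lblk_224⟩
theorem lo_225_226 : ∀ b, 225 ≤ b → b < 226 → ∃ J, chkPBlk P 5 31 18 31671 b J = true := fun b h1 h2 => by
  have hb : b = 225 := Nat.le_antisymm (Nat.le_of_lt_succ h2) h1
  subst hb; exact ⟨_, lblk_225⟩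
theorem lo_224_226 : ∀ b, 224 ≤ b → b < 226 → ∃ J, chkPBlk P 5 31 18 31671 b J = true := fun b h1 h2 =>
  if h : b < 225 then lo_224_225 b h1 h else lo_225_226 b (Nat.le_of_not_lt h) h2
theorem lo_226_227 : ∀ b, 226 ≤ b → b < 227 → ∃ J, chkPBlk P 5 31 18 31671 b J = true := fun b h1 h2 => by
  have hb : b = 226 := Nat.le_antisymm (Nat.le_of_lt_succ h2) h1
  subst hb; exact ⟨_, lblk_226⟩
theorem lo_227_228 : ∀ b, 227 ≤ b → b < 228 → ∃ J, chkPBlk P 5 31 18 31671 b J = true := fun b h1 h2 => by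
  have hb : b = 227 := Nat.le_antisymm (Nat.le_of_lt_succ h2) h1
  subst hb; exact ⟨_, lblk_227⟩
theorem lo_228_229 : ∀ b, 228 ≤ b → b < 229 → ∃ J, chkPBlk P 5 31 18 31671 b J = true := fun b h1 h2 => by
  have hb : b = 228 := Nat.le_antisymm (Nat.le_of_lt_succ h2) h1
  subst hb; exact ⟨_, lblk_228⟩
theorem lo_227_229 : ∀ b, 227 ≤ b → b < 229 → ∃ J, chkPBlk P 5 31 18 31671 b J = true := fun b h1 h2 =>
  if h : b < 228 then lo_227_228 b h1 h else lo_228_229 b (Nat.le_of_not_lt h) h2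
theorem lo_226_229 : ∀ b, 226 ≤ b → b < 229 → ∃ J, chkPBlk P 5 31 18 31671 b J = true := fun b h1 h2 =>
  if h : b < 227 then lo_226_227 b h1 h else lo_227_229 b (Nat.le_of_not_lt h) h2
theorem lo_224_229 : ∀ b, 224 ≤ b → b < 229 → ∃ J, chkPBlk P 5 31 18 31671 b J = true := fun b h1 h2 =>
  if h : b < 226 then lo_224_226 b h1 h else lo_226_229 b (Nat.le_of_not_lt h) h2
theorem lo_220_229 : ∀ b, 220 ≤ b → b < 229 → ∃ J, chkPBlk P 5 31 18 31671 b J = true := fun b h1 h2 =>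
  if h : b < 224 then lo_220_224 b h1 h else lo_224_229 b (Nat.le_of_not_lt h) h2
theorem lo_229_230 : ∀ b, 229 ≤ b → b < 230 → ∃ J, chkPBlk P 5 31 18 31671 b J = true := fun b h1 h2 => by
  have hb : b = 229 := Nat.le_antisymm (Nat.le_of_lt_succ h2) h1
  subst hb; exact ⟨_, lblk_229⟩
theorem lo_230_231 : ∀ b, 230 ≤ b → b < 231 → ∃ J, chkPBlk P 5 31 18 31671 b J = true := fun b h1 h2 => by
  have hb : b = 230 := Nat.le_antisymm (Nat.le_of_lt_succ h2) h1
  subst hb; exact ⟨_, lblk_230⟩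
theorem lo_229_231 : ∀ b, 229 ≤ b → b < 231 → ∃ J, chkPBlk P 5 31 18 31671 b J = true := fun b h1 h2 =>
  if h : b < 230 then lo_229_230 b h1 h else lo_230_231 b (Nat.le_of_not_lt h) h2
theorem lo_231_232 : ∀ b, 231 ≤ b → b < 232 → ∃ J, chkPBlk P 5 31 18 31671 b J = true := fun b h1 h2 => by
  have hb : b = 231 := Nat.le_antisymm (Nat.le_of_lt_succ h2) h1
  subst hb; exact ⟨_, lblk_231⟩
theorem lo_232_233 : ∀ b, 232 ≤ b → b < 233 → ∃ J, chkPBlk P 5 31 18 31671 b J = true := fun b h1 h2 => by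
  have hb : b = 232 := Nat.le_antisymm (Nat.le_of_lt_succ h2) h1
  subst hb; exact ⟨_, lblk_232⟩
theorem lo_231_233 : ∀ b, 231 ≤ b → b < 233 → ∃ J, chkPBlk P 5 31 18 31671 b J = true := fun b h1 h2 =>
  if h : b < 232 then lo_231_232 b h1 h else lo_232_233 b (Nat.le_of_not_lt h) h2
theorem lo_229_233 : ∀ b, 229 ≤ b → b < 233 → ∃ J, chkPBlk P 5 31 18 31671 b J = true := fun b h1 h2 =>
  if h : b < 231 then lo_229_231 b h1 h else lo_231_233 b (Nat.le_of_not_lt h) h2
theorem lo_233_234 : ∀ b, 233 ≤ b → b < 234 → ∃ J, chkPBlk P 5 31 18 31671 b J = true := fun b h1 h2 => by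
  have hb : b = 233 := Nat.le_antisymm (Nat.le_of_lt_succ h2) h1
  subst hb; exact ⟨_, lblk_233⟩
theorem lo_234_235 : ∀ b, 234 ≤ b → b < 235 → ∃ J, chkPBlk P 5 31 18 31671 b J = true := fun b h1 h2 => by
  have hb : b = 234 := Nat.le_antisymm (Nat.le_of_lt_succ h2) h1
  subst hb; exact ⟨_, lblk_234⟩
theorem lo_233_235 : ∀ b, 233 ≤ b → b < 235 → ∃ J, chkPBlk P 5 31 18 31671 b J = true := fun b h1 h2 =>
  if h : b < 234 then lo_233_234 b h1 h else lo_234_235 b (Nat.le_of_not_lt h) h2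
theorem lo_235_236 : ∀ b, 235 ≤ b → b < 236 → ∃ J, chkPBlk P 5 31 18 31671 b J = true := fun b h1 h2 => by
  have hb : b = 235 := Nat.le_antisymm (Nat.le_of_lt_succ h2) h1
  subst hb; exact ⟨_, lblk_235⟩
theorem lo_236_237 : ∀ b, 236 ≤ b → b < 237 → ∃ J, chkPBlk P 5 31 18 31671 b J = true := fun b h1 h2 => by
  have hb : b = 236 := Nat.le_antisymm (Nat.le_of_lt_succ h2) h1
  subst hb; exact ⟨_, lblk_236⟩
theorem lo_237_238 : ∀ b, 237 ≤ b → b < 238 → ∃ J, chkPBlk P 5 31 18 31671 b J = true := fun b h1 h2 => by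
  have hb : b = 237 := Nat.le_antisymm (Nat.le_of_lt_succ h2) h1
  subst hb; exact ⟨_, lblk_237⟩
theorem lo_236_238 : ∀ b, 236 ≤ b → b < 238 → ∃ J, chkPBlk P 5 31 18 31671 b J = true := fun b h1 h2 =>
  if h : b < 237 then lo_236_237 b h1 h else lo_237_238 b (Nat.le_of_not_lt h) h2
theorem lo_235_238 : ∀ b, 235 ≤ b → b < 238 → ∃ J, chkPBlk P 5 31 18 31671 b J = true := fun b h1 h2 =>
  if h : b < 236 then lo_235_236 b h1 h else lo_236_238 b (Nat.le_of_not_lt h) h2
theorem lo_233_238 : ∀ b, 233 ≤ b → b < 238 → ∃ J, chkPBlk P 5 31 18 31671 b J = true := fun b h1 h2 =>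
  if h : b < 235 then lo_233_235 b h1 h else lo_235_238 b (Nat.le_of_not_lt h) h2
theorem lo_229_238 : ∀ b, 229 ≤ b → b < 238 → ∃ J, chkPBlk P 5 31 18 31671 b J = true := fun b h1 h2 =>
  if h : b < 233 then lo_229_233 b h1 h else lo_233_238 b (Nat.le_of_not_lt h) h2
theorem lo_220_238 : ∀ b, 220 ≤ b → b < 238 → ∃ J, chkPBlk P 5 31 18 31671 b J = true := fun b h1 h2 =>
  if h : b < 229 then lo_220_229 b h1 h else lo_229_238 b (Nat.le_of_not_lt h) h2
theorem lo_238_239 : ∀ b, 238 ≤ b → b < 239 → ∃ J, chkPBlk P 5 31 18 31671 b J = true := fun b h1 h2 => by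
  have hb : b = 238 := Nat.le_antisymm (Nat.le_of_lt_succ h2) h1
  subst hb; exact ⟨_, lblk_238⟩
theorem lo_239_240 : ∀ b, 239 ≤ b → b < 240 → ∃ J, chkPBlk P 5 31 18 31671 b J = true := fun b h1 h2 => by
  have hb : b = 239 := Nat.le_antisymm (Nat.le_of_lt_succ h2) h1
  subst hb; exact ⟨_, lblk_239⟩
theorem lo_238_240 : ∀ b, 238 ≤ b → b < 240 → ∃ J, chkPBlk P 5 31 18 31671 b J = true := fun b h1 h2 =>
  if h : b < 239 then lo_238_239 b h1 h else lo_239_240 b (Nat.le_of_not_lt h) h2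
theorem lo_240_241 : ∀ b, 240 ≤ b → b < 241 → ∃ J, chkPBlk P 5 31 18 31671 b J = true := fun b h1 h2 => by
  have hb : b = 240 := Nat.le_antisymm (Nat.le_of_lt_succ h2) h1
  subst hb; exact ⟨_, lblk_240⟩
theorem lo_241_242 : ∀ b, 241 ≤ b → b < 242 → ∃ J, chkPBlk P 5 31 18 31671 b J = true := fun b h1 h2 => by
  have hb : b = 241 := Nat.le_antisymm (Nat.le_of_lt_succ h2) h1
  subst hb; exact ⟨_, lblk_241⟩
theorem lo_240_242 : ∀ b, 240 ≤ b → b < 242 → ∃ J, chkPBlk P 5 31 18 31671 b J = true := fun b h1 h2 =>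
  if h : b < 241 then lo_240_241 b h1 h else lo_241_242 b (Nat.le_of_not_lt h) h2
theorem lo_238_242 : ∀ b, 238 ≤ b → b < 242 → ∃ J, chkPBlk P 5 31 18 31671 b J = true := fun b h1 h2 =>
  if h : b < 240 then lo_238_240 b h1 h else lo_240_242 b (Nat.le_of_not_lt h) h2
theorem lo_242_243 : ∀ b, 242 ≤ b → b < 243 → ∃ J, chkPBlk P 5 31 18 31671 b J = true := fun b h1 h2 => by
  have hb : b = 242 := Nat.le_antisymm (Nat.le_of_lt_succ h2) h1
  subst hb; exact ⟨_, lblk_242⟩
theorem lo_243_244 : ∀ b, 243 ≤ b → b < 244 → ∃ J, chkPBlk P 5 31 18 31671 b J = true := fun b h1 h2 => by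
  have hb : b = 243 := Nat.le_antisymm (Nat.le_of_lt_succ h2) h1
  subst hb; exact ⟨_, lblk_243⟩
theorem lo_242_244 : ∀ b, 242 ≤ b → b < 244 → ∃ J, chkPBlk P 5 31 18 31671 b J = true := fun b h1 h2 =>
  if h : b < 243 then lo_242_243 b h1 h else lo_243_244 b (Nat.le_of_not_lt h) h2
theorem lo_244_245 : ∀ b, 244 ≤ b → b < 245 → ∃ J, chkPBlk P 5 31 18 31671 b J = true := fun b h1 h2 => by
  have hb : b = 244 := Nat.le_antisymm (Nat.le_of_lt_succ h2) h1
  subst hb; exact ⟨_, lblk_244⟩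
theorem lo_245_246 : ∀ b, 245 ≤ b → b < 246 → ∃ J, chkPBlk P 5 31 18 31671 b J = true := fun b h1 h2 => by
  have hb : b = 245 := Nat.le_antisymm (Nat.le_of_lt_succ h2) h1
  subst hb; exact ⟨_, lblk_245⟩
theorem lo_246_247 : ∀ b, 246 ≤ b → b < 247 → ∃ J, chkPBlk P 5 31 18 31671 b J = true := fun b h1 h2 => by
  have hb : b = 246 := Nat.le_antisymm (Nat.le_of_lt_succ h2) h1
  subst hb; exact ⟨_, lblk_246⟩
theorem lo_245_247 : ∀ b, 245 ≤ b → b < 247 → ∃ J, chkPBlk P 5 31 18 31671 b J = true := fun b h1 h2 =>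
  if h : b < 246 then lo_245_246 b h1 h else lo_246_247 b (Nat.le_of_not_lt h) h2
theorem lo_244_247 : ∀ b, 244 ≤ b → b < 247 → ∃ J, chkPBlk P 5 31 18 31671 b J = true := fun b h1 h2 =>
  if h : b < 245 then lo_244_245 b h1 h else lo_245_247 b (Nat.le_of_not_lt h) h2
theorem lo_242_247 : ∀ b, 242 ≤ b → b < 247 → ∃ J, chkPBlk P 5 31 18 31671 b J = true := fun b h1 h2 =>
  if h : b < 244 then lo_242_244 b h1 h else lo_244_247 b (Nat.le_of_not_lt h) h2
theorem lo_238_247 : ∀ b, 238 ≤ b → b < 247 → ∃ J, chkPBlk P 5 31 18 31671 b J = true := fun b h1 h2 =>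
  if h : b < 242 then lo_238_242 b h1 h else lo_242_247 b (Nat.le_of_not_lt h) h2
theorem lo_247_248 : ∀ b, 247 ≤ b → b < 248 → ∃ J, chkPBlk P 5 31 18 31671 b J = true := fun b h1 h2 => by
  have hb : b = 247 := Nat.le_antisymm (Nat.le_of_lt_succ h2) h1
  subst hb; exact ⟨_, lblk_247⟩
theorem lo_248_249 : ∀ b, 248 ≤ b → b < 249 → ∃ J, chkPBlk P 5 31 18 31671 b J = true := fun b h1 h2 => by
  have hb : b = 248 := Nat.le_antisymm (Nat.le_of_lt_succ h2) h1
  subst hb; exact ⟨_, lblk_248⟩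
theorem lo_247_249 : ∀ b, 247 ≤ b → b < 249 → ∃ J, chkPBlk P 5 31 18 31671 b J = true := fun b h1 h2 =>
  if h : b < 248 then lo_247_248 b h1 h else lo_248_249 b (Nat.le_of_not_lt h) h2
theorem lo_249_250 : ∀ b, 249 ≤ b → b < 250 → ∃ J, chkPBlk P 5 31 18 31671 b J = true := fun b h1 h2 => by
  have hb : b = 249 := Nat.le_antisymm (Nat.le_of_lt_succ h2) h1
  subst hb; exact ⟨_, lblk_249⟩
theorem lo_250_251 : ∀ b, 250 ≤ b → b < 251 → ∃ J, chkPBlk P 5 31 18 31671 b J = true := fun b h1 h2 => by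
  have hb : b = 250 := Nat.le_antisymm (Nat.le_of_lt_succ h2) h1
  subst hb; exact ⟨_, lblk_250⟩
theorem lo_251_252 : ∀ b, 251 ≤ b → b < 252 → ∃ J, chkPBlk P 5 31 18 31671 b J = true := fun b h1 h2 => by
  have hb : b = 251 := Nat.le_antisymm (Nat.le_of_lt_succ h2) h1
  subst hb; exact ⟨_, lblk_251⟩
theorem lo_250_252 : ∀ b, 250 ≤ b → b < 252 → ∃ J, chkPBlk P 5 31 18 31671 b J = true := fun b h1 h2 =>
  if h : b < 251 then lo_250_251 b h1 h else lo_251_252 b (Nat.le_of_not_lt h) h2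
theorem lo_249_252 : ∀ b, 249 ≤ b → b < 252 → ∃ J, chkPBlk P 5 31 18 31671 b J = true := fun b h1 h2 =>
  if h : b < 250 then lo_249_250 b h1 h else lo_250_252 b (Nat.le_of_not_lt h) h2
theorem lo_247_252 : ∀ b, 247 ≤ b → b < 252 → ∃ J, chkPBlk P 5 31 18 31671 b J = true := fun b h1 h2 =>
  if h : b < 249 then lo_247_249 b h1 h else lo_249_252 b (Nat.le_of_not_lt h) h2
theorem lo_252_253 : ∀ b, 252 ≤ b → b < 253 → ∃ J, chkPBlk P 5 31 18 31671 b J = true := fun b h1 h2 => by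
  have hb : b = 252 := Nat.le_antisymm (Nat.le_of_lt_succ h2) h1
  subst hb; exact ⟨_, lblk_252⟩
theorem lo_253_254 : ∀ b, 253 ≤ b → b < 254 → ∃ J, chkPBlk P 5 31 18 31671 b J = true := fun b h1 h2 => by
  have hb : b = 253 := Nat.le_antisymm (Nat.le_of_lt_succ h2) h1
  subst hb; exact ⟨_, lblk_253⟩
theorem lo_252_254 : ∀ b, 252 ≤ b → b < 254 → ∃ J, chkPBlk P 5 31 18 31671 b J = true := fun b h1 h2 =>
  if h : b < 253 then lo_252_253 b h1 h else lo_253_254 b (Nat.le_of_not_lt h) h2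
theorem lo_254_255 : ∀ b, 254 ≤ b → b < 255 → ∃ J, chkPBlk P 5 31 18 31671 b J = true := fun b h1 h2 => by
  have hb : b = 254 := Nat.le_antisymm (Nat.le_of_lt_succ h2) h1
  subst hb; exact ⟨_, lblk_254⟩
theorem lo_255_256 : ∀ b, 255 ≤ b → b < 256 → ∃ J, chkPBlk P 5 31 18 31671 b J = true := fun b h1 h2 => by
  have hb : b = 255 := Nat.le_antisymm (Nat.le_of_lt_succ h2) h1
  subst hb; exact ⟨_, lblk_255⟩
theorem lo_256_257 : ∀ b, 256 ≤ b → b < 257 → ∃ J, chkPBlk P 5 31 18 31671 b J = true := fun b h1 h2 => by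
  have hb : b = 256 := Nat.le_antisymm (Nat.le_of_lt_succ h2) h1
  subst hb; exact ⟨_, lblk_256⟩
theorem lo_255_257 : ∀ b, 255 ≤ b → b < 257 → ∃ J, chkPBlk P 5 31 18 31671 b J = true := fun b h1 h2 =>
  if h : b < 256 then lo_255_256 b h1 h else lo_256_257 b (Nat.le_of_not_lt h) h2
theorem lo_254_257 : ∀ b, 254 ≤ b → b < 257 → ∃ J, chkPBlk P 5 31 18 31671 b J = true := fun b h1 h2 =>
  if h : b < 255 then lo_254_255 b h1 h else lo_255_257 b (Nat.le_of_not_lt h) h2
theorem lo_252_257 : ∀ b, 252 ≤ b → b < 257 → ∃ J, chkPBlk P 5 31 18 31671 b J = true := fun b h1 h2 =>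
  if h : b < 254 then lo_252_254 b h1 h else lo_254_257 b (Nat.le_of_not_lt h) h2
theorem lo_247_257 : ∀ b, 247 ≤ b → b < 257 → ∃ J, chkPBlk P 5 31 18 31671 b J = true := fun b h1 h2 =>
  if h : b < 252 then lo_247_252 b h1 h else lo_252_257 b (Nat.le_of_not_lt h) h2
theorem lo_238_257 : ∀ b, 238 ≤ b → b < 257 → ∃ J, chkPBlk P 5 31 18 31671 b J = true := fun b h1 h2 =>
  if h : b < 247 then lo_238_247 b h1 h else lo_247_257 b (Nat.le_of_not_lt h) h2
theorem lo_220_257 : ∀ b, 220 ≤ b → b < 257 → ∃ J, chkPBlk P 5 31 18 31671 b J = true := fun b h1 h2 =>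
  if h : b < 238 then lo_220_238 b h1 h else lo_238_257 b (Nat.le_of_not_lt h) h2
theorem lo_257_258 : ∀ b, 257 ≤ b → b < 258 → ∃ J, chkPBlk P 5 31 18 31671 b J = true := fun b h1 h2 => by
  have hb : b = 257 := Nat.le_antisymm (Nat.le_of_lt_succ h2) h1
  subst hb; exact ⟨_, lblk_257⟩
theorem lo_258_259 : ∀ b, 258 ≤ b → b < 259 → ∃ J, chkPBlk P 5 31 18 31671 b J = true := fun b h1 h2 => by
  have hb : b = 258 := Nat.le_antisymm (Nat.le_of_lt_succ h2) h1
  subst hb; exact ⟨_, lblk_258⟩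
theorem lo_257_259 : ∀ b, 257 ≤ b → b < 259 → ∃ J, chkPBlk P 5 31 18 31671 b J = true := fun b h1 h2 =>
  if h : b < 258 then lo_257_258 b h1 h else lo_258_259 b (Nat.le_of_not_lt h) h2
theorem lo_259_260 : ∀ b, 259 ≤ b → b < 260 → ∃ J, chkPBlk P 5 31 18 31671 b J = true := fun b h1 h2 => by
  have hb : b = 259 := Nat.le_antisymm (Nat.le_of_lt_succ h2) h1
  subst hb; exact ⟨_, lblk_259⟩
theorem lo_260_261 : ∀ b, 260 ≤ b → b < 261 → ∃ J, chkPBlk P 5 31 18 31671 b J = true := fun b h1 h2 => by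
  have hb : b = 260 := Nat.le_antisymm (Nat.le_of_lt_succ h2) h1
  subst hb; exact ⟨_, lblk_260⟩
theorem lo_259_261 : ∀ b, 259 ≤ b → b < 261 → ∃ J, chkPBlk P 5 31 18 31671 b J = true := fun b h1 h2 =>
  if h : b < 260 then lo_259_260 b h1 h else lo_260_261 b (Nat.le_of_not_lt h) h2
theorem lo_257_261 : ∀ b, 257 ≤ b → b < 261 → ∃ J, chkPBlk P 5 31 18 31671 b J = true := fun b h1 h2 =>
  if h : b < 259 then lo_257_259 b h1 h else lo_259_261 b (Nat.le_of_not_lt h) h2
theorem lo_261_262 : ∀ b, 261 ≤ b → b < 262 → ∃ J, chkPBlk P 5 31 18 31671 b J = true := fun b h1 h2 => by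
  have hb : b = 261 := Nat.le_antisymm (Nat.le_of_lt_succ h2) h1
  subst hb; exact ⟨_, lblk_261⟩
theorem lo_262_263 : ∀ b, 262 ≤ b → b < 263 → ∃ J, chkPBlk P 5 31 18 31671 b J = true := fun b h1 h2 => by
  have hb : b = 262 := Nat.le_antisymm (Nat.le_of_lt_succ h2) h1
  subst hb; exact ⟨_, lblk_262⟩
theorem lo_261_263 : ∀ b, 261 ≤ b → b < 263 → ∃ J, chkPBlk P 5 31 18 31671 b J = true := fun b h1 h2 =>
  if h : b < 262 then lo_261_262 b h1 h else lo_262_263 b (Nat.le_of_not_lt h) h2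
theorem lo_263_264 : ∀ b, 263 ≤ b → b < 264 → ∃ J, chkPBlk P 5 31 18 31671 b J = true := fun b h1 h2 => by
  have hb : b = 263 := Nat.le_antisymm (Nat.le_of_lt_succ h2) h1
  subst hb; exact ⟨_, lblk_263⟩
theorem lo_264_265 : ∀ b, 264 ≤ b → b < 265 → ∃ J, chkPBlk P 5 31 18 31671 b J = true := fun b h1 h2 => by
  have hb : b = 264 := Nat.le_antisymm (Nat.le_of_lt_succ h2) h1
  subst hb; exact ⟨_, lblk_264⟩
theorem lo_265_266 : ∀ b, 265 ≤ b → b < 266 → ∃ J, chkPBlk P 5 31 18 31671 b J = true := fun b h1 h2 => by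
  have hb : b = 265 := Nat.le_antisymm (Nat.le_of_lt_succ h2) h1
  subst hb; exact ⟨_, lblk_265⟩
theorem lo_264_266 : ∀ b, 264 ≤ b → b < 266 → ∃ J, chkPBlk P 5 31 18 31671 b J = true := fun b h1 h2 =>
  if h : b < 265 then lo_264_265 b h1 h else lo_265_266 b (Nat.le_of_not_lt h) h2
theorem lo_263_266 : ∀ b, 263 ≤ b → b < 266 → ∃ J, chkPBlk P 5 31 18 31671 b J = true := fun b h1 h2 =>
  if h : b < 264 then lo_263_264 b h1 h else lo_264_266 b (Nat.le_of_not_lt h) h2
theorem lo_261_266 : ∀ b, 261 ≤ b → b < 266 → ∃ J, chkPBlk P 5 31 18 31671 b J = true := fun b h1 h2 =>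
  if h : b < 263 then lo_261_263 b h1 h else lo_263_266 b (Nat.le_of_not_lt h) h2
theorem lo_257_266 : ∀ b, 257 ≤ b → b < 266 → ∃ J, chkPBlk P 5 31 18 31671 b J = true := fun b h1 h2 =>
  if h : b < 261 then lo_257_261 b h1 h else lo_261_266 b (Nat.le_of_not_lt h) h2
theorem lo_266_267 : ∀ b, 266 ≤ b → b < 267 → ∃ J, chkPBlk P 5 31 18 31671 b J = true := fun b h1 h2 => by
  have hb : b = 266 := Nat.le_antisymm (Nat.le_of_lt_succ h2) h1
  subst hb; exact ⟨_, lblk_266⟩
theorem lo_267_268 : ∀ b, 267 ≤ b → b < 268 → ∃ J, chkPBlk P 5 31 18 31671 b J = true := fun b h1 h2 => by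
  have hb : b = 267 := Nat.le_antisymm (Nat.le_of_lt_succ h2) h1
  subst hb; exact ⟨_, lblk_267⟩
theorem lo_266_268 : ∀ b, 266 ≤ b → b < 268 → ∃ J, chkPBlk P 5 31 18 31671 b J = true := fun b h1 h2 =>
  if h : b < 267 then lo_266_267 b h1 h else lo_267_268 b (Nat.le_of_not_lt h) h2
theorem lo_268_269 : ∀ b, 268 ≤ b → b < 269 → ∃ J, chkPBlk P 5 31 18 31671 b J = true := fun b h1 h2 => by
  have hb : b = 268 := Nat.le_antisymm (Nat.le_of_lt_succ h2) h1
  subst hb; exact ⟨_, lblk_268⟩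
theorem lo_269_270 : ∀ b, 269 ≤ b → b < 270 → ∃ J, chkPBlk P 5 31 18 31671 b J = true := fun b h1 h2 => by
  have hb : b = 269 := Nat.le_antisymm (Nat.le_of_lt_succ h2) h1
  subst hb; exact ⟨_, lblk_269⟩
theorem lo_268_270 : ∀ b, 268 ≤ b → b < 270 → ∃ J, chkPBlk P 5 31 18 31671 b J = true := fun b h1 h2 =>
  if h : b < 269 then lo_268_269 b h1 h else lo_269_270 b (Nat.le_of_not_lt h) h2
theorem lo_266_270 : ∀ b, 266 ≤ b → b < 270 → ∃ J, chkPBlk P 5 31 18 31671 b J = true := fun b h1 h2 =>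
  if h : b < 268 then lo_266_268 b h1 h else lo_268_270 b (Nat.le_of_not_lt h) h2
theorem lo_270_271 : ∀ b, 270 ≤ b → b < 271 → ∃ J, chkPBlk P 5 31 18 31671 b J = true := fun b h1 h2 => by
  have hb : b = 270 := Nat.le_antisymm (Nat.le_of_lt_succ h2) h1
  subst hb; exact ⟨_, lblk_270⟩
theorem lo_271_272 : ∀ b, 271 ≤ b → b < 272 → ∃ J, chkPBlk P 5 31 18 31671 b J = true := fun b h1 h2 => by
  have hb : b = 271 := Nat.le_antisymm (Nat.le_of_lt_succ h2) h1
  subst hb; exact ⟨_, lblk_271⟩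
theorem lo_270_272 : ∀ b, 270 ≤ b → b < 272 → ∃ J, chkPBlk P 5 31 18 31671 b J = true := fun b h1 h2 =>
  if h : b < 271 then lo_270_271 b h1 h else lo_271_272 b (Nat.le_of_not_lt h) h2
theorem lo_272_273 : ∀ b, 272 ≤ b → b < 273 → ∃ J, chkPBlk P 5 31 18 31671 b J = true := fun b h1 h2 => by
  have hb : b = 272 := Nat.le_antisymm (Nat.le_of_lt_succ h2) h1
  subst hb; exact ⟨_, lblk_272⟩
theorem lo_273_274 : ∀ b, 273 ≤ b → b < 274 → ∃ J, chkPBlk P 5 31 18 31671 b J = true := fun b h1 h2 => by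
  have hb : b = 273 := Nat.le_antisymm (Nat.le_of_lt_succ h2) h1
  subst hb; exact ⟨_, lblk_273⟩
theorem lo_274_275 : ∀ b, 274 ≤ b → b < 275 → ∃ J, chkPBlk P 5 31 18 31671 b J = true := fun b h1 h2 => by
  have hb : b = 274 := Nat.le_antisymm (Nat.le_of_lt_succ h2) h1
  subst hb; exact ⟨_, lblk_274⟩
theorem lo_273_275 : ∀ b, 273 ≤ b → b < 275 → ∃ J, chkPBlk P 5 31 18 31671 b J = true := fun b h1 h2 =>
  if h : b < 274 then lo_273_274 b h1 h else lo_274_275 b (Nat.le_of_not_lt h) h2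
theorem lo_272_275 : ∀ b, 272 ≤ b → b < 275 → ∃ J, chkPBlk P 5 31 18 31671 b J = true := fun b h1 h2 =>
  if h : b < 273 then lo_272_273 b h1 h else lo_273_275 b (Nat.le_of_not_lt h) h2
theorem lo_270_275 : ∀ b, 270 ≤ b → b < 275 → ∃ J, chkPBlk P 5 31 18 31671 b J = true := fun b h1 h2 =>
  if h : b < 272 then lo_270_272 b h1 h else lo_272_275 b (Nat.le_of_not_lt h) h2
theorem lo_266_275 : ∀ b, 266 ≤ b → b < 275 → ∃ J, chkPBlk P 5 31 18 31671 b J = true := fun b h1 h2 =>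
  if h : b < 270 then lo_266_270 b h1 h else lo_270_275 b (Nat.le_of_not_lt h) h2
theorem lo_257_275 : ∀ b, 257 ≤ b → b < 275 → ∃ J, chkPBlk P 5 31 18 31671 b J = true := fun b h1 h2 =>
  if h : b < 266 then lo_257_266 b h1 h else lo_266_275 b (Nat.le_of_not_lt h) h2
theorem lo_275_276 : ∀ b, 275 ≤ b → b < 276 → ∃ J, chkPBlk P 5 31 18 31671 b J = true := fun b h1 h2 => by
  have hb : b = 275 := Nat.le_antisymm (Nat.le_of_lt_succ h2) h1
  subst hb; exact ⟨_, lblk_275⟩
theorem lo_276_277 : ∀ b, 276 ≤ b → b < 277 → ∃ J, chkPBlk P 5 31 18 31671 b J = true := fun b h1 h2 => by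
  have hb : b = 276 := Nat.le_antisymm (Nat.le_of_lt_succ h2) h1
  subst hb; exact ⟨_, lblk_276⟩
theorem lo_275_277 : ∀ b, 275 ≤ b → b < 277 → ∃ J, chkPBlk P 5 31 18 31671 b J = true := fun b h1 h2 =>
  if h : b < 276 then lo_275_276 b h1 h else lo_276_277 b (Nat.le_of_not_lt h) h2
theorem lo_277_278 : ∀ b, 277 ≤ b → b < 278 → ∃ J, chkPBlk P 5 31 18 31671 b J = true := fun b h1 h2 => by
  have hb : b = 277 := Nat.le_antisymm (Nat.le_of_lt_succ h2) h1
  subst hb; exact ⟨_, lblk_277⟩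
theorem lo_278_279 : ∀ b, 278 ≤ b → b < 279 → ∃ J, chkPBlk P 5 31 18 31671 b J = true := fun b h1 h2 => by
  have hb : b = 278 := Nat.le_antisymm (Nat.le_of_lt_succ h2) h1
  subst hb; exact ⟨_, lblk_278⟩
theorem lo_277_279 : ∀ b, 277 ≤ b → b < 279 → ∃ J, chkPBlk P 5 31 18 31671 b J = true := fun b h1 h2 =>
  if h : b < 278 then lo_277_278 b h1 h else lo_278_279 b (Nat.le_of_not_lt h) h2
theorem lo_275_279 : ∀ b, 275 ≤ b → b < 279 → ∃ J, chkPBlk P 5 31 18 31671 b J = true := fun b h1 h2 =>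
  if h : b < 277 then lo_275_277 b h1 h else lo_277_279 b (Nat.le_of_not_lt h) h2
theorem lo_279_280 : ∀ b, 279 ≤ b → b < 280 → ∃ J, chkPBlk P 5 31 18 31671 b J = true := fun b h1 h2 => by
  have hb : b = 279 := Nat.le_antisymm (Nat.le_of_lt_succ h2) h1
  subst hb; exact ⟨_, lblk_279⟩
theorem lo_280_281 : ∀ b, 280 ≤ b → b < 281 → ∃ J, chkPBlk P 5 31 18 31671 b J = true := fun b h1 h2 => by
  have hb : b = 280 := Nat.le_antisymm (Nat.le_of_lt_succ h2) h1
  subst hb; exact ⟨_, lblk_280⟩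
theorem lo_279_281 : ∀ b, 279 ≤ b → b < 281 → ∃ J, chkPBlk P 5 31 18 31671 b J = true := fun b h1 h2 =>
  if h : b < 280 then lo_279_280 b h1 h else lo_280_281 b (Nat.le_of_not_lt h) h2
theorem lo_281_282 : ∀ b, 281 ≤ b → b < 282 → ∃ J, chkPBlk P 5 31 18 31671 b J = true := fun b h1 h2 => by
  have hb : b = 281 := Nat.le_antisymm (Nat.le_of_lt_succ h2) h1
  subst hb; exact ⟨_, lblk_281⟩
theorem lo_282_283 : ∀ b, 282 ≤ b → b < 283 → ∃ J, chkPBlk P 5 31 18 31671 b J = true := fun b h1 h2 => by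
  have hb : b = 282 := Nat.le_antisymm (Nat.le_of_lt_succ h2) h1
  subst hb; exact ⟨_, lblk_282⟩
theorem lo_283_284 : ∀ b, 283 ≤ b → b < 284 → ∃ J, chkPBlk P 5 31 18 31671 b J = true := fun b h1 h2 => by
  have hb : b = 283 := Nat.le_antisymm (Nat.le_of_lt_succ h2) h1
  subst hb; exact ⟨_, lblk_283⟩
theorem lo_282_284 : ∀ b, 282 ≤ b → b < 284 → ∃ J, chkPBlk P 5 31 18 31671 b J = true := fun b h1 h2 =>
  if h : b < 283 then lo_282_283 b h1 h else lo_283_284 b (Nat.le_of_not_lt h) h2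
theorem lo_281_284 : ∀ b, 281 ≤ b → b < 284 → ∃ J, chkPBlk P 5 31 18 31671 b J = true := fun b h1 h2 =>
  if h : b < 282 then lo_281_282 b h1 h else lo_282_284 b (Nat.le_of_not_lt h) h2
theorem lo_279_284 : ∀ b, 279 ≤ b → b < 284 → ∃ J, chkPBlk P 5 31 18 31671 b J = true := fun b h1 h2 =>
  if h : b < 281 then lo_279_281 b h1 h else lo_281_284 b (Nat.le_of_not_lt h) h2
theorem lo_275_284 : ∀ b, 275 ≤ b → b < 284 → ∃ J, chkPBlk P 5 31 18 31671 b J = true := fun b h1 h2 =>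
  if h : b < 279 then lo_275_279 b h1 h else lo_279_284 b (Nat.le_of_not_lt h) h2
theorem lo_284_285 : ∀ b, 284 ≤ b → b < 285 → ∃ J, chkPBlk P 5 31 18 31671 b J = true := fun b h1 h2 => by
  have hb : b = 284 := Nat.le_antisymm (Nat.le_of_lt_succ h2) h1
  subst hb; exact ⟨_, lblk_284⟩
theorem lo_285_286 : ∀ b, 285 ≤ b → b < 286 → ∃ J, chkPBlk P 5 31 18 31671 b J = true := fun b h1 h2 => by
  have hb : b = 285 := Nat.le_antisymm (Nat.le_of_lt_succ h2) h1
  subst hb; exact ⟨_, lblk_285⟩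
theorem lo_284_286 : ∀ b, 284 ≤ b → b < 286 → ∃ J, chkPBlk P 5 31 18 31671 b J = true := fun b h1 h2 =>
  if h : b < 285 then lo_284_285 b h1 h else lo_285_286 b (Nat.le_of_not_lt h) h2
theorem lo_286_287 : ∀ b, 286 ≤ b → b < 287 → ∃ J, chkPBlk P 5 31 18 31671 b J = true := fun b h1 h2 => by
  have hb : b = 286 := Nat.le_antisymm (Nat.le_of_lt_succ h2) h1
  subst hb; exact ⟨_, lblk_286⟩
theorem lo_287_288 : ∀ b, 287 ≤ b → b < 288 → ∃ J, chkPBlk P 5 31 18 31671 b J = true := fun b h1 h2 => by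
  have hb : b = 287 := Nat.le_antisymm (Nat.le_of_lt_succ h2) h1
  subst hb; exact ⟨_, lblk_287⟩
theorem lo_288_289 : ∀ b, 288 ≤ b → b < 289 → ∃ J, chkPBlk P 5 31 18 31671 b J = true := fun b h1 h2 => by
  have hb : b = 288 := Nat.le_antisymm (Nat.le_of_lt_succ h2) h1
  subst hb; exact ⟨_, lblk_288⟩
theorem lo_287_289 : ∀ b, 287 ≤ b → b < 289 → ∃ J, chkPBlk P 5 31 18 31671 b J = true := fun b h1 h2 =>
  if h : b < 288 then lo_287_288 b h1 h else lo_288_289 b (Nat.le_of_not_lt h) h2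
theorem lo_286_289 : ∀ b, 286 ≤ b → b < 289 → ∃ J, chkPBlk P 5 31 18 31671 b J = true := fun b h1 h2 =>
  if h : b < 287 then lo_286_287 b h1 h else lo_287_289 b (Nat.le_of_not_lt h) h2
theorem lo_284_289 : ∀ b, 284 ≤ b → b < 289 → ∃ J, chkPBlk P 5 31 18 31671 b J = true := fun b h1 h2 =>
  if h : b < 286 then lo_284_286 b h1 h else lo_286_289 b (Nat.le_of_not_lt h) h2
theorem lo_289_290 : ∀ b, 289 ≤ b → b < 290 → ∃ J, chkPBlk P 5 31 18 31671 b J = true := fun b h1 h2 => by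
  have hb : b = 289 := Nat.le_antisymm (Nat.le_of_lt_succ h2) h1
  subst hb; exact ⟨_, lblk_289⟩
theorem lo_290_291 : ∀ b, 290 ≤ b → b < 291 → ∃ J, chkPBlk P 5 31 18 31671 b J = true := fun b h1 h2 => by
  have hb : b = 290 := Nat.le_antisymm (Nat.le_of_lt_succ h2) h1
  subst hb; exact ⟨_, lblk_290⟩
theorem lo_289_291 : ∀ b, 289 ≤ b → b < 291 → ∃ J, chkPBlk P 5 31 18 31671 b J = true := fun b h1 h2 =>
  if h : b < 290 then lo_289_290 b h1 h else lo_290_291 b (Nat.le_of_not_lt h) h2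
theorem lo_291_292 : ∀ b, 291 ≤ b → b < 292 → ∃ J, chkPBlk P 5 31 18 31671 b J = true := fun b h1 h2 => by
  have hb : b = 291 := Nat.le_antisymm (Nat.le_of_lt_succ h2) h1
  subst hb; exact ⟨_, lblk_291⟩
theorem lo_292_293 : ∀ b, 292 ≤ b → b < 293 → ∃ J, chkPBlk P 5 31 18 31671 b J = true := fun b h1 h2 => by
  have hb : b = 292 := Nat.le_antisymm (Nat.le_of_lt_succ h2) h1
  subst hb; exact ⟨_, lblk_292⟩
theorem lo_293_294 : ∀ b, 293 ≤ b → b < 294 → ∃ J, chkPBlk P 5 31 18 31671 b J = true := fun b h1 h2 => by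
  have hb : b = 293 := Nat.le_antisymm (Nat.le_of_lt_succ h2) h1
  subst hb; exact ⟨_, lblk_293⟩
theorem lo_292_294 : ∀ b, 292 ≤ b → b < 294 → ∃ J, chkPBlk P 5 31 18 31671 b J = true := fun b h1 h2 =>
  if h : b < 293 then lo_292_293 b h1 h else lo_293_294 b (Nat.le_of_not_lt h) h2
theorem lo_291_294 : ∀ b, 291 ≤ b → b < 294 → ∃ J, chkPBlk P 5 31 18 31671 b J = true := fun b h1 h2 =>
  if h : b < 292 then lo_291_292 b h1 h else lo_292_294 b (Nat.le_of_not_lt h) h2
theorem lo_289_294 : ∀ b, 289 ≤ b → b < 294 → ∃ J, chkPBlk P 5 31 18 31671 b J = true := fun b h1 h2 =>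
  if h : b < 291 then lo_289_291 b h1 h else lo_291_294 b (Nat.le_of_not_lt h) h2
theorem lo_284_294 : ∀ b, 284 ≤ b → b < 294 → ∃ J, chkPBlk P 5 31 18 31671 b J = true := fun b h1 h2 =>
  if h : b < 289 then lo_284_289 b h1 h else lo_289_294 b (Nat.le_of_not_lt h) h2
theorem lo_275_294 : ∀ b, 275 ≤ b → b < 294 → ∃ J, chkPBlk P 5 31 18 31671 b J = true := fun b h1 h2 =>
  if h : b < 284 then lo_275_284 b h1 h else lo_284_294 b (Nat.le_of_not_lt h) h2
theorem lo_257_294 : ∀ b, 257 ≤ b → b < 294 → ∃ J, chkPBlk P 5 31 18 31671 b J = true := fun b h1 h2 =>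
  if h : b < 275 then lo_257_275 b h1 h else lo_275_294 b (Nat.le_of_not_lt h) h2
theorem lo_220_294 : ∀ b, 220 ≤ b → b < 294 → ∃ J, chkPBlk P 5 31 18 31671 b J = true := fun b h1 h2 =>
  if h : b < 257 then lo_220_257 b h1 h else lo_257_294 b (Nat.le_of_not_lt h) h2
theorem lo_147_294 : ∀ b, 147 ≤ b → b < 294 → ∃ J, chkPBlk P 5 31 18 31671 b J = true := fun b h1 h2 =>
  if h : b < 220 then lo_147_220 b h1 h else lo_220_294 b (Nat.le_of_not_lt h) h2

end Cfsg.Agent.Lib.Helper29.S1689
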