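import Cfsg.Agent.Lib.Helper29.S1689.Data

set_option autoImplicit false
set_option Elab.async false

namespace Cfsg.Agent.Lib.Helper29.S1689

open Cfsg.Agent.Lib.Helper29.TcTrace Cfsg.Agent.Lib.Helper29.TcCert Cfsg.Agent.Lib.Helper29.TcPerm

theorem lblk_1470 : chkPBlk P 5 31 18 31671 1470 0xc62148509cc6214c4284e8 = true := by decide +kernel
theorem lblk_1471 : chkPBlk P 5 31 18 31671 1471 0xa4298c42a50322085398e8 = true := by decide +kernel
theorem lblk_1472 : chkPBlk P 5 31 18 31671 1472 0xa6310a10a50530cc4418c4 = true := by decide +kernel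
theorem lblk_1473 : chkPBlk P 5 31 18 31671 1473 0x106198883188521485098c6 = true := by decide +kernel
theorem lblk_1474 : chkPBlk P 5 31 18 31671 1474 0x12941ce53990729d0631125 = true := by decide +kernel
theorem lblk_1475 : chkPBlk P 5 31 18 31671 1475 0xc7418c4284642152321885 = true := by decide +kernel
theorem lblk_1476 : chkPBlk P 5 31 18 31671 1476 0xc42842942064410a840c87 = true := by decide +kernel
theorem lblk_1477 : chkPBlk P 5 31 18 31671 1477 0xc4310a4284a50842831885 = true := by decide +kernel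
theorem lblk_1478 : chkPBlk P 5 31 18 31671 1478 0x6621d06310a6314c429506 = true := by decide +kernel
theorem lblk_1479 : chkPBlk P 5 31 18 31671 1479 0x128210a54a1034a06439d06 = true := by decide +kernel
theorem lblk_1480 : chkPBlk P 5 31 18 31671 1480 0xc621464214242942949128 = true := by decide +kernel
theorem lblk_1481 : chkPBlk P 5 31 18 31671 1481 0xa8320c34a0c3310a619888 = true := by decide +kernel
theorem lblk_1482 : chkPBlk P 5 31 18 31671 1482 0x8429421411254910949509 = true := by decide +kernel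
theorem lblk_1483 : chkPBlk P 5 31 18 31671 1483 0xc618c8530cc419085398a3 = true := by decide +kernel
theorem lblk_1484 : chkPBlk P 5 31 18 31671 1484 0x10320c84290a739cc331085 = true := by decide +kernel
theorem lblk_1485 : chkPBlk P 5 31 18 31671 1485 0x8519085090a5090a121423 = true := by decide +kernel
theorem lblk_1486 : chkPBlk P 5 31 18 31671 1486 0xc4290a6214a5420c319064 = true := by decide +kernel
theorem lblk_1487 : chkPBlk P 5 31 18 31671 1487 0xe630cc431885290a619886 = true := by decide +kernel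
theorem lblk_1488 : chkPBlk P 5 31 18 31671 1488 0xc429cc419085214e6310a7 = true := by decide +kernel
theorem lblk_1489 : chkPBlk P 5 31 18 31671 1489 0x6621866210a739cc3310e6 = true := by decide +kernel
theorem lblk_1490 : chkPBlk P 5 31 18 31671 1490 0x6320c8741ce8314c61a106 = true := by decide +kernel
theorem lblk_1491 : chkPBlk P 5 31 18 31671 1491 0xc730cc4398c42988629887 = true := by decide +kernel
theorem lblk_1492 : chkPBlk P 5 31 18 31671 1492 0x6320c842a50940c8429ce7 = true := by decide +kernel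
theorem lblk_1493 : chkPBlk P 5 31 18 31671 1493 0x842a501090a4284894a085 = true := by decide +kernel
theorem lblk_1494 : chkPBlk P 5 31 18 31671 1494 0x106310a731885398c42a503 = true := by decide +kernel
theorem lblk_1495 : chkPBlk P 5 31 18 31671 1495 0x12829866218c42a50321cc7 = true := by decide +kernel
theorem lblk_1496 : chkPBlk P 5 31 18 31671 1496 0xc7398c44a0c331106310a5 = true := by decide +kernel
theorem lblk_1497 : chkPBlk P 5 31 18 31671 1497 0x882146320c83210a94a0e7 = true := by decide +kernel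
theorem lblk_1498 : chkPBlk P 5 31 18 31671 1498 0x10830cc4214a6198882a0c6 = true := by decide +kernel
theorem lblk_1499 : chkPBlk P 5 31 18 31671 1499 0x6619883210a42a50818c87 = true := by decide +kernel
theorem lblk_1500 : chkPBlk P 5 31 18 31671 1500 0x8541885214a439ca5494c6 = true := by decide +kernel
theorem lblk_1501 : chkPBlk P 5 31 18 31671 1501 0x66210a42a064398c6214c6 = true := by decide +kernel
theorem lblk_1502 : chkPBlk P 5 31 18 31671 1502 0xe831885398c42846421506 = true := by decide +kernel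
theorem lblk_1503 : chkPBlk P 5 31 18 31671 1503 0x12829866218c4290a8190e6 = true := by decide +kernel
theorem lblk_1504 : chkPBlk P 5 31 18 31671 1504 0xa94a0c830cc4418c42a0c5 = true := by decide +kernel
theorem lblk_1505 : chkPBlk P 5 31 18 31671 1505 0xa729cc3310c6214e831886 = true := by decide +kernel
theorem lblk_1506 : chkPBlk P 5 31 18 31671 1506 0x8942068190e839d0619884 = true := by decide +kernel
theorem lblk_1507 : chkPBlk P 5 31 18 31671 1507 0x66224a630d054186621066 = true := by decide +kernel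
theorem lblk_1508 : chkPBlk P 5 31 18 31671 1508 0x106418682a0c331064214c6 = true := by decide +kernel
theorem lblk_1509 : chkPBlk P 5 31 18 31671 1509 0x6320c6449ce541ca741925 = true := by decide +kernel
theorem lblk_1510 : chkPBlk P 5 31 18 31671 1510 0x85420681910819ce830cc4 = true := by decide +kernel
theorem lblk_1511 : chkPBlk P 5 31 18 31671 1511 0x86310a830cc4214a831886 = true := by decide +kernel
theorem lblk_1512 : chkPBlk P 5 31 18 31671 1512 0x128125081a0c74186741866 = true := by decide +kernel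
theorem lblk_1513 : chkPBlk P 5 31 18 31671 1513 0x10619883190642a52449124 = true := by decide +kernel
theorem lblk_1514 : chkPBlk P 5 31 18 31671 1514 0x892a4a830928320c3298c3 = true := by decide +kernel
theorem lblk_1515 : chkPBlk P 5 31 18 31671 1515 0xc730ca6194c319c6322125 = true := by decide +kernel
theorem lblk_1516 : chkPBlk P 5 31 18 31671 1516 0x83214642144840c6320c87 = true := by decide +kernel
theorem lblk_1517 : chkPBlk P 5 31 18 31671 1517 0xc330cc4190644086319063 = true := by decide +kernel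
theorem lblk_1518 : chkPBlk P 5 31 18 31671 1518 0x8321c6621cc61986620c86 = true := by decide +kernel
theorem lblk_1519 : chkPBlk P 5 31 18 31671 1519 0xc618c8731cc33986621c63 = true := by decide +kernel
theorem lblk_1520 : chkPBlk P 5 31 18 31671 1520 0xc3310c218d0730908320c3 = true := by decide +kernel
theorem lblk_1521 : chkPBlk P 5 31 18 31671 1521 0x4318c894a103190e639867 = true := by decide +kernel
theorem lblk_1522 : chkPBlk P 5 31 18 31671 1522 0xe6198873188319123210a9 = true := by decide +kernel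
theorem lblk_1523 : chkPBlk P 5 31 18 31671 1523 0x662250819d073a0c3310e5 = true := by decide +kernel
theorem lblk_1524 : chkPBlk P 5 31 18 31671 1524 0x1064186841866224a630ca6 = true := by decide +kernel
theorem lblk_1525 : chkPBlk P 5 31 18 31671 1525 0x682a0c820c631912739cc9 = true := by decide +kernel
theorem lblk_1526 : chkPBlk P 5 31 18 31671 1526 0x644a5021a10641863214c6 = true := by decide +kernel
theorem lblk_1527 : chkPBlk P 5 31 18 31671 1527 0xc441883214a5308c618c64 = true := by decide +kernel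
theorem lblk_1528 : chkPBlk P 5 31 18 31671 1528 0x8630c641910819cc3310c3 = true := by decide +kernel
theorem lblk_1529 : chkPBlk P 5 31 18 31671 1529 0x8840ce74186621cc331063 = true := by decide +kernel
theorem lblk_1530 : chkPBlk P 5 31 18 31671 1530 0x1061a0c3311253186619883 = true := by decide +kernel
theorem lblk_1531 : chkPBlk P 5 31 18 31671 1531 0x87298e61986621d0632506 = true := by decide +kernel
theorem lblk_1532 : chkPBlk P 5 31 18 31671 1532 0x634a502420683a0c741863 = true := by decide +kernel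
theorem lblk_1533 : chkPBlk P 5 31 18 31671 1533 0xc318c8630ca53090541906 = true := by decide +kernel
theorem lblk_1534 : chkPBlk P 5 31 18 31671 1534 0x433a0e549525418482a0c8 = true := by decide +kernel
theorem lblk_1535 : chkPBlk P 5 31 18 31671 1535 0x662204840d02418e830c43 = true := by decide +kernel
theorem lblk_1536 : chkPBlk P 5 31 18 31671 1536 0x128120c2418e830ca319106 = true := by decide +kernel
theorem lblk_1537 : chkPBlk P 5 31 18 31671 1537 0xa5309064186218d2949109 = true := by decide +kernel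
theorem lblk_1538 : chkPBlk P 5 31 18 31671 1538 0xe6108a210d092a0c94a0c2 = true := by decide +kernel
theorem lblk_1539 : chkPBlk P 5 31 18 31671 1539 0x631884310c631910210c67 = true := by decide +kernel
theorem lblk_1540 : chkPBlk P 5 31 18 31671 1540 0xc730c4318cc231863308c6 = true := by decide +kernel
theorem lblk_1541 : chkPBlk P 5 31 18 31671 1541 0xe618846421061184339cc2 = true := by decide +kernel
theorem lblk_1542 : chkPBlk P 5 31 18 31671 1542 0xe610c63208434a50219846 = true := by decide +kernel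
theorem lblk_1543 : chkPBlk P 5 31 18 31671 1543 0x12940907418e830ce531cc3 = true := by decide +kernel
theorem lblk_1544 : chkPBlk P 5 31 18 31671 1544 0x12830908320c3294c2298c3 = true := by decide +kernel
theorem lblk_1545 : chkPBlk P 5 31 18 31671 1545 0x10830865298482a04210ce9 = true := by decide +kernel
theorem lblk_1546 : chkPBlk P 5 31 18 31671 1546 0xc331868194c6108634a048 = true := by decide +kernel
theorem lblk_1547 : chkPBlk P 5 31 18 31671 1547 0xc74186639862198431a046 = true := by decide +kernel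
theorem lblk_1548 : chkPBlk P 5 31 18 31671 1548 0xc241906194a6118c31a048 = true := by decide +kernel
theorem lblk_1549 : chkPBlk P 5 31 18 31671 1549 0x10741d0610ce5394c231868 = true := by decide +kernel
theorem lblk_1550 : chkPBlk P 5 31 18 31671 1550 0x43308a641505418424a102 = true := by decide +kernel
theorem lblk_1551 : chkPBlk P 5 31 18 31671 1551 0x4841842124a8320a82a0c2 = true := by decide +kernel
theorem lblk_1552 : chkPBlk P 5 31 18 31671 1552 0x42125244a1064184218d08 = true := by decide +kernel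
theorem lblk_1553 : chkPBlk P 5 31 18 31671 1553 0x421a042398492a50629906 = true := by decide +kernel
theorem lblk_1554 : chkPBlk P 5 31 18 31671 1554 0xe630842118c2118c210842 = true := by decide +kernel
theorem lblk_1555 : chkPBlk P 5 31 18 31671 1555 0xa6108431250231848418c2 = true := by decide +kernel
theorem lblk_1556 : chkPBlk P 5 31 18 31671 1556 0xa6294c24a10741d0611ca7 = true := by decide +kernel
theorem lblk_1557 : chkPBlk P 5 31 18 31671 1557 0x424a106114c24a0c8420c2 = true := by decide +kernel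
theorem lblk_1558 : chkPBlk P 5 31 18 31671 1558 0x108308c21184241846108a6 = true := by decide +kernel
theorem lblk_1559 : chkPBlk P 5 31 18 31671 1559 0x10611ca6309064184531842 = true := by decide +kernel
theorem lblk_1560 : chkPBlk P 5 31 18 31671 1560 0xc92a0a8308c5415064a107 = true := by decide +kernel
theorem lblk_1561 : chkPBlk P 5 31 18 31671 1561 0xe631847495064a50610908 = true := by decide +kernel
theorem lblk_1562 : chkPBlk P 5 31 18 31671 1562 0x108314a64a0e831ca6124c8 = true := by decide +kernel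
theorem lblk_1563 : chkPBlk P 5 31 18 31671 1563 0xa839ca6418a6418c6320a9 = true := by decide +kernel
theorem lblk_1564 : chkPBlk P 5 31 18 31671 1564 0x1234246148a282a0e72a0a8 = true := by decide +kernel
theorem lblk_1565 : chkPBlk P 5 31 18 31671 1565 0xa921464425054248222124 = true := by decide +kernel
theorem lblk_1566 : chkPBlk P 5 31 18 31671 1566 0x105198a228c884a50622128 = true := by decide +kernel
theorem lblk_1567 : chkPBlk P 5 31 18 31671 1567 0x884248941ca32212941909 = true := by decide +kernel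
theorem lblk_1568 : chkPBlk P 5 31 18 31671 1568 0x1094a0c9414e621426288a3 = true := by decide +kernel
theorem lblk_1569 : chkPBlk P 5 31 18 31671 1569 0x1244a0c511464421244a0e4 = true := by decide +kernel
theorem lblk_1570 : chkPBlk P 5 31 18 31671 1570 0x8539885098a228c8442468 = true := by decide +kernel
theorem lblk_1571 : chkPBlk P 5 31 18 31671 1571 0x108491283a1244a0c43a0c6 = true := by decide +kernel
theorem lblk_1572 : chkPBlk P 5 31 18 31671 1572 0xc511464221234248941464 = true := by decide +kernel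
theorem lblk_1573 : chkPBlk P 5 31 18 31671 1573 0x6442444424a342487310a1 = true := by decide +kernel
theorem lblk_1574 : chkPBlk P 5 31 18 31671 1574 0x87418c429cc4284c511465 = true := by decide +kernel
theorem lblk_1575 : chkPBlk P 5 31 18 31671 1575 0x128221284a5074990729cc6 = true := by decide +kernel
theorem lblk_1576 : chkPBlk P 5 31 18 31671 1576 0x1251a12431445190884a124 = true := by decide +kernel
theorem lblk_1577 : chkPBlk P 5 31 18 31671 1577 0xa7310a1314451946442488 = true := by decide +kernel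
theorem lblk_1578 : chkPBlk P 5 31 18 31671 1578 0xa3221292888849467418c4 = true := by decide +kernel
theorem lblk_1579 : chkPBlk P 5 31 18 31671 1579 0xc6214e621426288c511464 = true := by decide +kernel
theorem lblk_1580 : chkPBlk P 5 31 18 31671 1580 0xe5420e729cc8394e6310e8 = true := by decide +kernel
theorem lblk_1581 : chkPBlk P 5 31 18 31671 1581 0x1092a12428c88221094a109 = true := by decide +kernel
theorem lblk_1582 : chkPBlk P 5 31 18 31671 1582 0x12519cc4284c51146519104 = true := by decide +kernel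
theorem lblk_1583 : chkPBlk P 5 31 18 31671 1583 0xc5118a228c851910949488 = true := by decide +kernel
theorem lblk_1584 : chkPBlk P 5 31 18 31671 1584 0xa74186621d06310a7310a1 = true := by decide +kernel
theorem lblk_1585 : chkPBlk P 5 31 18 31671 1585 0x644248528c884992512507 = true := by decide +kernel
theorem lblk_1586 : chkPBlk P 5 31 18 31671 1586 0x853988509cc4298a531445 = true := by decide +kernel
theorem lblk_1587 : chkPBlk P 5 31 18 31671 1587 0x10839ca7320e5398c43a0c6 = true := by decide +kernel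
theorem lblk_1588 : chkPBlk P 5 31 18 31671 1588 0xa3211084910949c8831ce5 = true := by decide +kernel
theorem lblk_1589 : chkPBlk P 5 31 18 31671 1589 0xa32146442488494c511464 = true := by decide +kernel
theorem lblk_1590 : chkPBlk P 5 31 18 31671 1590 0xa7418c429cc4284c5118a2 = true := by decide +kernel
theorem lblk_1591 : chkPBlk P 5 31 18 31671 1591 0x45314451910921464424c9 = true := by decide +kernel
theorem lblk_1592 : chkPBlk P 5 31 18 31671 1592 0xe8318853988509cc4284c5 = true := by decide +kernel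
theorem lblk_1593 : chkPBlk P 5 31 18 31671 1593 0x1072a0c730d28394e830cc4 = true := by decide +kernel
theorem lblk_1594 : chkPBlk P 5 31 18 31671 1594 0x1043144519109498854a107 = true := by decide +kernel
theorem lblk_1595 : chkPBlk P 5 31 18 31671 1595 0xe831887310c7310a629489 = true := by decide +kernel
theorem lblk_1596 : chkPBlk P 5 31 18 31671 1596 0xe729cc8394e6310e831885 = true := by decide +kernel
theorem lblk_1597 : chkPBlk P 5 31 18 31671 1597 0x88424c3220c7220c739508 = true := by decide +kernel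
theorem lblk_1598 : chkPBlk P 5 31 18 31671 1598 0x26288a33144519464220a3 = true := by decide +kernel
theorem lblk_1599 : chkPBlk P 5 31 18 31671 1599 0x66288a3220a32212639885 = true := by decide +kernel
theorem lblk_1600 : chkPBlk P 5 31 18 31671 1600 0xc6214e621427310a131445 = true := by decide +kernel
theorem lblk_1601 : chkPBlk P 5 31 18 31671 1601 0x884a4c44a0e53a0c3310e8 = true := by decide +kernel
theorem lblk_1602 : chkPBlk P 5 31 18 31671 1602 0xc7310a13144522506288a3 = true := by decide +kernel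
theorem lblk_1603 : chkPBlk P 5 31 18 31671 1603 0xc43a0c6214e83188539885 = true := by decide +kernel
theorem lblk_1604 : chkPBlk P 5 31 18 31671 1604 0x10741ca831cc34a0e53a0c3 = true := by decide +kernel
theorem lblk_1605 : chkPBlk P 5 31 18 31671 1605 0x8949106420e441ca729928 = true := by decide +kernel
theorem lblk_1606 : chkPBlk P 5 31 18 31671 1606 0xc540ce6214c5291094a0c6 = true := by decide +kernel
theorem lblk_1607 : chkPBlk P 5 31 18 31671 1607 0x10729d0619cc73a0c621cc4 = true := by decide +kernel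
theorem lblk_1608 : chkPBlk P 5 31 18 31671 1608 0x8631ce729ca7320e5398c4 = true := by decide +kernel
theorem lblk_1609 : chkPBlk P 5 31 18 31671 1609 0xc511465190c51146422123 = true := by decide +kernel
theorem lblk_1610 : chkPBlk P 5 31 18 31671 1610 0x8539885098a239885098a2 = true := by decide +kernel
theorem lblk_1611 : chkPBlk P 5 31 18 31671 1611 0xc51146431445191093a0c6 = true := by decide +kernel
theorem lblk_1612 : chkPBlk P 5 31 18 31671 1612 0xa7418c429cc4298a7310a1 = true := by decide +kernel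
theorem lblk_1613 : chkPBlk P 5 31 18 31671 1613 0x1061a50729d0619887418c4 = true := by decide +kernel
theorem lblk_1614 : chkPBlk P 5 31 18 31671 1614 0xa442528325083a5072a0c7 = true := by decide +kernel
theorem lblk_1615 : chkPBlk P 5 31 18 31671 1615 0xc6214e6214c539885098a2 = true := by decide +kernel
theorem lblk_1616 : chkPBlk P 5 31 18 31671 1616 0x8941ca74186621cc621ce8 = true := by decide +kernel
theorem lo_1470_1471 : ∀ b, 1470 ≤ b → b < 1471 → ∃ J, chkPBlk P 5 31 18 31671 b J = true := fun b h1 h2 => by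
  have hb : b = 1470 := Nat.le_antisymm (Nat.le_of_lt_succ h2) h1
  subst hb; exact ⟨_, lblk_1470⟩
theorem lo_1471_1472 : ∀ b, 1471 ≤ b → b < 1472 → ∃ J, chkPBlk P 5 31 18 31671 b J = true := fun b h1 h2 => by
  have hb : b = 1471 := Nat.le_antisymm (Nat.le_of_lt_succ h2) h1
  subst hb; exact ⟨_, lblk_1471⟩
theorem lo_1470_1472 : ∀ b, 1470 ≤ b → b < 1472 → ∃ J, chkPBlk P 5 31 18 31671 b J = true := fun b h1 h2 =>
  if h : b < 1471 then lo_1470_1471 b h1 h else lo_1471_1472 b (Nat.le_of_not_lt h) h2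
theorem lo_1472_1473 : ∀ b, 1472 ≤ b → b < 1473 → ∃ J, chkPBlk P 5 31 18 31671 b J = true := fun b h1 h2 => by
  have hb : b = 1472 := Nat.le_antisymm (Nat.le_of_lt_succ h2) h1
  subst hb; exact ⟨_, lblk_1472⟩
theorem lo_1473_1474 : ∀ b, 1473 ≤ b → b < 1474 → ∃ J, chkPBlk P 5 31 18 31671 b J = true := fun b h1 h2 => by
  have hb : b = 1473 := Nat.le_antisymm (Nat.le_of_lt_succ h2) h1
  subst hb; exact ⟨_, lblk_1473⟩
theorem lo_1472_1474 : ∀ b, 1472 ≤ b → b < 1474 → ∃ J, chkPBlk P 5 31 18 31671 b J = true := fun b h1 h2 =>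
  if h : b < 1473 then lo_1472_1473 b h1 h else lo_1473_1474 b (Nat.le_of_not_lt h) h2
theorem lo_1470_1474 : ∀ b, 1470 ≤ b → b < 1474 → ∃ J, chkPBlk P 5 31 18 31671 b J = true := fun b h1 h2 =>
  if h : b < 1472 then lo_1470_1472 b h1 h else lo_1472_1474 b (Nat.le_of_not_lt h) h2
theorem lo_1474_1475 : ∀ b, 1474 ≤ b → b < 1475 → ∃ J, chkPBlk P 5 31 18 31671 b J = true := fun b h1 h2 => by
  have hb : b = 1474 := Nat.le_antisymm (Nat.le_of_lt_succ h2) h1
  subst hb; exact ⟨_, lblk_1474⟩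
theorem lo_1475_1476 : ∀ b, 1475 ≤ b → b < 1476 → ∃ J, chkPBlk P 5 31 18 31671 b J = true := fun b h1 h2 => by
  have hb : b = 1475 := Nat.le_antisymm (Nat.le_of_lt_succ h2) h1
  subst hb; exact ⟨_, lblk_1475⟩
theorem lo_1474_1476 : ∀ b, 1474 ≤ b → b < 1476 → ∃ J, chkPBlk P 5 31 18 31671 b J = true := fun b h1 h2 =>
  if h : b < 1475 then lo_1474_1475 b h1 h else lo_1475_1476 b (Nat.le_of_not_lt h) h2
theorem lo_1476_1477 : ∀ b, 1476 ≤ b → b < 1477 → ∃ J, chkPBlk P 5 31 18 31671 b J = true := fun b h1 h2 => by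
  have hb : b = 1476 := Nat.le_antisymm (Nat.le_of_lt_succ h2) h1
  subst hb; exact ⟨_, lblk_1476⟩
theorem lo_1477_1478 : ∀ b, 1477 ≤ b → b < 1478 → ∃ J, chkPBlk P 5 31 18 31671 b J = true := fun b h1 h2 => by
  have hb : b = 1477 := Nat.le_antisymm (Nat.le_of_lt_succ h2) h1
  subst hb; exact ⟨_, lblk_1477⟩
theorem lo_1478_1479 : ∀ b, 1478 ≤ b → b < 1479 → ∃ J, chkPBlk P 5 31 18 31671 b J = true := fun b h1 h2 => by
  have hb : b = 1478 := Nat.le_antisymm (Nat.le_of_lt_succ h2) h1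
  subst hb; exact ⟨_, lblk_1478⟩
theorem lo_1477_1479 : ∀ b, 1477 ≤ b → b < 1479 → ∃ J, chkPBlk P 5 31 18 31671 b J = true := fun b h1 h2 =>
  if h : b < 1478 then lo_1477_1478 b h1 h else lo_1478_1479 b (Nat.le_of_not_lt h) h2
theorem lo_1476_1479 : ∀ b, 1476 ≤ b → b < 1479 → ∃ J, chkPBlk P 5 31 18 31671 b J = true := fun b h1 h2 =>
  if h : b < 1477 then lo_1476_1477 b h1 h else lo_1477_1479 b (Nat.le_of_not_lt h) h2
theorem lo_1474_1479 : ∀ b, 1474 ≤ b → b < 1479 → ∃ J, chkPBlk P 5 31 18 31671 b J = true := fun b h1 h2 =>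
  if h : b < 1476 then lo_1474_1476 b h1 h else lo_1476_1479 b (Nat.le_of_not_lt h) h2
theorem lo_1470_1479 : ∀ b, 1470 ≤ b → b < 1479 → ∃ J, chkPBlk P 5 31 18 31671 b J = true := fun b h1 h2 =>
  if h : b < 1474 then lo_1470_1474 b h1 h else lo_1474_1479 b (Nat.le_of_not_lt h) h2
theorem lo_1479_1480 : ∀ b, 1479 ≤ b → b < 1480 → ∃ J, chkPBlk P 5 31 18 31671 b J = true := fun b h1 h2 => by
  have hb : b = 1479 := Nat.le_antisymm (Nat.le_of_lt_succ h2) h1
  subst hb; exact ⟨_, lblk_1479⟩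
theorem lo_1480_1481 : ∀ b, 1480 ≤ b → b < 1481 → ∃ J, chkPBlk P 5 31 18 31671 b J = true := fun b h1 h2 => by
  have hb : b = 1480 := Nat.le_antisymm (Nat.le_of_lt_succ h2) h1
  subst hb; exact ⟨_, lblk_1480⟩
theorem lo_1479_1481 : ∀ b, 1479 ≤ b → b < 1481 → ∃ J, chkPBlk P 5 31 18 31671 b J = true := fun b h1 h2 =>
  if h : b < 1480 then lo_1479_1480 b h1 h else lo_1480_1481 b (Nat.le_of_not_lt h) h2
theorem lo_1481_1482 : ∀ b, 1481 ≤ b → b < 1482 → ∃ J, chkPBlk P 5 31 18 31671 b J = true := fun b h1 h2 => by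
  have hb : b = 1481 := Nat.le_antisymm (Nat.le_of_lt_succ h2) h1
  subst hb; exact ⟨_, lblk_1481⟩
theorem lo_1482_1483 : ∀ b, 1482 ≤ b → b < 1483 → ∃ J, chkPBlk P 5 31 18 31671 b J = true := fun b h1 h2 => by
  have hb : b = 1482 := Nat.le_antisymm (Nat.le_of_lt_succ h2) h1
  subst hb; exact ⟨_, lblk_1482⟩
theorem lo_1481_1483 : ∀ b, 1481 ≤ b → b < 1483 → ∃ J, chkPBlk P 5 31 18 31671 b J = true := fun b h1 h2 =>
  if h : b < 1482 then lo_1481_1482 b h1 h else lo_1482_1483 b (Nat.le_of_not_lt h) h2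
theorem lo_1479_1483 : ∀ b, 1479 ≤ b → b < 1483 → ∃ J, chkPBlk P 5 31 18 31671 b J = true := fun b h1 h2 =>
  if h : b < 1481 then lo_1479_1481 b h1 h else lo_1481_1483 b (Nat.le_of_not_lt h) h2
theorem lo_1483_1484 : ∀ b, 1483 ≤ b → b < 1484 → ∃ J, chkPBlk P 5 31 18 31671 b J = true := fun b h1 h2 => by
  have hb : b = 1483 := Nat.le_antisymm (Nat.le_of_lt_succ h2) h1
  subst hb; exact ⟨_, lblk_1483⟩
theorem lo_1484_1485 : ∀ b, 1484 ≤ b → b < 1485 → ∃ J, chkPBlk P 5 31 18 31671 b J = true := fun b h1 h2 => by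
  have hb : b = 1484 := Nat.le_antisymm (Nat.le_of_lt_succ h2) h1
  subst hb; exact ⟨_, lblk_1484⟩
theorem lo_1483_1485 : ∀ b, 1483 ≤ b → b < 1485 → ∃ J, chkPBlk P 5 31 18 31671 b J = true := fun b h1 h2 =>
  if h : b < 1484 then lo_1483_1484 b h1 h else lo_1484_1485 b (Nat.le_of_not_lt h) h2
theorem lo_1485_1486 : ∀ b, 1485 ≤ b → b < 1486 → ∃ J, chkPBlk P 5 31 18 31671 b J = true := fun b h1 h2 => by
  have hb : b = 1485 := Nat.le_antisymm (Nat.le_of_lt_succ h2) h1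
  subst hb; exact ⟨_, lblk_1485⟩
theorem lo_1486_1487 : ∀ b, 1486 ≤ b → b < 1487 → ∃ J, chkPBlk P 5 31 18 31671 b J = true := fun b h1 h2 => by
  have hb : b = 1486 := Nat.le_antisymm (Nat.le_of_lt_succ h2) h1
  subst hb; exact ⟨_, lblk_1486⟩
theorem lo_1487_1488 : ∀ b, 1487 ≤ b → b < 1488 → ∃ J, chkPBlk P 5 31 18 31671 b J = true := fun b h1 h2 => by
  have hb : b = 1487 := Nat.le_antisymm (Nat.le_of_lt_succ h2) h1
  subst hb; exact ⟨_, lblk_1487⟩
theorem lo_1486_1488 : ∀ b, 1486 ≤ b → b < 1488 → ∃ J, chkPBlk P 5 31 18 31671 b J = true := fun b h1 h2 =>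
  if h : b < 1487 then lo_1486_1487 b h1 h else lo_1487_1488 b (Nat.le_of_not_lt h) h2
theorem lo_1485_1488 : ∀ b, 1485 ≤ b → b < 1488 → ∃ J, chkPBlk P 5 31 18 31671 b J = true := fun b h1 h2 =>
  if h : b < 1486 then lo_1485_1486 b h1 h else lo_1486_1488 b (Nat.le_of_not_lt h) h2
theorem lo_1483_1488 : ∀ b, 1483 ≤ b → b < 1488 → ∃ J, chkPBlk P 5 31 18 31671 b J = true := fun b h1 h2 =>
  if h : b < 1485 then lo_1483_1485 b h1 h else lo_1485_1488 b (Nat.le_of_not_lt h) h2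
theorem lo_1479_1488 : ∀ b, 1479 ≤ b → b < 1488 → ∃ J, chkPBlk P 5 31 18 31671 b J = true := fun b h1 h2 =>
  if h : b < 1483 then lo_1479_1483 b h1 h else lo_1483_1488 b (Nat.le_of_not_lt h) h2
theorem lo_1470_1488 : ∀ b, 1470 ≤ b → b < 1488 → ∃ J, chkPBlk P 5 31 18 31671 b J = true := fun b h1 h2 =>
  if h : b < 1479 then lo_1470_1479 b h1 h else lo_1479_1488 b (Nat.le_of_not_lt h) h2
theorem lo_1488_1489 : ∀ b, 1488 ≤ b → b < 1489 → ∃ J, chkPBlk P 5 31 18 31671 b J = true := fun b h1 h2 => by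
  have hb : b = 1488 := Nat.le_antisymm (Nat.le_of_lt_succ h2) h1
  subst hb; exact ⟨_, lblk_1488⟩
theorem lo_1489_1490 : ∀ b, 1489 ≤ b → b < 1490 → ∃ J, chkPBlk P 5 31 18 31671 b J = true := fun b h1 h2 => by
  have hb : b = 1489 := Nat.le_antisymm (Nat.le_of_lt_succ h2) h1
  subst hb; exact ⟨_, lblk_1489⟩
theorem lo_1488_1490 : ∀ b, 1488 ≤ b → b < 1490 → ∃ J, chkPBlk P 5 31 18 31671 b J = true := fun b h1 h2 =>
  if h : b < 1489 then lo_1488_1489 b h1 h else lo_1489_1490 b (Nat.le_of_not_lt h) h2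
theorem lo_1490_1491 : ∀ b, 1490 ≤ b → b < 1491 → ∃ J, chkPBlk P 5 31 18 31671 b J = true := fun b h1 h2 => by
  have hb : b = 1490 := Nat.le_antisymm (Nat.le_of_lt_succ h2) h1
  subst hb; exact ⟨_, lblk_1490⟩
theorem lo_1491_1492 : ∀ b, 1491 ≤ b → b < 1492 → ∃ J, chkPBlk P 5 31 18 31671 b J = true := fun b h1 h2 => by
  have hb : b = 1491 := Nat.le_antisymm (Nat.le_of_lt_succ h2) h1
  subst hb; exact ⟨_, lblk_1491⟩
theorem lo_1490_1492 : ∀ b, 1490 ≤ b → b < 1492 → ∃ J, chkPBlk P 5 31 18 31671 b J = true := fun b h1 h2 =>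
  if h : b < 1491 then lo_1490_1491 b h1 h else lo_1491_1492 b (Nat.le_of_not_lt h) h2
theorem lo_1488_1492 : ∀ b, 1488 ≤ b → b < 1492 → ∃ J, chkPBlk P 5 31 18 31671 b J = true := fun b h1 h2 =>
  if h : b < 1490 then lo_1488_1490 b h1 h else lo_1490_1492 b (Nat.le_of_not_lt h) h2
theorem lo_1492_1493 : ∀ b, 1492 ≤ b → b < 1493 → ∃ J, chkPBlk P 5 31 18 31671 b J = true := fun b h1 h2 => by
  have hb : b = 1492 := Nat.le_antisymm (Nat.le_of_lt_succ h2) h1
  subst hb; exact ⟨_, lblk_1492⟩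
theorem lo_1493_1494 : ∀ b, 1493 ≤ b → b < 1494 → ∃ J, chkPBlk P 5 31 18 31671 b J = true := fun b h1 h2 => by
  have hb : b = 1493 := Nat.le_antisymm (Nat.le_of_lt_succ h2) h1
  subst hb; exact ⟨_, lblk_1493⟩
theorem lo_1492_1494 : ∀ b, 1492 ≤ b → b < 1494 → ∃ J, chkPBlk P 5 31 18 31671 b J = true := fun b h1 h2 =>
  if h : b < 1493 then lo_1492_1493 b h1 h else lo_1493_1494 b (Nat.le_of_not_lt h) h2
theorem lo_1494_1495 : ∀ b, 1494 ≤ b → b < 1495 → ∃ J, chkPBlk P 5 31 18 31671 b J = true := fun b h1 h2 => by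
  have hb : b = 1494 := Nat.le_antisymm (Nat.le_of_lt_succ h2) h1
  subst hb; exact ⟨_, lblk_1494⟩
theorem lo_1495_1496 : ∀ b, 1495 ≤ b → b < 1496 → ∃ J, chkPBlk P 5 31 18 31671 b J = true := fun b h1 h2 => by
  have hb : b = 1495 := Nat.le_antisymm (Nat.le_of_lt_succ h2) h1
  subst hb; exact ⟨_, lblk_1495⟩
theorem lo_1496_1497 : ∀ b, 1496 ≤ b → b < 1497 → ∃ J, chkPBlk P 5 31 18 31671 b J = true := fun b h1 h2 => by
  have hb : b = 1496 := Nat.le_antisymm (Nat.le_of_lt_succ h2) h1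
  subst hb; exact ⟨_, lblk_1496⟩
theorem lo_1495_1497 : ∀ b, 1495 ≤ b → b < 1497 → ∃ J, chkPBlk P 5 31 18 31671 b J = true := fun b h1 h2 =>
  if h : b < 1496 then lo_1495_1496 b h1 h else lo_1496_1497 b (Nat.le_of_not_lt h) h2
theorem lo_1494_1497 : ∀ b, 1494 ≤ b → b < 1497 → ∃ J, chkPBlk P 5 31 18 31671 b J = true := fun b h1 h2 =>
  if h : b < 1495 then lo_1494_1495 b h1 h else lo_1495_1497 b (Nat.le_of_not_lt h) h2
theorem lo_1492_1497 : ∀ b, 1492 ≤ b → b < 1497 → ∃ J, chkPBlk P 5 31 18 31671 b J = true := fun b h1 h2 =>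
  if h : b < 1494 then lo_1492_1494 b h1 h else lo_1494_1497 b (Nat.le_of_not_lt h) h2
theorem lo_1488_1497 : ∀ b, 1488 ≤ b → b < 1497 → ∃ J, chkPBlk P 5 31 18 31671 b J = true := fun b h1 h2 =>
  if h : b < 1492 then lo_1488_1492 b h1 h else lo_1492_1497 b (Nat.le_of_not_lt h) h2
theorem lo_1497_1498 : ∀ b, 1497 ≤ b → b < 1498 → ∃ J, chkPBlk P 5 31 18 31671 b J = true := fun b h1 h2 => by
  have hb : b = 1497 := Nat.le_antisymm (Nat.le_of_lt_succ h2) h1
  subst hb; exact ⟨_, lblk_1497⟩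
theorem lo_1498_1499 : ∀ b, 1498 ≤ b → b < 1499 → ∃ J, chkPBlk P 5 31 18 31671 b J = true := fun b h1 h2 => by
  have hb : b = 1498 := Nat.le_antisymm (Nat.le_of_lt_succ h2) h1
  subst hb; exact ⟨_, lblk_1498⟩
theorem lo_1497_1499 : ∀ b, 1497 ≤ b → b < 1499 → ∃ J, chkPBlk P 5 31 18 31671 b J = true := fun b h1 h2 =>
  if h : b < 1498 then lo_1497_1498 b h1 h else lo_1498_1499 b (Nat.le_of_not_lt h) h2
theorem lo_1499_1500 : ∀ b, 1499 ≤ b → b < 1500 → ∃ J, chkPBlk P 5 31 18 31671 b J = true := fun b h1 h2 => by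
  have hb : b = 1499 := Nat.le_antisymm (Nat.le_of_lt_succ h2) h1
  subst hb; exact ⟨_, lblk_1499⟩
theorem lo_1500_1501 : ∀ b, 1500 ≤ b → b < 1501 → ∃ J, chkPBlk P 5 31 18 31671 b J = true := fun b h1 h2 => by
  have hb : b = 1500 := Nat.le_antisymm (Nat.le_of_lt_succ h2) h1
  subst hb; exact ⟨_, lblk_1500⟩
theorem lo_1499_1501 : ∀ b, 1499 ≤ b → b < 1501 → ∃ J, chkPBlk P 5 31 18 31671 b J = true := fun b h1 h2 =>
  if h : b < 1500 then lo_1499_1500 b h1 h else lo_1500_1501 b (Nat.le_of_not_lt h) h2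
theorem lo_1497_1501 : ∀ b, 1497 ≤ b → b < 1501 → ∃ J, chkPBlk P 5 31 18 31671 b J = true := fun b h1 h2 =>
  if h : b < 1499 then lo_1497_1499 b h1 h else lo_1499_1501 b (Nat.le_of_not_lt h) h2
theorem lo_1501_1502 : ∀ b, 1501 ≤ b → b < 1502 → ∃ J, chkPBlk P 5 31 18 31671 b J = true := fun b h1 h2 => by
  have hb : b = 1501 := Nat.le_antisymm (Nat.le_of_lt_succ h2) h1
  subst hb; exact ⟨_, lblk_1501⟩
theorem lo_1502_1503 : ∀ b, 1502 ≤ b → b < 1503 → ∃ J, chkPBlk P 5 31 18 31671 b J = true := fun b h1 h2 => by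
  have hb : b = 1502 := Nat.le_antisymm (Nat.le_of_lt_succ h2) h1
  subst hb; exact ⟨_, lblk_1502⟩
theorem lo_1501_1503 : ∀ b, 1501 ≤ b → b < 1503 → ∃ J, chkPBlk P 5 31 18 31671 b J = true := fun b h1 h2 =>
  if h : b < 1502 then lo_1501_1502 b h1 h else lo_1502_1503 b (Nat.le_of_not_lt h) h2
theorem lo_1503_1504 : ∀ b, 1503 ≤ b → b < 1504 → ∃ J, chkPBlk P 5 31 18 31671 b J = true := fun b h1 h2 => by
  have hb : b = 1503 := Nat.le_antisymm (Nat.le_of_lt_succ h2) h1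
  subst hb; exact ⟨_, lblk_1503⟩
theorem lo_1504_1505 : ∀ b, 1504 ≤ b → b < 1505 → ∃ J, chkPBlk P 5 31 18 31671 b J = true := fun b h1 h2 => by
  have hb : b = 1504 := Nat.le_antisymm (Nat.le_of_lt_succ h2) h1
  subst hb; exact ⟨_, lblk_1504⟩
theorem lo_1505_1506 : ∀ b, 1505 ≤ b → b < 1506 → ∃ J, chkPBlk P 5 31 18 31671 b J = true := fun b h1 h2 => by
  have hb : b = 1505 := Nat.le_antisymm (Nat.le_of_lt_succ h2) h1
  subst hb; exact ⟨_, lblk_1505⟩
theorem lo_1504_1506 : ∀ b, 1504 ≤ b → b < 1506 → ∃ J, chkPBlk P 5 31 18 31671 b J = true := fun b h1 h2 =>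
  if h : b < 1505 then lo_1504_1505 b h1 h else lo_1505_1506 b (Nat.le_of_not_lt h) h2
theorem lo_1503_1506 : ∀ b, 1503 ≤ b → b < 1506 → ∃ J, chkPBlk P 5 31 18 31671 b J = true := fun b h1 h2 =>
  if h : b < 1504 then lo_1503_1504 b h1 h else lo_1504_1506 b (Nat.le_of_not_lt h) h2
theorem lo_1501_1506 : ∀ b, 1501 ≤ b → b < 1506 → ∃ J, chkPBlk P 5 31 18 31671 b J = true := fun b h1 h2 =>
  if h : b < 1503 then lo_1501_1503 b h1 h else lo_1503_1506 b (Nat.le_of_not_lt h) h2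
theorem lo_1497_1506 : ∀ b, 1497 ≤ b → b < 1506 → ∃ J, chkPBlk P 5 31 18 31671 b J = true := fun b h1 h2 =>
  if h : b < 1501 then lo_1497_1501 b h1 h else lo_1501_1506 b (Nat.le_of_not_lt h) h2
theorem lo_1488_1506 : ∀ b, 1488 ≤ b → b < 1506 → ∃ J, chkPBlk P 5 31 18 31671 b J = true := fun b h1 h2 =>
  if h : b < 1497 then lo_1488_1497 b h1 h else lo_1497_1506 b (Nat.le_of_not_lt h) h2
theorem lo_1470_1506 : ∀ b, 1470 ≤ b → b < 1506 → ∃ J, chkPBlk P 5 31 18 31671 b J = true := fun b h1 h2 =>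
  if h : b < 1488 then lo_1470_1488 b h1 h else lo_1488_1506 b (Nat.le_of_not_lt h) h2
theorem lo_1506_1507 : ∀ b, 1506 ≤ b → b < 1507 → ∃ J, chkPBlk P 5 31 18 31671 b J = true := fun b h1 h2 => by
  have hb : b = 1506 := Nat.le_antisymm (Nat.le_of_lt_succ h2) h1
  subst hb; exact ⟨_, lblk_1506⟩
theorem lo_1507_1508 : ∀ b, 1507 ≤ b → b < 1508 → ∃ J, chkPBlk P 5 31 18 31671 b J = true := fun b h1 h2 => by
  have hb : b = 1507 := Nat.le_antisymm (Nat.le_of_lt_succ h2) h1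
  subst hb; exact ⟨_, lblk_1507⟩
theorem lo_1506_1508 : ∀ b, 1506 ≤ b → b < 1508 → ∃ J, chkPBlk P 5 31 18 31671 b J = true := fun b h1 h2 =>
  if h : b < 1507 then lo_1506_1507 b h1 h else lo_1507_1508 b (Nat.le_of_not_lt h) h2
theorem lo_1508_1509 : ∀ b, 1508 ≤ b → b < 1509 → ∃ J, chkPBlk P 5 31 18 31671 b J = true := fun b h1 h2 => by
  have hb : b = 1508 := Nat.le_antisymm (Nat.le_of_lt_succ h2) h1
  subst hb; exact ⟨_, lblk_1508⟩
theorem lo_1509_1510 : ∀ b, 1509 ≤ b → b < 1510 → ∃ J, chkPBlk P 5 31 18 31671 b J = true := fun b h1 h2 => by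
  have hb : b = 1509 := Nat.le_antisymm (Nat.le_of_lt_succ h2) h1
  subst hb; exact ⟨_, lblk_1509⟩
theorem lo_1508_1510 : ∀ b, 1508 ≤ b → b < 1510 → ∃ J, chkPBlk P 5 31 18 31671 b J = true := fun b h1 h2 =>
  if h : b < 1509 then lo_1508_1509 b h1 h else lo_1509_1510 b (Nat.le_of_not_lt h) h2
theorem lo_1506_1510 : ∀ b, 1506 ≤ b → b < 1510 → ∃ J, chkPBlk P 5 31 18 31671 b J = true := fun b h1 h2 =>
  if h : b < 1508 then lo_1506_1508 b h1 h else lo_1508_1510 b (Nat.le_of_not_lt h) h2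
theorem lo_1510_1511 : ∀ b, 1510 ≤ b → b < 1511 → ∃ J, chkPBlk P 5 31 18 31671 b J = true := fun b h1 h2 => by
  have hb : b = 1510 := Nat.le_antisymm (Nat.le_of_lt_succ h2) h1
  subst hb; exact ⟨_, lblk_1510⟩
theorem lo_1511_1512 : ∀ b, 1511 ≤ b → b < 1512 → ∃ J, chkPBlk P 5 31 18 31671 b J = true := fun b h1 h2 => by
  have hb : b = 1511 := Nat.le_antisymm (Nat.le_of_lt_succ h2) h1
  subst hb; exact ⟨_, lblk_1511⟩
theorem lo_1510_1512 : ∀ b, 1510 ≤ b → b < 1512 → ∃ J, chkPBlk P 5 31 18 31671 b J = true := fun b h1 h2 =>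
  if h : b < 1511 then lo_1510_1511 b h1 h else lo_1511_1512 b (Nat.le_of_not_lt h) h2
theorem lo_1512_1513 : ∀ b, 1512 ≤ b → b < 1513 → ∃ J, chkPBlk P 5 31 18 31671 b J = true := fun b h1 h2 => by
  have hb : b = 1512 := Nat.le_antisymm (Nat.le_of_lt_succ h2) h1
  subst hb; exact ⟨_, lblk_1512⟩
theorem lo_1513_1514 : ∀ b, 1513 ≤ b → b < 1514 → ∃ J, chkPBlk P 5 31 18 31671 b J = true := fun b h1 h2 => by
  have hb : b = 1513 := Nat.le_antisymm (Nat.le_of_lt_succ h2) h1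
  subst hb; exact ⟨_, lblk_1513⟩
theorem lo_1514_1515 : ∀ b, 1514 ≤ b → b < 1515 → ∃ J, chkPBlk P 5 31 18 31671 b J = true := fun b h1 h2 => by
  have hb : b = 1514 := Nat.le_antisymm (Nat.le_of_lt_succ h2) h1
  subst hb; exact ⟨_, lblk_1514⟩
theorem lo_1513_1515 : ∀ b, 1513 ≤ b → b < 1515 → ∃ J, chkPBlk P 5 31 18 31671 b J = true := fun b h1 h2 =>
  if h : b < 1514 then lo_1513_1514 b h1 h else lo_1514_1515 b (Nat.le_of_not_lt h) h2
theorem lo_1512_1515 : ∀ b, 1512 ≤ b → b < 1515 → ∃ J, chkPBlk P 5 31 18 31671 b J = true := fun b h1 h2 =>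
  if h : b < 1513 then lo_1512_1513 b h1 h else lo_1513_1515 b (Nat.le_of_not_lt h) h2
theorem lo_1510_1515 : ∀ b, 1510 ≤ b → b < 1515 → ∃ J, chkPBlk P 5 31 18 31671 b J = true := fun b h1 h2 =>
  if h : b < 1512 then lo_1510_1512 b h1 h else lo_1512_1515 b (Nat.le_of_not_lt h) h2
theorem lo_1506_1515 : ∀ b, 1506 ≤ b → b < 1515 → ∃ J, chkPBlk P 5 31 18 31671 b J = true := fun b h1 h2 =>
  if h : b < 1510 then lo_1506_1510 b h1 h else lo_1510_1515 b (Nat.le_of_not_lt h) h2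
theorem lo_1515_1516 : ∀ b, 1515 ≤ b → b < 1516 → ∃ J, chkPBlk P 5 31 18 31671 b J = true := fun b h1 h2 => by
  have hb : b = 1515 := Nat.le_antisymm (Nat.le_of_lt_succ h2) h1
  subst hb; exact ⟨_, lblk_1515⟩
theorem lo_1516_1517 : ∀ b, 1516 ≤ b → b < 1517 → ∃ J, chkPBlk P 5 31 18 31671 b J = true := fun b h1 h2 => by
  have hb : b = 1516 := Nat.le_antisymm (Nat.le_of_lt_succ h2) h1
  subst hb; exact ⟨_, lblk_1516⟩
theorem lo_1515_1517 : ∀ b, 1515 ≤ b → b < 1517 → ∃ J, chkPBlk P 5 31 18 31671 b J = true := fun b h1 h2 =>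
  if h : b < 1516 then lo_1515_1516 b h1 h else lo_1516_1517 b (Nat.le_of_not_lt h) h2
theorem lo_1517_1518 : ∀ b, 1517 ≤ b → b < 1518 → ∃ J, chkPBlk P 5 31 18 31671 b J = true := fun b h1 h2 => by
  have hb : b = 1517 := Nat.le_antisymm (Nat.le_of_lt_succ h2) h1
  subst hb; exact ⟨_, lblk_1517⟩
theorem lo_1518_1519 : ∀ b, 1518 ≤ b → b < 1519 → ∃ J, chkPBlk P 5 31 18 31671 b J = true := fun b h1 h2 => by
  have hb : b = 1518 := Nat.le_antisymm (Nat.le_of_lt_succ h2) h1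
  subst hb; exact ⟨_, lblk_1518⟩
theorem lo_1517_1519 : ∀ b, 1517 ≤ b → b < 1519 → ∃ J, chkPBlk P 5 31 18 31671 b J = true := fun b h1 h2 =>
  if h : b < 1518 then lo_1517_1518 b h1 h else lo_1518_1519 b (Nat.le_of_not_lt h) h2
theorem lo_1515_1519 : ∀ b, 1515 ≤ b → b < 1519 → ∃ J, chkPBlk P 5 31 18 31671 b J = true := fun b h1 h2 =>
  if h : b < 1517 then lo_1515_1517 b h1 h else lo_1517_1519 b (Nat.le_of_not_lt h) h2
theorem lo_1519_1520 : ∀ b, 1519 ≤ b → b < 1520 → ∃ J, chkPBlk P 5 31 18 31671 b J = true := fun b h1 h2 => by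
  have hb : b = 1519 := Nat.le_antisymm (Nat.le_of_lt_succ h2) h1
  subst hb; exact ⟨_, lblk_1519⟩
theorem lo_1520_1521 : ∀ b, 1520 ≤ b → b < 1521 → ∃ J, chkPBlk P 5 31 18 31671 b J = true := fun b h1 h2 => by
  have hb : b = 1520 := Nat.le_antisymm (Nat.le_of_lt_succ h2) h1
  subst hb; exact ⟨_, lblk_1520⟩
theorem lo_1519_1521 : ∀ b, 1519 ≤ b → b < 1521 → ∃ J, chkPBlk P 5 31 18 31671 b J = true := fun b h1 h2 =>
  if h : b < 1520 then lo_1519_1520 b h1 h else lo_1520_1521 b (Nat.le_of_not_lt h) h2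
theorem lo_1521_1522 : ∀ b, 1521 ≤ b → b < 1522 → ∃ J, chkPBlk P 5 31 18 31671 b J = true := fun b h1 h2 => by
  have hb : b = 1521 := Nat.le_antisymm (Nat.le_of_lt_succ h2) h1
  subst hb; exact ⟨_, lblk_1521⟩
theorem lo_1522_1523 : ∀ b, 1522 ≤ b → b < 1523 → ∃ J, chkPBlk P 5 31 18 31671 b J = true := fun b h1 h2 => by
  have hb : b = 1522 := Nat.le_antisymm (Nat.le_of_lt_succ h2) h1
  subst hb; exact ⟨_, lblk_1522⟩
theorem lo_1523_1524 : ∀ b, 1523 ≤ b → b < 1524 → ∃ J, chkPBlk P 5 31 18 31671 b J = true := fun b h1 h2 => by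
  have hb : b = 1523 := Nat.le_antisymm (Nat.le_of_lt_succ h2) h1
  subst hb; exact ⟨_, lblk_1523⟩
theorem lo_1522_1524 : ∀ b, 1522 ≤ b → b < 1524 → ∃ J, chkPBlk P 5 31 18 31671 b J = true := fun b h1 h2 =>
  if h : b < 1523 then lo_1522_1523 b h1 h else lo_1523_1524 b (Nat.le_of_not_lt h) h2
theorem lo_1521_1524 : ∀ b, 1521 ≤ b → b < 1524 → ∃ J, chkPBlk P 5 31 18 31671 b J = true := fun b h1 h2 =>
  if h : b < 1522 then lo_1521_1522 b h1 h else lo_1522_1524 b (Nat.le_of_not_lt h) h2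
theorem lo_1519_1524 : ∀ b, 1519 ≤ b → b < 1524 → ∃ J, chkPBlk P 5 31 18 31671 b J = true := fun b h1 h2 =>
  if h : b < 1521 then lo_1519_1521 b h1 h else lo_1521_1524 b (Nat.le_of_not_lt h) h2
theorem lo_1515_1524 : ∀ b, 1515 ≤ b → b < 1524 → ∃ J, chkPBlk P 5 31 18 31671 b J = true := fun b h1 h2 =>
  if h : b < 1519 then lo_1515_1519 b h1 h else lo_1519_1524 b (Nat.le_of_not_lt h) h2
theorem lo_1506_1524 : ∀ b, 1506 ≤ b → b < 1524 → ∃ J, chkPBlk P 5 31 18 31671 b J = true := fun b h1 h2 =>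
  if h : b < 1515 then lo_1506_1515 b h1 h else lo_1515_1524 b (Nat.le_of_not_lt h) h2
theorem lo_1524_1525 : ∀ b, 1524 ≤ b → b < 1525 → ∃ J, chkPBlk P 5 31 18 31671 b J = true := fun b h1 h2 => by
  have hb : b = 1524 := Nat.le_antisymm (Nat.le_of_lt_succ h2) h1
  subst hb; exact ⟨_, lblk_1524⟩
theorem lo_1525_1526 : ∀ b, 1525 ≤ b → b < 1526 → ∃ J, chkPBlk P 5 31 18 31671 b J = true := fun b h1 h2 => by
  have hb : b = 1525 := Nat.le_antisymm (Nat.le_of_lt_succ h2) h1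
  subst hb; exact ⟨_, lblk_1525⟩
theorem lo_1524_1526 : ∀ b, 1524 ≤ b → b < 1526 → ∃ J, chkPBlk P 5 31 18 31671 b J = true := fun b h1 h2 =>
  if h : b < 1525 then lo_1524_1525 b h1 h else lo_1525_1526 b (Nat.le_of_not_lt h) h2
theorem lo_1526_1527 : ∀ b, 1526 ≤ b → b < 1527 → ∃ J, chkPBlk P 5 31 18 31671 b J = true := fun b h1 h2 => by
  have hb : b = 1526 := Nat.le_antisymm (Nat.le_of_lt_succ h2) h1
  subst hb; exact ⟨_, lblk_1526⟩
theorem lo_1527_1528 : ∀ b, 1527 ≤ b → b < 1528 → ∃ J, chkPBlk P 5 31 18 31671 b J = true := fun b h1 h2 => by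
  have hb : b = 1527 := Nat.le_antisymm (Nat.le_of_lt_succ h2) h1
  subst hb; exact ⟨_, lblk_1527⟩
theorem lo_1526_1528 : ∀ b, 1526 ≤ b → b < 1528 → ∃ J, chkPBlk P 5 31 18 31671 b J = true := fun b h1 h2 =>
  if h : b < 1527 then lo_1526_1527 b h1 h else lo_1527_1528 b (Nat.le_of_not_lt h) h2
theorem lo_1524_1528 : ∀ b, 1524 ≤ b → b < 1528 → ∃ J, chkPBlk P 5 31 18 31671 b J = true := fun b h1 h2 =>
  if h : b < 1526 then lo_1524_1526 b h1 h else lo_1526_1528 b (Nat.le_of_not_lt h) h2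
theorem lo_1528_1529 : ∀ b, 1528 ≤ b → b < 1529 → ∃ J, chkPBlk P 5 31 18 31671 b J = true := fun b h1 h2 => by
  have hb : b = 1528 := Nat.le_antisymm (Nat.le_of_lt_succ h2) h1
  subst hb; exact ⟨_, lblk_1528⟩
theorem lo_1529_1530 : ∀ b, 1529 ≤ b → b < 1530 → ∃ J, chkPBlk P 5 31 18 31671 b J = true := fun b h1 h2 => by
  have hb : b = 1529 := Nat.le_antisymm (Nat.le_of_lt_succ h2) h1
  subst hb; exact ⟨_, lblk_1529⟩
theorem lo_1528_1530 : ∀ b, 1528 ≤ b → b < 1530 → ∃ J, chkPBlk P 5 31 18 31671 b J = true := fun b h1 h2 =>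
  if h : b < 1529 then lo_1528_1529 b h1 h else lo_1529_1530 b (Nat.le_of_not_lt h) h2
theorem lo_1530_1531 : ∀ b, 1530 ≤ b → b < 1531 → ∃ J, chkPBlk P 5 31 18 31671 b J = true := fun b h1 h2 => by
  have hb : b = 1530 := Nat.le_antisymm (Nat.le_of_lt_succ h2) h1
  subst hb; exact ⟨_, lblk_1530⟩
theorem lo_1531_1532 : ∀ b, 1531 ≤ b → b < 1532 → ∃ J, chkPBlk P 5 31 18 31671 b J = true := fun b h1 h2 => by
  have hb : b = 1531 := Nat.le_antisymm (Nat.le_of_lt_succ h2) h1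
  subst hb; exact ⟨_, lblk_1531⟩
theorem lo_1532_1533 : ∀ b, 1532 ≤ b → b < 1533 → ∃ J, chkPBlk P 5 31 18 31671 b J = true := fun b h1 h2 => by
  have hb : b = 1532 := Nat.le_antisymm (Nat.le_of_lt_succ h2) h1
  subst hb; exact ⟨_, lblk_1532⟩
theorem lo_1531_1533 : ∀ b, 1531 ≤ b → b < 1533 → ∃ J, chkPBlk P 5 31 18 31671 b J = true := fun b h1 h2 =>
  if h : b < 1532 then lo_1531_1532 b h1 h else lo_1532_1533 b (Nat.le_of_not_lt h) h2
theorem lo_1530_1533 : ∀ b, 1530 ≤ b → b < 1533 → ∃ J, chkPBlk P 5 31 18 31671 b J = true := fun b h1 h2 =>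
  if h : b < 1531 then lo_1530_1531 b h1 h else lo_1531_1533 b (Nat.le_of_not_lt h) h2
theorem lo_1528_1533 : ∀ b, 1528 ≤ b → b < 1533 → ∃ J, chkPBlk P 5 31 18 31671 b J = true := fun b h1 h2 =>
  if h : b < 1530 then lo_1528_1530 b h1 h else lo_1530_1533 b (Nat.le_of_not_lt h) h2
theorem lo_1524_1533 : ∀ b, 1524 ≤ b → b < 1533 → ∃ J, chkPBlk P 5 31 18 31671 b J = true := fun b h1 h2 =>
  if h : b < 1528 then lo_1524_1528 b h1 h else lo_1528_1533 b (Nat.le_of_not_lt h) h2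
theorem lo_1533_1534 : ∀ b, 1533 ≤ b → b < 1534 → ∃ J, chkPBlk P 5 31 18 31671 b J = true := fun b h1 h2 => by
  have hb : b = 1533 := Nat.le_antisymm (Nat.le_of_lt_succ h2) h1
  subst hb; exact ⟨_, lblk_1533⟩
theorem lo_1534_1535 : ∀ b, 1534 ≤ b → b < 1535 → ∃ J, chkPBlk P 5 31 18 31671 b J = true := fun b h1 h2 => by
  have hb : b = 1534 := Nat.le_antisymm (Nat.le_of_lt_succ h2) h1
  subst hb; exact ⟨_, lblk_1534⟩
theorem lo_1533_1535 : ∀ b, 1533 ≤ b → b < 1535 → ∃ J, chkPBlk P 5 31 18 31671 b J = true := fun b h1 h2 =>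
  if h : b < 1534 then lo_1533_1534 b h1 h else lo_1534_1535 b (Nat.le_of_not_lt h) h2
theorem lo_1535_1536 : ∀ b, 1535 ≤ b → b < 1536 → ∃ J, chkPBlk P 5 31 18 31671 b J = true := fun b h1 h2 => by
  have hb : b = 1535 := Nat.le_antisymm (Nat.le_of_lt_succ h2) h1
  subst hb; exact ⟨_, lblk_1535⟩
theorem lo_1536_1537 : ∀ b, 1536 ≤ b → b < 1537 → ∃ J, chkPBlk P 5 31 18 31671 b J = true := fun b h1 h2 => by
  have hb : b = 1536 := Nat.le_antisymm (Nat.le_of_lt_succ h2) h1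
  subst hb; exact ⟨_, lblk_1536⟩
theorem lo_1537_1538 : ∀ b, 1537 ≤ b → b < 1538 → ∃ J, chkPBlk P 5 31 18 31671 b J = true := fun b h1 h2 => by
  have hb : b = 1537 := Nat.le_antisymm (Nat.le_of_lt_succ h2) h1
  subst hb; exact ⟨_, lblk_1537⟩
theorem lo_1536_1538 : ∀ b, 1536 ≤ b → b < 1538 → ∃ J, chkPBlk P 5 31 18 31671 b J = true := fun b h1 h2 =>
  if h : b < 1537 then lo_1536_1537 b h1 h else lo_1537_1538 b (Nat.le_of_not_lt h) h2
theorem lo_1535_1538 : ∀ b, 1535 ≤ b → b < 1538 → ∃ J, chkPBlk P 5 31 18 31671 b J = true := fun b h1 h2 =>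
  if h : b < 1536 then lo_1535_1536 b h1 h else lo_1536_1538 b (Nat.le_of_not_lt h) h2
theorem lo_1533_1538 : ∀ b, 1533 ≤ b → b < 1538 → ∃ J, chkPBlk P 5 31 18 31671 b J = true := fun b h1 h2 =>
  if h : b < 1535 then lo_1533_1535 b h1 h else lo_1535_1538 b (Nat.le_of_not_lt h) h2
theorem lo_1538_1539 : ∀ b, 1538 ≤ b → b < 1539 → ∃ J, chkPBlk P 5 31 18 31671 b J = true := fun b h1 h2 => by
  have hb : b = 1538 := Nat.le_antisymm (Nat.le_of_lt_succ h2) h1
  subst hb; exact ⟨_, lblk_1538⟩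
theorem lo_1539_1540 : ∀ b, 1539 ≤ b → b < 1540 → ∃ J, chkPBlk P 5 31 18 31671 b J = true := fun b h1 h2 => by
  have hb : b = 1539 := Nat.le_antisymm (Nat.le_of_lt_succ h2) h1
  subst hb; exact ⟨_, lblk_1539⟩
theorem lo_1538_1540 : ∀ b, 1538 ≤ b → b < 1540 → ∃ J, chkPBlk P 5 31 18 31671 b J = true := fun b h1 h2 =>
  if h : b < 1539 then lo_1538_1539 b h1 h else lo_1539_1540 b (Nat.le_of_not_lt h) h2
theorem lo_1540_1541 : ∀ b, 1540 ≤ b → b < 1541 → ∃ J, chkPBlk P 5 31 18 31671 b J = true := fun b h1 h2 => by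
  have hb : b = 1540 := Nat.le_antisymm (Nat.le_of_lt_succ h2) h1
  subst hb; exact ⟨_, lblk_1540⟩
theorem lo_1541_1542 : ∀ b, 1541 ≤ b → b < 1542 → ∃ J, chkPBlk P 5 31 18 31671 b J = true := fun b h1 h2 => by
  have hb : b = 1541 := Nat.le_antisymm (Nat.le_of_lt_succ h2) h1
  subst hb; exact ⟨_, lblk_1541⟩
theorem lo_1542_1543 : ∀ b, 1542 ≤ b → b < 1543 → ∃ J, chkPBlk P 5 31 18 31671 b J = true := fun b h1 h2 => by
  have hb : b = 1542 := Nat.le_antisymm (Nat.le_of_lt_succ h2) h1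
  subst hb; exact ⟨_, lblk_1542⟩
theorem lo_1541_1543 : ∀ b, 1541 ≤ b → b < 1543 → ∃ J, chkPBlk P 5 31 18 31671 b J = true := fun b h1 h2 =>
  if h : b < 1542 then lo_1541_1542 b h1 h else lo_1542_1543 b (Nat.le_of_not_lt h) h2
theorem lo_1540_1543 : ∀ b, 1540 ≤ b → b < 1543 → ∃ J, chkPBlk P 5 31 18 31671 b J = true := fun b h1 h2 =>
  if h : b < 1541 then lo_1540_1541 b h1 h else lo_1541_1543 b (Nat.le_of_not_lt h) h2
theorem lo_1538_1543 : ∀ b, 1538 ≤ b → b < 1543 → ∃ J, chkPBlk P 5 31 18 31671 b J = true := fun b h1 h2 =>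
  if h : b < 1540 then lo_1538_1540 b h1 h else lo_1540_1543 b (Nat.le_of_not_lt h) h2
theorem lo_1533_1543 : ∀ b, 1533 ≤ b → b < 1543 → ∃ J, chkPBlk P 5 31 18 31671 b J = true := fun b h1 h2 =>
  if h : b < 1538 then lo_1533_1538 b h1 h else lo_1538_1543 b (Nat.le_of_not_lt h) h2
theorem lo_1524_1543 : ∀ b, 1524 ≤ b → b < 1543 → ∃ J, chkPBlk P 5 31 18 31671 b J = true := fun b h1 h2 =>
  if h : b < 1533 then lo_1524_1533 b h1 h else lo_1533_1543 b (Nat.le_of_not_lt h) h2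
theorem lo_1506_1543 : ∀ b, 1506 ≤ b → b < 1543 → ∃ J, chkPBlk P 5 31 18 31671 b J = true := fun b h1 h2 =>
  if h : b < 1524 then lo_1506_1524 b h1 h else lo_1524_1543 b (Nat.le_of_not_lt h) h2
theorem lo_1470_1543 : ∀ b, 1470 ≤ b → b < 1543 → ∃ J, chkPBlk P 5 31 18 31671 b J = true := fun b h1 h2 =>
  if h : b < 1506 then lo_1470_1506 b h1 h else lo_1506_1543 b (Nat.le_of_not_lt h) h2
theorem lo_1543_1544 : ∀ b, 1543 ≤ b → b < 1544 → ∃ J, chkPBlk P 5 31 18 31671 b J = true := fun b h1 h2 => by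
  have hb : b = 1543 := Nat.le_antisymm (Nat.le_of_lt_succ h2) h1
  subst hb; exact ⟨_, lblk_1543⟩
theorem lo_1544_1545 : ∀ b, 1544 ≤ b → b < 1545 → ∃ J, chkPBlk P 5 31 18 31671 b J = true := fun b h1 h2 => by
  have hb : b = 1544 := Nat.le_antisymm (Nat.le_of_lt_succ h2) h1
  subst hb; exact ⟨_, lblk_1544⟩
theorem lo_1543_1545 : ∀ b, 1543 ≤ b → b < 1545 → ∃ J, chkPBlk P 5 31 18 31671 b J = true := fun b h1 h2 =>
  if h : b < 1544 then lo_1543_1544 b h1 h else lo_1544_1545 b (Nat.le_of_not_lt h) h2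
theorem lo_1545_1546 : ∀ b, 1545 ≤ b → b < 1546 → ∃ J, chkPBlk P 5 31 18 31671 b J = true := fun b h1 h2 => by
  have hb : b = 1545 := Nat.le_antisymm (Nat.le_of_lt_succ h2) h1
  subst hb; exact ⟨_, lblk_1545⟩
theorem lo_1546_1547 : ∀ b, 1546 ≤ b → b < 1547 → ∃ J, chkPBlk P 5 31 18 31671 b J = true := fun b h1 h2 => by
  have hb : b = 1546 := Nat.le_antisymm (Nat.le_of_lt_succ h2) h1
  subst hb; exact ⟨_, lblk_1546⟩
theorem lo_1545_1547 : ∀ b, 1545 ≤ b → b < 1547 → ∃ J, chkPBlk P 5 31 18 31671 b J = true := fun b h1 h2 =>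
  if h : b < 1546 then lo_1545_1546 b h1 h else lo_1546_1547 b (Nat.le_of_not_lt h) h2
theorem lo_1543_1547 : ∀ b, 1543 ≤ b → b < 1547 → ∃ J, chkPBlk P 5 31 18 31671 b J = true := fun b h1 h2 =>
  if h : b < 1545 then lo_1543_1545 b h1 h else lo_1545_1547 b (Nat.le_of_not_lt h) h2
theorem lo_1547_1548 : ∀ b, 1547 ≤ b → b < 1548 → ∃ J, chkPBlk P 5 31 18 31671 b J = true := fun b h1 h2 => by
  have hb : b = 1547 := Nat.le_antisymm (Nat.le_of_lt_succ h2) h1
  subst hb; exact ⟨_, lblk_1547⟩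
theorem lo_1548_1549 : ∀ b, 1548 ≤ b → b < 1549 → ∃ J, chkPBlk P 5 31 18 31671 b J = true := fun b h1 h2 => by
  have hb : b = 1548 := Nat.le_antisymm (Nat.le_of_lt_succ h2) h1
  subst hb; exact ⟨_, lblk_1548⟩
theorem lo_1547_1549 : ∀ b, 1547 ≤ b → b < 1549 → ∃ J, chkPBlk P 5 31 18 31671 b J = true := fun b h1 h2 =>
  if h : b < 1548 then lo_1547_1548 b h1 h else lo_1548_1549 b (Nat.le_of_not_lt h) h2
theorem lo_1549_1550 : ∀ b, 1549 ≤ b → b < 1550 → ∃ J, chkPBlk P 5 31 18 31671 b J = true := fun b h1 h2 => by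
  have hb : b = 1549 := Nat.le_antisymm (Nat.le_of_lt_succ h2) h1
  subst hb; exact ⟨_, lblk_1549⟩
theorem lo_1550_1551 : ∀ b, 1550 ≤ b → b < 1551 → ∃ J, chkPBlk P 5 31 18 31671 b J = true := fun b h1 h2 => by
  have hb : b = 1550 := Nat.le_antisymm (Nat.le_of_lt_succ h2) h1
  subst hb; exact ⟨_, lblk_1550⟩
theorem lo_1551_1552 : ∀ b, 1551 ≤ b → b < 1552 → ∃ J, chkPBlk P 5 31 18 31671 b J = true := fun b h1 h2 => by
  have hb : b = 1551 := Nat.le_antisymm (Nat.le_of_lt_succ h2) h1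
  subst hb; exact ⟨_, lblk_1551⟩
theorem lo_1550_1552 : ∀ b, 1550 ≤ b → b < 1552 → ∃ J, chkPBlk P 5 31 18 31671 b J = true := fun b h1 h2 =>
  if h : b < 1551 then lo_1550_1551 b h1 h else lo_1551_1552 b (Nat.le_of_not_lt h) h2
theorem lo_1549_1552 : ∀ b, 1549 ≤ b → b < 1552 → ∃ J, chkPBlk P 5 31 18 31671 b J = true := fun b h1 h2 =>
  if h : b < 1550 then lo_1549_1550 b h1 h else lo_1550_1552 b (Nat.le_of_not_lt h) h2
theorem lo_1547_1552 : ∀ b, 1547 ≤ b → b < 1552 → ∃ J, chkPBlk P 5 31 18 31671 b J = true := fun b h1 h2 =>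
  if h : b < 1549 then lo_1547_1549 b h1 h else lo_1549_1552 b (Nat.le_of_not_lt h) h2
theorem lo_1543_1552 : ∀ b, 1543 ≤ b → b < 1552 → ∃ J, chkPBlk P 5 31 18 31671 b J = true := fun b h1 h2 =>
  if h : b < 1547 then lo_1543_1547 b h1 h else lo_1547_1552 b (Nat.le_of_not_lt h) h2
theorem lo_1552_1553 : ∀ b, 1552 ≤ b → b < 1553 → ∃ J, chkPBlk P 5 31 18 31671 b J = true := fun b h1 h2 => by
  have hb : b = 1552 := Nat.le_antisymm (Nat.le_of_lt_succ h2) h1
  subst hb; exact ⟨_, lblk_1552⟩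
theorem lo_1553_1554 : ∀ b, 1553 ≤ b → b < 1554 → ∃ J, chkPBlk P 5 31 18 31671 b J = true := fun b h1 h2 => by
  have hb : b = 1553 := Nat.le_antisymm (Nat.le_of_lt_succ h2) h1
  subst hb; exact ⟨_, lblk_1553⟩
theorem lo_1552_1554 : ∀ b, 1552 ≤ b → b < 1554 → ∃ J, chkPBlk P 5 31 18 31671 b J = true := fun b h1 h2 =>
  if h : b < 1553 then lo_1552_1553 b h1 h else lo_1553_1554 b (Nat.le_of_not_lt h) h2
theorem lo_1554_1555 : ∀ b, 1554 ≤ b → b < 1555 → ∃ J, chkPBlk P 5 31 18 31671 b J = true := fun b h1 h2 => by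
  have hb : b = 1554 := Nat.le_antisymm (Nat.le_of_lt_succ h2) h1
  subst hb; exact ⟨_, lblk_1554⟩
theorem lo_1555_1556 : ∀ b, 1555 ≤ b → b < 1556 → ∃ J, chkPBlk P 5 31 18 31671 b J = true := fun b h1 h2 => by
  have hb : b = 1555 := Nat.le_antisymm (Nat.le_of_lt_succ h2) h1
  subst hb; exact ⟨_, lblk_1555⟩
theorem lo_1554_1556 : ∀ b, 1554 ≤ b → b < 1556 → ∃ J, chkPBlk P 5 31 18 31671 b J = true := fun b h1 h2 =>
  if h : b < 1555 then lo_1554_1555 b h1 h else lo_1555_1556 b (Nat.le_of_not_lt h) h2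
theorem lo_1552_1556 : ∀ b, 1552 ≤ b → b < 1556 → ∃ J, chkPBlk P 5 31 18 31671 b J = true := fun b h1 h2 =>
  if h : b < 1554 then lo_1552_1554 b h1 h else lo_1554_1556 b (Nat.le_of_not_lt h) h2
theorem lo_1556_1557 : ∀ b, 1556 ≤ b → b < 1557 → ∃ J, chkPBlk P 5 31 18 31671 b J = true := fun b h1 h2 => by
  have hb : b = 1556 := Nat.le_antisymm (Nat.le_of_lt_succ h2) h1
  subst hb; exact ⟨_, lblk_1556⟩
theorem lo_1557_1558 : ∀ b, 1557 ≤ b → b < 1558 → ∃ J, chkPBlk P 5 31 18 31671 b J = true := fun b h1 h2 => by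
  have hb : b = 1557 := Nat.le_antisymm (Nat.le_of_lt_succ h2) h1
  subst hb; exact ⟨_, lblk_1557⟩
theorem lo_1556_1558 : ∀ b, 1556 ≤ b → b < 1558 → ∃ J, chkPBlk P 5 31 18 31671 b J = true := fun b h1 h2 =>
  if h : b < 1557 then lo_1556_1557 b h1 h else lo_1557_1558 b (Nat.le_of_not_lt h) h2
theorem lo_1558_1559 : ∀ b, 1558 ≤ b → b < 1559 → ∃ J, chkPBlk P 5 31 18 31671 b J = true := fun b h1 h2 => by
  have hb : b = 1558 := Nat.le_antisymm (Nat.le_of_lt_succ h2) h1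
  subst hb; exact ⟨_, lblk_1558⟩
theorem lo_1559_1560 : ∀ b, 1559 ≤ b → b < 1560 → ∃ J, chkPBlk P 5 31 18 31671 b J = true := fun b h1 h2 => by
  have hb : b = 1559 := Nat.le_antisymm (Nat.le_of_lt_succ h2) h1
  subst hb; exact ⟨_, lblk_1559⟩
theorem lo_1560_1561 : ∀ b, 1560 ≤ b → b < 1561 → ∃ J, chkPBlk P 5 31 18 31671 b J = true := fun b h1 h2 => by
  have hb : b = 1560 := Nat.le_antisymm (Nat.le_of_lt_succ h2) h1
  subst hb; exact ⟨_, lblk_1560⟩
theorem lo_1559_1561 : ∀ b, 1559 ≤ b → b < 1561 → ∃ J, chkPBlk P 5 31 18 31671 b J = true := fun b h1 h2 =>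
  if h : b < 1560 then lo_1559_1560 b h1 h else lo_1560_1561 b (Nat.le_of_not_lt h) h2
theorem lo_1558_1561 : ∀ b, 1558 ≤ b → b < 1561 → ∃ J, chkPBlk P 5 31 18 31671 b J = true := fun b h1 h2 =>
  if h : b < 1559 then lo_1558_1559 b h1 h else lo_1559_1561 b (Nat.le_of_not_lt h) h2
theorem lo_1556_1561 : ∀ b, 1556 ≤ b → b < 1561 → ∃ J, chkPBlk P 5 31 18 31671 b J = true := fun b h1 h2 =>
  if h : b < 1558 then lo_1556_1558 b h1 h else lo_1558_1561 b (Nat.le_of_not_lt h) h2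
theorem lo_1552_1561 : ∀ b, 1552 ≤ b → b < 1561 → ∃ J, chkPBlk P 5 31 18 31671 b J = true := fun b h1 h2 =>
  if h : b < 1556 then lo_1552_1556 b h1 h else lo_1556_1561 b (Nat.le_of_not_lt h) h2
theorem lo_1543_1561 : ∀ b, 1543 ≤ b → b < 1561 → ∃ J, chkPBlk P 5 31 18 31671 b J = true := fun b h1 h2 =>
  if h : b < 1552 then lo_1543_1552 b h1 h else lo_1552_1561 b (Nat.le_of_not_lt h) h2
theorem lo_1561_1562 : ∀ b, 1561 ≤ b → b < 1562 → ∃ J, chkPBlk P 5 31 18 31671 b J = true := fun b h1 h2 => by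
  have hb : b = 1561 := Nat.le_antisymm (Nat.le_of_lt_succ h2) h1
  subst hb; exact ⟨_, lblk_1561⟩
theorem lo_1562_1563 : ∀ b, 1562 ≤ b → b < 1563 → ∃ J, chkPBlk P 5 31 18 31671 b J = true := fun b h1 h2 => by
  have hb : b = 1562 := Nat.le_antisymm (Nat.le_of_lt_succ h2) h1
  subst hb; exact ⟨_, lblk_1562⟩
theorem lo_1561_1563 : ∀ b, 1561 ≤ b → b < 1563 → ∃ J, chkPBlk P 5 31 18 31671 b J = true := fun b h1 h2 =>
  if h : b < 1562 then lo_1561_1562 b h1 h else lo_1562_1563 b (Nat.le_of_not_lt h) h2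
theorem lo_1563_1564 : ∀ b, 1563 ≤ b → b < 1564 → ∃ J, chkPBlk P 5 31 18 31671 b J = true := fun b h1 h2 => by
  have hb : b = 1563 := Nat.le_antisymm (Nat.le_of_lt_succ h2) h1
  subst hb; exact ⟨_, lblk_1563⟩
theorem lo_1564_1565 : ∀ b, 1564 ≤ b → b < 1565 → ∃ J, chkPBlk P 5 31 18 31671 b J = true := fun b h1 h2 => by
  have hb : b = 1564 := Nat.le_antisymm (Nat.le_of_lt_succ h2) h1
  subst hb; exact ⟨_, lblk_1564⟩
theorem lo_1563_1565 : ∀ b, 1563 ≤ b → b < 1565 → ∃ J, chkPBlk P 5 31 18 31671 b J = true := fun b h1 h2 =>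
  if h : b < 1564 then lo_1563_1564 b h1 h else lo_1564_1565 b (Nat.le_of_not_lt h) h2
theorem lo_1561_1565 : ∀ b, 1561 ≤ b → b < 1565 → ∃ J, chkPBlk P 5 31 18 31671 b J = true := fun b h1 h2 =>
  if h : b < 1563 then lo_1561_1563 b h1 h else lo_1563_1565 b (Nat.le_of_not_lt h) h2
theorem lo_1565_1566 : ∀ b, 1565 ≤ b → b < 1566 → ∃ J, chkPBlk P 5 31 18 31671 b J = true := fun b h1 h2 => by
  have hb : b = 1565 := Nat.le_antisymm (Nat.le_of_lt_succ h2) h1
  subst hb; exact ⟨_, lblk_1565⟩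
theorem lo_1566_1567 : ∀ b, 1566 ≤ b → b < 1567 → ∃ J, chkPBlk P 5 31 18 31671 b J = true := fun b h1 h2 => by
  have hb : b = 1566 := Nat.le_antisymm (Nat.le_of_lt_succ h2) h1
  subst hb; exact ⟨_, lblk_1566⟩
theorem lo_1565_1567 : ∀ b, 1565 ≤ b → b < 1567 → ∃ J, chkPBlk P 5 31 18 31671 b J = true := fun b h1 h2 =>
  if h : b < 1566 then lo_1565_1566 b h1 h else lo_1566_1567 b (Nat.le_of_not_lt h) h2
theorem lo_1567_1568 : ∀ b, 1567 ≤ b → b < 1568 → ∃ J, chkPBlk P 5 31 18 31671 b J = true := fun b h1 h2 => by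
  have hb : b = 1567 := Nat.le_antisymm (Nat.le_of_lt_succ h2) h1
  subst hb; exact ⟨_, lblk_1567⟩
theorem lo_1568_1569 : ∀ b, 1568 ≤ b → b < 1569 → ∃ J, chkPBlk P 5 31 18 31671 b J = true := fun b h1 h2 => by
  have hb : b = 1568 := Nat.le_antisymm (Nat.le_of_lt_succ h2) h1
  subst hb; exact ⟨_, lblk_1568⟩
theorem lo_1569_1570 : ∀ b, 1569 ≤ b → b < 1570 → ∃ J, chkPBlk P 5 31 18 31671 b J = true := fun b h1 h2 => by
  have hb : b = 1569 := Nat.le_antisymm (Nat.le_of_lt_succ h2) h1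
  subst hb; exact ⟨_, lblk_1569⟩
theorem lo_1568_1570 : ∀ b, 1568 ≤ b → b < 1570 → ∃ J, chkPBlk P 5 31 18 31671 b J = true := fun b h1 h2 =>
  if h : b < 1569 then lo_1568_1569 b h1 h else lo_1569_1570 b (Nat.le_of_not_lt h) h2
theorem lo_1567_1570 : ∀ b, 1567 ≤ b → b < 1570 → ∃ J, chkPBlk P 5 31 18 31671 b J = true := fun b h1 h2 =>
  if h : b < 1568 then lo_1567_1568 b h1 h else lo_1568_1570 b (Nat.le_of_not_lt h) h2
theorem lo_1565_1570 : ∀ b, 1565 ≤ b → b < 1570 → ∃ J, chkPBlk P 5 31 18 31671 b J = true := fun b h1 h2 =>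
  if h : b < 1567 then lo_1565_1567 b h1 h else lo_1567_1570 b (Nat.le_of_not_lt h) h2
theorem lo_1561_1570 : ∀ b, 1561 ≤ b → b < 1570 → ∃ J, chkPBlk P 5 31 18 31671 b J = true := fun b h1 h2 =>
  if h : b < 1565 then lo_1561_1565 b h1 h else lo_1565_1570 b (Nat.le_of_not_lt h) h2
theorem lo_1570_1571 : ∀ b, 1570 ≤ b → b < 1571 → ∃ J, chkPBlk P 5 31 18 31671 b J = true := fun b h1 h2 => by
  have hb : b = 1570 := Nat.le_antisymm (Nat.le_of_lt_succ h2) h1
  subst hb; exact ⟨_, lblk_1570⟩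
theorem lo_1571_1572 : ∀ b, 1571 ≤ b → b < 1572 → ∃ J, chkPBlk P 5 31 18 31671 b J = true := fun b h1 h2 => by
  have hb : b = 1571 := Nat.le_antisymm (Nat.le_of_lt_succ h2) h1
  subst hb; exact ⟨_, lblk_1571⟩
theorem lo_1570_1572 : ∀ b, 1570 ≤ b → b < 1572 → ∃ J, chkPBlk P 5 31 18 31671 b J = true := fun b h1 h2 =>
  if h : b < 1571 then lo_1570_1571 b h1 h else lo_1571_1572 b (Nat.le_of_not_lt h) h2
theorem lo_1572_1573 : ∀ b, 1572 ≤ b → b < 1573 → ∃ J, chkPBlk P 5 31 18 31671 b J = true := fun b h1 h2 => by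
  have hb : b = 1572 := Nat.le_antisymm (Nat.le_of_lt_succ h2) h1
  subst hb; exact ⟨_, lblk_1572⟩
theorem lo_1573_1574 : ∀ b, 1573 ≤ b → b < 1574 → ∃ J, chkPBlk P 5 31 18 31671 b J = true := fun b h1 h2 => by
  have hb : b = 1573 := Nat.le_antisymm (Nat.le_of_lt_succ h2) h1
  subst hb; exact ⟨_, lblk_1573⟩
theorem lo_1574_1575 : ∀ b, 1574 ≤ b → b < 1575 → ∃ J, chkPBlk P 5 31 18 31671 b J = true := fun b h1 h2 => by
  have hb : b = 1574 := Nat.le_antisymm (Nat.le_of_lt_succ h2) h1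
  subst hb; exact ⟨_, lblk_1574⟩
theorem lo_1573_1575 : ∀ b, 1573 ≤ b → b < 1575 → ∃ J, chkPBlk P 5 31 18 31671 b J = true := fun b h1 h2 =>
  if h : b < 1574 then lo_1573_1574 b h1 h else lo_1574_1575 b (Nat.le_of_not_lt h) h2
theorem lo_1572_1575 : ∀ b, 1572 ≤ b → b < 1575 → ∃ J, chkPBlk P 5 31 18 31671 b J = true := fun b h1 h2 =>
  if h : b < 1573 then lo_1572_1573 b h1 h else lo_1573_1575 b (Nat.le_of_not_lt h) h2
theorem lo_1570_1575 : ∀ b, 1570 ≤ b → b < 1575 → ∃ J, chkPBlk P 5 31 18 31671 b J = true := fun b h1 h2 =>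
  if h : b < 1572 then lo_1570_1572 b h1 h else lo_1572_1575 b (Nat.le_of_not_lt h) h2
theorem lo_1575_1576 : ∀ b, 1575 ≤ b → b < 1576 → ∃ J, chkPBlk P 5 31 18 31671 b J = true := fun b h1 h2 => by
  have hb : b = 1575 := Nat.le_antisymm (Nat.le_of_lt_succ h2) h1
  subst hb; exact ⟨_, lblk_1575⟩
theorem lo_1576_1577 : ∀ b, 1576 ≤ b → b < 1577 → ∃ J, chkPBlk P 5 31 18 31671 b J = true := fun b h1 h2 => by
  have hb : b = 1576 := Nat.le_antisymm (Nat.le_of_lt_succ h2) h1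
  subst hb; exact ⟨_, lblk_1576⟩
theorem lo_1575_1577 : ∀ b, 1575 ≤ b → b < 1577 → ∃ J, chkPBlk P 5 31 18 31671 b J = true := fun b h1 h2 =>
  if h : b < 1576 then lo_1575_1576 b h1 h else lo_1576_1577 b (Nat.le_of_not_lt h) h2
theorem lo_1577_1578 : ∀ b, 1577 ≤ b → b < 1578 → ∃ J, chkPBlk P 5 31 18 31671 b J = true := fun b h1 h2 => by
  have hb : b = 1577 := Nat.le_antisymm (Nat.le_of_lt_succ h2) h1
  subst hb; exact ⟨_, lblk_1577⟩
theorem lo_1578_1579 : ∀ b, 1578 ≤ b → b < 1579 → ∃ J, chkPBlk P 5 31 18 31671 b J = true := fun b h1 h2 => by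
  have hb : b = 1578 := Nat.le_antisymm (Nat.le_of_lt_succ h2) h1
  subst hb; exact ⟨_, lblk_1578⟩
theorem lo_1579_1580 : ∀ b, 1579 ≤ b → b < 1580 → ∃ J, chkPBlk P 5 31 18 31671 b J = true := fun b h1 h2 => by
  have hb : b = 1579 := Nat.le_antisymm (Nat.le_of_lt_succ h2) h1
  subst hb; exact ⟨_, lblk_1579⟩
theorem lo_1578_1580 : ∀ b, 1578 ≤ b → b < 1580 → ∃ J, chkPBlk P 5 31 18 31671 b J = true := fun b h1 h2 =>
  if h : b < 1579 then lo_1578_1579 b h1 h else lo_1579_1580 b (Nat.le_of_not_lt h) h2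
theorem lo_1577_1580 : ∀ b, 1577 ≤ b → b < 1580 → ∃ J, chkPBlk P 5 31 18 31671 b J = true := fun b h1 h2 =>
  if h : b < 1578 then lo_1577_1578 b h1 h else lo_1578_1580 b (Nat.le_of_not_lt h) h2
theorem lo_1575_1580 : ∀ b, 1575 ≤ b → b < 1580 → ∃ J, chkPBlk P 5 31 18 31671 b J = true := fun b h1 h2 =>
  if h : b < 1577 then lo_1575_1577 b h1 h else lo_1577_1580 b (Nat.le_of_not_lt h) h2
theorem lo_1570_1580 : ∀ b, 1570 ≤ b → b < 1580 → ∃ J, chkPBlk P 5 31 18 31671 b J = true := fun b h1 h2 =>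
  if h : b < 1575 then lo_1570_1575 b h1 h else lo_1575_1580 b (Nat.le_of_not_lt h) h2
theorem lo_1561_1580 : ∀ b, 1561 ≤ b → b < 1580 → ∃ J, chkPBlk P 5 31 18 31671 b J = true := fun b h1 h2 =>
  if h : b < 1570 then lo_1561_1570 b h1 h else lo_1570_1580 b (Nat.le_of_not_lt h) h2
theorem lo_1543_1580 : ∀ b, 1543 ≤ b → b < 1580 → ∃ J, chkPBlk P 5 31 18 31671 b J = true := fun b h1 h2 =>
  if h : b < 1561 then lo_1543_1561 b h1 h else lo_1561_1580 b (Nat.le_of_not_lt h) h2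
theorem lo_1580_1581 : ∀ b, 1580 ≤ b → b < 1581 → ∃ J, chkPBlk P 5 31 18 31671 b J = true := fun b h1 h2 => by
  have hb : b = 1580 := Nat.le_antisymm (Nat.le_of_lt_succ h2) h1
  subst hb; exact ⟨_, lblk_1580⟩
theorem lo_1581_1582 : ∀ b, 1581 ≤ b → b < 1582 → ∃ J, chkPBlk P 5 31 18 31671 b J = true := fun b h1 h2 => by
  have hb : b = 1581 := Nat.le_antisymm (Nat.le_of_lt_succ h2) h1
  subst hb; exact ⟨_, lblk_1581⟩
theorem lo_1580_1582 : ∀ b, 1580 ≤ b → b < 1582 → ∃ J, chkPBlk P 5 31 18 31671 b J = true := fun b h1 h2 =>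
  if h : b < 1581 then lo_1580_1581 b h1 h else lo_1581_1582 b (Nat.le_of_not_lt h) h2
theorem lo_1582_1583 : ∀ b, 1582 ≤ b → b < 1583 → ∃ J, chkPBlk P 5 31 18 31671 b J = true := fun b h1 h2 => by
  have hb : b = 1582 := Nat.le_antisymm (Nat.le_of_lt_succ h2) h1
  subst hb; exact ⟨_, lblk_1582⟩
theorem lo_1583_1584 : ∀ b, 1583 ≤ b → b < 1584 → ∃ J, chkPBlk P 5 31 18 31671 b J = true := fun b h1 h2 => by
  have hb : b = 1583 := Nat.le_antisymm (Nat.le_of_lt_succ h2) h1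
  subst hb; exact ⟨_, lblk_1583⟩
theorem lo_1582_1584 : ∀ b, 1582 ≤ b → b < 1584 → ∃ J, chkPBlk P 5 31 18 31671 b J = true := fun b h1 h2 =>
  if h : b < 1583 then lo_1582_1583 b h1 h else lo_1583_1584 b (Nat.le_of_not_lt h) h2
theorem lo_1580_1584 : ∀ b, 1580 ≤ b → b < 1584 → ∃ J, chkPBlk P 5 31 18 31671 b J = true := fun b h1 h2 =>
  if h : b < 1582 then lo_1580_1582 b h1 h else lo_1582_1584 b (Nat.le_of_not_lt h) h2
theorem lo_1584_1585 : ∀ b, 1584 ≤ b → b < 1585 → ∃ J, chkPBlk P 5 31 18 31671 b J = true := fun b h1 h2 => by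
  have hb : b = 1584 := Nat.le_antisymm (Nat.le_of_lt_succ h2) h1
  subst hb; exact ⟨_, lblk_1584⟩
theorem lo_1585_1586 : ∀ b, 1585 ≤ b → b < 1586 → ∃ J, chkPBlk P 5 31 18 31671 b J = true := fun b h1 h2 => by
  have hb : b = 1585 := Nat.le_antisymm (Nat.le_of_lt_succ h2) h1
  subst hb; exact ⟨_, lblk_1585⟩
theorem lo_1584_1586 : ∀ b, 1584 ≤ b → b < 1586 → ∃ J, chkPBlk P 5 31 18 31671 b J = true := fun b h1 h2 =>
  if h : b < 1585 then lo_1584_1585 b h1 h else lo_1585_1586 b (Nat.le_of_not_lt h) h2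
theorem lo_1586_1587 : ∀ b, 1586 ≤ b → b < 1587 → ∃ J, chkPBlk P 5 31 18 31671 b J = true := fun b h1 h2 => by
  have hb : b = 1586 := Nat.le_antisymm (Nat.le_of_lt_succ h2) h1
  subst hb; exact ⟨_, lblk_1586⟩
theorem lo_1587_1588 : ∀ b, 1587 ≤ b → b < 1588 → ∃ J, chkPBlk P 5 31 18 31671 b J = true := fun b h1 h2 => by
  have hb : b = 1587 := Nat.le_antisymm (Nat.le_of_lt_succ h2) h1
  subst hb; exact ⟨_, lblk_1587⟩
theorem lo_1588_1589 : ∀ b, 1588 ≤ b → b < 1589 → ∃ J, chkPBlk P 5 31 18 31671 b J = true := fun b h1 h2 => by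
  have hb : b = 1588 := Nat.le_antisymm (Nat.le_of_lt_succ h2) h1
  subst hb; exact ⟨_, lblk_1588⟩
theorem lo_1587_1589 : ∀ b, 1587 ≤ b → b < 1589 → ∃ J, chkPBlk P 5 31 18 31671 b J = true := fun b h1 h2 =>
  if h : b < 1588 then lo_1587_1588 b h1 h else lo_1588_1589 b (Nat.le_of_not_lt h) h2
theorem lo_1586_1589 : ∀ b, 1586 ≤ b → b < 1589 → ∃ J, chkPBlk P 5 31 18 31671 b J = true := fun b h1 h2 =>
  if h : b < 1587 then lo_1586_1587 b h1 h else lo_1587_1589 b (Nat.le_of_not_lt h) h2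
theorem lo_1584_1589 : ∀ b, 1584 ≤ b → b < 1589 → ∃ J, chkPBlk P 5 31 18 31671 b J = true := fun b h1 h2 =>
  if h : b < 1586 then lo_1584_1586 b h1 h else lo_1586_1589 b (Nat.le_of_not_lt h) h2
theorem lo_1580_1589 : ∀ b, 1580 ≤ b → b < 1589 → ∃ J, chkPBlk P 5 31 18 31671 b J = true := fun b h1 h2 =>
  if h : b < 1584 then lo_1580_1584 b h1 h else lo_1584_1589 b (Nat.le_of_not_lt h) h2
theorem lo_1589_1590 : ∀ b, 1589 ≤ b → b < 1590 → ∃ J, chkPBlk P 5 31 18 31671 b J = true := fun b h1 h2 => by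
  have hb : b = 1589 := Nat.le_antisymm (Nat.le_of_lt_succ h2) h1
  subst hb; exact ⟨_, lblk_1589⟩
theorem lo_1590_1591 : ∀ b, 1590 ≤ b → b < 1591 → ∃ J, chkPBlk P 5 31 18 31671 b J = true := fun b h1 h2 => by
  have hb : b = 1590 := Nat.le_antisymm (Nat.le_of_lt_succ h2) h1
  subst hb; exact ⟨_, lblk_1590⟩
theorem lo_1589_1591 : ∀ b, 1589 ≤ b → b < 1591 → ∃ J, chkPBlk P 5 31 18 31671 b J = true := fun b h1 h2 =>
  if h : b < 1590 then lo_1589_1590 b h1 h else lo_1590_1591 b (Nat.le_of_not_lt h) h2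
theorem lo_1591_1592 : ∀ b, 1591 ≤ b → b < 1592 → ∃ J, chkPBlk P 5 31 18 31671 b J = true := fun b h1 h2 => by
  have hb : b = 1591 := Nat.le_antisymm (Nat.le_of_lt_succ h2) h1
  subst hb; exact ⟨_, lblk_1591⟩
theorem lo_1592_1593 : ∀ b, 1592 ≤ b → b < 1593 → ∃ J, chkPBlk P 5 31 18 31671 b J = true := fun b h1 h2 => by
  have hb : b = 1592 := Nat.le_antisymm (Nat.le_of_lt_succ h2) h1
  subst hb; exact ⟨_, lblk_1592⟩
theorem lo_1591_1593 : ∀ b, 1591 ≤ b → b < 1593 → ∃ J, chkPBlk P 5 31 18 31671 b J = true := fun b h1 h2 =>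
  if h : b < 1592 then lo_1591_1592 b h1 h else lo_1592_1593 b (Nat.le_of_not_lt h) h2
theorem lo_1589_1593 : ∀ b, 1589 ≤ b → b < 1593 → ∃ J, chkPBlk P 5 31 18 31671 b J = true := fun b h1 h2 =>
  if h : b < 1591 then lo_1589_1591 b h1 h else lo_1591_1593 b (Nat.le_of_not_lt h) h2
theorem lo_1593_1594 : ∀ b, 1593 ≤ b → b < 1594 → ∃ J, chkPBlk P 5 31 18 31671 b J = true := fun b h1 h2 => by
  have hb : b = 1593 := Nat.le_antisymm (Nat.le_of_lt_succ h2) h1
  subst hb; exact ⟨_, lblk_1593⟩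
theorem lo_1594_1595 : ∀ b, 1594 ≤ b → b < 1595 → ∃ J, chkPBlk P 5 31 18 31671 b J = true := fun b h1 h2 => by
  have hb : b = 1594 := Nat.le_antisymm (Nat.le_of_lt_succ h2) h1
  subst hb; exact ⟨_, lblk_1594⟩
theorem lo_1593_1595 : ∀ b, 1593 ≤ b → b < 1595 → ∃ J, chkPBlk P 5 31 18 31671 b J = true := fun b h1 h2 =>
  if h : b < 1594 then lo_1593_1594 b h1 h else lo_1594_1595 b (Nat.le_of_not_lt h) h2
theorem lo_1595_1596 : ∀ b, 1595 ≤ b → b < 1596 → ∃ J, chkPBlk P 5 31 18 31671 b J = true := fun b h1 h2 => by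
  have hb : b = 1595 := Nat.le_antisymm (Nat.le_of_lt_succ h2) h1
  subst hb; exact ⟨_, lblk_1595⟩
theorem lo_1596_1597 : ∀ b, 1596 ≤ b → b < 1597 → ∃ J, chkPBlk P 5 31 18 31671 b J = true := fun b h1 h2 => by
  have hb : b = 1596 := Nat.le_antisymm (Nat.le_of_lt_succ h2) h1
  subst hb; exact ⟨_, lblk_1596⟩
theorem lo_1597_1598 : ∀ b, 1597 ≤ b → b < 1598 → ∃ J, chkPBlk P 5 31 18 31671 b J = true := fun b h1 h2 => by
  have hb : b = 1597 := Nat.le_antisymm (Nat.le_of_lt_succ h2) h1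
  subst hb; exact ⟨_, lblk_1597⟩
theorem lo_1596_1598 : ∀ b, 1596 ≤ b → b < 1598 → ∃ J, chkPBlk P 5 31 18 31671 b J = true := fun b h1 h2 =>
  if h : b < 1597 then lo_1596_1597 b h1 h else lo_1597_1598 b (Nat.le_of_not_lt h) h2
theorem lo_1595_1598 : ∀ b, 1595 ≤ b → b < 1598 → ∃ J, chkPBlk P 5 31 18 31671 b J = true := fun b h1 h2 =>
  if h : b < 1596 then lo_1595_1596 b h1 h else lo_1596_1598 b (Nat.le_of_not_lt h) h2
theorem lo_1593_1598 : ∀ b, 1593 ≤ b → b < 1598 → ∃ J, chkPBlk P 5 31 18 31671 b J = true := fun b h1 h2 =>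
  if h : b < 1595 then lo_1593_1595 b h1 h else lo_1595_1598 b (Nat.le_of_not_lt h) h2
theorem lo_1589_1598 : ∀ b, 1589 ≤ b → b < 1598 → ∃ J, chkPBlk P 5 31 18 31671 b J = true := fun b h1 h2 =>
  if h : b < 1593 then lo_1589_1593 b h1 h else lo_1593_1598 b (Nat.le_of_not_lt h) h2
theorem lo_1580_1598 : ∀ b, 1580 ≤ b → b < 1598 → ∃ J, chkPBlk P 5 31 18 31671 b J = true := fun b h1 h2 =>
  if h : b < 1589 then lo_1580_1589 b h1 h else lo_1589_1598 b (Nat.le_of_not_lt h) h2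
theorem lo_1598_1599 : ∀ b, 1598 ≤ b → b < 1599 → ∃ J, chkPBlk P 5 31 18 31671 b J = true := fun b h1 h2 => by
  have hb : b = 1598 := Nat.le_antisymm (Nat.le_of_lt_succ h2) h1
  subst hb; exact ⟨_, lblk_1598⟩
theorem lo_1599_1600 : ∀ b, 1599 ≤ b → b < 1600 → ∃ J, chkPBlk P 5 31 18 31671 b J = true := fun b h1 h2 => by
  have hb : b = 1599 := Nat.le_antisymm (Nat.le_of_lt_succ h2) h1
  subst hb; exact ⟨_, lblk_1599⟩
theorem lo_1598_1600 : ∀ b, 1598 ≤ b → b < 1600 → ∃ J, chkPBlk P 5 31 18 31671 b J = true := fun b h1 h2 =>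
  if h : b < 1599 then lo_1598_1599 b h1 h else lo_1599_1600 b (Nat.le_of_not_lt h) h2
theorem lo_1600_1601 : ∀ b, 1600 ≤ b → b < 1601 → ∃ J, chkPBlk P 5 31 18 31671 b J = true := fun b h1 h2 => by
  have hb : b = 1600 := Nat.le_antisymm (Nat.le_of_lt_succ h2) h1
  subst hb; exact ⟨_, lblk_1600⟩
theorem lo_1601_1602 : ∀ b, 1601 ≤ b → b < 1602 → ∃ J, chkPBlk P 5 31 18 31671 b J = true := fun b h1 h2 => by
  have hb : b = 1601 := Nat.le_antisymm (Nat.le_of_lt_succ h2) h1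
  subst hb; exact ⟨_, lblk_1601⟩
theorem lo_1600_1602 : ∀ b, 1600 ≤ b → b < 1602 → ∃ J, chkPBlk P 5 31 18 31671 b J = true := fun b h1 h2 =>
  if h : b < 1601 then lo_1600_1601 b h1 h else lo_1601_1602 b (Nat.le_of_not_lt h) h2
theorem lo_1598_1602 : ∀ b, 1598 ≤ b → b < 1602 → ∃ J, chkPBlk P 5 31 18 31671 b J = true := fun b h1 h2 =>
  if h : b < 1600 then lo_1598_1600 b h1 h else lo_1600_1602 b (Nat.le_of_not_lt h) h2
theorem lo_1602_1603 : ∀ b, 1602 ≤ b → b < 1603 → ∃ J, chkPBlk P 5 31 18 31671 b J = true := fun b h1 h2 => by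
  have hb : b = 1602 := Nat.le_antisymm (Nat.le_of_lt_succ h2) h1
  subst hb; exact ⟨_, lblk_1602⟩
theorem lo_1603_1604 : ∀ b, 1603 ≤ b → b < 1604 → ∃ J, chkPBlk P 5 31 18 31671 b J = true := fun b h1 h2 => by
  have hb : b = 1603 := Nat.le_antisymm (Nat.le_of_lt_succ h2) h1
  subst hb; exact ⟨_, lblk_1603⟩
theorem lo_1602_1604 : ∀ b, 1602 ≤ b → b < 1604 → ∃ J, chkPBlk P 5 31 18 31671 b J = true := fun b h1 h2 =>
  if h : b < 1603 then lo_1602_1603 b h1 h else lo_1603_1604 b (Nat.le_of_not_lt h) h2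
theorem lo_1604_1605 : ∀ b, 1604 ≤ b → b < 1605 → ∃ J, chkPBlk P 5 31 18 31671 b J = true := fun b h1 h2 => by
  have hb : b = 1604 := Nat.le_antisymm (Nat.le_of_lt_succ h2) h1
  subst hb; exact ⟨_, lblk_1604⟩
theorem lo_1605_1606 : ∀ b, 1605 ≤ b → b < 1606 → ∃ J, chkPBlk P 5 31 18 31671 b J = true := fun b h1 h2 => by
  have hb : b = 1605 := Nat.le_antisymm (Nat.le_of_lt_succ h2) h1
  subst hb; exact ⟨_, lblk_1605⟩
theorem lo_1606_1607 : ∀ b, 1606 ≤ b → b < 1607 → ∃ J, chkPBlk P 5 31 18 31671 b J = true := fun b h1 h2 => by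
  have hb : b = 1606 := Nat.le_antisymm (Nat.le_of_lt_succ h2) h1
  subst hb; exact ⟨_, lblk_1606⟩
theorem lo_1605_1607 : ∀ b, 1605 ≤ b → b < 1607 → ∃ J, chkPBlk P 5 31 18 31671 b J = true := fun b h1 h2 =>
  if h : b < 1606 then lo_1605_1606 b h1 h else lo_1606_1607 b (Nat.le_of_not_lt h) h2
theorem lo_1604_1607 : ∀ b, 1604 ≤ b → b < 1607 → ∃ J, chkPBlk P 5 31 18 31671 b J = true := fun b h1 h2 =>
  if h : b < 1605 then lo_1604_1605 b h1 h else lo_1605_1607 b (Nat.le_of_not_lt h) h2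
theorem lo_1602_1607 : ∀ b, 1602 ≤ b → b < 1607 → ∃ J, chkPBlk P 5 31 18 31671 b J = true := fun b h1 h2 =>
  if h : b < 1604 then lo_1602_1604 b h1 h else lo_1604_1607 b (Nat.le_of_not_lt h) h2
theorem lo_1598_1607 : ∀ b, 1598 ≤ b → b < 1607 → ∃ J, chkPBlk P 5 31 18 31671 b J = true := fun b h1 h2 =>
  if h : b < 1602 then lo_1598_1602 b h1 h else lo_1602_1607 b (Nat.le_of_not_lt h) h2
theorem lo_1607_1608 : ∀ b, 1607 ≤ b → b < 1608 → ∃ J, chkPBlk P 5 31 18 31671 b J = true := fun b h1 h2 => by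
  have hb : b = 1607 := Nat.le_antisymm (Nat.le_of_lt_succ h2) h1
  subst hb; exact ⟨_, lblk_1607⟩
theorem lo_1608_1609 : ∀ b, 1608 ≤ b → b < 1609 → ∃ J, chkPBlk P 5 31 18 31671 b J = true := fun b h1 h2 => by
  have hb : b = 1608 := Nat.le_antisymm (Nat.le_of_lt_succ h2) h1
  subst hb; exact ⟨_, lblk_1608⟩
theorem lo_1607_1609 : ∀ b, 1607 ≤ b → b < 1609 → ∃ J, chkPBlk P 5 31 18 31671 b J = true := fun b h1 h2 =>
  if h : b < 1608 then lo_1607_1608 b h1 h else lo_1608_1609 b (Nat.le_of_not_lt h) h2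
theorem lo_1609_1610 : ∀ b, 1609 ≤ b → b < 1610 → ∃ J, chkPBlk P 5 31 18 31671 b J = true := fun b h1 h2 => by
  have hb : b = 1609 := Nat.le_antisymm (Nat.le_of_lt_succ h2) h1
  subst hb; exact ⟨_, lblk_1609⟩
theorem lo_1610_1611 : ∀ b, 1610 ≤ b → b < 1611 → ∃ J, chkPBlk P 5 31 18 31671 b J = true := fun b h1 h2 => by
  have hb : b = 1610 := Nat.le_antisymm (Nat.le_of_lt_succ h2) h1
  subst hb; exact ⟨_, lblk_1610⟩
theorem lo_1611_1612 : ∀ b, 1611 ≤ b → b < 1612 → ∃ J, chkPBlk P 5 31 18 31671 b J = true := fun b h1 h2 => by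
  have hb : b = 1611 := Nat.le_antisymm (Nat.le_of_lt_succ h2) h1
  subst hb; exact ⟨_, lblk_1611⟩
theorem lo_1610_1612 : ∀ b, 1610 ≤ b → b < 1612 → ∃ J, chkPBlk P 5 31 18 31671 b J = true := fun b h1 h2 =>
  if h : b < 1611 then lo_1610_1611 b h1 h else lo_1611_1612 b (Nat.le_of_not_lt h) h2
theorem lo_1609_1612 : ∀ b, 1609 ≤ b → b < 1612 → ∃ J, chkPBlk P 5 31 18 31671 b J = true := fun b h1 h2 =>
  if h : b < 1610 then lo_1609_1610 b h1 h else lo_1610_1612 b (Nat.le_of_not_lt h) h2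
theorem lo_1607_1612 : ∀ b, 1607 ≤ b → b < 1612 → ∃ J, chkPBlk P 5 31 18 31671 b J = true := fun b h1 h2 =>
  if h : b < 1609 then lo_1607_1609 b h1 h else lo_1609_1612 b (Nat.le_of_not_lt h) h2
theorem lo_1612_1613 : ∀ b, 1612 ≤ b → b < 1613 → ∃ J, chkPBlk P 5 31 18 31671 b J = true := fun b h1 h2 => by
  have hb : b = 1612 := Nat.le_antisymm (Nat.le_of_lt_succ h2) h1
  subst hb; exact ⟨_, lblk_1612⟩
theorem lo_1613_1614 : ∀ b, 1613 ≤ b → b < 1614 → ∃ J, chkPBlk P 5 31 18 31671 b J = true := fun b h1 h2 => by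
  have hb : b = 1613 := Nat.le_antisymm (Nat.le_of_lt_succ h2) h1
  subst hb; exact ⟨_, lblk_1613⟩
theorem lo_1612_1614 : ∀ b, 1612 ≤ b → b < 1614 → ∃ J, chkPBlk P 5 31 18 31671 b J = true := fun b h1 h2 =>
  if h : b < 1613 then lo_1612_1613 b h1 h else lo_1613_1614 b (Nat.le_of_not_lt h) h2
theorem lo_1614_1615 : ∀ b, 1614 ≤ b → b < 1615 → ∃ J, chkPBlk P 5 31 18 31671 b J = true := fun b h1 h2 => by
  have hb : b = 1614 := Nat.le_antisymm (Nat.le_of_lt_succ h2) h1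
  subst hb; exact ⟨_, lblk_1614⟩
theorem lo_1615_1616 : ∀ b, 1615 ≤ b → b < 1616 → ∃ J, chkPBlk P 5 31 18 31671 b J = true := fun b h1 h2 => by
  have hb : b = 1615 := Nat.le_antisymm (Nat.le_of_lt_succ h2) h1
  subst hb; exact ⟨_, lblk_1615⟩
theorem lo_1616_1617 : ∀ b, 1616 ≤ b → b < 1617 → ∃ J, chkPBlk P 5 31 18 31671 b J = true := fun b h1 h2 => by
  have hb : b = 1616 := Nat.le_antisymm (Nat.le_of_lt_succ h2) h1
  subst hb; exact ⟨_, lblk_1616⟩
theorem lo_1615_1617 : ∀ b, 1615 ≤ b → b < 1617 → ∃ J, chkPBlk P 5 31 18 31671 b J = true := fun b h1 h2 =>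
  if h : b < 1616 then lo_1615_1616 b h1 h else lo_1616_1617 b (Nat.le_of_not_lt h) h2
theorem lo_1614_1617 : ∀ b, 1614 ≤ b → b < 1617 → ∃ J, chkPBlk P 5 31 18 31671 b J = true := fun b h1 h2 =>
  if h : b < 1615 then lo_1614_1615 b h1 h else lo_1615_1617 b (Nat.le_of_not_lt h) h2
theorem lo_1612_1617 : ∀ b, 1612 ≤ b → b < 1617 → ∃ J, chkPBlk P 5 31 18 31671 b J = true := fun b h1 h2 =>
  if h : b < 1614 then lo_1612_1614 b h1 h else lo_1614_1617 b (Nat.le_of_not_lt h) h2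
theorem lo_1607_1617 : ∀ b, 1607 ≤ b → b < 1617 → ∃ J, chkPBlk P 5 31 18 31671 b J = true := fun b h1 h2 =>
  if h : b < 1612 then lo_1607_1612 b h1 h else lo_1612_1617 b (Nat.le_of_not_lt h) h2
theorem lo_1598_1617 : ∀ b, 1598 ≤ b → b < 1617 → ∃ J, chkPBlk P 5 31 18 31671 b J = true := fun b h1 h2 =>
  if h : b < 1607 then lo_1598_1607 b h1 h else lo_1607_1617 b (Nat.le_of_not_lt h) h2
theorem lo_1580_1617 : ∀ b, 1580 ≤ b → b < 1617 → ∃ J, chkPBlk P 5 31 18 31671 b J = true := fun b h1 h2 =>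
  if h : b < 1598 then lo_1580_1598 b h1 h else lo_1598_1617 b (Nat.le_of_not_lt h) h2
theorem lo_1543_1617 : ∀ b, 1543 ≤ b → b < 1617 → ∃ J, chkPBlk P 5 31 18 31671 b J = true := fun b h1 h2 =>
  if h : b < 1580 then lo_1543_1580 b h1 h else lo_1580_1617 b (Nat.le_of_not_lt h) h2
theorem lo_1470_1617 : ∀ b, 1470 ≤ b → b < 1617 → ∃ J, chkPBlk P 5 31 18 31671 b J = true := fun b h1 h2 =>
  if h : b < 1543 then lo_1470_1543 b h1 h else lo_1543_1617 b (Nat.le_of_not_lt h) h2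

end Cfsg.Agent.Lib.Helper29.S1689
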