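import Cfsg.Agent.Lib.Helper29.S1689.Data

set_option autoImplicit false
set_option Elab.async false

namespace Cfsg.Agent.Lib.Helper29.S1689

open Cfsg.Agent.Lib.Helper29.TcTrace Cfsg.Agent.Lib.Helper29.TcCert Cfsg.Agent.Lib.Helper29.TcPerm

theorem lblk_1617 : chkPBlk P 5 31 18 31671 1617 0x128395063986941ca741866 = true := by decide +kernel
theorem lblk_1618 : chkPBlk P 5 31 18 31671 1618 0x10721ce54a5083910729ca6 = true := by decide +kernel
theorem lblk_1619 : chkPBlk P 5 31 18 31671 1619 0x86291282a0c34a48831488 = true := by decide +kernel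
theorem lblk_1620 : chkPBlk P 5 31 18 31671 1620 0xe5394e6418e541cc7320e6 = true := by decide +kernel
theorem lblk_1621 : chkPBlk P 5 31 18 31671 1621 0xe621426288a328c8828cc7 = true := by decide +kernel
theorem lblk_1622 : chkPBlk P 5 31 18 31671 1622 0xa7310a7310a131446288a3 = true := by decide +kernel
theorem lblk_1623 : chkPBlk P 5 31 18 31671 1623 0xc43a0c6214e621427418c4 = true := by decide +kernel
theorem lblk_1624 : chkPBlk P 5 31 18 31671 1624 0x85098a228c884a0e53a0c3 = true := by decide +kernel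
theorem lblk_1625 : chkPBlk P 5 31 18 31671 1625 0xc43a0c6214e6214c528ce6 = true := by decide +kernel
theorem lblk_1626 : chkPBlk P 5 31 18 31671 1626 0xc44a0e53a0c3310e831887 = true := by decide +kernel
theorem lblk_1627 : chkPBlk P 5 31 18 31671 1627 0x128395063a0c34a0e53a0c3 = true := by decide +kernel
theorem lblk_1628 : chkPBlk P 5 31 18 31671 1628 0x1083a48839528395064a107 = true := by decide +kernel
theorem lblk_1629 : chkPBlk P 5 31 18 31671 1629 0x85398853148941529220c9 = true := by decide +kernel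
theorem lblk_1630 : chkPBlk P 5 31 18 31671 1630 0xe5398674186621cc621cc6 = true := by decide +kernel
theorem lblk_1631 : chkPBlk P 5 31 18 31671 1631 0xe5418e61a528395063a0c3 = true := by decide +kernel
theorem lblk_1632 : chkPBlk P 5 31 18 31671 1632 0x108390e72910729ca64a108 = true := by decide +kernel
theorem lblk_1633 : chkPBlk P 5 31 18 31671 1633 0xa83206629088320e6390a4 = true := by decide +kernel
theorem lblk_1634 : chkPBlk P 5 31 18 31671 1634 0xc5118a228c85390e62a508 = true := by decide +kernel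
theorem lblk_1635 : chkPBlk P 5 31 18 31671 1635 0xc4284c511d06310a7310a1 = true := by decide +kernel
theorem lblk_1636 : chkPBlk P 5 31 18 31671 1636 0xc43a0c621d06310a7310a7 = true := by decide +kernel
theorem lblk_1637 : chkPBlk P 5 31 18 31671 1637 0xc3310e8318854a0e53a0c3 = true := by decide +kernel
theorem lblk_1638 : chkPBlk P 5 31 18 31671 1638 0x1074a0e5418e830d28394e8 = true := by decide +kernel
theorem lblk_1639 : chkPBlk P 5 31 18 31671 1639 0xa7418c429cc4298a519128 = true := by decide +kernel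
theorem lblk_1640 : chkPBlk P 5 31 18 31671 1640 0x10729d0619887418c439886 = true := by decide +kernel
theorem lblk_1641 : chkPBlk P 5 31 18 31671 1641 0x1063a0c34a0e53a0c33a0c9 = true := by decide +kernel
theorem lblk_1642 : chkPBlk P 5 31 18 31671 1642 0x128395063a0c34a1074a0e5 = true := by decide +kernel
theorem lblk_1643 : chkPBlk P 5 31 18 31671 1643 0x107491072a5072a0c24a107 = true := by decide +kernel
theorem lblk_1644 : chkPBlk P 5 31 18 31671 1644 0x107225083a5072a52441928 = true := by decide +kernel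
theorem lblk_1645 : chkPBlk P 5 31 18 31671 1645 0xa94246922129220c92a488 = true := by decide +kernel
theorem lblk_1646 : chkPBlk P 5 31 18 31671 1646 0xc2394c83206730ce3310e6 = true := by decide +kernel
theorem lblk_1647 : chkPBlk P 5 31 18 31671 1647 0xa421ca8394e53248839508 = true := by decide +kernel
theorem lblk_1648 : chkPBlk P 5 31 18 31671 1648 0xa322488319073148441ce4 = true := by decide +kernel
theorem lblk_1649 : chkPBlk P 5 31 18 31671 1649 0x26288a3214e62208829cc5 = true := by decide +kernel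
theorem lblk_1650 : chkPBlk P 5 31 18 31671 1650 0x6621d06310a7310a139885 = true := by decide +kernel
theorem lblk_1651 : chkPBlk P 5 31 18 31671 1651 0x87418c429cc42a50729d06 = true := by decide +kernel
theorem lblk_1652 : chkPBlk P 5 31 18 31671 1652 0xe830d28394e830cc43a0c6 = true := by decide +kernel
theorem lblk_1653 : chkPBlk P 5 31 18 31671 1653 0x12841d28395063a0c34a0e5 = true := by decide +kernel
theorem lblk_1654 : chkPBlk P 5 31 18 31671 1654 0xe5418e830d28394e830cc4 = true := by decide +kernel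
theorem lblk_1655 : chkPBlk P 5 31 18 31671 1655 0x12441ca941ca83092841d28 = true := by decide +kernel
theorem lblk_1656 : chkPBlk P 5 31 18 31671 1656 0x1054186621889491064a107 = true := by decide +kernel
theorem lblk_1657 : chkPBlk P 5 31 18 31671 1657 0x109420e941ca6399253a0c3 = true := by decide +kernel
theorem lblk_1658 : chkPBlk P 5 31 18 31671 1658 0x12839506125083a5072a0c9 = true := by decide +kernel
theorem lblk_1659 : chkPBlk P 5 31 18 31671 1659 0xa830929220c9420e9220e5 = true := by decide +kernel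
theorem lblk_1660 : chkPBlk P 5 31 18 31671 1660 0xc9491064a107491072a507 = true := by decide +kernel
theorem lblk_1661 : chkPBlk P 5 31 18 31671 1661 0x10649524420e44a1074a0e5 = true := by decide +kernel
theorem lblk_1662 : chkPBlk P 5 31 18 31671 1662 0x124425244250848d2442524 = true := by decide +kernel
theorem lblk_1663 : chkPBlk P 5 31 18 31671 1663 0x10912469224692212649524 = true := by decide +kernel
theorem lblk_1664 : chkPBlk P 5 31 18 31671 1664 0xa9218a8210e52908831ca4 = true := by decide +kernel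
theorem lblk_1665 : chkPBlk P 5 31 18 31671 1665 0xc321488218a928d2449cc5 = true := by decide +kernel
theorem lblk_1666 : chkPBlk P 5 31 18 31671 1666 0x6830c87418c44a10942108 = true := by decide +kernel
theorem lblk_1667 : chkPBlk P 5 31 18 31671 1667 0xe54190741ca63250729d06 = true := by decide +kernel
theorem lblk_1668 : chkPBlk P 5 31 18 31671 1668 0x12441ca941ca83092841d28 = true := by decide +kernel
theorem lblk_1669 : chkPBlk P 5 31 18 31671 1669 0x1072a0c741869491064a107 = true := by decide +kernel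
theorem lblk_1670 : chkPBlk P 5 31 18 31671 1670 0xe9220e54a0e541849420e9 = true := by decide +kernel
theorem lblk_1671 : chkPBlk P 5 31 18 31671 1671 0x1083a488395064a48832508 = true := by decide +kernel
theorem lblk_1672 : chkPBlk P 5 31 18 31671 1672 0x6922129220c92a48841c89 = true := by decide +kernel
theorem lblk_1673 : chkPBlk P 5 31 18 31671 1673 0x1244192841ca54950641469 = true := by decide +kernel
theorem lblk_1674 : chkPBlk P 5 31 18 31671 1674 0xe9220e5419294a1074a0e5 = true := by decide +kernel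
theorem lblk_1675 : chkPBlk P 5 31 18 31671 1675 0x884a488324a92210722508 = true := by decide +kernel
theorem lblk_1676 : chkPBlk P 5 31 18 31671 1676 0x124420e44a1074a0e532469 = true := by decide +kernel
theorem lblk_1677 : chkPBlk P 5 31 18 31671 1677 0x8832508390e54a529220c9 = true := by decide +kernel
theorem lblk_1678 : chkPBlk P 5 31 18 31671 1678 0x6922126495244910641d29 = true := by decide +kernel
theorem lblk_1679 : chkPBlk P 5 31 18 31671 1679 0x1251a52349129424491a489 = true := by decide +kernel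
theorem lblk_1680 : chkPBlk P 5 31 18 31671 1680 0x12249468489234912749925 = true := by decide +kernel
theorem lblk_1681 : chkPBlk P 5 31 18 31671 1681 0x125398c929cc9420c342428 = true := by decide +kernel
theorem lblk_1682 : chkPBlk P 5 31 18 31671 1682 0xa83a0e5319061a52949126 = true := by decide +kernel
theorem lblk_1683 : chkPBlk P 5 31 18 31671 1683 0x129220c9420e9220e541ce5 = true := by decide +kernel
theorem lblk_1684 : chkPBlk P 5 31 18 31671 1684 0x12549108391283a48839506 = true := by decide +kernel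
theorem lblk_1685 : chkPBlk P 5 31 18 31671 1685 0x10922128395061252949106 = true := by decide +kernel
theorem lblk_1686 : chkPBlk P 5 31 18 31671 1686 0x89420e9220e54192922128 = true := by decide +kernel
theorem lblk_1687 : chkPBlk P 5 31 18 31671 1687 0xa91a4884a488324a922107 = true := by decide +kernel
theorem lblk_1688 : chkPBlk P 5 31 18 31671 1688 0xc83a524419292210722507 = true := by decide +kernel
theorem lblk_1689 : chkPBlk P 5 31 18 31671 1689 0x494a46922109324a922488 = true := by decide +kernel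
theorem lblk_1690 : chkPBlk P 5 31 18 31671 1690 0x1084a0a94a5083908831509 = true := by decide +kernel
theorem lblk_1691 : chkPBlk P 5 31 18 31671 1691 0x12649529220c84a48832524 = true := by decide +kernel
theorem lblk_1692 : chkPBlk P 5 31 18 31671 1692 0x8832508390a9125291a488 = true := by decide +kernel
theorem lblk_1693 : chkPBlk P 5 31 18 31671 1693 0x106421234a4a92248832129 = true := by decide +kernel
theorem lblk_1694 : chkPBlk P 5 31 18 31671 1694 0x12928d244248648d2442524 = true := by decide +kernel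
theorem lblk_1695 : chkPBlk P 5 31 18 31671 1695 0x121424492a12248d2449d26 = true := by decide +kernel
theorem lblk_1696 : chkPBlk P 5 31 18 31671 1696 0x109124a93a509324a242528 = true := by decide +kernel
theorem lblk_1697 : chkPBlk P 5 31 18 31671 1697 0x129388884a1214252512121 = true := by decide +kernel
theorem lblk_1698 : chkPBlk P 5 31 18 31671 1698 0xc949108390e8395253a4c7 = true := by decide +kernel
theorem lblk_1699 : chkPBlk P 5 31 18 31671 1699 0xc92a50722488395294a488 = true := by decide +kernel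
theorem lblk_1700 : chkPBlk P 5 31 18 31671 1700 0x10848d28499254a488320e9 = true := by decide +kernel
theorem lblk_1701 : chkPBlk P 5 31 18 31671 1701 0xe548d244a4892a48942124 = true := by decide +kernel
theorem lblk_1702 : chkPBlk P 5 31 18 31671 1702 0x10641d29220c94910839128 = true := by decide +kernel
theorem lblk_1703 : chkPBlk P 5 31 18 31671 1703 0x1224a523491084992549124 = true := by decide +kernel
theorem lblk_1704 : chkPBlk P 5 31 18 31671 1704 0x108495244910641d2841c88 = true := by decide +kernel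
theorem lblk_1705 : chkPBlk P 5 31 18 31671 1705 0x126495251a4884910648d24 = true := by decide +kernel
theorem lblk_1706 : chkPBlk P 5 31 18 31671 1706 0x129221090a10912469424e8 = true := by decide +kernel
theorem lblk_1707 : chkPBlk P 5 31 18 31671 1707 0xa34910922524424a949128 = true := by decide +kernel
theorem lblk_1708 : chkPBlk P 5 31 18 31671 1708 0x129491084852248d293a4c9 = true := by decide +kernel
theorem lblk_1709 : chkPBlk P 5 31 18 31671 1709 0x124424884a52928d2449123 = true := by decide +kernel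
theorem lblk_1710 : chkPBlk P 5 31 18 31671 1710 0x126494491a4891a12949123 = true := by decide +kernel
theorem lblk_1711 : chkPBlk P 5 31 18 31671 1711 0x1090a12848509124a34a4e8 = true := by decide +kernel
theorem lblk_1712 : chkPBlk P 5 31 18 31671 1712 0x12442509425094992542109 = true := by decide +kernel
theorem lblk_1713 : chkPBlk P 5 31 18 31671 1713 0x12441907424c5220884a109 = true := by decide +kernel
theorem lblk_1714 : chkPBlk P 5 31 18 31671 1714 0x108499244a50748d2849524 = true := by decide +kernel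
theorem lblk_1715 : chkPBlk P 5 31 18 31671 1715 0x1292252849d09324a349124 = true := by decide +kernel
theorem lblk_1716 : chkPBlk P 5 31 18 31671 1716 0xe9420e8489291a1292a524 = true := by decide +kernel
theorem lblk_1717 : chkPBlk P 5 31 18 31671 1717 0x88491091a50849529220c8 = true := by decide +kernel
theorem lblk_1718 : chkPBlk P 5 31 18 31671 1718 0x121421224a509424c949469 = true := by decide +kernel
theorem lblk_1719 : chkPBlk P 5 31 18 31671 1719 0x1292a4a3491092212922108 = true := by decide +kernel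
theorem lblk_1720 : chkPBlk P 5 31 18 31671 1720 0x1251a48928d244212248d28 = true := by decide +kernel
theorem lblk_1721 : chkPBlk P 5 31 18 31671 1721 0x1090a1284a12742509324a2 = true := by decide +kernel
theorem lblk_1722 : chkPBlk P 5 31 18 31671 1722 0x491a4894a5292a48949109 = true := by decide +kernel
theorem lblk_1723 : chkPBlk P 5 31 18 31671 1723 0x12248d24491294a52849925 = true := by decide +kernel
theorem lblk_1724 : chkPBlk P 5 31 18 31671 1724 0x1094252922468425254a468 = true := by decide +kernel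
theorem lblk_1725 : chkPBlk P 5 31 18 31671 1725 0x127424c928509124a342448 = true := by decide +kernel
theorem lblk_1726 : chkPBlk P 5 31 18 31671 1726 0x109491084a0884a1284a528 = true := by decide +kernel
theorem lblk_1727 : chkPBlk P 5 31 18 31671 1727 0x8849ca3214882110829108 = true := by decide +kernel
theorem lblk_1728 : chkPBlk P 5 31 18 31671 1728 0x1093a50922509495251a489 = true := by decide +kernel
theorem lblk_1729 : chkPBlk P 5 31 18 31671 1729 0x12942509424e84992949524 = true := by decide +kernel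
theorem lblk_1730 : chkPBlk P 5 31 18 31671 1730 0x6922124425244212842508 = true := by decide +kernel
theorem lblk_1731 : chkPBlk P 5 31 18 31671 1731 0xc912524494692212942525 = true := by decide +kernel
theorem lblk_1732 : chkPBlk P 5 31 18 31671 1732 0x891a489221284a1084a109 = true := by decide +kernel
theorem lblk_1733 : chkPBlk P 5 31 18 31671 1733 0x108499094944928d2449469 = true := by decide +kernel
theorem lblk_1734 : chkPBlk P 5 31 18 31671 1734 0x125424c9289251a4884a122 = true := by decide +kernel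
theorem lblk_1735 : chkPBlk P 5 31 18 31671 1735 0x1044250849d09324a142525 = true := by decide +kernel
theorem lblk_1736 : chkPBlk P 5 31 18 31671 1736 0x109324a84a5084a50941109 = true := by decide +kernel
theorem lblk_1737 : chkPBlk P 5 31 18 31671 1737 0x128491084a109425094a509 = true := by decide +kernel
theorem lblk_1738 : chkPBlk P 5 31 18 31671 1738 0x124425094a1284a50922108 = true := by decide +kernel
theorem lblk_1739 : chkPBlk P 5 31 18 31671 1739 0x64218a3210a82910442108 = true := by decide +kernel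
theorem lblk_1740 : chkPBlk P 5 31 18 31671 1740 0x10942509425254952522125 = true := by decide +kernel
theorem lblk_1741 : chkPBlk P 5 31 18 31671 1741 0x884110841109424e842129 = true := by decide +kernel
theorem lblk_1742 : chkPBlk P 5 31 18 31671 1742 0x1224a1084a529224a349129 = true := by decide +kernel
theorem lblk_1743 : chkPBlk P 5 31 18 31671 1743 0x1224a504411084a1284a126 = true := by decide +kernel
theorem lblk_1744 : chkPBlk P 5 31 18 31671 1744 0x12842528499294252512468 = true := by decide +kernel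
theorem lblk_1745 : chkPBlk P 5 31 18 31671 1745 0x1284a1284a5094a48842488 = true := by decide +kernel
theorem lblk_1746 : chkPBlk P 5 31 18 31671 1746 0xa44106421109221284a508 = true := by decide +kernel
theorem lblk_1747 : chkPBlk P 5 31 18 31671 1747 0x8841108421084a12842108 = true := by decide +kernel
theorem lblk_1748 : chkPBlk P 5 31 18 31671 1748 0x8522088411084110522105 = true := by decide +kernel
theorem lblk_1749 : chkPBlk P 5 31 18 31671 1749 0x884a108221094250931484 = true := by decide +kernel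
theorem lblk_1750 : chkPBlk P 5 31 18 31671 1750 0x1284a084421094252942464 = true := by decide +kernel
theorem lblk_1751 : chkPBlk P 5 31 18 31671 1751 0x12942509420a41908822108 = true := by decide +kernel
theorem lblk_1752 : chkPBlk P 5 31 18 31671 1752 0x108420a41a0844210942108 = true := by decide +kernel
theorem lblk_1753 : chkPBlk P 5 31 18 31671 1753 0x63220a4411082110822088 = true := by decide +kernel
theorem lblk_1754 : chkPBlk P 5 31 18 31671 1754 0x8421485218a42148422102 = true := by decide +kernel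
theorem lblk_1755 : chkPBlk P 5 31 18 31671 1755 0x108421021910419108418a4 = true := by decide +kernel
theorem lblk_1756 : chkPBlk P 5 31 18 31671 1756 0x10422108220642908822084 = true := by decide +kernel
theorem lblk_1757 : chkPBlk P 5 31 18 31671 1757 0x852108321484210a319484 = true := by decide +kernel
theorem lblk_1758 : chkPBlk P 5 31 18 31671 1758 0x642908410c86294a4218a3 = true := by decide +kernel
theorem lblk_1759 : chkPBlk P 5 31 18 31671 1759 0x52946518ca4 = true := by decide +kernel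
theorem lo_1617_1618 : ∀ b, 1617 ≤ b → b < 1618 → ∃ J, chkPBlk P 5 31 18 31671 b J = true := fun b h1 h2 => by
  have hb : b = 1617 := Nat.le_antisymm (Nat.le_of_lt_succ h2) h1
  subst hb; exact ⟨_, lblk_1617⟩
theorem lo_1618_1619 : ∀ b, 1618 ≤ b → b < 1619 → ∃ J, chkPBlk P 5 31 18 31671 b J = true := fun b h1 h2 => by
  have hb : b = 1618 := Nat.le_antisymm (Nat.le_of_lt_succ h2) h1
  subst hb; exact ⟨_, lblk_1618⟩
theorem lo_1617_1619 : ∀ b, 1617 ≤ b → b < 1619 → ∃ J, chkPBlk P 5 31 18 31671 b J = true := fun b h1 h2 =>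
  if h : b < 1618 then lo_1617_1618 b h1 h else lo_1618_1619 b (Nat.le_of_not_lt h) h2
theorem lo_1619_1620 : ∀ b, 1619 ≤ b → b < 1620 → ∃ J, chkPBlk P 5 31 18 31671 b J = true := fun b h1 h2 => by
  have hb : b = 1619 := Nat.le_antisymm (Nat.le_of_lt_succ h2) h1
  subst hb; exact ⟨_, lblk_1619⟩
theorem lo_1620_1621 : ∀ b, 1620 ≤ b → b < 1621 → ∃ J, chkPBlk P 5 31 18 31671 b J = true := fun b h1 h2 => by
  have hb : b = 1620 := Nat.le_antisymm (Nat.le_of_lt_succ h2) h1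
  subst hb; exact ⟨_, lblk_1620⟩
theorem lo_1619_1621 : ∀ b, 1619 ≤ b → b < 1621 → ∃ J, chkPBlk P 5 31 18 31671 b J = true := fun b h1 h2 =>
  if h : b < 1620 then lo_1619_1620 b h1 h else lo_1620_1621 b (Nat.le_of_not_lt h) h2
theorem lo_1617_1621 : ∀ b, 1617 ≤ b → b < 1621 → ∃ J, chkPBlk P 5 31 18 31671 b J = true := fun b h1 h2 =>
  if h : b < 1619 then lo_1617_1619 b h1 h else lo_1619_1621 b (Nat.le_of_not_lt h) h2
theorem lo_1621_1622 : ∀ b, 1621 ≤ b → b < 1622 → ∃ J, chkPBlk P 5 31 18 31671 b J = true := fun b h1 h2 => by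
  have hb : b = 1621 := Nat.le_antisymm (Nat.le_of_lt_succ h2) h1
  subst hb; exact ⟨_, lblk_1621⟩
theorem lo_1622_1623 : ∀ b, 1622 ≤ b → b < 1623 → ∃ J, chkPBlk P 5 31 18 31671 b J = true := fun b h1 h2 => by
  have hb : b = 1622 := Nat.le_antisymm (Nat.le_of_lt_succ h2) h1
  subst hb; exact ⟨_, lblk_1622⟩
theorem lo_1621_1623 : ∀ b, 1621 ≤ b → b < 1623 → ∃ J, chkPBlk P 5 31 18 31671 b J = true := fun b h1 h2 =>
  if h : b < 1622 then lo_1621_1622 b h1 h else lo_1622_1623 b (Nat.le_of_not_lt h) h2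
theorem lo_1623_1624 : ∀ b, 1623 ≤ b → b < 1624 → ∃ J, chkPBlk P 5 31 18 31671 b J = true := fun b h1 h2 => by
  have hb : b = 1623 := Nat.le_antisymm (Nat.le_of_lt_succ h2) h1
  subst hb; exact ⟨_, lblk_1623⟩
theorem lo_1624_1625 : ∀ b, 1624 ≤ b → b < 1625 → ∃ J, chkPBlk P 5 31 18 31671 b J = true := fun b h1 h2 => by
  have hb : b = 1624 := Nat.le_antisymm (Nat.le_of_lt_succ h2) h1
  subst hb; exact ⟨_, lblk_1624⟩
theorem lo_1623_1625 : ∀ b, 1623 ≤ b → b < 1625 → ∃ J, chkPBlk P 5 31 18 31671 b J = true := fun b h1 h2 =>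
  if h : b < 1624 then lo_1623_1624 b h1 h else lo_1624_1625 b (Nat.le_of_not_lt h) h2
theorem lo_1621_1625 : ∀ b, 1621 ≤ b → b < 1625 → ∃ J, chkPBlk P 5 31 18 31671 b J = true := fun b h1 h2 =>
  if h : b < 1623 then lo_1621_1623 b h1 h else lo_1623_1625 b (Nat.le_of_not_lt h) h2
theorem lo_1617_1625 : ∀ b, 1617 ≤ b → b < 1625 → ∃ J, chkPBlk P 5 31 18 31671 b J = true := fun b h1 h2 =>
  if h : b < 1621 then lo_1617_1621 b h1 h else lo_1621_1625 b (Nat.le_of_not_lt h) h2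
theorem lo_1625_1626 : ∀ b, 1625 ≤ b → b < 1626 → ∃ J, chkPBlk P 5 31 18 31671 b J = true := fun b h1 h2 => by
  have hb : b = 1625 := Nat.le_antisymm (Nat.le_of_lt_succ h2) h1
  subst hb; exact ⟨_, lblk_1625⟩
theorem lo_1626_1627 : ∀ b, 1626 ≤ b → b < 1627 → ∃ J, chkPBlk P 5 31 18 31671 b J = true := fun b h1 h2 => by
  have hb : b = 1626 := Nat.le_antisymm (Nat.le_of_lt_succ h2) h1
  subst hb; exact ⟨_, lblk_1626⟩
theorem lo_1625_1627 : ∀ b, 1625 ≤ b → b < 1627 → ∃ J, chkPBlk P 5 31 18 31671 b J = true := fun b h1 h2 =>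
  if h : b < 1626 then lo_1625_1626 b h1 h else lo_1626_1627 b (Nat.le_of_not_lt h) h2
theorem lo_1627_1628 : ∀ b, 1627 ≤ b → b < 1628 → ∃ J, chkPBlk P 5 31 18 31671 b J = true := fun b h1 h2 => by
  have hb : b = 1627 := Nat.le_antisymm (Nat.le_of_lt_succ h2) h1
  subst hb; exact ⟨_, lblk_1627⟩
theorem lo_1628_1629 : ∀ b, 1628 ≤ b → b < 1629 → ∃ J, chkPBlk P 5 31 18 31671 b J = true := fun b h1 h2 => by
  have hb : b = 1628 := Nat.le_antisymm (Nat.le_of_lt_succ h2) h1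
  subst hb; exact ⟨_, lblk_1628⟩
theorem lo_1627_1629 : ∀ b, 1627 ≤ b → b < 1629 → ∃ J, chkPBlk P 5 31 18 31671 b J = true := fun b h1 h2 =>
  if h : b < 1628 then lo_1627_1628 b h1 h else lo_1628_1629 b (Nat.le_of_not_lt h) h2
theorem lo_1625_1629 : ∀ b, 1625 ≤ b → b < 1629 → ∃ J, chkPBlk P 5 31 18 31671 b J = true := fun b h1 h2 =>
  if h : b < 1627 then lo_1625_1627 b h1 h else lo_1627_1629 b (Nat.le_of_not_lt h) h2
theorem lo_1629_1630 : ∀ b, 1629 ≤ b → b < 1630 → ∃ J, chkPBlk P 5 31 18 31671 b J = true := fun b h1 h2 => by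
  have hb : b = 1629 := Nat.le_antisymm (Nat.le_of_lt_succ h2) h1
  subst hb; exact ⟨_, lblk_1629⟩
theorem lo_1630_1631 : ∀ b, 1630 ≤ b → b < 1631 → ∃ J, chkPBlk P 5 31 18 31671 b J = true := fun b h1 h2 => by
  have hb : b = 1630 := Nat.le_antisymm (Nat.le_of_lt_succ h2) h1
  subst hb; exact ⟨_, lblk_1630⟩
theorem lo_1629_1631 : ∀ b, 1629 ≤ b → b < 1631 → ∃ J, chkPBlk P 5 31 18 31671 b J = true := fun b h1 h2 =>
  if h : b < 1630 then lo_1629_1630 b h1 h else lo_1630_1631 b (Nat.le_of_not_lt h) h2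
theorem lo_1631_1632 : ∀ b, 1631 ≤ b → b < 1632 → ∃ J, chkPBlk P 5 31 18 31671 b J = true := fun b h1 h2 => by
  have hb : b = 1631 := Nat.le_antisymm (Nat.le_of_lt_succ h2) h1
  subst hb; exact ⟨_, lblk_1631⟩
theorem lo_1632_1633 : ∀ b, 1632 ≤ b → b < 1633 → ∃ J, chkPBlk P 5 31 18 31671 b J = true := fun b h1 h2 => by
  have hb : b = 1632 := Nat.le_antisymm (Nat.le_of_lt_succ h2) h1
  subst hb; exact ⟨_, lblk_1632⟩
theorem lo_1633_1634 : ∀ b, 1633 ≤ b → b < 1634 → ∃ J, chkPBlk P 5 31 18 31671 b J = true := fun b h1 h2 => by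
  have hb : b = 1633 := Nat.le_antisymm (Nat.le_of_lt_succ h2) h1
  subst hb; exact ⟨_, lblk_1633⟩
theorem lo_1632_1634 : ∀ b, 1632 ≤ b → b < 1634 → ∃ J, chkPBlk P 5 31 18 31671 b J = true := fun b h1 h2 =>
  if h : b < 1633 then lo_1632_1633 b h1 h else lo_1633_1634 b (Nat.le_of_not_lt h) h2
theorem lo_1631_1634 : ∀ b, 1631 ≤ b → b < 1634 → ∃ J, chkPBlk P 5 31 18 31671 b J = true := fun b h1 h2 =>
  if h : b < 1632 then lo_1631_1632 b h1 h else lo_1632_1634 b (Nat.le_of_not_lt h) h2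
theorem lo_1629_1634 : ∀ b, 1629 ≤ b → b < 1634 → ∃ J, chkPBlk P 5 31 18 31671 b J = true := fun b h1 h2 =>
  if h : b < 1631 then lo_1629_1631 b h1 h else lo_1631_1634 b (Nat.le_of_not_lt h) h2
theorem lo_1625_1634 : ∀ b, 1625 ≤ b → b < 1634 → ∃ J, chkPBlk P 5 31 18 31671 b J = true := fun b h1 h2 =>
  if h : b < 1629 then lo_1625_1629 b h1 h else lo_1629_1634 b (Nat.le_of_not_lt h) h2
theorem lo_1617_1634 : ∀ b, 1617 ≤ b → b < 1634 → ∃ J, chkPBlk P 5 31 18 31671 b J = true := fun b h1 h2 =>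
  if h : b < 1625 then lo_1617_1625 b h1 h else lo_1625_1634 b (Nat.le_of_not_lt h) h2
theorem lo_1634_1635 : ∀ b, 1634 ≤ b → b < 1635 → ∃ J, chkPBlk P 5 31 18 31671 b J = true := fun b h1 h2 => by
  have hb : b = 1634 := Nat.le_antisymm (Nat.le_of_lt_succ h2) h1
  subst hb; exact ⟨_, lblk_1634⟩
theorem lo_1635_1636 : ∀ b, 1635 ≤ b → b < 1636 → ∃ J, chkPBlk P 5 31 18 31671 b J = true := fun b h1 h2 => by
  have hb : b = 1635 := Nat.le_antisymm (Nat.le_of_lt_succ h2) h1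
  subst hb; exact ⟨_, lblk_1635⟩
theorem lo_1634_1636 : ∀ b, 1634 ≤ b → b < 1636 → ∃ J, chkPBlk P 5 31 18 31671 b J = true := fun b h1 h2 =>
  if h : b < 1635 then lo_1634_1635 b h1 h else lo_1635_1636 b (Nat.le_of_not_lt h) h2
theorem lo_1636_1637 : ∀ b, 1636 ≤ b → b < 1637 → ∃ J, chkPBlk P 5 31 18 31671 b J = true := fun b h1 h2 => by
  have hb : b = 1636 := Nat.le_antisymm (Nat.le_of_lt_succ h2) h1
  subst hb; exact ⟨_, lblk_1636⟩
theorem lo_1637_1638 : ∀ b, 1637 ≤ b → b < 1638 → ∃ J, chkPBlk P 5 31 18 31671 b J = true := fun b h1 h2 => by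
  have hb : b = 1637 := Nat.le_antisymm (Nat.le_of_lt_succ h2) h1
  subst hb; exact ⟨_, lblk_1637⟩
theorem lo_1636_1638 : ∀ b, 1636 ≤ b → b < 1638 → ∃ J, chkPBlk P 5 31 18 31671 b J = true := fun b h1 h2 =>
  if h : b < 1637 then lo_1636_1637 b h1 h else lo_1637_1638 b (Nat.le_of_not_lt h) h2
theorem lo_1634_1638 : ∀ b, 1634 ≤ b → b < 1638 → ∃ J, chkPBlk P 5 31 18 31671 b J = true := fun b h1 h2 =>
  if h : b < 1636 then lo_1634_1636 b h1 h else lo_1636_1638 b (Nat.le_of_not_lt h) h2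
theorem lo_1638_1639 : ∀ b, 1638 ≤ b → b < 1639 → ∃ J, chkPBlk P 5 31 18 31671 b J = true := fun b h1 h2 => by
  have hb : b = 1638 := Nat.le_antisymm (Nat.le_of_lt_succ h2) h1
  subst hb; exact ⟨_, lblk_1638⟩
theorem lo_1639_1640 : ∀ b, 1639 ≤ b → b < 1640 → ∃ J, chkPBlk P 5 31 18 31671 b J = true := fun b h1 h2 => by
  have hb : b = 1639 := Nat.le_antisymm (Nat.le_of_lt_succ h2) h1
  subst hb; exact ⟨_, lblk_1639⟩
theorem lo_1638_1640 : ∀ b, 1638 ≤ b → b < 1640 → ∃ J, chkPBlk P 5 31 18 31671 b J = true := fun b h1 h2 =>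
  if h : b < 1639 then lo_1638_1639 b h1 h else lo_1639_1640 b (Nat.le_of_not_lt h) h2
theorem lo_1640_1641 : ∀ b, 1640 ≤ b → b < 1641 → ∃ J, chkPBlk P 5 31 18 31671 b J = true := fun b h1 h2 => by
  have hb : b = 1640 := Nat.le_antisymm (Nat.le_of_lt_succ h2) h1
  subst hb; exact ⟨_, lblk_1640⟩
theorem lo_1641_1642 : ∀ b, 1641 ≤ b → b < 1642 → ∃ J, chkPBlk P 5 31 18 31671 b J = true := fun b h1 h2 => by
  have hb : b = 1641 := Nat.le_antisymm (Nat.le_of_lt_succ h2) h1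
  subst hb; exact ⟨_, lblk_1641⟩
theorem lo_1642_1643 : ∀ b, 1642 ≤ b → b < 1643 → ∃ J, chkPBlk P 5 31 18 31671 b J = true := fun b h1 h2 => by
  have hb : b = 1642 := Nat.le_antisymm (Nat.le_of_lt_succ h2) h1
  subst hb; exact ⟨_, lblk_1642⟩
theorem lo_1641_1643 : ∀ b, 1641 ≤ b → b < 1643 → ∃ J, chkPBlk P 5 31 18 31671 b J = true := fun b h1 h2 =>
  if h : b < 1642 then lo_1641_1642 b h1 h else lo_1642_1643 b (Nat.le_of_not_lt h) h2
theorem lo_1640_1643 : ∀ b, 1640 ≤ b → b < 1643 → ∃ J, chkPBlk P 5 31 18 31671 b J = true := fun b h1 h2 =>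
  if h : b < 1641 then lo_1640_1641 b h1 h else lo_1641_1643 b (Nat.le_of_not_lt h) h2
theorem lo_1638_1643 : ∀ b, 1638 ≤ b → b < 1643 → ∃ J, chkPBlk P 5 31 18 31671 b J = true := fun b h1 h2 =>
  if h : b < 1640 then lo_1638_1640 b h1 h else lo_1640_1643 b (Nat.le_of_not_lt h) h2
theorem lo_1634_1643 : ∀ b, 1634 ≤ b → b < 1643 → ∃ J, chkPBlk P 5 31 18 31671 b J = true := fun b h1 h2 =>
  if h : b < 1638 then lo_1634_1638 b h1 h else lo_1638_1643 b (Nat.le_of_not_lt h) h2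
theorem lo_1643_1644 : ∀ b, 1643 ≤ b → b < 1644 → ∃ J, chkPBlk P 5 31 18 31671 b J = true := fun b h1 h2 => by
  have hb : b = 1643 := Nat.le_antisymm (Nat.le_of_lt_succ h2) h1
  subst hb; exact ⟨_, lblk_1643⟩
theorem lo_1644_1645 : ∀ b, 1644 ≤ b → b < 1645 → ∃ J, chkPBlk P 5 31 18 31671 b J = true := fun b h1 h2 => by
  have hb : b = 1644 := Nat.le_antisymm (Nat.le_of_lt_succ h2) h1
  subst hb; exact ⟨_, lblk_1644⟩
theorem lo_1643_1645 : ∀ b, 1643 ≤ b → b < 1645 → ∃ J, chkPBlk P 5 31 18 31671 b J = true := fun b h1 h2 =>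
  if h : b < 1644 then lo_1643_1644 b h1 h else lo_1644_1645 b (Nat.le_of_not_lt h) h2
theorem lo_1645_1646 : ∀ b, 1645 ≤ b → b < 1646 → ∃ J, chkPBlk P 5 31 18 31671 b J = true := fun b h1 h2 => by
  have hb : b = 1645 := Nat.le_antisymm (Nat.le_of_lt_succ h2) h1
  subst hb; exact ⟨_, lblk_1645⟩
theorem lo_1646_1647 : ∀ b, 1646 ≤ b → b < 1647 → ∃ J, chkPBlk P 5 31 18 31671 b J = true := fun b h1 h2 => by
  have hb : b = 1646 := Nat.le_antisymm (Nat.le_of_lt_succ h2) h1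
  subst hb; exact ⟨_, lblk_1646⟩
theorem lo_1645_1647 : ∀ b, 1645 ≤ b → b < 1647 → ∃ J, chkPBlk P 5 31 18 31671 b J = true := fun b h1 h2 =>
  if h : b < 1646 then lo_1645_1646 b h1 h else lo_1646_1647 b (Nat.le_of_not_lt h) h2
theorem lo_1643_1647 : ∀ b, 1643 ≤ b → b < 1647 → ∃ J, chkPBlk P 5 31 18 31671 b J = true := fun b h1 h2 =>
  if h : b < 1645 then lo_1643_1645 b h1 h else lo_1645_1647 b (Nat.le_of_not_lt h) h2
theorem lo_1647_1648 : ∀ b, 1647 ≤ b → b < 1648 → ∃ J, chkPBlk P 5 31 18 31671 b J = true := fun b h1 h2 => by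
  have hb : b = 1647 := Nat.le_antisymm (Nat.le_of_lt_succ h2) h1
  subst hb; exact ⟨_, lblk_1647⟩
theorem lo_1648_1649 : ∀ b, 1648 ≤ b → b < 1649 → ∃ J, chkPBlk P 5 31 18 31671 b J = true := fun b h1 h2 => by
  have hb : b = 1648 := Nat.le_antisymm (Nat.le_of_lt_succ h2) h1
  subst hb; exact ⟨_, lblk_1648⟩
theorem lo_1647_1649 : ∀ b, 1647 ≤ b → b < 1649 → ∃ J, chkPBlk P 5 31 18 31671 b J = true := fun b h1 h2 =>
  if h : b < 1648 then lo_1647_1648 b h1 h else lo_1648_1649 b (Nat.le_of_not_lt h) h2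
theorem lo_1649_1650 : ∀ b, 1649 ≤ b → b < 1650 → ∃ J, chkPBlk P 5 31 18 31671 b J = true := fun b h1 h2 => by
  have hb : b = 1649 := Nat.le_antisymm (Nat.le_of_lt_succ h2) h1
  subst hb; exact ⟨_, lblk_1649⟩
theorem lo_1650_1651 : ∀ b, 1650 ≤ b → b < 1651 → ∃ J, chkPBlk P 5 31 18 31671 b J = true := fun b h1 h2 => by
  have hb : b = 1650 := Nat.le_antisymm (Nat.le_of_lt_succ h2) h1
  subst hb; exact ⟨_, lblk_1650⟩
theorem lo_1651_1652 : ∀ b, 1651 ≤ b → b < 1652 → ∃ J, chkPBlk P 5 31 18 31671 b J = true := fun b h1 h2 => by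
  have hb : b = 1651 := Nat.le_antisymm (Nat.le_of_lt_succ h2) h1
  subst hb; exact ⟨_, lblk_1651⟩
theorem lo_1650_1652 : ∀ b, 1650 ≤ b → b < 1652 → ∃ J, chkPBlk P 5 31 18 31671 b J = true := fun b h1 h2 =>
  if h : b < 1651 then lo_1650_1651 b h1 h else lo_1651_1652 b (Nat.le_of_not_lt h) h2
theorem lo_1649_1652 : ∀ b, 1649 ≤ b → b < 1652 → ∃ J, chkPBlk P 5 31 18 31671 b J = true := fun b h1 h2 =>
  if h : b < 1650 then lo_1649_1650 b h1 h else lo_1650_1652 b (Nat.le_of_not_lt h) h2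
theorem lo_1647_1652 : ∀ b, 1647 ≤ b → b < 1652 → ∃ J, chkPBlk P 5 31 18 31671 b J = true := fun b h1 h2 =>
  if h : b < 1649 then lo_1647_1649 b h1 h else lo_1649_1652 b (Nat.le_of_not_lt h) h2
theorem lo_1643_1652 : ∀ b, 1643 ≤ b → b < 1652 → ∃ J, chkPBlk P 5 31 18 31671 b J = true := fun b h1 h2 =>
  if h : b < 1647 then lo_1643_1647 b h1 h else lo_1647_1652 b (Nat.le_of_not_lt h) h2
theorem lo_1634_1652 : ∀ b, 1634 ≤ b → b < 1652 → ∃ J, chkPBlk P 5 31 18 31671 b J = true := fun b h1 h2 =>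
  if h : b < 1643 then lo_1634_1643 b h1 h else lo_1643_1652 b (Nat.le_of_not_lt h) h2
theorem lo_1617_1652 : ∀ b, 1617 ≤ b → b < 1652 → ∃ J, chkPBlk P 5 31 18 31671 b J = true := fun b h1 h2 =>
  if h : b < 1634 then lo_1617_1634 b h1 h else lo_1634_1652 b (Nat.le_of_not_lt h) h2
theorem lo_1652_1653 : ∀ b, 1652 ≤ b → b < 1653 → ∃ J, chkPBlk P 5 31 18 31671 b J = true := fun b h1 h2 => by
  have hb : b = 1652 := Nat.le_antisymm (Nat.le_of_lt_succ h2) h1
  subst hb; exact ⟨_, lblk_1652⟩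
theorem lo_1653_1654 : ∀ b, 1653 ≤ b → b < 1654 → ∃ J, chkPBlk P 5 31 18 31671 b J = true := fun b h1 h2 => by
  have hb : b = 1653 := Nat.le_antisymm (Nat.le_of_lt_succ h2) h1
  subst hb; exact ⟨_, lblk_1653⟩
theorem lo_1652_1654 : ∀ b, 1652 ≤ b → b < 1654 → ∃ J, chkPBlk P 5 31 18 31671 b J = true := fun b h1 h2 =>
  if h : b < 1653 then lo_1652_1653 b h1 h else lo_1653_1654 b (Nat.le_of_not_lt h) h2
theorem lo_1654_1655 : ∀ b, 1654 ≤ b → b < 1655 → ∃ J, chkPBlk P 5 31 18 31671 b J = true := fun b h1 h2 => by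
  have hb : b = 1654 := Nat.le_antisymm (Nat.le_of_lt_succ h2) h1
  subst hb; exact ⟨_, lblk_1654⟩
theorem lo_1655_1656 : ∀ b, 1655 ≤ b → b < 1656 → ∃ J, chkPBlk P 5 31 18 31671 b J = true := fun b h1 h2 => by
  have hb : b = 1655 := Nat.le_antisymm (Nat.le_of_lt_succ h2) h1
  subst hb; exact ⟨_, lblk_1655⟩
theorem lo_1654_1656 : ∀ b, 1654 ≤ b → b < 1656 → ∃ J, chkPBlk P 5 31 18 31671 b J = true := fun b h1 h2 =>
  if h : b < 1655 then lo_1654_1655 b h1 h else lo_1655_1656 b (Nat.le_of_not_lt h) h2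
theorem lo_1652_1656 : ∀ b, 1652 ≤ b → b < 1656 → ∃ J, chkPBlk P 5 31 18 31671 b J = true := fun b h1 h2 =>
  if h : b < 1654 then lo_1652_1654 b h1 h else lo_1654_1656 b (Nat.le_of_not_lt h) h2
theorem lo_1656_1657 : ∀ b, 1656 ≤ b → b < 1657 → ∃ J, chkPBlk P 5 31 18 31671 b J = true := fun b h1 h2 => by
  have hb : b = 1656 := Nat.le_antisymm (Nat.le_of_lt_succ h2) h1
  subst hb; exact ⟨_, lblk_1656⟩
theorem lo_1657_1658 : ∀ b, 1657 ≤ b → b < 1658 → ∃ J, chkPBlk P 5 31 18 31671 b J = true := fun b h1 h2 => by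
  have hb : b = 1657 := Nat.le_antisymm (Nat.le_of_lt_succ h2) h1
  subst hb; exact ⟨_, lblk_1657⟩
theorem lo_1656_1658 : ∀ b, 1656 ≤ b → b < 1658 → ∃ J, chkPBlk P 5 31 18 31671 b J = true := fun b h1 h2 =>
  if h : b < 1657 then lo_1656_1657 b h1 h else lo_1657_1658 b (Nat.le_of_not_lt h) h2
theorem lo_1658_1659 : ∀ b, 1658 ≤ b → b < 1659 → ∃ J, chkPBlk P 5 31 18 31671 b J = true := fun b h1 h2 => by
  have hb : b = 1658 := Nat.le_antisymm (Nat.le_of_lt_succ h2) h1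
  subst hb; exact ⟨_, lblk_1658⟩
theorem lo_1659_1660 : ∀ b, 1659 ≤ b → b < 1660 → ∃ J, chkPBlk P 5 31 18 31671 b J = true := fun b h1 h2 => by
  have hb : b = 1659 := Nat.le_antisymm (Nat.le_of_lt_succ h2) h1
  subst hb; exact ⟨_, lblk_1659⟩
theorem lo_1660_1661 : ∀ b, 1660 ≤ b → b < 1661 → ∃ J, chkPBlk P 5 31 18 31671 b J = true := fun b h1 h2 => by
  have hb : b = 1660 := Nat.le_antisymm (Nat.le_of_lt_succ h2) h1
  subst hb; exact ⟨_, lblk_1660⟩
theorem lo_1659_1661 : ∀ b, 1659 ≤ b → b < 1661 → ∃ J, chkPBlk P 5 31 18 31671 b J = true := fun b h1 h2 =>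
  if h : b < 1660 then lo_1659_1660 b h1 h else lo_1660_1661 b (Nat.le_of_not_lt h) h2
theorem lo_1658_1661 : ∀ b, 1658 ≤ b → b < 1661 → ∃ J, chkPBlk P 5 31 18 31671 b J = true := fun b h1 h2 =>
  if h : b < 1659 then lo_1658_1659 b h1 h else lo_1659_1661 b (Nat.le_of_not_lt h) h2
theorem lo_1656_1661 : ∀ b, 1656 ≤ b → b < 1661 → ∃ J, chkPBlk P 5 31 18 31671 b J = true := fun b h1 h2 =>
  if h : b < 1658 then lo_1656_1658 b h1 h else lo_1658_1661 b (Nat.le_of_not_lt h) h2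
theorem lo_1652_1661 : ∀ b, 1652 ≤ b → b < 1661 → ∃ J, chkPBlk P 5 31 18 31671 b J = true := fun b h1 h2 =>
  if h : b < 1656 then lo_1652_1656 b h1 h else lo_1656_1661 b (Nat.le_of_not_lt h) h2
theorem lo_1661_1662 : ∀ b, 1661 ≤ b → b < 1662 → ∃ J, chkPBlk P 5 31 18 31671 b J = true := fun b h1 h2 => by
  have hb : b = 1661 := Nat.le_antisymm (Nat.le_of_lt_succ h2) h1
  subst hb; exact ⟨_, lblk_1661⟩
theorem lo_1662_1663 : ∀ b, 1662 ≤ b → b < 1663 → ∃ J, chkPBlk P 5 31 18 31671 b J = true := fun b h1 h2 => by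
  have hb : b = 1662 := Nat.le_antisymm (Nat.le_of_lt_succ h2) h1
  subst hb; exact ⟨_, lblk_1662⟩
theorem lo_1661_1663 : ∀ b, 1661 ≤ b → b < 1663 → ∃ J, chkPBlk P 5 31 18 31671 b J = true := fun b h1 h2 =>
  if h : b < 1662 then lo_1661_1662 b h1 h else lo_1662_1663 b (Nat.le_of_not_lt h) h2
theorem lo_1663_1664 : ∀ b, 1663 ≤ b → b < 1664 → ∃ J, chkPBlk P 5 31 18 31671 b J = true := fun b h1 h2 => by
  have hb : b = 1663 := Nat.le_antisymm (Nat.le_of_lt_succ h2) h1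
  subst hb; exact ⟨_, lblk_1663⟩
theorem lo_1664_1665 : ∀ b, 1664 ≤ b → b < 1665 → ∃ J, chkPBlk P 5 31 18 31671 b J = true := fun b h1 h2 => by
  have hb : b = 1664 := Nat.le_antisymm (Nat.le_of_lt_succ h2) h1
  subst hb; exact ⟨_, lblk_1664⟩
theorem lo_1663_1665 : ∀ b, 1663 ≤ b → b < 1665 → ∃ J, chkPBlk P 5 31 18 31671 b J = true := fun b h1 h2 =>
  if h : b < 1664 then lo_1663_1664 b h1 h else lo_1664_1665 b (Nat.le_of_not_lt h) h2
theorem lo_1661_1665 : ∀ b, 1661 ≤ b → b < 1665 → ∃ J, chkPBlk P 5 31 18 31671 b J = true := fun b h1 h2 =>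
  if h : b < 1663 then lo_1661_1663 b h1 h else lo_1663_1665 b (Nat.le_of_not_lt h) h2
theorem lo_1665_1666 : ∀ b, 1665 ≤ b → b < 1666 → ∃ J, chkPBlk P 5 31 18 31671 b J = true := fun b h1 h2 => by
  have hb : b = 1665 := Nat.le_antisymm (Nat.le_of_lt_succ h2) h1
  subst hb; exact ⟨_, lblk_1665⟩
theorem lo_1666_1667 : ∀ b, 1666 ≤ b → b < 1667 → ∃ J, chkPBlk P 5 31 18 31671 b J = true := fun b h1 h2 => by
  have hb : b = 1666 := Nat.le_antisymm (Nat.le_of_lt_succ h2) h1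
  subst hb; exact ⟨_, lblk_1666⟩
theorem lo_1665_1667 : ∀ b, 1665 ≤ b → b < 1667 → ∃ J, chkPBlk P 5 31 18 31671 b J = true := fun b h1 h2 =>
  if h : b < 1666 then lo_1665_1666 b h1 h else lo_1666_1667 b (Nat.le_of_not_lt h) h2
theorem lo_1667_1668 : ∀ b, 1667 ≤ b → b < 1668 → ∃ J, chkPBlk P 5 31 18 31671 b J = true := fun b h1 h2 => by
  have hb : b = 1667 := Nat.le_antisymm (Nat.le_of_lt_succ h2) h1
  subst hb; exact ⟨_, lblk_1667⟩
theorem lo_1668_1669 : ∀ b, 1668 ≤ b → b < 1669 → ∃ J, chkPBlk P 5 31 18 31671 b J = true := fun b h1 h2 => by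
  have hb : b = 1668 := Nat.le_antisymm (Nat.le_of_lt_succ h2) h1
  subst hb; exact ⟨_, lblk_1668⟩
theorem lo_1669_1670 : ∀ b, 1669 ≤ b → b < 1670 → ∃ J, chkPBlk P 5 31 18 31671 b J = true := fun b h1 h2 => by
  have hb : b = 1669 := Nat.le_antisymm (Nat.le_of_lt_succ h2) h1
  subst hb; exact ⟨_, lblk_1669⟩
theorem lo_1668_1670 : ∀ b, 1668 ≤ b → b < 1670 → ∃ J, chkPBlk P 5 31 18 31671 b J = true := fun b h1 h2 =>
  if h : b < 1669 then lo_1668_1669 b h1 h else lo_1669_1670 b (Nat.le_of_not_lt h) h2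
theorem lo_1667_1670 : ∀ b, 1667 ≤ b → b < 1670 → ∃ J, chkPBlk P 5 31 18 31671 b J = true := fun b h1 h2 =>
  if h : b < 1668 then lo_1667_1668 b h1 h else lo_1668_1670 b (Nat.le_of_not_lt h) h2
theorem lo_1665_1670 : ∀ b, 1665 ≤ b → b < 1670 → ∃ J, chkPBlk P 5 31 18 31671 b J = true := fun b h1 h2 =>
  if h : b < 1667 then lo_1665_1667 b h1 h else lo_1667_1670 b (Nat.le_of_not_lt h) h2
theorem lo_1661_1670 : ∀ b, 1661 ≤ b → b < 1670 → ∃ J, chkPBlk P 5 31 18 31671 b J = true := fun b h1 h2 =>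
  if h : b < 1665 then lo_1661_1665 b h1 h else lo_1665_1670 b (Nat.le_of_not_lt h) h2
theorem lo_1652_1670 : ∀ b, 1652 ≤ b → b < 1670 → ∃ J, chkPBlk P 5 31 18 31671 b J = true := fun b h1 h2 =>
  if h : b < 1661 then lo_1652_1661 b h1 h else lo_1661_1670 b (Nat.le_of_not_lt h) h2
theorem lo_1670_1671 : ∀ b, 1670 ≤ b → b < 1671 → ∃ J, chkPBlk P 5 31 18 31671 b J = true := fun b h1 h2 => by
  have hb : b = 1670 := Nat.le_antisymm (Nat.le_of_lt_succ h2) h1
  subst hb; exact ⟨_, lblk_1670⟩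
theorem lo_1671_1672 : ∀ b, 1671 ≤ b → b < 1672 → ∃ J, chkPBlk P 5 31 18 31671 b J = true := fun b h1 h2 => by
  have hb : b = 1671 := Nat.le_antisymm (Nat.le_of_lt_succ h2) h1
  subst hb; exact ⟨_, lblk_1671⟩
theorem lo_1670_1672 : ∀ b, 1670 ≤ b → b < 1672 → ∃ J, chkPBlk P 5 31 18 31671 b J = true := fun b h1 h2 =>
  if h : b < 1671 then lo_1670_1671 b h1 h else lo_1671_1672 b (Nat.le_of_not_lt h) h2
theorem lo_1672_1673 : ∀ b, 1672 ≤ b → b < 1673 → ∃ J, chkPBlk P 5 31 18 31671 b J = true := fun b h1 h2 => by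
  have hb : b = 1672 := Nat.le_antisymm (Nat.le_of_lt_succ h2) h1
  subst hb; exact ⟨_, lblk_1672⟩
theorem lo_1673_1674 : ∀ b, 1673 ≤ b → b < 1674 → ∃ J, chkPBlk P 5 31 18 31671 b J = true := fun b h1 h2 => by
  have hb : b = 1673 := Nat.le_antisymm (Nat.le_of_lt_succ h2) h1
  subst hb; exact ⟨_, lblk_1673⟩
theorem lo_1672_1674 : ∀ b, 1672 ≤ b → b < 1674 → ∃ J, chkPBlk P 5 31 18 31671 b J = true := fun b h1 h2 =>
  if h : b < 1673 then lo_1672_1673 b h1 h else lo_1673_1674 b (Nat.le_of_not_lt h) h2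
theorem lo_1670_1674 : ∀ b, 1670 ≤ b → b < 1674 → ∃ J, chkPBlk P 5 31 18 31671 b J = true := fun b h1 h2 =>
  if h : b < 1672 then lo_1670_1672 b h1 h else lo_1672_1674 b (Nat.le_of_not_lt h) h2
theorem lo_1674_1675 : ∀ b, 1674 ≤ b → b < 1675 → ∃ J, chkPBlk P 5 31 18 31671 b J = true := fun b h1 h2 => by
  have hb : b = 1674 := Nat.le_antisymm (Nat.le_of_lt_succ h2) h1
  subst hb; exact ⟨_, lblk_1674⟩
theorem lo_1675_1676 : ∀ b, 1675 ≤ b → b < 1676 → ∃ J, chkPBlk P 5 31 18 31671 b J = true := fun b h1 h2 => by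
  have hb : b = 1675 := Nat.le_antisymm (Nat.le_of_lt_succ h2) h1
  subst hb; exact ⟨_, lblk_1675⟩
theorem lo_1674_1676 : ∀ b, 1674 ≤ b → b < 1676 → ∃ J, chkPBlk P 5 31 18 31671 b J = true := fun b h1 h2 =>
  if h : b < 1675 then lo_1674_1675 b h1 h else lo_1675_1676 b (Nat.le_of_not_lt h) h2
theorem lo_1676_1677 : ∀ b, 1676 ≤ b → b < 1677 → ∃ J, chkPBlk P 5 31 18 31671 b J = true := fun b h1 h2 => by
  have hb : b = 1676 := Nat.le_antisymm (Nat.le_of_lt_succ h2) h1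
  subst hb; exact ⟨_, lblk_1676⟩
theorem lo_1677_1678 : ∀ b, 1677 ≤ b → b < 1678 → ∃ J, chkPBlk P 5 31 18 31671 b J = true := fun b h1 h2 => by
  have hb : b = 1677 := Nat.le_antisymm (Nat.le_of_lt_succ h2) h1
  subst hb; exact ⟨_, lblk_1677⟩
theorem lo_1678_1679 : ∀ b, 1678 ≤ b → b < 1679 → ∃ J, chkPBlk P 5 31 18 31671 b J = true := fun b h1 h2 => by
  have hb : b = 1678 := Nat.le_antisymm (Nat.le_of_lt_succ h2) h1
  subst hb; exact ⟨_, lblk_1678⟩
theorem lo_1677_1679 : ∀ b, 1677 ≤ b → b < 1679 → ∃ J, chkPBlk P 5 31 18 31671 b J = true := fun b h1 h2 =>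
  if h : b < 1678 then lo_1677_1678 b h1 h else lo_1678_1679 b (Nat.le_of_not_lt h) h2
theorem lo_1676_1679 : ∀ b, 1676 ≤ b → b < 1679 → ∃ J, chkPBlk P 5 31 18 31671 b J = true := fun b h1 h2 =>
  if h : b < 1677 then lo_1676_1677 b h1 h else lo_1677_1679 b (Nat.le_of_not_lt h) h2
theorem lo_1674_1679 : ∀ b, 1674 ≤ b → b < 1679 → ∃ J, chkPBlk P 5 31 18 31671 b J = true := fun b h1 h2 =>
  if h : b < 1676 then lo_1674_1676 b h1 h else lo_1676_1679 b (Nat.le_of_not_lt h) h2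
theorem lo_1670_1679 : ∀ b, 1670 ≤ b → b < 1679 → ∃ J, chkPBlk P 5 31 18 31671 b J = true := fun b h1 h2 =>
  if h : b < 1674 then lo_1670_1674 b h1 h else lo_1674_1679 b (Nat.le_of_not_lt h) h2
theorem lo_1679_1680 : ∀ b, 1679 ≤ b → b < 1680 → ∃ J, chkPBlk P 5 31 18 31671 b J = true := fun b h1 h2 => by
  have hb : b = 1679 := Nat.le_antisymm (Nat.le_of_lt_succ h2) h1
  subst hb; exact ⟨_, lblk_1679⟩
theorem lo_1680_1681 : ∀ b, 1680 ≤ b → b < 1681 → ∃ J, chkPBlk P 5 31 18 31671 b J = true := fun b h1 h2 => by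
  have hb : b = 1680 := Nat.le_antisymm (Nat.le_of_lt_succ h2) h1
  subst hb; exact ⟨_, lblk_1680⟩
theorem lo_1679_1681 : ∀ b, 1679 ≤ b → b < 1681 → ∃ J, chkPBlk P 5 31 18 31671 b J = true := fun b h1 h2 =>
  if h : b < 1680 then lo_1679_1680 b h1 h else lo_1680_1681 b (Nat.le_of_not_lt h) h2
theorem lo_1681_1682 : ∀ b, 1681 ≤ b → b < 1682 → ∃ J, chkPBlk P 5 31 18 31671 b J = true := fun b h1 h2 => by
  have hb : b = 1681 := Nat.le_antisymm (Nat.le_of_lt_succ h2) h1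
  subst hb; exact ⟨_, lblk_1681⟩
theorem lo_1682_1683 : ∀ b, 1682 ≤ b → b < 1683 → ∃ J, chkPBlk P 5 31 18 31671 b J = true := fun b h1 h2 => by
  have hb : b = 1682 := Nat.le_antisymm (Nat.le_of_lt_succ h2) h1
  subst hb; exact ⟨_, lblk_1682⟩
theorem lo_1681_1683 : ∀ b, 1681 ≤ b → b < 1683 → ∃ J, chkPBlk P 5 31 18 31671 b J = true := fun b h1 h2 =>
  if h : b < 1682 then lo_1681_1682 b h1 h else lo_1682_1683 b (Nat.le_of_not_lt h) h2
theorem lo_1679_1683 : ∀ b, 1679 ≤ b → b < 1683 → ∃ J, chkPBlk P 5 31 18 31671 b J = true := fun b h1 h2 =>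
  if h : b < 1681 then lo_1679_1681 b h1 h else lo_1681_1683 b (Nat.le_of_not_lt h) h2
theorem lo_1683_1684 : ∀ b, 1683 ≤ b → b < 1684 → ∃ J, chkPBlk P 5 31 18 31671 b J = true := fun b h1 h2 => by
  have hb : b = 1683 := Nat.le_antisymm (Nat.le_of_lt_succ h2) h1
  subst hb; exact ⟨_, lblk_1683⟩
theorem lo_1684_1685 : ∀ b, 1684 ≤ b → b < 1685 → ∃ J, chkPBlk P 5 31 18 31671 b J = true := fun b h1 h2 => by
  have hb : b = 1684 := Nat.le_antisymm (Nat.le_of_lt_succ h2) h1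
  subst hb; exact ⟨_, lblk_1684⟩
theorem lo_1683_1685 : ∀ b, 1683 ≤ b → b < 1685 → ∃ J, chkPBlk P 5 31 18 31671 b J = true := fun b h1 h2 =>
  if h : b < 1684 then lo_1683_1684 b h1 h else lo_1684_1685 b (Nat.le_of_not_lt h) h2
theorem lo_1685_1686 : ∀ b, 1685 ≤ b → b < 1686 → ∃ J, chkPBlk P 5 31 18 31671 b J = true := fun b h1 h2 => by
  have hb : b = 1685 := Nat.le_antisymm (Nat.le_of_lt_succ h2) h1
  subst hb; exact ⟨_, lblk_1685⟩
theorem lo_1686_1687 : ∀ b, 1686 ≤ b → b < 1687 → ∃ J, chkPBlk P 5 31 18 31671 b J = true := fun b h1 h2 => by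
  have hb : b = 1686 := Nat.le_antisymm (Nat.le_of_lt_succ h2) h1
  subst hb; exact ⟨_, lblk_1686⟩
theorem lo_1687_1688 : ∀ b, 1687 ≤ b → b < 1688 → ∃ J, chkPBlk P 5 31 18 31671 b J = true := fun b h1 h2 => by
  have hb : b = 1687 := Nat.le_antisymm (Nat.le_of_lt_succ h2) h1
  subst hb; exact ⟨_, lblk_1687⟩
theorem lo_1686_1688 : ∀ b, 1686 ≤ b → b < 1688 → ∃ J, chkPBlk P 5 31 18 31671 b J = true := fun b h1 h2 =>
  if h : b < 1687 then lo_1686_1687 b h1 h else lo_1687_1688 b (Nat.le_of_not_lt h) h2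
theorem lo_1685_1688 : ∀ b, 1685 ≤ b → b < 1688 → ∃ J, chkPBlk P 5 31 18 31671 b J = true := fun b h1 h2 =>
  if h : b < 1686 then lo_1685_1686 b h1 h else lo_1686_1688 b (Nat.le_of_not_lt h) h2
theorem lo_1683_1688 : ∀ b, 1683 ≤ b → b < 1688 → ∃ J, chkPBlk P 5 31 18 31671 b J = true := fun b h1 h2 =>
  if h : b < 1685 then lo_1683_1685 b h1 h else lo_1685_1688 b (Nat.le_of_not_lt h) h2
theorem lo_1679_1688 : ∀ b, 1679 ≤ b → b < 1688 → ∃ J, chkPBlk P 5 31 18 31671 b J = true := fun b h1 h2 =>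
  if h : b < 1683 then lo_1679_1683 b h1 h else lo_1683_1688 b (Nat.le_of_not_lt h) h2
theorem lo_1670_1688 : ∀ b, 1670 ≤ b → b < 1688 → ∃ J, chkPBlk P 5 31 18 31671 b J = true := fun b h1 h2 =>
  if h : b < 1679 then lo_1670_1679 b h1 h else lo_1679_1688 b (Nat.le_of_not_lt h) h2
theorem lo_1652_1688 : ∀ b, 1652 ≤ b → b < 1688 → ∃ J, chkPBlk P 5 31 18 31671 b J = true := fun b h1 h2 =>
  if h : b < 1670 then lo_1652_1670 b h1 h else lo_1670_1688 b (Nat.le_of_not_lt h) h2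
theorem lo_1617_1688 : ∀ b, 1617 ≤ b → b < 1688 → ∃ J, chkPBlk P 5 31 18 31671 b J = true := fun b h1 h2 =>
  if h : b < 1652 then lo_1617_1652 b h1 h else lo_1652_1688 b (Nat.le_of_not_lt h) h2
theorem lo_1688_1689 : ∀ b, 1688 ≤ b → b < 1689 → ∃ J, chkPBlk P 5 31 18 31671 b J = true := fun b h1 h2 => by
  have hb : b = 1688 := Nat.le_antisymm (Nat.le_of_lt_succ h2) h1
  subst hb; exact ⟨_, lblk_1688⟩
theorem lo_1689_1690 : ∀ b, 1689 ≤ b → b < 1690 → ∃ J, chkPBlk P 5 31 18 31671 b J = true := fun b h1 h2 => by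
  have hb : b = 1689 := Nat.le_antisymm (Nat.le_of_lt_succ h2) h1
  subst hb; exact ⟨_, lblk_1689⟩
theorem lo_1688_1690 : ∀ b, 1688 ≤ b → b < 1690 → ∃ J, chkPBlk P 5 31 18 31671 b J = true := fun b h1 h2 =>
  if h : b < 1689 then lo_1688_1689 b h1 h else lo_1689_1690 b (Nat.le_of_not_lt h) h2
theorem lo_1690_1691 : ∀ b, 1690 ≤ b → b < 1691 → ∃ J, chkPBlk P 5 31 18 31671 b J = true := fun b h1 h2 => by
  have hb : b = 1690 := Nat.le_antisymm (Nat.le_of_lt_succ h2) h1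
  subst hb; exact ⟨_, lblk_1690⟩
theorem lo_1691_1692 : ∀ b, 1691 ≤ b → b < 1692 → ∃ J, chkPBlk P 5 31 18 31671 b J = true := fun b h1 h2 => by
  have hb : b = 1691 := Nat.le_antisymm (Nat.le_of_lt_succ h2) h1
  subst hb; exact ⟨_, lblk_1691⟩
theorem lo_1690_1692 : ∀ b, 1690 ≤ b → b < 1692 → ∃ J, chkPBlk P 5 31 18 31671 b J = true := fun b h1 h2 =>
  if h : b < 1691 then lo_1690_1691 b h1 h else lo_1691_1692 b (Nat.le_of_not_lt h) h2
theorem lo_1688_1692 : ∀ b, 1688 ≤ b → b < 1692 → ∃ J, chkPBlk P 5 31 18 31671 b J = true := fun b h1 h2 =>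
  if h : b < 1690 then lo_1688_1690 b h1 h else lo_1690_1692 b (Nat.le_of_not_lt h) h2
theorem lo_1692_1693 : ∀ b, 1692 ≤ b → b < 1693 → ∃ J, chkPBlk P 5 31 18 31671 b J = true := fun b h1 h2 => by
  have hb : b = 1692 := Nat.le_antisymm (Nat.le_of_lt_succ h2) h1
  subst hb; exact ⟨_, lblk_1692⟩
theorem lo_1693_1694 : ∀ b, 1693 ≤ b → b < 1694 → ∃ J, chkPBlk P 5 31 18 31671 b J = true := fun b h1 h2 => by
  have hb : b = 1693 := Nat.le_antisymm (Nat.le_of_lt_succ h2) h1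
  subst hb; exact ⟨_, lblk_1693⟩
theorem lo_1692_1694 : ∀ b, 1692 ≤ b → b < 1694 → ∃ J, chkPBlk P 5 31 18 31671 b J = true := fun b h1 h2 =>
  if h : b < 1693 then lo_1692_1693 b h1 h else lo_1693_1694 b (Nat.le_of_not_lt h) h2
theorem lo_1694_1695 : ∀ b, 1694 ≤ b → b < 1695 → ∃ J, chkPBlk P 5 31 18 31671 b J = true := fun b h1 h2 => by
  have hb : b = 1694 := Nat.le_antisymm (Nat.le_of_lt_succ h2) h1
  subst hb; exact ⟨_, lblk_1694⟩
theorem lo_1695_1696 : ∀ b, 1695 ≤ b → b < 1696 → ∃ J, chkPBlk P 5 31 18 31671 b J = true := fun b h1 h2 => by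
  have hb : b = 1695 := Nat.le_antisymm (Nat.le_of_lt_succ h2) h1
  subst hb; exact ⟨_, lblk_1695⟩
theorem lo_1696_1697 : ∀ b, 1696 ≤ b → b < 1697 → ∃ J, chkPBlk P 5 31 18 31671 b J = true := fun b h1 h2 => by
  have hb : b = 1696 := Nat.le_antisymm (Nat.le_of_lt_succ h2) h1
  subst hb; exact ⟨_, lblk_1696⟩
theorem lo_1695_1697 : ∀ b, 1695 ≤ b → b < 1697 → ∃ J, chkPBlk P 5 31 18 31671 b J = true := fun b h1 h2 =>
  if h : b < 1696 then lo_1695_1696 b h1 h else lo_1696_1697 b (Nat.le_of_not_lt h) h2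
theorem lo_1694_1697 : ∀ b, 1694 ≤ b → b < 1697 → ∃ J, chkPBlk P 5 31 18 31671 b J = true := fun b h1 h2 =>
  if h : b < 1695 then lo_1694_1695 b h1 h else lo_1695_1697 b (Nat.le_of_not_lt h) h2
theorem lo_1692_1697 : ∀ b, 1692 ≤ b → b < 1697 → ∃ J, chkPBlk P 5 31 18 31671 b J = true := fun b h1 h2 =>
  if h : b < 1694 then lo_1692_1694 b h1 h else lo_1694_1697 b (Nat.le_of_not_lt h) h2
theorem lo_1688_1697 : ∀ b, 1688 ≤ b → b < 1697 → ∃ J, chkPBlk P 5 31 18 31671 b J = true := fun b h1 h2 =>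
  if h : b < 1692 then lo_1688_1692 b h1 h else lo_1692_1697 b (Nat.le_of_not_lt h) h2
theorem lo_1697_1698 : ∀ b, 1697 ≤ b → b < 1698 → ∃ J, chkPBlk P 5 31 18 31671 b J = true := fun b h1 h2 => by
  have hb : b = 1697 := Nat.le_antisymm (Nat.le_of_lt_succ h2) h1
  subst hb; exact ⟨_, lblk_1697⟩
theorem lo_1698_1699 : ∀ b, 1698 ≤ b → b < 1699 → ∃ J, chkPBlk P 5 31 18 31671 b J = true := fun b h1 h2 => by
  have hb : b = 1698 := Nat.le_antisymm (Nat.le_of_lt_succ h2) h1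
  subst hb; exact ⟨_, lblk_1698⟩
theorem lo_1697_1699 : ∀ b, 1697 ≤ b → b < 1699 → ∃ J, chkPBlk P 5 31 18 31671 b J = true := fun b h1 h2 =>
  if h : b < 1698 then lo_1697_1698 b h1 h else lo_1698_1699 b (Nat.le_of_not_lt h) h2
theorem lo_1699_1700 : ∀ b, 1699 ≤ b → b < 1700 → ∃ J, chkPBlk P 5 31 18 31671 b J = true := fun b h1 h2 => by
  have hb : b = 1699 := Nat.le_antisymm (Nat.le_of_lt_succ h2) h1
  subst hb; exact ⟨_, lblk_1699⟩
theorem lo_1700_1701 : ∀ b, 1700 ≤ b → b < 1701 → ∃ J, chkPBlk P 5 31 18 31671 b J = true := fun b h1 h2 => by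
  have hb : b = 1700 := Nat.le_antisymm (Nat.le_of_lt_succ h2) h1
  subst hb; exact ⟨_, lblk_1700⟩
theorem lo_1699_1701 : ∀ b, 1699 ≤ b → b < 1701 → ∃ J, chkPBlk P 5 31 18 31671 b J = true := fun b h1 h2 =>
  if h : b < 1700 then lo_1699_1700 b h1 h else lo_1700_1701 b (Nat.le_of_not_lt h) h2
theorem lo_1697_1701 : ∀ b, 1697 ≤ b → b < 1701 → ∃ J, chkPBlk P 5 31 18 31671 b J = true := fun b h1 h2 =>
  if h : b < 1699 then lo_1697_1699 b h1 h else lo_1699_1701 b (Nat.le_of_not_lt h) h2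
theorem lo_1701_1702 : ∀ b, 1701 ≤ b → b < 1702 → ∃ J, chkPBlk P 5 31 18 31671 b J = true := fun b h1 h2 => by
  have hb : b = 1701 := Nat.le_antisymm (Nat.le_of_lt_succ h2) h1
  subst hb; exact ⟨_, lblk_1701⟩
theorem lo_1702_1703 : ∀ b, 1702 ≤ b → b < 1703 → ∃ J, chkPBlk P 5 31 18 31671 b J = true := fun b h1 h2 => by
  have hb : b = 1702 := Nat.le_antisymm (Nat.le_of_lt_succ h2) h1
  subst hb; exact ⟨_, lblk_1702⟩
theorem lo_1701_1703 : ∀ b, 1701 ≤ b → b < 1703 → ∃ J, chkPBlk P 5 31 18 31671 b J = true := fun b h1 h2 =>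
  if h : b < 1702 then lo_1701_1702 b h1 h else lo_1702_1703 b (Nat.le_of_not_lt h) h2
theorem lo_1703_1704 : ∀ b, 1703 ≤ b → b < 1704 → ∃ J, chkPBlk P 5 31 18 31671 b J = true := fun b h1 h2 => by
  have hb : b = 1703 := Nat.le_antisymm (Nat.le_of_lt_succ h2) h1
  subst hb; exact ⟨_, lblk_1703⟩
theorem lo_1704_1705 : ∀ b, 1704 ≤ b → b < 1705 → ∃ J, chkPBlk P 5 31 18 31671 b J = true := fun b h1 h2 => by
  have hb : b = 1704 := Nat.le_antisymm (Nat.le_of_lt_succ h2) h1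
  subst hb; exact ⟨_, lblk_1704⟩
theorem lo_1705_1706 : ∀ b, 1705 ≤ b → b < 1706 → ∃ J, chkPBlk P 5 31 18 31671 b J = true := fun b h1 h2 => by
  have hb : b = 1705 := Nat.le_antisymm (Nat.le_of_lt_succ h2) h1
  subst hb; exact ⟨_, lblk_1705⟩
theorem lo_1704_1706 : ∀ b, 1704 ≤ b → b < 1706 → ∃ J, chkPBlk P 5 31 18 31671 b J = true := fun b h1 h2 =>
  if h : b < 1705 then lo_1704_1705 b h1 h else lo_1705_1706 b (Nat.le_of_not_lt h) h2
theorem lo_1703_1706 : ∀ b, 1703 ≤ b → b < 1706 → ∃ J, chkPBlk P 5 31 18 31671 b J = true := fun b h1 h2 =>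
  if h : b < 1704 then lo_1703_1704 b h1 h else lo_1704_1706 b (Nat.le_of_not_lt h) h2
theorem lo_1701_1706 : ∀ b, 1701 ≤ b → b < 1706 → ∃ J, chkPBlk P 5 31 18 31671 b J = true := fun b h1 h2 =>
  if h : b < 1703 then lo_1701_1703 b h1 h else lo_1703_1706 b (Nat.le_of_not_lt h) h2
theorem lo_1697_1706 : ∀ b, 1697 ≤ b → b < 1706 → ∃ J, chkPBlk P 5 31 18 31671 b J = true := fun b h1 h2 =>
  if h : b < 1701 then lo_1697_1701 b h1 h else lo_1701_1706 b (Nat.le_of_not_lt h) h2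
theorem lo_1688_1706 : ∀ b, 1688 ≤ b → b < 1706 → ∃ J, chkPBlk P 5 31 18 31671 b J = true := fun b h1 h2 =>
  if h : b < 1697 then lo_1688_1697 b h1 h else lo_1697_1706 b (Nat.le_of_not_lt h) h2
theorem lo_1706_1707 : ∀ b, 1706 ≤ b → b < 1707 → ∃ J, chkPBlk P 5 31 18 31671 b J = true := fun b h1 h2 => by
  have hb : b = 1706 := Nat.le_antisymm (Nat.le_of_lt_succ h2) h1
  subst hb; exact ⟨_, lblk_1706⟩
theorem lo_1707_1708 : ∀ b, 1707 ≤ b → b < 1708 → ∃ J, chkPBlk P 5 31 18 31671 b J = true := fun b h1 h2 => by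
  have hb : b = 1707 := Nat.le_antisymm (Nat.le_of_lt_succ h2) h1
  subst hb; exact ⟨_, lblk_1707⟩
theorem lo_1706_1708 : ∀ b, 1706 ≤ b → b < 1708 → ∃ J, chkPBlk P 5 31 18 31671 b J = true := fun b h1 h2 =>
  if h : b < 1707 then lo_1706_1707 b h1 h else lo_1707_1708 b (Nat.le_of_not_lt h) h2
theorem lo_1708_1709 : ∀ b, 1708 ≤ b → b < 1709 → ∃ J, chkPBlk P 5 31 18 31671 b J = true := fun b h1 h2 => by
  have hb : b = 1708 := Nat.le_antisymm (Nat.le_of_lt_succ h2) h1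
  subst hb; exact ⟨_, lblk_1708⟩
theorem lo_1709_1710 : ∀ b, 1709 ≤ b → b < 1710 → ∃ J, chkPBlk P 5 31 18 31671 b J = true := fun b h1 h2 => by
  have hb : b = 1709 := Nat.le_antisymm (Nat.le_of_lt_succ h2) h1
  subst hb; exact ⟨_, lblk_1709⟩
theorem lo_1708_1710 : ∀ b, 1708 ≤ b → b < 1710 → ∃ J, chkPBlk P 5 31 18 31671 b J = true := fun b h1 h2 =>
  if h : b < 1709 then lo_1708_1709 b h1 h else lo_1709_1710 b (Nat.le_of_not_lt h) h2
theorem lo_1706_1710 : ∀ b, 1706 ≤ b → b < 1710 → ∃ J, chkPBlk P 5 31 18 31671 b J = true := fun b h1 h2 =>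
  if h : b < 1708 then lo_1706_1708 b h1 h else lo_1708_1710 b (Nat.le_of_not_lt h) h2
theorem lo_1710_1711 : ∀ b, 1710 ≤ b → b < 1711 → ∃ J, chkPBlk P 5 31 18 31671 b J = true := fun b h1 h2 => by
  have hb : b = 1710 := Nat.le_antisymm (Nat.le_of_lt_succ h2) h1
  subst hb; exact ⟨_, lblk_1710⟩
theorem lo_1711_1712 : ∀ b, 1711 ≤ b → b < 1712 → ∃ J, chkPBlk P 5 31 18 31671 b J = true := fun b h1 h2 => by
  have hb : b = 1711 := Nat.le_antisymm (Nat.le_of_lt_succ h2) h1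
  subst hb; exact ⟨_, lblk_1711⟩
theorem lo_1710_1712 : ∀ b, 1710 ≤ b → b < 1712 → ∃ J, chkPBlk P 5 31 18 31671 b J = true := fun b h1 h2 =>
  if h : b < 1711 then lo_1710_1711 b h1 h else lo_1711_1712 b (Nat.le_of_not_lt h) h2
theorem lo_1712_1713 : ∀ b, 1712 ≤ b → b < 1713 → ∃ J, chkPBlk P 5 31 18 31671 b J = true := fun b h1 h2 => by
  have hb : b = 1712 := Nat.le_antisymm (Nat.le_of_lt_succ h2) h1
  subst hb; exact ⟨_, lblk_1712⟩
theorem lo_1713_1714 : ∀ b, 1713 ≤ b → b < 1714 → ∃ J, chkPBlk P 5 31 18 31671 b J = true := fun b h1 h2 => by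
  have hb : b = 1713 := Nat.le_antisymm (Nat.le_of_lt_succ h2) h1
  subst hb; exact ⟨_, lblk_1713⟩
theorem lo_1714_1715 : ∀ b, 1714 ≤ b → b < 1715 → ∃ J, chkPBlk P 5 31 18 31671 b J = true := fun b h1 h2 => by
  have hb : b = 1714 := Nat.le_antisymm (Nat.le_of_lt_succ h2) h1
  subst hb; exact ⟨_, lblk_1714⟩
theorem lo_1713_1715 : ∀ b, 1713 ≤ b → b < 1715 → ∃ J, chkPBlk P 5 31 18 31671 b J = true := fun b h1 h2 =>
  if h : b < 1714 then lo_1713_1714 b h1 h else lo_1714_1715 b (Nat.le_of_not_lt h) h2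
theorem lo_1712_1715 : ∀ b, 1712 ≤ b → b < 1715 → ∃ J, chkPBlk P 5 31 18 31671 b J = true := fun b h1 h2 =>
  if h : b < 1713 then lo_1712_1713 b h1 h else lo_1713_1715 b (Nat.le_of_not_lt h) h2
theorem lo_1710_1715 : ∀ b, 1710 ≤ b → b < 1715 → ∃ J, chkPBlk P 5 31 18 31671 b J = true := fun b h1 h2 =>
  if h : b < 1712 then lo_1710_1712 b h1 h else lo_1712_1715 b (Nat.le_of_not_lt h) h2
theorem lo_1706_1715 : ∀ b, 1706 ≤ b → b < 1715 → ∃ J, chkPBlk P 5 31 18 31671 b J = true := fun b h1 h2 =>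
  if h : b < 1710 then lo_1706_1710 b h1 h else lo_1710_1715 b (Nat.le_of_not_lt h) h2
theorem lo_1715_1716 : ∀ b, 1715 ≤ b → b < 1716 → ∃ J, chkPBlk P 5 31 18 31671 b J = true := fun b h1 h2 => by
  have hb : b = 1715 := Nat.le_antisymm (Nat.le_of_lt_succ h2) h1
  subst hb; exact ⟨_, lblk_1715⟩
theorem lo_1716_1717 : ∀ b, 1716 ≤ b → b < 1717 → ∃ J, chkPBlk P 5 31 18 31671 b J = true := fun b h1 h2 => by
  have hb : b = 1716 := Nat.le_antisymm (Nat.le_of_lt_succ h2) h1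
  subst hb; exact ⟨_, lblk_1716⟩
theorem lo_1715_1717 : ∀ b, 1715 ≤ b → b < 1717 → ∃ J, chkPBlk P 5 31 18 31671 b J = true := fun b h1 h2 =>
  if h : b < 1716 then lo_1715_1716 b h1 h else lo_1716_1717 b (Nat.le_of_not_lt h) h2
theorem lo_1717_1718 : ∀ b, 1717 ≤ b → b < 1718 → ∃ J, chkPBlk P 5 31 18 31671 b J = true := fun b h1 h2 => by
  have hb : b = 1717 := Nat.le_antisymm (Nat.le_of_lt_succ h2) h1
  subst hb; exact ⟨_, lblk_1717⟩
theorem lo_1718_1719 : ∀ b, 1718 ≤ b → b < 1719 → ∃ J, chkPBlk P 5 31 18 31671 b J = true := fun b h1 h2 => by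
  have hb : b = 1718 := Nat.le_antisymm (Nat.le_of_lt_succ h2) h1
  subst hb; exact ⟨_, lblk_1718⟩
theorem lo_1717_1719 : ∀ b, 1717 ≤ b → b < 1719 → ∃ J, chkPBlk P 5 31 18 31671 b J = true := fun b h1 h2 =>
  if h : b < 1718 then lo_1717_1718 b h1 h else lo_1718_1719 b (Nat.le_of_not_lt h) h2
theorem lo_1715_1719 : ∀ b, 1715 ≤ b → b < 1719 → ∃ J, chkPBlk P 5 31 18 31671 b J = true := fun b h1 h2 =>
  if h : b < 1717 then lo_1715_1717 b h1 h else lo_1717_1719 b (Nat.le_of_not_lt h) h2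
theorem lo_1719_1720 : ∀ b, 1719 ≤ b → b < 1720 → ∃ J, chkPBlk P 5 31 18 31671 b J = true := fun b h1 h2 => by
  have hb : b = 1719 := Nat.le_antisymm (Nat.le_of_lt_succ h2) h1
  subst hb; exact ⟨_, lblk_1719⟩
theorem lo_1720_1721 : ∀ b, 1720 ≤ b → b < 1721 → ∃ J, chkPBlk P 5 31 18 31671 b J = true := fun b h1 h2 => by
  have hb : b = 1720 := Nat.le_antisymm (Nat.le_of_lt_succ h2) h1
  subst hb; exact ⟨_, lblk_1720⟩
theorem lo_1719_1721 : ∀ b, 1719 ≤ b → b < 1721 → ∃ J, chkPBlk P 5 31 18 31671 b J = true := fun b h1 h2 =>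
  if h : b < 1720 then lo_1719_1720 b h1 h else lo_1720_1721 b (Nat.le_of_not_lt h) h2
theorem lo_1721_1722 : ∀ b, 1721 ≤ b → b < 1722 → ∃ J, chkPBlk P 5 31 18 31671 b J = true := fun b h1 h2 => by
  have hb : b = 1721 := Nat.le_antisymm (Nat.le_of_lt_succ h2) h1
  subst hb; exact ⟨_, lblk_1721⟩
theorem lo_1722_1723 : ∀ b, 1722 ≤ b → b < 1723 → ∃ J, chkPBlk P 5 31 18 31671 b J = true := fun b h1 h2 => by
  have hb : b = 1722 := Nat.le_antisymm (Nat.le_of_lt_succ h2) h1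
  subst hb; exact ⟨_, lblk_1722⟩
theorem lo_1723_1724 : ∀ b, 1723 ≤ b → b < 1724 → ∃ J, chkPBlk P 5 31 18 31671 b J = true := fun b h1 h2 => by
  have hb : b = 1723 := Nat.le_antisymm (Nat.le_of_lt_succ h2) h1
  subst hb; exact ⟨_, lblk_1723⟩
theorem lo_1722_1724 : ∀ b, 1722 ≤ b → b < 1724 → ∃ J, chkPBlk P 5 31 18 31671 b J = true := fun b h1 h2 =>
  if h : b < 1723 then lo_1722_1723 b h1 h else lo_1723_1724 b (Nat.le_of_not_lt h) h2
theorem lo_1721_1724 : ∀ b, 1721 ≤ b → b < 1724 → ∃ J, chkPBlk P 5 31 18 31671 b J = true := fun b h1 h2 =>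
  if h : b < 1722 then lo_1721_1722 b h1 h else lo_1722_1724 b (Nat.le_of_not_lt h) h2
theorem lo_1719_1724 : ∀ b, 1719 ≤ b → b < 1724 → ∃ J, chkPBlk P 5 31 18 31671 b J = true := fun b h1 h2 =>
  if h : b < 1721 then lo_1719_1721 b h1 h else lo_1721_1724 b (Nat.le_of_not_lt h) h2
theorem lo_1715_1724 : ∀ b, 1715 ≤ b → b < 1724 → ∃ J, chkPBlk P 5 31 18 31671 b J = true := fun b h1 h2 =>
  if h : b < 1719 then lo_1715_1719 b h1 h else lo_1719_1724 b (Nat.le_of_not_lt h) h2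
theorem lo_1706_1724 : ∀ b, 1706 ≤ b → b < 1724 → ∃ J, chkPBlk P 5 31 18 31671 b J = true := fun b h1 h2 =>
  if h : b < 1715 then lo_1706_1715 b h1 h else lo_1715_1724 b (Nat.le_of_not_lt h) h2
theorem lo_1688_1724 : ∀ b, 1688 ≤ b → b < 1724 → ∃ J, chkPBlk P 5 31 18 31671 b J = true := fun b h1 h2 =>
  if h : b < 1706 then lo_1688_1706 b h1 h else lo_1706_1724 b (Nat.le_of_not_lt h) h2
theorem lo_1724_1725 : ∀ b, 1724 ≤ b → b < 1725 → ∃ J, chkPBlk P 5 31 18 31671 b J = true := fun b h1 h2 => by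
  have hb : b = 1724 := Nat.le_antisymm (Nat.le_of_lt_succ h2) h1
  subst hb; exact ⟨_, lblk_1724⟩
theorem lo_1725_1726 : ∀ b, 1725 ≤ b → b < 1726 → ∃ J, chkPBlk P 5 31 18 31671 b J = true := fun b h1 h2 => by
  have hb : b = 1725 := Nat.le_antisymm (Nat.le_of_lt_succ h2) h1
  subst hb; exact ⟨_, lblk_1725⟩
theorem lo_1724_1726 : ∀ b, 1724 ≤ b → b < 1726 → ∃ J, chkPBlk P 5 31 18 31671 b J = true := fun b h1 h2 =>
  if h : b < 1725 then lo_1724_1725 b h1 h else lo_1725_1726 b (Nat.le_of_not_lt h) h2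
theorem lo_1726_1727 : ∀ b, 1726 ≤ b → b < 1727 → ∃ J, chkPBlk P 5 31 18 31671 b J = true := fun b h1 h2 => by
  have hb : b = 1726 := Nat.le_antisymm (Nat.le_of_lt_succ h2) h1
  subst hb; exact ⟨_, lblk_1726⟩
theorem lo_1727_1728 : ∀ b, 1727 ≤ b → b < 1728 → ∃ J, chkPBlk P 5 31 18 31671 b J = true := fun b h1 h2 => by
  have hb : b = 1727 := Nat.le_antisymm (Nat.le_of_lt_succ h2) h1
  subst hb; exact ⟨_, lblk_1727⟩
theorem lo_1726_1728 : ∀ b, 1726 ≤ b → b < 1728 → ∃ J, chkPBlk P 5 31 18 31671 b J = true := fun b h1 h2 =>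
  if h : b < 1727 then lo_1726_1727 b h1 h else lo_1727_1728 b (Nat.le_of_not_lt h) h2
theorem lo_1724_1728 : ∀ b, 1724 ≤ b → b < 1728 → ∃ J, chkPBlk P 5 31 18 31671 b J = true := fun b h1 h2 =>
  if h : b < 1726 then lo_1724_1726 b h1 h else lo_1726_1728 b (Nat.le_of_not_lt h) h2
theorem lo_1728_1729 : ∀ b, 1728 ≤ b → b < 1729 → ∃ J, chkPBlk P 5 31 18 31671 b J = true := fun b h1 h2 => by
  have hb : b = 1728 := Nat.le_antisymm (Nat.le_of_lt_succ h2) h1
  subst hb; exact ⟨_, lblk_1728⟩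
theorem lo_1729_1730 : ∀ b, 1729 ≤ b → b < 1730 → ∃ J, chkPBlk P 5 31 18 31671 b J = true := fun b h1 h2 => by
  have hb : b = 1729 := Nat.le_antisymm (Nat.le_of_lt_succ h2) h1
  subst hb; exact ⟨_, lblk_1729⟩
theorem lo_1728_1730 : ∀ b, 1728 ≤ b → b < 1730 → ∃ J, chkPBlk P 5 31 18 31671 b J = true := fun b h1 h2 =>
  if h : b < 1729 then lo_1728_1729 b h1 h else lo_1729_1730 b (Nat.le_of_not_lt h) h2
theorem lo_1730_1731 : ∀ b, 1730 ≤ b → b < 1731 → ∃ J, chkPBlk P 5 31 18 31671 b J = true := fun b h1 h2 => by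
  have hb : b = 1730 := Nat.le_antisymm (Nat.le_of_lt_succ h2) h1
  subst hb; exact ⟨_, lblk_1730⟩
theorem lo_1731_1732 : ∀ b, 1731 ≤ b → b < 1732 → ∃ J, chkPBlk P 5 31 18 31671 b J = true := fun b h1 h2 => by
  have hb : b = 1731 := Nat.le_antisymm (Nat.le_of_lt_succ h2) h1
  subst hb; exact ⟨_, lblk_1731⟩
theorem lo_1732_1733 : ∀ b, 1732 ≤ b → b < 1733 → ∃ J, chkPBlk P 5 31 18 31671 b J = true := fun b h1 h2 => by
  have hb : b = 1732 := Nat.le_antisymm (Nat.le_of_lt_succ h2) h1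
  subst hb; exact ⟨_, lblk_1732⟩
theorem lo_1731_1733 : ∀ b, 1731 ≤ b → b < 1733 → ∃ J, chkPBlk P 5 31 18 31671 b J = true := fun b h1 h2 =>
  if h : b < 1732 then lo_1731_1732 b h1 h else lo_1732_1733 b (Nat.le_of_not_lt h) h2
theorem lo_1730_1733 : ∀ b, 1730 ≤ b → b < 1733 → ∃ J, chkPBlk P 5 31 18 31671 b J = true := fun b h1 h2 =>
  if h : b < 1731 then lo_1730_1731 b h1 h else lo_1731_1733 b (Nat.le_of_not_lt h) h2
theorem lo_1728_1733 : ∀ b, 1728 ≤ b → b < 1733 → ∃ J, chkPBlk P 5 31 18 31671 b J = true := fun b h1 h2 =>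
  if h : b < 1730 then lo_1728_1730 b h1 h else lo_1730_1733 b (Nat.le_of_not_lt h) h2
theorem lo_1724_1733 : ∀ b, 1724 ≤ b → b < 1733 → ∃ J, chkPBlk P 5 31 18 31671 b J = true := fun b h1 h2 =>
  if h : b < 1728 then lo_1724_1728 b h1 h else lo_1728_1733 b (Nat.le_of_not_lt h) h2
theorem lo_1733_1734 : ∀ b, 1733 ≤ b → b < 1734 → ∃ J, chkPBlk P 5 31 18 31671 b J = true := fun b h1 h2 => by
  have hb : b = 1733 := Nat.le_antisymm (Nat.le_of_lt_succ h2) h1
  subst hb; exact ⟨_, lblk_1733⟩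
theorem lo_1734_1735 : ∀ b, 1734 ≤ b → b < 1735 → ∃ J, chkPBlk P 5 31 18 31671 b J = true := fun b h1 h2 => by
  have hb : b = 1734 := Nat.le_antisymm (Nat.le_of_lt_succ h2) h1
  subst hb; exact ⟨_, lblk_1734⟩
theorem lo_1733_1735 : ∀ b, 1733 ≤ b → b < 1735 → ∃ J, chkPBlk P 5 31 18 31671 b J = true := fun b h1 h2 =>
  if h : b < 1734 then lo_1733_1734 b h1 h else lo_1734_1735 b (Nat.le_of_not_lt h) h2
theorem lo_1735_1736 : ∀ b, 1735 ≤ b → b < 1736 → ∃ J, chkPBlk P 5 31 18 31671 b J = true := fun b h1 h2 => by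
  have hb : b = 1735 := Nat.le_antisymm (Nat.le_of_lt_succ h2) h1
  subst hb; exact ⟨_, lblk_1735⟩
theorem lo_1736_1737 : ∀ b, 1736 ≤ b → b < 1737 → ∃ J, chkPBlk P 5 31 18 31671 b J = true := fun b h1 h2 => by
  have hb : b = 1736 := Nat.le_antisymm (Nat.le_of_lt_succ h2) h1
  subst hb; exact ⟨_, lblk_1736⟩
theorem lo_1735_1737 : ∀ b, 1735 ≤ b → b < 1737 → ∃ J, chkPBlk P 5 31 18 31671 b J = true := fun b h1 h2 =>
  if h : b < 1736 then lo_1735_1736 b h1 h else lo_1736_1737 b (Nat.le_of_not_lt h) h2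
theorem lo_1733_1737 : ∀ b, 1733 ≤ b → b < 1737 → ∃ J, chkPBlk P 5 31 18 31671 b J = true := fun b h1 h2 =>
  if h : b < 1735 then lo_1733_1735 b h1 h else lo_1735_1737 b (Nat.le_of_not_lt h) h2
theorem lo_1737_1738 : ∀ b, 1737 ≤ b → b < 1738 → ∃ J, chkPBlk P 5 31 18 31671 b J = true := fun b h1 h2 => by
  have hb : b = 1737 := Nat.le_antisymm (Nat.le_of_lt_succ h2) h1
  subst hb; exact ⟨_, lblk_1737⟩
theorem lo_1738_1739 : ∀ b, 1738 ≤ b → b < 1739 → ∃ J, chkPBlk P 5 31 18 31671 b J = true := fun b h1 h2 => by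
  have hb : b = 1738 := Nat.le_antisymm (Nat.le_of_lt_succ h2) h1
  subst hb; exact ⟨_, lblk_1738⟩
theorem lo_1737_1739 : ∀ b, 1737 ≤ b → b < 1739 → ∃ J, chkPBlk P 5 31 18 31671 b J = true := fun b h1 h2 =>
  if h : b < 1738 then lo_1737_1738 b h1 h else lo_1738_1739 b (Nat.le_of_not_lt h) h2
theorem lo_1739_1740 : ∀ b, 1739 ≤ b → b < 1740 → ∃ J, chkPBlk P 5 31 18 31671 b J = true := fun b h1 h2 => by
  have hb : b = 1739 := Nat.le_antisymm (Nat.le_of_lt_succ h2) h1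
  subst hb; exact ⟨_, lblk_1739⟩
theorem lo_1740_1741 : ∀ b, 1740 ≤ b → b < 1741 → ∃ J, chkPBlk P 5 31 18 31671 b J = true := fun b h1 h2 => by
  have hb : b = 1740 := Nat.le_antisymm (Nat.le_of_lt_succ h2) h1
  subst hb; exact ⟨_, lblk_1740⟩
theorem lo_1741_1742 : ∀ b, 1741 ≤ b → b < 1742 → ∃ J, chkPBlk P 5 31 18 31671 b J = true := fun b h1 h2 => by
  have hb : b = 1741 := Nat.le_antisymm (Nat.le_of_lt_succ h2) h1
  subst hb; exact ⟨_, lblk_1741⟩
theorem lo_1740_1742 : ∀ b, 1740 ≤ b → b < 1742 → ∃ J, chkPBlk P 5 31 18 31671 b J = true := fun b h1 h2 =>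
  if h : b < 1741 then lo_1740_1741 b h1 h else lo_1741_1742 b (Nat.le_of_not_lt h) h2
theorem lo_1739_1742 : ∀ b, 1739 ≤ b → b < 1742 → ∃ J, chkPBlk P 5 31 18 31671 b J = true := fun b h1 h2 =>
  if h : b < 1740 then lo_1739_1740 b h1 h else lo_1740_1742 b (Nat.le_of_not_lt h) h2
theorem lo_1737_1742 : ∀ b, 1737 ≤ b → b < 1742 → ∃ J, chkPBlk P 5 31 18 31671 b J = true := fun b h1 h2 =>
  if h : b < 1739 then lo_1737_1739 b h1 h else lo_1739_1742 b (Nat.le_of_not_lt h) h2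
theorem lo_1733_1742 : ∀ b, 1733 ≤ b → b < 1742 → ∃ J, chkPBlk P 5 31 18 31671 b J = true := fun b h1 h2 =>
  if h : b < 1737 then lo_1733_1737 b h1 h else lo_1737_1742 b (Nat.le_of_not_lt h) h2
theorem lo_1724_1742 : ∀ b, 1724 ≤ b → b < 1742 → ∃ J, chkPBlk P 5 31 18 31671 b J = true := fun b h1 h2 =>
  if h : b < 1733 then lo_1724_1733 b h1 h else lo_1733_1742 b (Nat.le_of_not_lt h) h2
theorem lo_1742_1743 : ∀ b, 1742 ≤ b → b < 1743 → ∃ J, chkPBlk P 5 31 18 31671 b J = true := fun b h1 h2 => by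
  have hb : b = 1742 := Nat.le_antisymm (Nat.le_of_lt_succ h2) h1
  subst hb; exact ⟨_, lblk_1742⟩
theorem lo_1743_1744 : ∀ b, 1743 ≤ b → b < 1744 → ∃ J, chkPBlk P 5 31 18 31671 b J = true := fun b h1 h2 => by
  have hb : b = 1743 := Nat.le_antisymm (Nat.le_of_lt_succ h2) h1
  subst hb; exact ⟨_, lblk_1743⟩
theorem lo_1742_1744 : ∀ b, 1742 ≤ b → b < 1744 → ∃ J, chkPBlk P 5 31 18 31671 b J = true := fun b h1 h2 =>
  if h : b < 1743 then lo_1742_1743 b h1 h else lo_1743_1744 b (Nat.le_of_not_lt h) h2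
theorem lo_1744_1745 : ∀ b, 1744 ≤ b → b < 1745 → ∃ J, chkPBlk P 5 31 18 31671 b J = true := fun b h1 h2 => by
  have hb : b = 1744 := Nat.le_antisymm (Nat.le_of_lt_succ h2) h1
  subst hb; exact ⟨_, lblk_1744⟩
theorem lo_1745_1746 : ∀ b, 1745 ≤ b → b < 1746 → ∃ J, chkPBlk P 5 31 18 31671 b J = true := fun b h1 h2 => by
  have hb : b = 1745 := Nat.le_antisymm (Nat.le_of_lt_succ h2) h1
  subst hb; exact ⟨_, lblk_1745⟩
theorem lo_1744_1746 : ∀ b, 1744 ≤ b → b < 1746 → ∃ J, chkPBlk P 5 31 18 31671 b J = true := fun b h1 h2 =>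
  if h : b < 1745 then lo_1744_1745 b h1 h else lo_1745_1746 b (Nat.le_of_not_lt h) h2
theorem lo_1742_1746 : ∀ b, 1742 ≤ b → b < 1746 → ∃ J, chkPBlk P 5 31 18 31671 b J = true := fun b h1 h2 =>
  if h : b < 1744 then lo_1742_1744 b h1 h else lo_1744_1746 b (Nat.le_of_not_lt h) h2
theorem lo_1746_1747 : ∀ b, 1746 ≤ b → b < 1747 → ∃ J, chkPBlk P 5 31 18 31671 b J = true := fun b h1 h2 => by
  have hb : b = 1746 := Nat.le_antisymm (Nat.le_of_lt_succ h2) h1
  subst hb; exact ⟨_, lblk_1746⟩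
theorem lo_1747_1748 : ∀ b, 1747 ≤ b → b < 1748 → ∃ J, chkPBlk P 5 31 18 31671 b J = true := fun b h1 h2 => by
  have hb : b = 1747 := Nat.le_antisymm (Nat.le_of_lt_succ h2) h1
  subst hb; exact ⟨_, lblk_1747⟩
theorem lo_1746_1748 : ∀ b, 1746 ≤ b → b < 1748 → ∃ J, chkPBlk P 5 31 18 31671 b J = true := fun b h1 h2 =>
  if h : b < 1747 then lo_1746_1747 b h1 h else lo_1747_1748 b (Nat.le_of_not_lt h) h2
theorem lo_1748_1749 : ∀ b, 1748 ≤ b → b < 1749 → ∃ J, chkPBlk P 5 31 18 31671 b J = true := fun b h1 h2 => by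
  have hb : b = 1748 := Nat.le_antisymm (Nat.le_of_lt_succ h2) h1
  subst hb; exact ⟨_, lblk_1748⟩
theorem lo_1749_1750 : ∀ b, 1749 ≤ b → b < 1750 → ∃ J, chkPBlk P 5 31 18 31671 b J = true := fun b h1 h2 => by
  have hb : b = 1749 := Nat.le_antisymm (Nat.le_of_lt_succ h2) h1
  subst hb; exact ⟨_, lblk_1749⟩
theorem lo_1750_1751 : ∀ b, 1750 ≤ b → b < 1751 → ∃ J, chkPBlk P 5 31 18 31671 b J = true := fun b h1 h2 => by
  have hb : b = 1750 := Nat.le_antisymm (Nat.le_of_lt_succ h2) h1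
  subst hb; exact ⟨_, lblk_1750⟩
theorem lo_1749_1751 : ∀ b, 1749 ≤ b → b < 1751 → ∃ J, chkPBlk P 5 31 18 31671 b J = true := fun b h1 h2 =>
  if h : b < 1750 then lo_1749_1750 b h1 h else lo_1750_1751 b (Nat.le_of_not_lt h) h2
theorem lo_1748_1751 : ∀ b, 1748 ≤ b → b < 1751 → ∃ J, chkPBlk P 5 31 18 31671 b J = true := fun b h1 h2 =>
  if h : b < 1749 then lo_1748_1749 b h1 h else lo_1749_1751 b (Nat.le_of_not_lt h) h2
theorem lo_1746_1751 : ∀ b, 1746 ≤ b → b < 1751 → ∃ J, chkPBlk P 5 31 18 31671 b J = true := fun b h1 h2 =>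
  if h : b < 1748 then lo_1746_1748 b h1 h else lo_1748_1751 b (Nat.le_of_not_lt h) h2
theorem lo_1742_1751 : ∀ b, 1742 ≤ b → b < 1751 → ∃ J, chkPBlk P 5 31 18 31671 b J = true := fun b h1 h2 =>
  if h : b < 1746 then lo_1742_1746 b h1 h else lo_1746_1751 b (Nat.le_of_not_lt h) h2
theorem lo_1751_1752 : ∀ b, 1751 ≤ b → b < 1752 → ∃ J, chkPBlk P 5 31 18 31671 b J = true := fun b h1 h2 => by
  have hb : b = 1751 := Nat.le_antisymm (Nat.le_of_lt_succ h2) h1
  subst hb; exact ⟨_, lblk_1751⟩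
theorem lo_1752_1753 : ∀ b, 1752 ≤ b → b < 1753 → ∃ J, chkPBlk P 5 31 18 31671 b J = true := fun b h1 h2 => by
  have hb : b = 1752 := Nat.le_antisymm (Nat.le_of_lt_succ h2) h1
  subst hb; exact ⟨_, lblk_1752⟩
theorem lo_1751_1753 : ∀ b, 1751 ≤ b → b < 1753 → ∃ J, chkPBlk P 5 31 18 31671 b J = true := fun b h1 h2 =>
  if h : b < 1752 then lo_1751_1752 b h1 h else lo_1752_1753 b (Nat.le_of_not_lt h) h2
theorem lo_1753_1754 : ∀ b, 1753 ≤ b → b < 1754 → ∃ J, chkPBlk P 5 31 18 31671 b J = true := fun b h1 h2 => by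
  have hb : b = 1753 := Nat.le_antisymm (Nat.le_of_lt_succ h2) h1
  subst hb; exact ⟨_, lblk_1753⟩
theorem lo_1754_1755 : ∀ b, 1754 ≤ b → b < 1755 → ∃ J, chkPBlk P 5 31 18 31671 b J = true := fun b h1 h2 => by
  have hb : b = 1754 := Nat.le_antisymm (Nat.le_of_lt_succ h2) h1
  subst hb; exact ⟨_, lblk_1754⟩
theorem lo_1753_1755 : ∀ b, 1753 ≤ b → b < 1755 → ∃ J, chkPBlk P 5 31 18 31671 b J = true := fun b h1 h2 =>
  if h : b < 1754 then lo_1753_1754 b h1 h else lo_1754_1755 b (Nat.le_of_not_lt h) h2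
theorem lo_1751_1755 : ∀ b, 1751 ≤ b → b < 1755 → ∃ J, chkPBlk P 5 31 18 31671 b J = true := fun b h1 h2 =>
  if h : b < 1753 then lo_1751_1753 b h1 h else lo_1753_1755 b (Nat.le_of_not_lt h) h2
theorem lo_1755_1756 : ∀ b, 1755 ≤ b → b < 1756 → ∃ J, chkPBlk P 5 31 18 31671 b J = true := fun b h1 h2 => by
  have hb : b = 1755 := Nat.le_antisymm (Nat.le_of_lt_succ h2) h1
  subst hb; exact ⟨_, lblk_1755⟩
theorem lo_1756_1757 : ∀ b, 1756 ≤ b → b < 1757 → ∃ J, chkPBlk P 5 31 18 31671 b J = true := fun b h1 h2 => by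
  have hb : b = 1756 := Nat.le_antisymm (Nat.le_of_lt_succ h2) h1
  subst hb; exact ⟨_, lblk_1756⟩
theorem lo_1755_1757 : ∀ b, 1755 ≤ b → b < 1757 → ∃ J, chkPBlk P 5 31 18 31671 b J = true := fun b h1 h2 =>
  if h : b < 1756 then lo_1755_1756 b h1 h else lo_1756_1757 b (Nat.le_of_not_lt h) h2
theorem lo_1757_1758 : ∀ b, 1757 ≤ b → b < 1758 → ∃ J, chkPBlk P 5 31 18 31671 b J = true := fun b h1 h2 => by
  have hb : b = 1757 := Nat.le_antisymm (Nat.le_of_lt_succ h2) h1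
  subst hb; exact ⟨_, lblk_1757⟩
theorem lo_1758_1759 : ∀ b, 1758 ≤ b → b < 1759 → ∃ J, chkPBlk P 5 31 18 31671 b J = true := fun b h1 h2 => by
  have hb : b = 1758 := Nat.le_antisymm (Nat.le_of_lt_succ h2) h1
  subst hb; exact ⟨_, lblk_1758⟩
theorem lo_1759_1760 : ∀ b, 1759 ≤ b → b < 1760 → ∃ J, chkPBlk P 5 31 18 31671 b J = true := fun b h1 h2 => by
  have hb : b = 1759 := Nat.le_antisymm (Nat.le_of_lt_succ h2) h1
  subst hb; exact ⟨_, lblk_1759⟩
theorem lo_1758_1760 : ∀ b, 1758 ≤ b → b < 1760 → ∃ J, chkPBlk P 5 31 18 31671 b J = true := fun b h1 h2 =>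
  if h : b < 1759 then lo_1758_1759 b h1 h else lo_1759_1760 b (Nat.le_of_not_lt h) h2
theorem lo_1757_1760 : ∀ b, 1757 ≤ b → b < 1760 → ∃ J, chkPBlk P 5 31 18 31671 b J = true := fun b h1 h2 =>
  if h : b < 1758 then lo_1757_1758 b h1 h else lo_1758_1760 b (Nat.le_of_not_lt h) h2
theorem lo_1755_1760 : ∀ b, 1755 ≤ b → b < 1760 → ∃ J, chkPBlk P 5 31 18 31671 b J = true := fun b h1 h2 =>
  if h : b < 1757 then lo_1755_1757 b h1 h else lo_1757_1760 b (Nat.le_of_not_lt h) h2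
theorem lo_1751_1760 : ∀ b, 1751 ≤ b → b < 1760 → ∃ J, chkPBlk P 5 31 18 31671 b J = true := fun b h1 h2 =>
  if h : b < 1755 then lo_1751_1755 b h1 h else lo_1755_1760 b (Nat.le_of_not_lt h) h2
theorem lo_1742_1760 : ∀ b, 1742 ≤ b → b < 1760 → ∃ J, chkPBlk P 5 31 18 31671 b J = true := fun b h1 h2 =>
  if h : b < 1751 then lo_1742_1751 b h1 h else lo_1751_1760 b (Nat.le_of_not_lt h) h2
theorem lo_1724_1760 : ∀ b, 1724 ≤ b → b < 1760 → ∃ J, chkPBlk P 5 31 18 31671 b J = true := fun b h1 h2 =>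
  if h : b < 1742 then lo_1724_1742 b h1 h else lo_1742_1760 b (Nat.le_of_not_lt h) h2
theorem lo_1688_1760 : ∀ b, 1688 ≤ b → b < 1760 → ∃ J, chkPBlk P 5 31 18 31671 b J = true := fun b h1 h2 =>
  if h : b < 1724 then lo_1688_1724 b h1 h else lo_1724_1760 b (Nat.le_of_not_lt h) h2
theorem lo_1617_1760 : ∀ b, 1617 ≤ b → b < 1760 → ∃ J, chkPBlk P 5 31 18 31671 b J = true := fun b h1 h2 =>
  if h : b < 1688 then lo_1617_1688 b h1 h else lo_1688_1760 b (Nat.le_of_not_lt h) h2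

end Cfsg.Agent.Lib.Helper29.S1689
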