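import Cfsg.Agent.Lib.Helper29.S1689.Data

set_option autoImplicit false
set_option Elab.async false

namespace Cfsg.Agent.Lib.Helper29.S1689

open Cfsg.Agent.Lib.Helper29.TcTrace Cfsg.Agent.Lib.Helper29.TcCert Cfsg.Agent.Lib.Helper29.TcPerm

theorem lblk_294 : chkPBlk P 5 31 18 31671 294 0xe84a12248c4321cc528c88 = true := by decide +kernel
theorem lblk_295 : chkPBlk P 5 31 18 31671 295 0x1054a0c928c8322124418c8 = true := by decide +kernel
theorem lblk_296 : chkPBlk P 5 31 18 31671 296 0x124414644a0c7318a449524 = true := by decide +kernel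
theorem lblk_297 : chkPBlk P 5 31 18 31671 297 0x1282a50641ca21146219123 = true := by decide +kernel
theorem lblk_298 : chkPBlk P 5 31 18 31671 298 0x10911cc62946928d244a128 = true := by decide +kernel
theorem lblk_299 : chkPBlk P 5 31 18 31671 299 0xa528c8619088220c739cc7 = true := by decide +kernel
theorem lblk_300 : chkPBlk P 5 31 18 31671 300 0x4841ce539ca729885298e5 = true := by decide +kernel
theorem lblk_301 : chkPBlk P 5 31 18 31671 301 0x88325083a4883952839506 = true := by decide +kernel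
theorem lblk_302 : chkPBlk P 5 31 18 31671 302 0x125491083a5083a4883a129 = true := by decide +kernel
theorem lblk_303 : chkPBlk P 5 31 18 31671 303 0x12841d07299234910949106 = true := by decide +kernel
theorem lblk_304 : chkPBlk P 5 31 18 31671 304 0xe9220e54a48832107394e5 = true := by decide +kernel
theorem lblk_305 : chkPBlk P 5 31 18 31671 305 0x1083a488395064a48832508 = true := by decide +kernel
theorem lblk_306 : chkPBlk P 5 31 18 31671 306 0x6922129220c92a48841c89 = true := by decide +kernel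
theorem lblk_307 : chkPBlk P 5 31 18 31671 307 0x12349109491064a48841c89 = true := by decide +kernel
theorem lblk_308 : chkPBlk P 5 31 18 31671 308 0x129220c92a48841c89220e5 = true := by decide +kernel
theorem lblk_309 : chkPBlk P 5 31 18 31671 309 0x12349108499254912441907 = true := by decide +kernel
theorem lblk_310 : chkPBlk P 5 31 18 31671 310 0x8839528395061212248d24 = true := by decide +kernel
theorem lblk_311 : chkPBlk P 5 31 18 31671 311 0xe9220e541929220c9420e9 = true := by decide +kernel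
theorem lblk_312 : chkPBlk P 5 31 18 31671 312 0x884a488324a92210722508 = true := by decide +kernel
theorem lblk_313 : chkPBlk P 5 31 18 31671 313 0x1244192922107225072a469 = true := by decide +kernel
theorem lblk_314 : chkPBlk P 5 31 18 31671 314 0x6922109324a922488320e9 = true := by decide +kernel
theorem lblk_315 : chkPBlk P 5 31 18 31671 315 0x1074a12441d06424491a489 = true := by decide +kernel
theorem lblk_316 : chkPBlk P 5 31 18 31671 316 0x12839523491094a0c92a488 = true := by decide +kernel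
theorem lblk_317 : chkPBlk P 5 31 18 31671 317 0x1244910641d294192922107 = true := by decide +kernel
theorem lblk_318 : chkPBlk P 5 31 18 31671 318 0x8848923491234910849925 = true := by decide +kernel
theorem lblk_319 : chkPBlk P 5 31 18 31671 319 0x1244212549124419074a107 = true := by decide +kernel
theorem lblk_320 : chkPBlk P 5 31 18 31671 320 0xe849925494692212441923 = true := by decide +kernel
theorem lblk_321 : chkPBlk P 5 31 18 31671 321 0x1090a122494684892349109 = true := by decide +kernel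
theorem lblk_322 : chkPBlk P 5 31 18 31671 322 0x1090a122494621912830864 = true := by decide +kernel
theorem lblk_323 : chkPBlk P 5 31 18 31671 323 0x1251886448d244144322506 = true := by decide +kernel
theorem lblk_324 : chkPBlk P 5 31 18 31671 324 0xa4425090a129289090a122 = true := by decide +kernel
theorem lblk_325 : chkPBlk P 5 31 18 31671 325 0x1244192841d072a5083a507 = true := by decide +kernel
theorem lblk_326 : chkPBlk P 5 31 18 31671 326 0x124419234910949106390e9 = true := by decide +kernel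
theorem lblk_327 : chkPBlk P 5 31 18 31671 327 0xe548d24425244192841c89 = true := by decide +kernel
theorem lblk_328 : chkPBlk P 5 31 18 31671 328 0x10641d29220c94910839128 = true := by decide +kernel
theorem lblk_329 : chkPBlk P 5 31 18 31671 329 0x491a4891a4884992549124 = true := by decide +kernel
theorem lblk_330 : chkPBlk P 5 31 18 31671 330 0x6922129220c83a46922109 = true := by decide +kernel
theorem lblk_331 : chkPBlk P 5 31 18 31671 331 0x88320e9420e4424491a489 = true := by decide +kernel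
theorem lblk_332 : chkPBlk P 5 31 18 31671 332 0x692212441923491092a489 = true := by decide +kernel
theorem lblk_333 : chkPBlk P 5 31 18 31671 333 0x1251a12248d2449d2649525 = true := by decide +kernel
theorem lblk_334 : chkPBlk P 5 31 18 31671 334 0x129220c9420e4395090a122 = true := by decide +kernel
theorem lblk_335 : chkPBlk P 5 31 18 31671 335 0x6922469221254912441907 = true := by decide +kernel
theorem lblk_336 : chkPBlk P 5 31 18 31671 336 0x123491094910641ce442449 = true := by decide +kernel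
theorem lblk_337 : chkPBlk P 5 31 18 31671 337 0x12449d26495251a48849106 = true := by decide +kernel
theorem lblk_338 : chkPBlk P 5 31 18 31671 338 0x8831d090a1224946848923 = true := by decide +kernel
theorem lblk_339 : chkPBlk P 5 31 18 31671 339 0x89495251a488491064a129 = true := by decide +kernel
theorem lblk_340 : chkPBlk P 5 31 18 31671 340 0xc641d090a1224946912469 = true := by decide +kernel
theorem lblk_341 : chkPBlk P 5 31 18 31671 341 0x1244152248d2448d2442488 = true := by decide +kernel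
theorem lblk_342 : chkPBlk P 5 31 18 31671 342 0x12749909324a249469224a3 = true := by decide +kernel
theorem lblk_343 : chkPBlk P 5 31 18 31671 343 0x1090a129289090a12249469 = true := by decide +kernel
theorem lblk_344 : chkPBlk P 5 31 18 31671 344 0x1090a1292882228d2829109 = true := by decide +kernel
theorem lblk_345 : chkPBlk P 5 31 18 31671 345 0x69124692202228d2829109 = true := by decide +kernel
theorem lblk_346 : chkPBlk P 5 31 18 31671 346 0x89284884a1214252510445 = true := by decide +kernel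
theorem lblk_347 : chkPBlk P 5 31 18 31671 347 0x12349109220c5220884a109 = true := by decide +kernel
theorem lblk_348 : chkPBlk P 5 31 18 31671 348 0x1251a48928d244212248d24 = true := by decide +kernel
theorem lblk_349 : chkPBlk P 5 31 18 31671 349 0x28489251a52749909324a2 = true := by decide +kernel
theorem lblk_350 : chkPBlk P 5 31 18 31671 350 0x491a484425090a12928909 = true := by decide +kernel
theorem lblk_351 : chkPBlk P 5 31 18 31671 351 0xc9289251a1214244928d09 = true := by decide +kernel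
theorem lblk_352 : chkPBlk P 5 31 18 31671 352 0x129289293a127424c928509 = true := by decide +kernel
theorem lblk_353 : chkPBlk P 5 31 18 31671 353 0x10442508491250910942428 = true := by decide +kernel
theorem lblk_354 : chkPBlk P 5 31 18 31671 354 0x12449424425090a129288a4 = true := by decide +kernel
theorem lblk_355 : chkPBlk P 5 31 18 31671 355 0x8442508491252910442508 = true := by decide +kernel
theorem lblk_356 : chkPBlk P 5 31 18 31671 356 0x86194884910940d0921488 = true := by decide +kernel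
theorem lblk_357 : chkPBlk P 5 31 18 31671 357 0xe219064420c839106390c7 = true := by decide +kernel
theorem lblk_358 : chkPBlk P 5 31 18 31671 358 0x88491061910441907390c8 = true := by decide +kernel
theorem lblk_359 : chkPBlk P 5 31 18 31671 359 0xc9489251a4491a487314a3 = true := by decide +kernel
theorem lblk_360 : chkPBlk P 5 31 18 31671 360 0x1244146422124418c838d28 = true := by decide +kernel
theorem lblk_361 : chkPBlk P 5 31 18 31671 361 0x106320e94a4a3398a3224a3 = true := by decide +kernel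
theorem lblk_362 : chkPBlk P 5 31 18 31671 362 0x69220a94190928c8322124 = true := by decide +kernel
theorem lblk_363 : chkPBlk P 5 31 18 31671 363 0xc84a12210ce63144519125 = true := by decide +kernel
theorem lblk_364 : chkPBlk P 5 31 18 31671 364 0x884a0a928c6448d2441528 = true := by decide +kernel
theorem lblk_365 : chkPBlk P 5 31 18 31671 365 0x69220a34a0a7398a9324a9 = true := by decide +kernel
theorem lblk_366 : chkPBlk P 5 31 18 31671 366 0x1284a0a941885288451a449 = true := by decide +kernel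
theorem lblk_367 : chkPBlk P 5 31 18 31671 367 0x64418e7398a9315251a524 = true := by decide +kernel
theorem lblk_368 : chkPBlk P 5 31 18 31671 368 0x8839506220c7394a6294a5 = true := by decide +kernel
theorem lblk_369 : chkPBlk P 5 31 18 31671 369 0x129220c92a48841c89420e9 = true := by decide +kernel
theorem lblk_370 : chkPBlk P 5 31 18 31671 370 0xc94910649524424891a488 = true := by decide +kernel
theorem lblk_371 : chkPBlk P 5 31 18 31671 371 0x12349123491084992549128 = true := by decide +kernel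
theorem lblk_372 : chkPBlk P 5 31 18 31671 372 0x106390e949106420e72a122 = true := by decide +kernel
theorem lblk_373 : chkPBlk P 5 31 18 31671 373 0x129220c9491083912349104 = true := by decide +kernel
theorem lblk_374 : chkPBlk P 5 31 18 31671 374 0x125491083912441ca91a488 = true := by decide +kernel
theorem lblk_375 : chkPBlk P 5 31 18 31671 375 0x109324a922488320e949106 = true := by decide +kernel
theorem lblk_376 : chkPBlk P 5 31 18 31671 376 0x12441907424491a4891a488 = true := by decide +kernel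
theorem lblk_377 : chkPBlk P 5 31 18 31671 377 0x8848923491234910849524 = true := by decide +kernel
theorem lblk_378 : chkPBlk P 5 31 18 31671 378 0xc92a489220c83a46922107 = true := by decide +kernel
theorem lblk_379 : chkPBlk P 5 31 18 31671 379 0xa928d24424883246922109 = true := by decide +kernel
theorem lblk_380 : chkPBlk P 5 31 18 31671 380 0x4928d091246922127424c9 = true := by decide +kernel
theorem lblk_381 : chkPBlk P 5 31 18 31671 381 0xe44a107491072a0c848509 = true := by decide +kernel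
theorem lblk_382 : chkPBlk P 5 31 18 31671 382 0xe548d24425244192549108 = true := by decide +kernel
theorem lblk_383 : chkPBlk P 5 31 18 31671 383 0x10641d29220c94910839128 = true := by decide +kernel
theorem lblk_384 : chkPBlk P 5 31 18 31671 384 0x12349123491084992549124 = true := by decide +kernel
theorem lblk_385 : chkPBlk P 5 31 18 31671 385 0x12549124419074a10722122 = true := by decide +kernel
theorem lblk_386 : chkPBlk P 5 31 18 31671 386 0x12549469221244192349108 = true := by decide +kernel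
theorem lblk_387 : chkPBlk P 5 31 18 31671 387 0x1224946848923491093a126 = true := by decide +kernel
theorem lblk_388 : chkPBlk P 5 31 18 31671 388 0x89220c94a4884910742428 = true := by decide +kernel
theorem lblk_389 : chkPBlk P 5 31 18 31671 389 0x12841d2248d244a109324a9 = true := by decide +kernel
theorem lblk_390 : chkPBlk P 5 31 18 31671 390 0x12442488325084952449106 = true := by decide +kernel
theorem lblk_391 : chkPBlk P 5 31 18 31671 391 0x691246922127424c92a4a3 = true := by decide +kernel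
theorem lblk_392 : chkPBlk P 5 31 18 31671 392 0x8832524419074242848925 = true := by decide +kernel
theorem lblk_393 : chkPBlk P 5 31 18 31671 393 0xa912469221292a4a349109 = true := by decide +kernel
theorem lblk_394 : chkPBlk P 5 31 18 31671 394 0xc849925124a3491251a488 = true := by decide +kernel
theorem lblk_395 : chkPBlk P 5 31 18 31671 395 0xa242428489251a12849d09 = true := by decide +kernel
theorem lblk_396 : chkPBlk P 5 31 18 31671 396 0x451a50511464425090a129 = true := by decide +kernel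
theorem lblk_397 : chkPBlk P 5 31 18 31671 397 0x2228d2829109424284a4a2 = true := by decide +kernel
theorem lblk_398 : chkPBlk P 5 31 18 31671 398 0x12142525104451a4491a488 = true := by decide +kernel
theorem lblk_399 : chkPBlk P 5 31 18 31671 399 0xe5220884a109224a122128 = true := by decide +kernel
theorem lblk_400 : chkPBlk P 5 31 18 31671 400 0x10949106420e44a48832508 = true := by decide +kernel
theorem lblk_401 : chkPBlk P 5 31 18 31671 401 0x1091246922524418e648d24 = true := by decide +kernel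
theorem lblk_402 : chkPBlk P 5 31 18 31671 402 0x891a4884a488320e91a488 = true := by decide +kernel
theorem lblk_403 : chkPBlk P 5 31 18 31671 403 0x124491063a5083910912469 = true := by decide +kernel
theorem lblk_404 : chkPBlk P 5 31 18 31671 404 0x12549469221244192922125 = true := by decide +kernel
theorem lblk_405 : chkPBlk P 5 31 18 31671 405 0x28489251a12248d2449d26 = true := by decide +kernel
theorem lblk_406 : chkPBlk P 5 31 18 31671 406 0x12349109220c84892349109 = true := by decide +kernel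
theorem lblk_407 : chkPBlk P 5 31 18 31671 407 0x10742428489251a12248d24 = true := by decide +kernel
theorem lblk_408 : chkPBlk P 5 31 18 31671 408 0x1292a4a349109220c949106 = true := by decide +kernel
theorem lblk_409 : chkPBlk P 5 31 18 31671 409 0xa3491251a4882a12248d24 = true := by decide +kernel
theorem lblk_410 : chkPBlk P 5 31 18 31671 410 0x109124a34a4e93212649449 = true := by decide +kernel
theorem lblk_411 : chkPBlk P 5 31 18 31671 411 0x107390884a1214252512121 = true := by decide +kernel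
theorem lblk_412 : chkPBlk P 5 31 18 31671 412 0x6922124419234910949106 = true := by decide +kernel
theorem lblk_413 : chkPBlk P 5 31 18 31671 413 0x109124a3424491a48949525 = true := by decide +kernel
theorem lblk_414 : chkPBlk P 5 31 18 31671 414 0x12448d2442488319071a121 = true := by decide +kernel
theorem lblk_415 : chkPBlk P 5 31 18 31671 415 0x4928d2449469220a848923 = true := by decide +kernel
theorem lblk_416 : chkPBlk P 5 31 18 31671 416 0x1214244928d293a4c849925 = true := by decide +kernel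
theorem lblk_417 : chkPBlk P 5 31 18 31671 417 0x12949106221284850949448 = true := by decide +kernel
theorem lblk_418 : chkPBlk P 5 31 18 31671 418 0x12642525124a34912549105 = true := by decide +kernel
theorem lblk_419 : chkPBlk P 5 31 18 31671 419 0x884a1214252512429124a3 = true := by decide +kernel
theorem lblk_420 : chkPBlk P 5 31 18 31671 420 0x1251a12248d244a4882a506 = true := by decide +kernel
theorem lblk_421 : chkPBlk P 5 31 18 31671 421 0xa3424c9289251a48848522 = true := by decide +kernel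
theorem lblk_422 : chkPBlk P 5 31 18 31671 422 0x127424e8499250a12649449 = true := by decide +kernel
theorem lblk_423 : chkPBlk P 5 31 18 31671 423 0x109224a1221284850949449 = true := by decide +kernel
theorem lblk_424 : chkPBlk P 5 31 18 31671 424 0x109224a1094494148822128 = true := by decide +kernel
theorem lblk_425 : chkPBlk P 5 31 18 31671 425 0x4928d24094494148822128 = true := by decide +kernel
theorem lblk_426 : chkPBlk P 5 31 18 31671 426 0x8822128424892842512429 = true := by decide +kernel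
theorem lblk_427 : chkPBlk P 5 31 18 31671 427 0x69220a4410884a109224a5 = true := by decide +kernel
theorem lblk_428 : chkPBlk P 5 31 18 31671 428 0x8848509124a3424491a489 = true := by decide +kernel
theorem lblk_429 : chkPBlk P 5 31 18 31671 429 0x1264944928d09324a249469 = true := by decide +kernel
theorem lblk_430 : chkPBlk P 5 31 18 31671 430 0x1094944949d093a12649428 = true := by decide +kernel
theorem lblk_431 : chkPBlk P 5 31 18 31671 431 0x882212842489284884a121 = true := by decide +kernel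
theorem lblk_432 : chkPBlk P 5 31 18 31671 432 0x1090a129289090a12249465 = true := by decide +kernel
theorem lblk_433 : chkPBlk P 5 31 18 31671 433 0x1093a126494284992511109 = true := by decide +kernel
theorem lblk_434 : chkPBlk P 5 31 18 31671 434 0x109224a14a124424e849925 = true := by decide +kernel
theorem lblk_435 : chkPBlk P 5 31 18 31671 435 0x10422128424892948822128 = true := by decide +kernel
theorem lblk_436 : chkPBlk P 5 31 18 31671 436 0x89294882212842489284a4 = true := by decide +kernel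
theorem lblk_437 : chkPBlk P 5 31 18 31671 437 0x884a068490a4410884a109 = true := by decide +kernel
theorem lblk_438 : chkPBlk P 5 31 18 31671 438 0x88291094a10940cc329109 = true := by decide +kernel
theorem lblk_439 : chkPBlk P 5 31 18 31671 439 0x43221283110639907118a3 = true := by decide +kernel
theorem lblk_440 : chkPBlk P 5 31 18 31671 440 0x8322124418c838d28308a3 = true := by decide +kernel
theorem lo_294_295 : ∀ b, 294 ≤ b → b < 295 → ∃ J, chkPBlk P 5 31 18 31671 b J = true := fun b h1 h2 => by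
  have hb : b = 294 := Nat.le_antisymm (Nat.le_of_lt_succ h2) h1
  subst hb; exact ⟨_, lblk_294⟩
theorem lo_295_296 : ∀ b, 295 ≤ b → b < 296 → ∃ J, chkPBlk P 5 31 18 31671 b J = true := fun b h1 h2 => by
  have hb : b = 295 := Nat.le_antisymm (Nat.le_of_lt_succ h2) h1
  subst hb; exact ⟨_, lblk_295⟩
theorem lo_294_296 : ∀ b, 294 ≤ b → b < 296 → ∃ J, chkPBlk P 5 31 18 31671 b J = true := fun b h1 h2 =>
  if h : b < 295 then lo_294_295 b h1 h else lo_295_296 b (Nat.le_of_not_lt h) h2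
theorem lo_296_297 : ∀ b, 296 ≤ b → b < 297 → ∃ J, chkPBlk P 5 31 18 31671 b J = true := fun b h1 h2 => by
  have hb : b = 296 := Nat.le_antisymm (Nat.le_of_lt_succ h2) h1
  subst hb; exact ⟨_, lblk_296⟩
theorem lo_297_298 : ∀ b, 297 ≤ b → b < 298 → ∃ J, chkPBlk P 5 31 18 31671 b J = true := fun b h1 h2 => by
  have hb : b = 297 := Nat.le_antisymm (Nat.le_of_lt_succ h2) h1
  subst hb; exact ⟨_, lblk_297⟩
theorem lo_296_298 : ∀ b, 296 ≤ b → b < 298 → ∃ J, chkPBlk P 5 31 18 31671 b J = true := fun b h1 h2 =>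
  if h : b < 297 then lo_296_297 b h1 h else lo_297_298 b (Nat.le_of_not_lt h) h2
theorem lo_294_298 : ∀ b, 294 ≤ b → b < 298 → ∃ J, chkPBlk P 5 31 18 31671 b J = true := fun b h1 h2 =>
  if h : b < 296 then lo_294_296 b h1 h else lo_296_298 b (Nat.le_of_not_lt h) h2
theorem lo_298_299 : ∀ b, 298 ≤ b → b < 299 → ∃ J, chkPBlk P 5 31 18 31671 b J = true := fun b h1 h2 => by
  have hb : b = 298 := Nat.le_antisymm (Nat.le_of_lt_succ h2) h1
  subst hb; exact ⟨_, lblk_298⟩
theorem lo_299_300 : ∀ b, 299 ≤ b → b < 300 → ∃ J, chkPBlk P 5 31 18 31671 b J = true := fun b h1 h2 => by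
  have hb : b = 299 := Nat.le_antisymm (Nat.le_of_lt_succ h2) h1
  subst hb; exact ⟨_, lblk_299⟩
theorem lo_298_300 : ∀ b, 298 ≤ b → b < 300 → ∃ J, chkPBlk P 5 31 18 31671 b J = true := fun b h1 h2 =>
  if h : b < 299 then lo_298_299 b h1 h else lo_299_300 b (Nat.le_of_not_lt h) h2
theorem lo_300_301 : ∀ b, 300 ≤ b → b < 301 → ∃ J, chkPBlk P 5 31 18 31671 b J = true := fun b h1 h2 => by
  have hb : b = 300 := Nat.le_antisymm (Nat.le_of_lt_succ h2) h1
  subst hb; exact ⟨_, lblk_300⟩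
theorem lo_301_302 : ∀ b, 301 ≤ b → b < 302 → ∃ J, chkPBlk P 5 31 18 31671 b J = true := fun b h1 h2 => by
  have hb : b = 301 := Nat.le_antisymm (Nat.le_of_lt_succ h2) h1
  subst hb; exact ⟨_, lblk_301⟩
theorem lo_302_303 : ∀ b, 302 ≤ b → b < 303 → ∃ J, chkPBlk P 5 31 18 31671 b J = true := fun b h1 h2 => by
  have hb : b = 302 := Nat.le_antisymm (Nat.le_of_lt_succ h2) h1
  subst hb; exact ⟨_, lblk_302⟩
theorem lo_301_303 : ∀ b, 301 ≤ b → b < 303 → ∃ J, chkPBlk P 5 31 18 31671 b J = true := fun b h1 h2 =>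
  if h : b < 302 then lo_301_302 b h1 h else lo_302_303 b (Nat.le_of_not_lt h) h2
theorem lo_300_303 : ∀ b, 300 ≤ b → b < 303 → ∃ J, chkPBlk P 5 31 18 31671 b J = true := fun b h1 h2 =>
  if h : b < 301 then lo_300_301 b h1 h else lo_301_303 b (Nat.le_of_not_lt h) h2
theorem lo_298_303 : ∀ b, 298 ≤ b → b < 303 → ∃ J, chkPBlk P 5 31 18 31671 b J = true := fun b h1 h2 =>
  if h : b < 300 then lo_298_300 b h1 h else lo_300_303 b (Nat.le_of_not_lt h) h2
theorem lo_294_303 : ∀ b, 294 ≤ b → b < 303 → ∃ J, chkPBlk P 5 31 18 31671 b J = true := fun b h1 h2 =>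
  if h : b < 298 then lo_294_298 b h1 h else lo_298_303 b (Nat.le_of_not_lt h) h2
theorem lo_303_304 : ∀ b, 303 ≤ b → b < 304 → ∃ J, chkPBlk P 5 31 18 31671 b J = true := fun b h1 h2 => by
  have hb : b = 303 := Nat.le_antisymm (Nat.le_of_lt_succ h2) h1
  subst hb; exact ⟨_, lblk_303⟩
theorem lo_304_305 : ∀ b, 304 ≤ b → b < 305 → ∃ J, chkPBlk P 5 31 18 31671 b J = true := fun b h1 h2 => by
  have hb : b = 304 := Nat.le_antisymm (Nat.le_of_lt_succ h2) h1
  subst hb; exact ⟨_, lblk_304⟩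
theorem lo_303_305 : ∀ b, 303 ≤ b → b < 305 → ∃ J, chkPBlk P 5 31 18 31671 b J = true := fun b h1 h2 =>
  if h : b < 304 then lo_303_304 b h1 h else lo_304_305 b (Nat.le_of_not_lt h) h2
theorem lo_305_306 : ∀ b, 305 ≤ b → b < 306 → ∃ J, chkPBlk P 5 31 18 31671 b J = true := fun b h1 h2 => by
  have hb : b = 305 := Nat.le_antisymm (Nat.le_of_lt_succ h2) h1
  subst hb; exact ⟨_, lblk_305⟩
theorem lo_306_307 : ∀ b, 306 ≤ b → b < 307 → ∃ J, chkPBlk P 5 31 18 31671 b J = true := fun b h1 h2 => by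
  have hb : b = 306 := Nat.le_antisymm (Nat.le_of_lt_succ h2) h1
  subst hb; exact ⟨_, lblk_306⟩
theorem lo_305_307 : ∀ b, 305 ≤ b → b < 307 → ∃ J, chkPBlk P 5 31 18 31671 b J = true := fun b h1 h2 =>
  if h : b < 306 then lo_305_306 b h1 h else lo_306_307 b (Nat.le_of_not_lt h) h2
theorem lo_303_307 : ∀ b, 303 ≤ b → b < 307 → ∃ J, chkPBlk P 5 31 18 31671 b J = true := fun b h1 h2 =>
  if h : b < 305 then lo_303_305 b h1 h else lo_305_307 b (Nat.le_of_not_lt h) h2
theorem lo_307_308 : ∀ b, 307 ≤ b → b < 308 → ∃ J, chkPBlk P 5 31 18 31671 b J = true := fun b h1 h2 => by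
  have hb : b = 307 := Nat.le_antisymm (Nat.le_of_lt_succ h2) h1
  subst hb; exact ⟨_, lblk_307⟩
theorem lo_308_309 : ∀ b, 308 ≤ b → b < 309 → ∃ J, chkPBlk P 5 31 18 31671 b J = true := fun b h1 h2 => by
  have hb : b = 308 := Nat.le_antisymm (Nat.le_of_lt_succ h2) h1
  subst hb; exact ⟨_, lblk_308⟩
theorem lo_307_309 : ∀ b, 307 ≤ b → b < 309 → ∃ J, chkPBlk P 5 31 18 31671 b J = true := fun b h1 h2 =>
  if h : b < 308 then lo_307_308 b h1 h else lo_308_309 b (Nat.le_of_not_lt h) h2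
theorem lo_309_310 : ∀ b, 309 ≤ b → b < 310 → ∃ J, chkPBlk P 5 31 18 31671 b J = true := fun b h1 h2 => by
  have hb : b = 309 := Nat.le_antisymm (Nat.le_of_lt_succ h2) h1
  subst hb; exact ⟨_, lblk_309⟩
theorem lo_310_311 : ∀ b, 310 ≤ b → b < 311 → ∃ J, chkPBlk P 5 31 18 31671 b J = true := fun b h1 h2 => by
  have hb : b = 310 := Nat.le_antisymm (Nat.le_of_lt_succ h2) h1
  subst hb; exact ⟨_, lblk_310⟩
theorem lo_311_312 : ∀ b, 311 ≤ b → b < 312 → ∃ J, chkPBlk P 5 31 18 31671 b J = true := fun b h1 h2 => by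
  have hb : b = 311 := Nat.le_antisymm (Nat.le_of_lt_succ h2) h1
  subst hb; exact ⟨_, lblk_311⟩
theorem lo_310_312 : ∀ b, 310 ≤ b → b < 312 → ∃ J, chkPBlk P 5 31 18 31671 b J = true := fun b h1 h2 =>
  if h : b < 311 then lo_310_311 b h1 h else lo_311_312 b (Nat.le_of_not_lt h) h2
theorem lo_309_312 : ∀ b, 309 ≤ b → b < 312 → ∃ J, chkPBlk P 5 31 18 31671 b J = true := fun b h1 h2 =>
  if h : b < 310 then lo_309_310 b h1 h else lo_310_312 b (Nat.le_of_not_lt h) h2
theorem lo_307_312 : ∀ b, 307 ≤ b → b < 312 → ∃ J, chkPBlk P 5 31 18 31671 b J = true := fun b h1 h2 =>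
  if h : b < 309 then lo_307_309 b h1 h else lo_309_312 b (Nat.le_of_not_lt h) h2
theorem lo_303_312 : ∀ b, 303 ≤ b → b < 312 → ∃ J, chkPBlk P 5 31 18 31671 b J = true := fun b h1 h2 =>
  if h : b < 307 then lo_303_307 b h1 h else lo_307_312 b (Nat.le_of_not_lt h) h2
theorem lo_294_312 : ∀ b, 294 ≤ b → b < 312 → ∃ J, chkPBlk P 5 31 18 31671 b J = true := fun b h1 h2 =>
  if h : b < 303 then lo_294_303 b h1 h else lo_303_312 b (Nat.le_of_not_lt h) h2
theorem lo_312_313 : ∀ b, 312 ≤ b → b < 313 → ∃ J, chkPBlk P 5 31 18 31671 b J = true := fun b h1 h2 => by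
  have hb : b = 312 := Nat.le_antisymm (Nat.le_of_lt_succ h2) h1
  subst hb; exact ⟨_, lblk_312⟩
theorem lo_313_314 : ∀ b, 313 ≤ b → b < 314 → ∃ J, chkPBlk P 5 31 18 31671 b J = true := fun b h1 h2 => by
  have hb : b = 313 := Nat.le_antisymm (Nat.le_of_lt_succ h2) h1
  subst hb; exact ⟨_, lblk_313⟩
theorem lo_312_314 : ∀ b, 312 ≤ b → b < 314 → ∃ J, chkPBlk P 5 31 18 31671 b J = true := fun b h1 h2 =>
  if h : b < 313 then lo_312_313 b h1 h else lo_313_314 b (Nat.le_of_not_lt h) h2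
theorem lo_314_315 : ∀ b, 314 ≤ b → b < 315 → ∃ J, chkPBlk P 5 31 18 31671 b J = true := fun b h1 h2 => by
  have hb : b = 314 := Nat.le_antisymm (Nat.le_of_lt_succ h2) h1
  subst hb; exact ⟨_, lblk_314⟩
theorem lo_315_316 : ∀ b, 315 ≤ b → b < 316 → ∃ J, chkPBlk P 5 31 18 31671 b J = true := fun b h1 h2 => by
  have hb : b = 315 := Nat.le_antisymm (Nat.le_of_lt_succ h2) h1
  subst hb; exact ⟨_, lblk_315⟩
theorem lo_314_316 : ∀ b, 314 ≤ b → b < 316 → ∃ J, chkPBlk P 5 31 18 31671 b J = true := fun b h1 h2 =>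
  if h : b < 315 then lo_314_315 b h1 h else lo_315_316 b (Nat.le_of_not_lt h) h2
theorem lo_312_316 : ∀ b, 312 ≤ b → b < 316 → ∃ J, chkPBlk P 5 31 18 31671 b J = true := fun b h1 h2 =>
  if h : b < 314 then lo_312_314 b h1 h else lo_314_316 b (Nat.le_of_not_lt h) h2
theorem lo_316_317 : ∀ b, 316 ≤ b → b < 317 → ∃ J, chkPBlk P 5 31 18 31671 b J = true := fun b h1 h2 => by
  have hb : b = 316 := Nat.le_antisymm (Nat.le_of_lt_succ h2) h1
  subst hb; exact ⟨_, lblk_316⟩
theorem lo_317_318 : ∀ b, 317 ≤ b → b < 318 → ∃ J, chkPBlk P 5 31 18 31671 b J = true := fun b h1 h2 => by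
  have hb : b = 317 := Nat.le_antisymm (Nat.le_of_lt_succ h2) h1
  subst hb; exact ⟨_, lblk_317⟩
theorem lo_316_318 : ∀ b, 316 ≤ b → b < 318 → ∃ J, chkPBlk P 5 31 18 31671 b J = true := fun b h1 h2 =>
  if h : b < 317 then lo_316_317 b h1 h else lo_317_318 b (Nat.le_of_not_lt h) h2
theorem lo_318_319 : ∀ b, 318 ≤ b → b < 319 → ∃ J, chkPBlk P 5 31 18 31671 b J = true := fun b h1 h2 => by
  have hb : b = 318 := Nat.le_antisymm (Nat.le_of_lt_succ h2) h1
  subst hb; exact ⟨_, lblk_318⟩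
theorem lo_319_320 : ∀ b, 319 ≤ b → b < 320 → ∃ J, chkPBlk P 5 31 18 31671 b J = true := fun b h1 h2 => by
  have hb : b = 319 := Nat.le_antisymm (Nat.le_of_lt_succ h2) h1
  subst hb; exact ⟨_, lblk_319⟩
theorem lo_320_321 : ∀ b, 320 ≤ b → b < 321 → ∃ J, chkPBlk P 5 31 18 31671 b J = true := fun b h1 h2 => by
  have hb : b = 320 := Nat.le_antisymm (Nat.le_of_lt_succ h2) h1
  subst hb; exact ⟨_, lblk_320⟩
theorem lo_319_321 : ∀ b, 319 ≤ b → b < 321 → ∃ J, chkPBlk P 5 31 18 31671 b J = true := fun b h1 h2 =>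
  if h : b < 320 then lo_319_320 b h1 h else lo_320_321 b (Nat.le_of_not_lt h) h2
theorem lo_318_321 : ∀ b, 318 ≤ b → b < 321 → ∃ J, chkPBlk P 5 31 18 31671 b J = true := fun b h1 h2 =>
  if h : b < 319 then lo_318_319 b h1 h else lo_319_321 b (Nat.le_of_not_lt h) h2
theorem lo_316_321 : ∀ b, 316 ≤ b → b < 321 → ∃ J, chkPBlk P 5 31 18 31671 b J = true := fun b h1 h2 =>
  if h : b < 318 then lo_316_318 b h1 h else lo_318_321 b (Nat.le_of_not_lt h) h2
theorem lo_312_321 : ∀ b, 312 ≤ b → b < 321 → ∃ J, chkPBlk P 5 31 18 31671 b J = true := fun b h1 h2 =>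
  if h : b < 316 then lo_312_316 b h1 h else lo_316_321 b (Nat.le_of_not_lt h) h2
theorem lo_321_322 : ∀ b, 321 ≤ b → b < 322 → ∃ J, chkPBlk P 5 31 18 31671 b J = true := fun b h1 h2 => by
  have hb : b = 321 := Nat.le_antisymm (Nat.le_of_lt_succ h2) h1
  subst hb; exact ⟨_, lblk_321⟩
theorem lo_322_323 : ∀ b, 322 ≤ b → b < 323 → ∃ J, chkPBlk P 5 31 18 31671 b J = true := fun b h1 h2 => by
  have hb : b = 322 := Nat.le_antisymm (Nat.le_of_lt_succ h2) h1
  subst hb; exact ⟨_, lblk_322⟩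
theorem lo_321_323 : ∀ b, 321 ≤ b → b < 323 → ∃ J, chkPBlk P 5 31 18 31671 b J = true := fun b h1 h2 =>
  if h : b < 322 then lo_321_322 b h1 h else lo_322_323 b (Nat.le_of_not_lt h) h2
theorem lo_323_324 : ∀ b, 323 ≤ b → b < 324 → ∃ J, chkPBlk P 5 31 18 31671 b J = true := fun b h1 h2 => by
  have hb : b = 323 := Nat.le_antisymm (Nat.le_of_lt_succ h2) h1
  subst hb; exact ⟨_, lblk_323⟩
theorem lo_324_325 : ∀ b, 324 ≤ b → b < 325 → ∃ J, chkPBlk P 5 31 18 31671 b J = true := fun b h1 h2 => by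
  have hb : b = 324 := Nat.le_antisymm (Nat.le_of_lt_succ h2) h1
  subst hb; exact ⟨_, lblk_324⟩
theorem lo_323_325 : ∀ b, 323 ≤ b → b < 325 → ∃ J, chkPBlk P 5 31 18 31671 b J = true := fun b h1 h2 =>
  if h : b < 324 then lo_323_324 b h1 h else lo_324_325 b (Nat.le_of_not_lt h) h2
theorem lo_321_325 : ∀ b, 321 ≤ b → b < 325 → ∃ J, chkPBlk P 5 31 18 31671 b J = true := fun b h1 h2 =>
  if h : b < 323 then lo_321_323 b h1 h else lo_323_325 b (Nat.le_of_not_lt h) h2
theorem lo_325_326 : ∀ b, 325 ≤ b → b < 326 → ∃ J, chkPBlk P 5 31 18 31671 b J = true := fun b h1 h2 => by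
  have hb : b = 325 := Nat.le_antisymm (Nat.le_of_lt_succ h2) h1
  subst hb; exact ⟨_, lblk_325⟩
theorem lo_326_327 : ∀ b, 326 ≤ b → b < 327 → ∃ J, chkPBlk P 5 31 18 31671 b J = true := fun b h1 h2 => by
  have hb : b = 326 := Nat.le_antisymm (Nat.le_of_lt_succ h2) h1
  subst hb; exact ⟨_, lblk_326⟩
theorem lo_325_327 : ∀ b, 325 ≤ b → b < 327 → ∃ J, chkPBlk P 5 31 18 31671 b J = true := fun b h1 h2 =>
  if h : b < 326 then lo_325_326 b h1 h else lo_326_327 b (Nat.le_of_not_lt h) h2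
theorem lo_327_328 : ∀ b, 327 ≤ b → b < 328 → ∃ J, chkPBlk P 5 31 18 31671 b J = true := fun b h1 h2 => by
  have hb : b = 327 := Nat.le_antisymm (Nat.le_of_lt_succ h2) h1
  subst hb; exact ⟨_, lblk_327⟩
theorem lo_328_329 : ∀ b, 328 ≤ b → b < 329 → ∃ J, chkPBlk P 5 31 18 31671 b J = true := fun b h1 h2 => by
  have hb : b = 328 := Nat.le_antisymm (Nat.le_of_lt_succ h2) h1
  subst hb; exact ⟨_, lblk_328⟩
theorem lo_329_330 : ∀ b, 329 ≤ b → b < 330 → ∃ J, chkPBlk P 5 31 18 31671 b J = true := fun b h1 h2 => by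
  have hb : b = 329 := Nat.le_antisymm (Nat.le_of_lt_succ h2) h1
  subst hb; exact ⟨_, lblk_329⟩
theorem lo_328_330 : ∀ b, 328 ≤ b → b < 330 → ∃ J, chkPBlk P 5 31 18 31671 b J = true := fun b h1 h2 =>
  if h : b < 329 then lo_328_329 b h1 h else lo_329_330 b (Nat.le_of_not_lt h) h2
theorem lo_327_330 : ∀ b, 327 ≤ b → b < 330 → ∃ J, chkPBlk P 5 31 18 31671 b J = true := fun b h1 h2 =>
  if h : b < 328 then lo_327_328 b h1 h else lo_328_330 b (Nat.le_of_not_lt h) h2
theorem lo_325_330 : ∀ b, 325 ≤ b → b < 330 → ∃ J, chkPBlk P 5 31 18 31671 b J = true := fun b h1 h2 =>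
  if h : b < 327 then lo_325_327 b h1 h else lo_327_330 b (Nat.le_of_not_lt h) h2
theorem lo_321_330 : ∀ b, 321 ≤ b → b < 330 → ∃ J, chkPBlk P 5 31 18 31671 b J = true := fun b h1 h2 =>
  if h : b < 325 then lo_321_325 b h1 h else lo_325_330 b (Nat.le_of_not_lt h) h2
theorem lo_312_330 : ∀ b, 312 ≤ b → b < 330 → ∃ J, chkPBlk P 5 31 18 31671 b J = true := fun b h1 h2 =>
  if h : b < 321 then lo_312_321 b h1 h else lo_321_330 b (Nat.le_of_not_lt h) h2
theorem lo_294_330 : ∀ b, 294 ≤ b → b < 330 → ∃ J, chkPBlk P 5 31 18 31671 b J = true := fun b h1 h2 =>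
  if h : b < 312 then lo_294_312 b h1 h else lo_312_330 b (Nat.le_of_not_lt h) h2
theorem lo_330_331 : ∀ b, 330 ≤ b → b < 331 → ∃ J, chkPBlk P 5 31 18 31671 b J = true := fun b h1 h2 => by
  have hb : b = 330 := Nat.le_antisymm (Nat.le_of_lt_succ h2) h1
  subst hb; exact ⟨_, lblk_330⟩
theorem lo_331_332 : ∀ b, 331 ≤ b → b < 332 → ∃ J, chkPBlk P 5 31 18 31671 b J = true := fun b h1 h2 => by
  have hb : b = 331 := Nat.le_antisymm (Nat.le_of_lt_succ h2) h1
  subst hb; exact ⟨_, lblk_331⟩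
theorem lo_330_332 : ∀ b, 330 ≤ b → b < 332 → ∃ J, chkPBlk P 5 31 18 31671 b J = true := fun b h1 h2 =>
  if h : b < 331 then lo_330_331 b h1 h else lo_331_332 b (Nat.le_of_not_lt h) h2
theorem lo_332_333 : ∀ b, 332 ≤ b → b < 333 → ∃ J, chkPBlk P 5 31 18 31671 b J = true := fun b h1 h2 => by
  have hb : b = 332 := Nat.le_antisymm (Nat.le_of_lt_succ h2) h1
  subst hb; exact ⟨_, lblk_332⟩
theorem lo_333_334 : ∀ b, 333 ≤ b → b < 334 → ∃ J, chkPBlk P 5 31 18 31671 b J = true := fun b h1 h2 => by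
  have hb : b = 333 := Nat.le_antisymm (Nat.le_of_lt_succ h2) h1
  subst hb; exact ⟨_, lblk_333⟩
theorem lo_332_334 : ∀ b, 332 ≤ b → b < 334 → ∃ J, chkPBlk P 5 31 18 31671 b J = true := fun b h1 h2 =>
  if h : b < 333 then lo_332_333 b h1 h else lo_333_334 b (Nat.le_of_not_lt h) h2
theorem lo_330_334 : ∀ b, 330 ≤ b → b < 334 → ∃ J, chkPBlk P 5 31 18 31671 b J = true := fun b h1 h2 =>
  if h : b < 332 then lo_330_332 b h1 h else lo_332_334 b (Nat.le_of_not_lt h) h2
theorem lo_334_335 : ∀ b, 334 ≤ b → b < 335 → ∃ J, chkPBlk P 5 31 18 31671 b J = true := fun b h1 h2 => by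
  have hb : b = 334 := Nat.le_antisymm (Nat.le_of_lt_succ h2) h1
  subst hb; exact ⟨_, lblk_334⟩
theorem lo_335_336 : ∀ b, 335 ≤ b → b < 336 → ∃ J, chkPBlk P 5 31 18 31671 b J = true := fun b h1 h2 => by
  have hb : b = 335 := Nat.le_antisymm (Nat.le_of_lt_succ h2) h1
  subst hb; exact ⟨_, lblk_335⟩
theorem lo_334_336 : ∀ b, 334 ≤ b → b < 336 → ∃ J, chkPBlk P 5 31 18 31671 b J = true := fun b h1 h2 =>
  if h : b < 335 then lo_334_335 b h1 h else lo_335_336 b (Nat.le_of_not_lt h) h2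
theorem lo_336_337 : ∀ b, 336 ≤ b → b < 337 → ∃ J, chkPBlk P 5 31 18 31671 b J = true := fun b h1 h2 => by
  have hb : b = 336 := Nat.le_antisymm (Nat.le_of_lt_succ h2) h1
  subst hb; exact ⟨_, lblk_336⟩
theorem lo_337_338 : ∀ b, 337 ≤ b → b < 338 → ∃ J, chkPBlk P 5 31 18 31671 b J = true := fun b h1 h2 => by
  have hb : b = 337 := Nat.le_antisymm (Nat.le_of_lt_succ h2) h1
  subst hb; exact ⟨_, lblk_337⟩
theorem lo_338_339 : ∀ b, 338 ≤ b → b < 339 → ∃ J, chkPBlk P 5 31 18 31671 b J = true := fun b h1 h2 => by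
  have hb : b = 338 := Nat.le_antisymm (Nat.le_of_lt_succ h2) h1
  subst hb; exact ⟨_, lblk_338⟩
theorem lo_337_339 : ∀ b, 337 ≤ b → b < 339 → ∃ J, chkPBlk P 5 31 18 31671 b J = true := fun b h1 h2 =>
  if h : b < 338 then lo_337_338 b h1 h else lo_338_339 b (Nat.le_of_not_lt h) h2
theorem lo_336_339 : ∀ b, 336 ≤ b → b < 339 → ∃ J, chkPBlk P 5 31 18 31671 b J = true := fun b h1 h2 =>
  if h : b < 337 then lo_336_337 b h1 h else lo_337_339 b (Nat.le_of_not_lt h) h2
theorem lo_334_339 : ∀ b, 334 ≤ b → b < 339 → ∃ J, chkPBlk P 5 31 18 31671 b J = true := fun b h1 h2 =>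
  if h : b < 336 then lo_334_336 b h1 h else lo_336_339 b (Nat.le_of_not_lt h) h2
theorem lo_330_339 : ∀ b, 330 ≤ b → b < 339 → ∃ J, chkPBlk P 5 31 18 31671 b J = true := fun b h1 h2 =>
  if h : b < 334 then lo_330_334 b h1 h else lo_334_339 b (Nat.le_of_not_lt h) h2
theorem lo_339_340 : ∀ b, 339 ≤ b → b < 340 → ∃ J, chkPBlk P 5 31 18 31671 b J = true := fun b h1 h2 => by
  have hb : b = 339 := Nat.le_antisymm (Nat.le_of_lt_succ h2) h1
  subst hb; exact ⟨_, lblk_339⟩
theorem lo_340_341 : ∀ b, 340 ≤ b → b < 341 → ∃ J, chkPBlk P 5 31 18 31671 b J = true := fun b h1 h2 => by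
  have hb : b = 340 := Nat.le_antisymm (Nat.le_of_lt_succ h2) h1
  subst hb; exact ⟨_, lblk_340⟩
theorem lo_339_341 : ∀ b, 339 ≤ b → b < 341 → ∃ J, chkPBlk P 5 31 18 31671 b J = true := fun b h1 h2 =>
  if h : b < 340 then lo_339_340 b h1 h else lo_340_341 b (Nat.le_of_not_lt h) h2
theorem lo_341_342 : ∀ b, 341 ≤ b → b < 342 → ∃ J, chkPBlk P 5 31 18 31671 b J = true := fun b h1 h2 => by
  have hb : b = 341 := Nat.le_antisymm (Nat.le_of_lt_succ h2) h1
  subst hb; exact ⟨_, lblk_341⟩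
theorem lo_342_343 : ∀ b, 342 ≤ b → b < 343 → ∃ J, chkPBlk P 5 31 18 31671 b J = true := fun b h1 h2 => by
  have hb : b = 342 := Nat.le_antisymm (Nat.le_of_lt_succ h2) h1
  subst hb; exact ⟨_, lblk_342⟩
theorem lo_341_343 : ∀ b, 341 ≤ b → b < 343 → ∃ J, chkPBlk P 5 31 18 31671 b J = true := fun b h1 h2 =>
  if h : b < 342 then lo_341_342 b h1 h else lo_342_343 b (Nat.le_of_not_lt h) h2
theorem lo_339_343 : ∀ b, 339 ≤ b → b < 343 → ∃ J, chkPBlk P 5 31 18 31671 b J = true := fun b h1 h2 =>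
  if h : b < 341 then lo_339_341 b h1 h else lo_341_343 b (Nat.le_of_not_lt h) h2
theorem lo_343_344 : ∀ b, 343 ≤ b → b < 344 → ∃ J, chkPBlk P 5 31 18 31671 b J = true := fun b h1 h2 => by
  have hb : b = 343 := Nat.le_antisymm (Nat.le_of_lt_succ h2) h1
  subst hb; exact ⟨_, lblk_343⟩
theorem lo_344_345 : ∀ b, 344 ≤ b → b < 345 → ∃ J, chkPBlk P 5 31 18 31671 b J = true := fun b h1 h2 => by
  have hb : b = 344 := Nat.le_antisymm (Nat.le_of_lt_succ h2) h1
  subst hb; exact ⟨_, lblk_344⟩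
theorem lo_343_345 : ∀ b, 343 ≤ b → b < 345 → ∃ J, chkPBlk P 5 31 18 31671 b J = true := fun b h1 h2 =>
  if h : b < 344 then lo_343_344 b h1 h else lo_344_345 b (Nat.le_of_not_lt h) h2
theorem lo_345_346 : ∀ b, 345 ≤ b → b < 346 → ∃ J, chkPBlk P 5 31 18 31671 b J = true := fun b h1 h2 => by
  have hb : b = 345 := Nat.le_antisymm (Nat.le_of_lt_succ h2) h1
  subst hb; exact ⟨_, lblk_345⟩
theorem lo_346_347 : ∀ b, 346 ≤ b → b < 347 → ∃ J, chkPBlk P 5 31 18 31671 b J = true := fun b h1 h2 => by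
  have hb : b = 346 := Nat.le_antisymm (Nat.le_of_lt_succ h2) h1
  subst hb; exact ⟨_, lblk_346⟩
theorem lo_347_348 : ∀ b, 347 ≤ b → b < 348 → ∃ J, chkPBlk P 5 31 18 31671 b J = true := fun b h1 h2 => by
  have hb : b = 347 := Nat.le_antisymm (Nat.le_of_lt_succ h2) h1
  subst hb; exact ⟨_, lblk_347⟩
theorem lo_346_348 : ∀ b, 346 ≤ b → b < 348 → ∃ J, chkPBlk P 5 31 18 31671 b J = true := fun b h1 h2 =>
  if h : b < 347 then lo_346_347 b h1 h else lo_347_348 b (Nat.le_of_not_lt h) h2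
theorem lo_345_348 : ∀ b, 345 ≤ b → b < 348 → ∃ J, chkPBlk P 5 31 18 31671 b J = true := fun b h1 h2 =>
  if h : b < 346 then lo_345_346 b h1 h else lo_346_348 b (Nat.le_of_not_lt h) h2
theorem lo_343_348 : ∀ b, 343 ≤ b → b < 348 → ∃ J, chkPBlk P 5 31 18 31671 b J = true := fun b h1 h2 =>
  if h : b < 345 then lo_343_345 b h1 h else lo_345_348 b (Nat.le_of_not_lt h) h2
theorem lo_339_348 : ∀ b, 339 ≤ b → b < 348 → ∃ J, chkPBlk P 5 31 18 31671 b J = true := fun b h1 h2 =>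
  if h : b < 343 then lo_339_343 b h1 h else lo_343_348 b (Nat.le_of_not_lt h) h2
theorem lo_330_348 : ∀ b, 330 ≤ b → b < 348 → ∃ J, chkPBlk P 5 31 18 31671 b J = true := fun b h1 h2 =>
  if h : b < 339 then lo_330_339 b h1 h else lo_339_348 b (Nat.le_of_not_lt h) h2
theorem lo_348_349 : ∀ b, 348 ≤ b → b < 349 → ∃ J, chkPBlk P 5 31 18 31671 b J = true := fun b h1 h2 => by
  have hb : b = 348 := Nat.le_antisymm (Nat.le_of_lt_succ h2) h1
  subst hb; exact ⟨_, lblk_348⟩
theorem lo_349_350 : ∀ b, 349 ≤ b → b < 350 → ∃ J, chkPBlk P 5 31 18 31671 b J = true := fun b h1 h2 => by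
  have hb : b = 349 := Nat.le_antisymm (Nat.le_of_lt_succ h2) h1
  subst hb; exact ⟨_, lblk_349⟩
theorem lo_348_350 : ∀ b, 348 ≤ b → b < 350 → ∃ J, chkPBlk P 5 31 18 31671 b J = true := fun b h1 h2 =>
  if h : b < 349 then lo_348_349 b h1 h else lo_349_350 b (Nat.le_of_not_lt h) h2
theorem lo_350_351 : ∀ b, 350 ≤ b → b < 351 → ∃ J, chkPBlk P 5 31 18 31671 b J = true := fun b h1 h2 => by
  have hb : b = 350 := Nat.le_antisymm (Nat.le_of_lt_succ h2) h1
  subst hb; exact ⟨_, lblk_350⟩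
theorem lo_351_352 : ∀ b, 351 ≤ b → b < 352 → ∃ J, chkPBlk P 5 31 18 31671 b J = true := fun b h1 h2 => by
  have hb : b = 351 := Nat.le_antisymm (Nat.le_of_lt_succ h2) h1
  subst hb; exact ⟨_, lblk_351⟩
theorem lo_350_352 : ∀ b, 350 ≤ b → b < 352 → ∃ J, chkPBlk P 5 31 18 31671 b J = true := fun b h1 h2 =>
  if h : b < 351 then lo_350_351 b h1 h else lo_351_352 b (Nat.le_of_not_lt h) h2
theorem lo_348_352 : ∀ b, 348 ≤ b → b < 352 → ∃ J, chkPBlk P 5 31 18 31671 b J = true := fun b h1 h2 =>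
  if h : b < 350 then lo_348_350 b h1 h else lo_350_352 b (Nat.le_of_not_lt h) h2
theorem lo_352_353 : ∀ b, 352 ≤ b → b < 353 → ∃ J, chkPBlk P 5 31 18 31671 b J = true := fun b h1 h2 => by
  have hb : b = 352 := Nat.le_antisymm (Nat.le_of_lt_succ h2) h1
  subst hb; exact ⟨_, lblk_352⟩
theorem lo_353_354 : ∀ b, 353 ≤ b → b < 354 → ∃ J, chkPBlk P 5 31 18 31671 b J = true := fun b h1 h2 => by
  have hb : b = 353 := Nat.le_antisymm (Nat.le_of_lt_succ h2) h1
  subst hb; exact ⟨_, lblk_353⟩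
theorem lo_352_354 : ∀ b, 352 ≤ b → b < 354 → ∃ J, chkPBlk P 5 31 18 31671 b J = true := fun b h1 h2 =>
  if h : b < 353 then lo_352_353 b h1 h else lo_353_354 b (Nat.le_of_not_lt h) h2
theorem lo_354_355 : ∀ b, 354 ≤ b → b < 355 → ∃ J, chkPBlk P 5 31 18 31671 b J = true := fun b h1 h2 => by
  have hb : b = 354 := Nat.le_antisymm (Nat.le_of_lt_succ h2) h1
  subst hb; exact ⟨_, lblk_354⟩
theorem lo_355_356 : ∀ b, 355 ≤ b → b < 356 → ∃ J, chkPBlk P 5 31 18 31671 b J = true := fun b h1 h2 => by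
  have hb : b = 355 := Nat.le_antisymm (Nat.le_of_lt_succ h2) h1
  subst hb; exact ⟨_, lblk_355⟩
theorem lo_356_357 : ∀ b, 356 ≤ b → b < 357 → ∃ J, chkPBlk P 5 31 18 31671 b J = true := fun b h1 h2 => by
  have hb : b = 356 := Nat.le_antisymm (Nat.le_of_lt_succ h2) h1
  subst hb; exact ⟨_, lblk_356⟩
theorem lo_355_357 : ∀ b, 355 ≤ b → b < 357 → ∃ J, chkPBlk P 5 31 18 31671 b J = true := fun b h1 h2 =>
  if h : b < 356 then lo_355_356 b h1 h else lo_356_357 b (Nat.le_of_not_lt h) h2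
theorem lo_354_357 : ∀ b, 354 ≤ b → b < 357 → ∃ J, chkPBlk P 5 31 18 31671 b J = true := fun b h1 h2 =>
  if h : b < 355 then lo_354_355 b h1 h else lo_355_357 b (Nat.le_of_not_lt h) h2
theorem lo_352_357 : ∀ b, 352 ≤ b → b < 357 → ∃ J, chkPBlk P 5 31 18 31671 b J = true := fun b h1 h2 =>
  if h : b < 354 then lo_352_354 b h1 h else lo_354_357 b (Nat.le_of_not_lt h) h2
theorem lo_348_357 : ∀ b, 348 ≤ b → b < 357 → ∃ J, chkPBlk P 5 31 18 31671 b J = true := fun b h1 h2 =>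
  if h : b < 352 then lo_348_352 b h1 h else lo_352_357 b (Nat.le_of_not_lt h) h2
theorem lo_357_358 : ∀ b, 357 ≤ b → b < 358 → ∃ J, chkPBlk P 5 31 18 31671 b J = true := fun b h1 h2 => by
  have hb : b = 357 := Nat.le_antisymm (Nat.le_of_lt_succ h2) h1
  subst hb; exact ⟨_, lblk_357⟩
theorem lo_358_359 : ∀ b, 358 ≤ b → b < 359 → ∃ J, chkPBlk P 5 31 18 31671 b J = true := fun b h1 h2 => by
  have hb : b = 358 := Nat.le_antisymm (Nat.le_of_lt_succ h2) h1
  subst hb; exact ⟨_, lblk_358⟩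
theorem lo_357_359 : ∀ b, 357 ≤ b → b < 359 → ∃ J, chkPBlk P 5 31 18 31671 b J = true := fun b h1 h2 =>
  if h : b < 358 then lo_357_358 b h1 h else lo_358_359 b (Nat.le_of_not_lt h) h2
theorem lo_359_360 : ∀ b, 359 ≤ b → b < 360 → ∃ J, chkPBlk P 5 31 18 31671 b J = true := fun b h1 h2 => by
  have hb : b = 359 := Nat.le_antisymm (Nat.le_of_lt_succ h2) h1
  subst hb; exact ⟨_, lblk_359⟩
theorem lo_360_361 : ∀ b, 360 ≤ b → b < 361 → ∃ J, chkPBlk P 5 31 18 31671 b J = true := fun b h1 h2 => by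
  have hb : b = 360 := Nat.le_antisymm (Nat.le_of_lt_succ h2) h1
  subst hb; exact ⟨_, lblk_360⟩
theorem lo_361_362 : ∀ b, 361 ≤ b → b < 362 → ∃ J, chkPBlk P 5 31 18 31671 b J = true := fun b h1 h2 => by
  have hb : b = 361 := Nat.le_antisymm (Nat.le_of_lt_succ h2) h1
  subst hb; exact ⟨_, lblk_361⟩
theorem lo_360_362 : ∀ b, 360 ≤ b → b < 362 → ∃ J, chkPBlk P 5 31 18 31671 b J = true := fun b h1 h2 =>
  if h : b < 361 then lo_360_361 b h1 h else lo_361_362 b (Nat.le_of_not_lt h) h2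
theorem lo_359_362 : ∀ b, 359 ≤ b → b < 362 → ∃ J, chkPBlk P 5 31 18 31671 b J = true := fun b h1 h2 =>
  if h : b < 360 then lo_359_360 b h1 h else lo_360_362 b (Nat.le_of_not_lt h) h2
theorem lo_357_362 : ∀ b, 357 ≤ b → b < 362 → ∃ J, chkPBlk P 5 31 18 31671 b J = true := fun b h1 h2 =>
  if h : b < 359 then lo_357_359 b h1 h else lo_359_362 b (Nat.le_of_not_lt h) h2
theorem lo_362_363 : ∀ b, 362 ≤ b → b < 363 → ∃ J, chkPBlk P 5 31 18 31671 b J = true := fun b h1 h2 => by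
  have hb : b = 362 := Nat.le_antisymm (Nat.le_of_lt_succ h2) h1
  subst hb; exact ⟨_, lblk_362⟩
theorem lo_363_364 : ∀ b, 363 ≤ b → b < 364 → ∃ J, chkPBlk P 5 31 18 31671 b J = true := fun b h1 h2 => by
  have hb : b = 363 := Nat.le_antisymm (Nat.le_of_lt_succ h2) h1
  subst hb; exact ⟨_, lblk_363⟩
theorem lo_362_364 : ∀ b, 362 ≤ b → b < 364 → ∃ J, chkPBlk P 5 31 18 31671 b J = true := fun b h1 h2 =>
  if h : b < 363 then lo_362_363 b h1 h else lo_363_364 b (Nat.le_of_not_lt h) h2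
theorem lo_364_365 : ∀ b, 364 ≤ b → b < 365 → ∃ J, chkPBlk P 5 31 18 31671 b J = true := fun b h1 h2 => by
  have hb : b = 364 := Nat.le_antisymm (Nat.le_of_lt_succ h2) h1
  subst hb; exact ⟨_, lblk_364⟩
theorem lo_365_366 : ∀ b, 365 ≤ b → b < 366 → ∃ J, chkPBlk P 5 31 18 31671 b J = true := fun b h1 h2 => by
  have hb : b = 365 := Nat.le_antisymm (Nat.le_of_lt_succ h2) h1
  subst hb; exact ⟨_, lblk_365⟩
theorem lo_366_367 : ∀ b, 366 ≤ b → b < 367 → ∃ J, chkPBlk P 5 31 18 31671 b J = true := fun b h1 h2 => by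
  have hb : b = 366 := Nat.le_antisymm (Nat.le_of_lt_succ h2) h1
  subst hb; exact ⟨_, lblk_366⟩
theorem lo_365_367 : ∀ b, 365 ≤ b → b < 367 → ∃ J, chkPBlk P 5 31 18 31671 b J = true := fun b h1 h2 =>
  if h : b < 366 then lo_365_366 b h1 h else lo_366_367 b (Nat.le_of_not_lt h) h2
theorem lo_364_367 : ∀ b, 364 ≤ b → b < 367 → ∃ J, chkPBlk P 5 31 18 31671 b J = true := fun b h1 h2 =>
  if h : b < 365 then lo_364_365 b h1 h else lo_365_367 b (Nat.le_of_not_lt h) h2
theorem lo_362_367 : ∀ b, 362 ≤ b → b < 367 → ∃ J, chkPBlk P 5 31 18 31671 b J = true := fun b h1 h2 =>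
  if h : b < 364 then lo_362_364 b h1 h else lo_364_367 b (Nat.le_of_not_lt h) h2
theorem lo_357_367 : ∀ b, 357 ≤ b → b < 367 → ∃ J, chkPBlk P 5 31 18 31671 b J = true := fun b h1 h2 =>
  if h : b < 362 then lo_357_362 b h1 h else lo_362_367 b (Nat.le_of_not_lt h) h2
theorem lo_348_367 : ∀ b, 348 ≤ b → b < 367 → ∃ J, chkPBlk P 5 31 18 31671 b J = true := fun b h1 h2 =>
  if h : b < 357 then lo_348_357 b h1 h else lo_357_367 b (Nat.le_of_not_lt h) h2
theorem lo_330_367 : ∀ b, 330 ≤ b → b < 367 → ∃ J, chkPBlk P 5 31 18 31671 b J = true := fun b h1 h2 =>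
  if h : b < 348 then lo_330_348 b h1 h else lo_348_367 b (Nat.le_of_not_lt h) h2
theorem lo_294_367 : ∀ b, 294 ≤ b → b < 367 → ∃ J, chkPBlk P 5 31 18 31671 b J = true := fun b h1 h2 =>
  if h : b < 330 then lo_294_330 b h1 h else lo_330_367 b (Nat.le_of_not_lt h) h2
theorem lo_367_368 : ∀ b, 367 ≤ b → b < 368 → ∃ J, chkPBlk P 5 31 18 31671 b J = true := fun b h1 h2 => by
  have hb : b = 367 := Nat.le_antisymm (Nat.le_of_lt_succ h2) h1
  subst hb; exact ⟨_, lblk_367⟩
theorem lo_368_369 : ∀ b, 368 ≤ b → b < 369 → ∃ J, chkPBlk P 5 31 18 31671 b J = true := fun b h1 h2 => by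
  have hb : b = 368 := Nat.le_antisymm (Nat.le_of_lt_succ h2) h1
  subst hb; exact ⟨_, lblk_368⟩
theorem lo_367_369 : ∀ b, 367 ≤ b → b < 369 → ∃ J, chkPBlk P 5 31 18 31671 b J = true := fun b h1 h2 =>
  if h : b < 368 then lo_367_368 b h1 h else lo_368_369 b (Nat.le_of_not_lt h) h2
theorem lo_369_370 : ∀ b, 369 ≤ b → b < 370 → ∃ J, chkPBlk P 5 31 18 31671 b J = true := fun b h1 h2 => by
  have hb : b = 369 := Nat.le_antisymm (Nat.le_of_lt_succ h2) h1
  subst hb; exact ⟨_, lblk_369⟩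
theorem lo_370_371 : ∀ b, 370 ≤ b → b < 371 → ∃ J, chkPBlk P 5 31 18 31671 b J = true := fun b h1 h2 => by
  have hb : b = 370 := Nat.le_antisymm (Nat.le_of_lt_succ h2) h1
  subst hb; exact ⟨_, lblk_370⟩
theorem lo_369_371 : ∀ b, 369 ≤ b → b < 371 → ∃ J, chkPBlk P 5 31 18 31671 b J = true := fun b h1 h2 =>
  if h : b < 370 then lo_369_370 b h1 h else lo_370_371 b (Nat.le_of_not_lt h) h2
theorem lo_367_371 : ∀ b, 367 ≤ b → b < 371 → ∃ J, chkPBlk P 5 31 18 31671 b J = true := fun b h1 h2 =>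
  if h : b < 369 then lo_367_369 b h1 h else lo_369_371 b (Nat.le_of_not_lt h) h2
theorem lo_371_372 : ∀ b, 371 ≤ b → b < 372 → ∃ J, chkPBlk P 5 31 18 31671 b J = true := fun b h1 h2 => by
  have hb : b = 371 := Nat.le_antisymm (Nat.le_of_lt_succ h2) h1
  subst hb; exact ⟨_, lblk_371⟩
theorem lo_372_373 : ∀ b, 372 ≤ b → b < 373 → ∃ J, chkPBlk P 5 31 18 31671 b J = true := fun b h1 h2 => by
  have hb : b = 372 := Nat.le_antisymm (Nat.le_of_lt_succ h2) h1
  subst hb; exact ⟨_, lblk_372⟩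
theorem lo_371_373 : ∀ b, 371 ≤ b → b < 373 → ∃ J, chkPBlk P 5 31 18 31671 b J = true := fun b h1 h2 =>
  if h : b < 372 then lo_371_372 b h1 h else lo_372_373 b (Nat.le_of_not_lt h) h2
theorem lo_373_374 : ∀ b, 373 ≤ b → b < 374 → ∃ J, chkPBlk P 5 31 18 31671 b J = true := fun b h1 h2 => by
  have hb : b = 373 := Nat.le_antisymm (Nat.le_of_lt_succ h2) h1
  subst hb; exact ⟨_, lblk_373⟩
theorem lo_374_375 : ∀ b, 374 ≤ b → b < 375 → ∃ J, chkPBlk P 5 31 18 31671 b J = true := fun b h1 h2 => by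
  have hb : b = 374 := Nat.le_antisymm (Nat.le_of_lt_succ h2) h1
  subst hb; exact ⟨_, lblk_374⟩
theorem lo_375_376 : ∀ b, 375 ≤ b → b < 376 → ∃ J, chkPBlk P 5 31 18 31671 b J = true := fun b h1 h2 => by
  have hb : b = 375 := Nat.le_antisymm (Nat.le_of_lt_succ h2) h1
  subst hb; exact ⟨_, lblk_375⟩
theorem lo_374_376 : ∀ b, 374 ≤ b → b < 376 → ∃ J, chkPBlk P 5 31 18 31671 b J = true := fun b h1 h2 =>
  if h : b < 375 then lo_374_375 b h1 h else lo_375_376 b (Nat.le_of_not_lt h) h2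
theorem lo_373_376 : ∀ b, 373 ≤ b → b < 376 → ∃ J, chkPBlk P 5 31 18 31671 b J = true := fun b h1 h2 =>
  if h : b < 374 then lo_373_374 b h1 h else lo_374_376 b (Nat.le_of_not_lt h) h2
theorem lo_371_376 : ∀ b, 371 ≤ b → b < 376 → ∃ J, chkPBlk P 5 31 18 31671 b J = true := fun b h1 h2 =>
  if h : b < 373 then lo_371_373 b h1 h else lo_373_376 b (Nat.le_of_not_lt h) h2
theorem lo_367_376 : ∀ b, 367 ≤ b → b < 376 → ∃ J, chkPBlk P 5 31 18 31671 b J = true := fun b h1 h2 =>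
  if h : b < 371 then lo_367_371 b h1 h else lo_371_376 b (Nat.le_of_not_lt h) h2
theorem lo_376_377 : ∀ b, 376 ≤ b → b < 377 → ∃ J, chkPBlk P 5 31 18 31671 b J = true := fun b h1 h2 => by
  have hb : b = 376 := Nat.le_antisymm (Nat.le_of_lt_succ h2) h1
  subst hb; exact ⟨_, lblk_376⟩
theorem lo_377_378 : ∀ b, 377 ≤ b → b < 378 → ∃ J, chkPBlk P 5 31 18 31671 b J = true := fun b h1 h2 => by
  have hb : b = 377 := Nat.le_antisymm (Nat.le_of_lt_succ h2) h1
  subst hb; exact ⟨_, lblk_377⟩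
theorem lo_376_378 : ∀ b, 376 ≤ b → b < 378 → ∃ J, chkPBlk P 5 31 18 31671 b J = true := fun b h1 h2 =>
  if h : b < 377 then lo_376_377 b h1 h else lo_377_378 b (Nat.le_of_not_lt h) h2
theorem lo_378_379 : ∀ b, 378 ≤ b → b < 379 → ∃ J, chkPBlk P 5 31 18 31671 b J = true := fun b h1 h2 => by
  have hb : b = 378 := Nat.le_antisymm (Nat.le_of_lt_succ h2) h1
  subst hb; exact ⟨_, lblk_378⟩
theorem lo_379_380 : ∀ b, 379 ≤ b → b < 380 → ∃ J, chkPBlk P 5 31 18 31671 b J = true := fun b h1 h2 => by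
  have hb : b = 379 := Nat.le_antisymm (Nat.le_of_lt_succ h2) h1
  subst hb; exact ⟨_, lblk_379⟩
theorem lo_378_380 : ∀ b, 378 ≤ b → b < 380 → ∃ J, chkPBlk P 5 31 18 31671 b J = true := fun b h1 h2 =>
  if h : b < 379 then lo_378_379 b h1 h else lo_379_380 b (Nat.le_of_not_lt h) h2
theorem lo_376_380 : ∀ b, 376 ≤ b → b < 380 → ∃ J, chkPBlk P 5 31 18 31671 b J = true := fun b h1 h2 =>
  if h : b < 378 then lo_376_378 b h1 h else lo_378_380 b (Nat.le_of_not_lt h) h2
theorem lo_380_381 : ∀ b, 380 ≤ b → b < 381 → ∃ J, chkPBlk P 5 31 18 31671 b J = true := fun b h1 h2 => by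
  have hb : b = 380 := Nat.le_antisymm (Nat.le_of_lt_succ h2) h1
  subst hb; exact ⟨_, lblk_380⟩
theorem lo_381_382 : ∀ b, 381 ≤ b → b < 382 → ∃ J, chkPBlk P 5 31 18 31671 b J = true := fun b h1 h2 => by
  have hb : b = 381 := Nat.le_antisymm (Nat.le_of_lt_succ h2) h1
  subst hb; exact ⟨_, lblk_381⟩
theorem lo_380_382 : ∀ b, 380 ≤ b → b < 382 → ∃ J, chkPBlk P 5 31 18 31671 b J = true := fun b h1 h2 =>
  if h : b < 381 then lo_380_381 b h1 h else lo_381_382 b (Nat.le_of_not_lt h) h2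
theorem lo_382_383 : ∀ b, 382 ≤ b → b < 383 → ∃ J, chkPBlk P 5 31 18 31671 b J = true := fun b h1 h2 => by
  have hb : b = 382 := Nat.le_antisymm (Nat.le_of_lt_succ h2) h1
  subst hb; exact ⟨_, lblk_382⟩
theorem lo_383_384 : ∀ b, 383 ≤ b → b < 384 → ∃ J, chkPBlk P 5 31 18 31671 b J = true := fun b h1 h2 => by
  have hb : b = 383 := Nat.le_antisymm (Nat.le_of_lt_succ h2) h1
  subst hb; exact ⟨_, lblk_383⟩
theorem lo_384_385 : ∀ b, 384 ≤ b → b < 385 → ∃ J, chkPBlk P 5 31 18 31671 b J = true := fun b h1 h2 => by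
  have hb : b = 384 := Nat.le_antisymm (Nat.le_of_lt_succ h2) h1
  subst hb; exact ⟨_, lblk_384⟩
theorem lo_383_385 : ∀ b, 383 ≤ b → b < 385 → ∃ J, chkPBlk P 5 31 18 31671 b J = true := fun b h1 h2 =>
  if h : b < 384 then lo_383_384 b h1 h else lo_384_385 b (Nat.le_of_not_lt h) h2
theorem lo_382_385 : ∀ b, 382 ≤ b → b < 385 → ∃ J, chkPBlk P 5 31 18 31671 b J = true := fun b h1 h2 =>
  if h : b < 383 then lo_382_383 b h1 h else lo_383_385 b (Nat.le_of_not_lt h) h2
theorem lo_380_385 : ∀ b, 380 ≤ b → b < 385 → ∃ J, chkPBlk P 5 31 18 31671 b J = true := fun b h1 h2 =>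
  if h : b < 382 then lo_380_382 b h1 h else lo_382_385 b (Nat.le_of_not_lt h) h2
theorem lo_376_385 : ∀ b, 376 ≤ b → b < 385 → ∃ J, chkPBlk P 5 31 18 31671 b J = true := fun b h1 h2 =>
  if h : b < 380 then lo_376_380 b h1 h else lo_380_385 b (Nat.le_of_not_lt h) h2
theorem lo_367_385 : ∀ b, 367 ≤ b → b < 385 → ∃ J, chkPBlk P 5 31 18 31671 b J = true := fun b h1 h2 =>
  if h : b < 376 then lo_367_376 b h1 h else lo_376_385 b (Nat.le_of_not_lt h) h2
theorem lo_385_386 : ∀ b, 385 ≤ b → b < 386 → ∃ J, chkPBlk P 5 31 18 31671 b J = true := fun b h1 h2 => by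
  have hb : b = 385 := Nat.le_antisymm (Nat.le_of_lt_succ h2) h1
  subst hb; exact ⟨_, lblk_385⟩
theorem lo_386_387 : ∀ b, 386 ≤ b → b < 387 → ∃ J, chkPBlk P 5 31 18 31671 b J = true := fun b h1 h2 => by
  have hb : b = 386 := Nat.le_antisymm (Nat.le_of_lt_succ h2) h1
  subst hb; exact ⟨_, lblk_386⟩
theorem lo_385_387 : ∀ b, 385 ≤ b → b < 387 → ∃ J, chkPBlk P 5 31 18 31671 b J = true := fun b h1 h2 =>
  if h : b < 386 then lo_385_386 b h1 h else lo_386_387 b (Nat.le_of_not_lt h) h2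
theorem lo_387_388 : ∀ b, 387 ≤ b → b < 388 → ∃ J, chkPBlk P 5 31 18 31671 b J = true := fun b h1 h2 => by
  have hb : b = 387 := Nat.le_antisymm (Nat.le_of_lt_succ h2) h1
  subst hb; exact ⟨_, lblk_387⟩
theorem lo_388_389 : ∀ b, 388 ≤ b → b < 389 → ∃ J, chkPBlk P 5 31 18 31671 b J = true := fun b h1 h2 => by
  have hb : b = 388 := Nat.le_antisymm (Nat.le_of_lt_succ h2) h1
  subst hb; exact ⟨_, lblk_388⟩
theorem lo_387_389 : ∀ b, 387 ≤ b → b < 389 → ∃ J, chkPBlk P 5 31 18 31671 b J = true := fun b h1 h2 =>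
  if h : b < 388 then lo_387_388 b h1 h else lo_388_389 b (Nat.le_of_not_lt h) h2
theorem lo_385_389 : ∀ b, 385 ≤ b → b < 389 → ∃ J, chkPBlk P 5 31 18 31671 b J = true := fun b h1 h2 =>
  if h : b < 387 then lo_385_387 b h1 h else lo_387_389 b (Nat.le_of_not_lt h) h2
theorem lo_389_390 : ∀ b, 389 ≤ b → b < 390 → ∃ J, chkPBlk P 5 31 18 31671 b J = true := fun b h1 h2 => by
  have hb : b = 389 := Nat.le_antisymm (Nat.le_of_lt_succ h2) h1
  subst hb; exact ⟨_, lblk_389⟩
theorem lo_390_391 : ∀ b, 390 ≤ b → b < 391 → ∃ J, chkPBlk P 5 31 18 31671 b J = true := fun b h1 h2 => by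
  have hb : b = 390 := Nat.le_antisymm (Nat.le_of_lt_succ h2) h1
  subst hb; exact ⟨_, lblk_390⟩
theorem lo_389_391 : ∀ b, 389 ≤ b → b < 391 → ∃ J, chkPBlk P 5 31 18 31671 b J = true := fun b h1 h2 =>
  if h : b < 390 then lo_389_390 b h1 h else lo_390_391 b (Nat.le_of_not_lt h) h2
theorem lo_391_392 : ∀ b, 391 ≤ b → b < 392 → ∃ J, chkPBlk P 5 31 18 31671 b J = true := fun b h1 h2 => by
  have hb : b = 391 := Nat.le_antisymm (Nat.le_of_lt_succ h2) h1
  subst hb; exact ⟨_, lblk_391⟩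
theorem lo_392_393 : ∀ b, 392 ≤ b → b < 393 → ∃ J, chkPBlk P 5 31 18 31671 b J = true := fun b h1 h2 => by
  have hb : b = 392 := Nat.le_antisymm (Nat.le_of_lt_succ h2) h1
  subst hb; exact ⟨_, lblk_392⟩
theorem lo_393_394 : ∀ b, 393 ≤ b → b < 394 → ∃ J, chkPBlk P 5 31 18 31671 b J = true := fun b h1 h2 => by
  have hb : b = 393 := Nat.le_antisymm (Nat.le_of_lt_succ h2) h1
  subst hb; exact ⟨_, lblk_393⟩
theorem lo_392_394 : ∀ b, 392 ≤ b → b < 394 → ∃ J, chkPBlk P 5 31 18 31671 b J = true := fun b h1 h2 =>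
  if h : b < 393 then lo_392_393 b h1 h else lo_393_394 b (Nat.le_of_not_lt h) h2
theorem lo_391_394 : ∀ b, 391 ≤ b → b < 394 → ∃ J, chkPBlk P 5 31 18 31671 b J = true := fun b h1 h2 =>
  if h : b < 392 then lo_391_392 b h1 h else lo_392_394 b (Nat.le_of_not_lt h) h2
theorem lo_389_394 : ∀ b, 389 ≤ b → b < 394 → ∃ J, chkPBlk P 5 31 18 31671 b J = true := fun b h1 h2 =>
  if h : b < 391 then lo_389_391 b h1 h else lo_391_394 b (Nat.le_of_not_lt h) h2
theorem lo_385_394 : ∀ b, 385 ≤ b → b < 394 → ∃ J, chkPBlk P 5 31 18 31671 b J = true := fun b h1 h2 =>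
  if h : b < 389 then lo_385_389 b h1 h else lo_389_394 b (Nat.le_of_not_lt h) h2
theorem lo_394_395 : ∀ b, 394 ≤ b → b < 395 → ∃ J, chkPBlk P 5 31 18 31671 b J = true := fun b h1 h2 => by
  have hb : b = 394 := Nat.le_antisymm (Nat.le_of_lt_succ h2) h1
  subst hb; exact ⟨_, lblk_394⟩
theorem lo_395_396 : ∀ b, 395 ≤ b → b < 396 → ∃ J, chkPBlk P 5 31 18 31671 b J = true := fun b h1 h2 => by
  have hb : b = 395 := Nat.le_antisymm (Nat.le_of_lt_succ h2) h1
  subst hb; exact ⟨_, lblk_395⟩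
theorem lo_394_396 : ∀ b, 394 ≤ b → b < 396 → ∃ J, chkPBlk P 5 31 18 31671 b J = true := fun b h1 h2 =>
  if h : b < 395 then lo_394_395 b h1 h else lo_395_396 b (Nat.le_of_not_lt h) h2
theorem lo_396_397 : ∀ b, 396 ≤ b → b < 397 → ∃ J, chkPBlk P 5 31 18 31671 b J = true := fun b h1 h2 => by
  have hb : b = 396 := Nat.le_antisymm (Nat.le_of_lt_succ h2) h1
  subst hb; exact ⟨_, lblk_396⟩
theorem lo_397_398 : ∀ b, 397 ≤ b → b < 398 → ∃ J, chkPBlk P 5 31 18 31671 b J = true := fun b h1 h2 => by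
  have hb : b = 397 := Nat.le_antisymm (Nat.le_of_lt_succ h2) h1
  subst hb; exact ⟨_, lblk_397⟩
theorem lo_398_399 : ∀ b, 398 ≤ b → b < 399 → ∃ J, chkPBlk P 5 31 18 31671 b J = true := fun b h1 h2 => by
  have hb : b = 398 := Nat.le_antisymm (Nat.le_of_lt_succ h2) h1
  subst hb; exact ⟨_, lblk_398⟩
theorem lo_397_399 : ∀ b, 397 ≤ b → b < 399 → ∃ J, chkPBlk P 5 31 18 31671 b J = true := fun b h1 h2 =>
  if h : b < 398 then lo_397_398 b h1 h else lo_398_399 b (Nat.le_of_not_lt h) h2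
theorem lo_396_399 : ∀ b, 396 ≤ b → b < 399 → ∃ J, chkPBlk P 5 31 18 31671 b J = true := fun b h1 h2 =>
  if h : b < 397 then lo_396_397 b h1 h else lo_397_399 b (Nat.le_of_not_lt h) h2
theorem lo_394_399 : ∀ b, 394 ≤ b → b < 399 → ∃ J, chkPBlk P 5 31 18 31671 b J = true := fun b h1 h2 =>
  if h : b < 396 then lo_394_396 b h1 h else lo_396_399 b (Nat.le_of_not_lt h) h2
theorem lo_399_400 : ∀ b, 399 ≤ b → b < 400 → ∃ J, chkPBlk P 5 31 18 31671 b J = true := fun b h1 h2 => by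
  have hb : b = 399 := Nat.le_antisymm (Nat.le_of_lt_succ h2) h1
  subst hb; exact ⟨_, lblk_399⟩
theorem lo_400_401 : ∀ b, 400 ≤ b → b < 401 → ∃ J, chkPBlk P 5 31 18 31671 b J = true := fun b h1 h2 => by
  have hb : b = 400 := Nat.le_antisymm (Nat.le_of_lt_succ h2) h1
  subst hb; exact ⟨_, lblk_400⟩
theorem lo_399_401 : ∀ b, 399 ≤ b → b < 401 → ∃ J, chkPBlk P 5 31 18 31671 b J = true := fun b h1 h2 =>
  if h : b < 400 then lo_399_400 b h1 h else lo_400_401 b (Nat.le_of_not_lt h) h2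
theorem lo_401_402 : ∀ b, 401 ≤ b → b < 402 → ∃ J, chkPBlk P 5 31 18 31671 b J = true := fun b h1 h2 => by
  have hb : b = 401 := Nat.le_antisymm (Nat.le_of_lt_succ h2) h1
  subst hb; exact ⟨_, lblk_401⟩
theorem lo_402_403 : ∀ b, 402 ≤ b → b < 403 → ∃ J, chkPBlk P 5 31 18 31671 b J = true := fun b h1 h2 => by
  have hb : b = 402 := Nat.le_antisymm (Nat.le_of_lt_succ h2) h1
  subst hb; exact ⟨_, lblk_402⟩
theorem lo_403_404 : ∀ b, 403 ≤ b → b < 404 → ∃ J, chkPBlk P 5 31 18 31671 b J = true := fun b h1 h2 => by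
  have hb : b = 403 := Nat.le_antisymm (Nat.le_of_lt_succ h2) h1
  subst hb; exact ⟨_, lblk_403⟩
theorem lo_402_404 : ∀ b, 402 ≤ b → b < 404 → ∃ J, chkPBlk P 5 31 18 31671 b J = true := fun b h1 h2 =>
  if h : b < 403 then lo_402_403 b h1 h else lo_403_404 b (Nat.le_of_not_lt h) h2
theorem lo_401_404 : ∀ b, 401 ≤ b → b < 404 → ∃ J, chkPBlk P 5 31 18 31671 b J = true := fun b h1 h2 =>
  if h : b < 402 then lo_401_402 b h1 h else lo_402_404 b (Nat.le_of_not_lt h) h2
theorem lo_399_404 : ∀ b, 399 ≤ b → b < 404 → ∃ J, chkPBlk P 5 31 18 31671 b J = true := fun b h1 h2 =>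
  if h : b < 401 then lo_399_401 b h1 h else lo_401_404 b (Nat.le_of_not_lt h) h2
theorem lo_394_404 : ∀ b, 394 ≤ b → b < 404 → ∃ J, chkPBlk P 5 31 18 31671 b J = true := fun b h1 h2 =>
  if h : b < 399 then lo_394_399 b h1 h else lo_399_404 b (Nat.le_of_not_lt h) h2
theorem lo_385_404 : ∀ b, 385 ≤ b → b < 404 → ∃ J, chkPBlk P 5 31 18 31671 b J = true := fun b h1 h2 =>
  if h : b < 394 then lo_385_394 b h1 h else lo_394_404 b (Nat.le_of_not_lt h) h2
theorem lo_367_404 : ∀ b, 367 ≤ b → b < 404 → ∃ J, chkPBlk P 5 31 18 31671 b J = true := fun b h1 h2 =>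
  if h : b < 385 then lo_367_385 b h1 h else lo_385_404 b (Nat.le_of_not_lt h) h2
theorem lo_404_405 : ∀ b, 404 ≤ b → b < 405 → ∃ J, chkPBlk P 5 31 18 31671 b J = true := fun b h1 h2 => by
  have hb : b = 404 := Nat.le_antisymm (Nat.le_of_lt_succ h2) h1
  subst hb; exact ⟨_, lblk_404⟩
theorem lo_405_406 : ∀ b, 405 ≤ b → b < 406 → ∃ J, chkPBlk P 5 31 18 31671 b J = true := fun b h1 h2 => by
  have hb : b = 405 := Nat.le_antisymm (Nat.le_of_lt_succ h2) h1
  subst hb; exact ⟨_, lblk_405⟩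
theorem lo_404_406 : ∀ b, 404 ≤ b → b < 406 → ∃ J, chkPBlk P 5 31 18 31671 b J = true := fun b h1 h2 =>
  if h : b < 405 then lo_404_405 b h1 h else lo_405_406 b (Nat.le_of_not_lt h) h2
theorem lo_406_407 : ∀ b, 406 ≤ b → b < 407 → ∃ J, chkPBlk P 5 31 18 31671 b J = true := fun b h1 h2 => by
  have hb : b = 406 := Nat.le_antisymm (Nat.le_of_lt_succ h2) h1
  subst hb; exact ⟨_, lblk_406⟩
theorem lo_407_408 : ∀ b, 407 ≤ b → b < 408 → ∃ J, chkPBlk P 5 31 18 31671 b J = true := fun b h1 h2 => by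
  have hb : b = 407 := Nat.le_antisymm (Nat.le_of_lt_succ h2) h1
  subst hb; exact ⟨_, lblk_407⟩
theorem lo_406_408 : ∀ b, 406 ≤ b → b < 408 → ∃ J, chkPBlk P 5 31 18 31671 b J = true := fun b h1 h2 =>
  if h : b < 407 then lo_406_407 b h1 h else lo_407_408 b (Nat.le_of_not_lt h) h2
theorem lo_404_408 : ∀ b, 404 ≤ b → b < 408 → ∃ J, chkPBlk P 5 31 18 31671 b J = true := fun b h1 h2 =>
  if h : b < 406 then lo_404_406 b h1 h else lo_406_408 b (Nat.le_of_not_lt h) h2
theorem lo_408_409 : ∀ b, 408 ≤ b → b < 409 → ∃ J, chkPBlk P 5 31 18 31671 b J = true := fun b h1 h2 => by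
  have hb : b = 408 := Nat.le_antisymm (Nat.le_of_lt_succ h2) h1
  subst hb; exact ⟨_, lblk_408⟩
theorem lo_409_410 : ∀ b, 409 ≤ b → b < 410 → ∃ J, chkPBlk P 5 31 18 31671 b J = true := fun b h1 h2 => by
  have hb : b = 409 := Nat.le_antisymm (Nat.le_of_lt_succ h2) h1
  subst hb; exact ⟨_, lblk_409⟩
theorem lo_408_410 : ∀ b, 408 ≤ b → b < 410 → ∃ J, chkPBlk P 5 31 18 31671 b J = true := fun b h1 h2 =>
  if h : b < 409 then lo_408_409 b h1 h else lo_409_410 b (Nat.le_of_not_lt h) h2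
theorem lo_410_411 : ∀ b, 410 ≤ b → b < 411 → ∃ J, chkPBlk P 5 31 18 31671 b J = true := fun b h1 h2 => by
  have hb : b = 410 := Nat.le_antisymm (Nat.le_of_lt_succ h2) h1
  subst hb; exact ⟨_, lblk_410⟩
theorem lo_411_412 : ∀ b, 411 ≤ b → b < 412 → ∃ J, chkPBlk P 5 31 18 31671 b J = true := fun b h1 h2 => by
  have hb : b = 411 := Nat.le_antisymm (Nat.le_of_lt_succ h2) h1
  subst hb; exact ⟨_, lblk_411⟩
theorem lo_412_413 : ∀ b, 412 ≤ b → b < 413 → ∃ J, chkPBlk P 5 31 18 31671 b J = true := fun b h1 h2 => by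
  have hb : b = 412 := Nat.le_antisymm (Nat.le_of_lt_succ h2) h1
  subst hb; exact ⟨_, lblk_412⟩
theorem lo_411_413 : ∀ b, 411 ≤ b → b < 413 → ∃ J, chkPBlk P 5 31 18 31671 b J = true := fun b h1 h2 =>
  if h : b < 412 then lo_411_412 b h1 h else lo_412_413 b (Nat.le_of_not_lt h) h2
theorem lo_410_413 : ∀ b, 410 ≤ b → b < 413 → ∃ J, chkPBlk P 5 31 18 31671 b J = true := fun b h1 h2 =>
  if h : b < 411 then lo_410_411 b h1 h else lo_411_413 b (Nat.le_of_not_lt h) h2
theorem lo_408_413 : ∀ b, 408 ≤ b → b < 413 → ∃ J, chkPBlk P 5 31 18 31671 b J = true := fun b h1 h2 =>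
  if h : b < 410 then lo_408_410 b h1 h else lo_410_413 b (Nat.le_of_not_lt h) h2
theorem lo_404_413 : ∀ b, 404 ≤ b → b < 413 → ∃ J, chkPBlk P 5 31 18 31671 b J = true := fun b h1 h2 =>
  if h : b < 408 then lo_404_408 b h1 h else lo_408_413 b (Nat.le_of_not_lt h) h2
theorem lo_413_414 : ∀ b, 413 ≤ b → b < 414 → ∃ J, chkPBlk P 5 31 18 31671 b J = true := fun b h1 h2 => by
  have hb : b = 413 := Nat.le_antisymm (Nat.le_of_lt_succ h2) h1
  subst hb; exact ⟨_, lblk_413⟩
theorem lo_414_415 : ∀ b, 414 ≤ b → b < 415 → ∃ J, chkPBlk P 5 31 18 31671 b J = true := fun b h1 h2 => by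
  have hb : b = 414 := Nat.le_antisymm (Nat.le_of_lt_succ h2) h1
  subst hb; exact ⟨_, lblk_414⟩
theorem lo_413_415 : ∀ b, 413 ≤ b → b < 415 → ∃ J, chkPBlk P 5 31 18 31671 b J = true := fun b h1 h2 =>
  if h : b < 414 then lo_413_414 b h1 h else lo_414_415 b (Nat.le_of_not_lt h) h2
theorem lo_415_416 : ∀ b, 415 ≤ b → b < 416 → ∃ J, chkPBlk P 5 31 18 31671 b J = true := fun b h1 h2 => by
  have hb : b = 415 := Nat.le_antisymm (Nat.le_of_lt_succ h2) h1
  subst hb; exact ⟨_, lblk_415⟩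
theorem lo_416_417 : ∀ b, 416 ≤ b → b < 417 → ∃ J, chkPBlk P 5 31 18 31671 b J = true := fun b h1 h2 => by
  have hb : b = 416 := Nat.le_antisymm (Nat.le_of_lt_succ h2) h1
  subst hb; exact ⟨_, lblk_416⟩
theorem lo_415_417 : ∀ b, 415 ≤ b → b < 417 → ∃ J, chkPBlk P 5 31 18 31671 b J = true := fun b h1 h2 =>
  if h : b < 416 then lo_415_416 b h1 h else lo_416_417 b (Nat.le_of_not_lt h) h2
theorem lo_413_417 : ∀ b, 413 ≤ b → b < 417 → ∃ J, chkPBlk P 5 31 18 31671 b J = true := fun b h1 h2 =>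
  if h : b < 415 then lo_413_415 b h1 h else lo_415_417 b (Nat.le_of_not_lt h) h2
theorem lo_417_418 : ∀ b, 417 ≤ b → b < 418 → ∃ J, chkPBlk P 5 31 18 31671 b J = true := fun b h1 h2 => by
  have hb : b = 417 := Nat.le_antisymm (Nat.le_of_lt_succ h2) h1
  subst hb; exact ⟨_, lblk_417⟩
theorem lo_418_419 : ∀ b, 418 ≤ b → b < 419 → ∃ J, chkPBlk P 5 31 18 31671 b J = true := fun b h1 h2 => by
  have hb : b = 418 := Nat.le_antisymm (Nat.le_of_lt_succ h2) h1
  subst hb; exact ⟨_, lblk_418⟩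
theorem lo_417_419 : ∀ b, 417 ≤ b → b < 419 → ∃ J, chkPBlk P 5 31 18 31671 b J = true := fun b h1 h2 =>
  if h : b < 418 then lo_417_418 b h1 h else lo_418_419 b (Nat.le_of_not_lt h) h2
theorem lo_419_420 : ∀ b, 419 ≤ b → b < 420 → ∃ J, chkPBlk P 5 31 18 31671 b J = true := fun b h1 h2 => by
  have hb : b = 419 := Nat.le_antisymm (Nat.le_of_lt_succ h2) h1
  subst hb; exact ⟨_, lblk_419⟩
theorem lo_420_421 : ∀ b, 420 ≤ b → b < 421 → ∃ J, chkPBlk P 5 31 18 31671 b J = true := fun b h1 h2 => by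
  have hb : b = 420 := Nat.le_antisymm (Nat.le_of_lt_succ h2) h1
  subst hb; exact ⟨_, lblk_420⟩
theorem lo_421_422 : ∀ b, 421 ≤ b → b < 422 → ∃ J, chkPBlk P 5 31 18 31671 b J = true := fun b h1 h2 => by
  have hb : b = 421 := Nat.le_antisymm (Nat.le_of_lt_succ h2) h1
  subst hb; exact ⟨_, lblk_421⟩
theorem lo_420_422 : ∀ b, 420 ≤ b → b < 422 → ∃ J, chkPBlk P 5 31 18 31671 b J = true := fun b h1 h2 =>
  if h : b < 421 then lo_420_421 b h1 h else lo_421_422 b (Nat.le_of_not_lt h) h2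
theorem lo_419_422 : ∀ b, 419 ≤ b → b < 422 → ∃ J, chkPBlk P 5 31 18 31671 b J = true := fun b h1 h2 =>
  if h : b < 420 then lo_419_420 b h1 h else lo_420_422 b (Nat.le_of_not_lt h) h2
theorem lo_417_422 : ∀ b, 417 ≤ b → b < 422 → ∃ J, chkPBlk P 5 31 18 31671 b J = true := fun b h1 h2 =>
  if h : b < 419 then lo_417_419 b h1 h else lo_419_422 b (Nat.le_of_not_lt h) h2
theorem lo_413_422 : ∀ b, 413 ≤ b → b < 422 → ∃ J, chkPBlk P 5 31 18 31671 b J = true := fun b h1 h2 =>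
  if h : b < 417 then lo_413_417 b h1 h else lo_417_422 b (Nat.le_of_not_lt h) h2
theorem lo_404_422 : ∀ b, 404 ≤ b → b < 422 → ∃ J, chkPBlk P 5 31 18 31671 b J = true := fun b h1 h2 =>
  if h : b < 413 then lo_404_413 b h1 h else lo_413_422 b (Nat.le_of_not_lt h) h2
theorem lo_422_423 : ∀ b, 422 ≤ b → b < 423 → ∃ J, chkPBlk P 5 31 18 31671 b J = true := fun b h1 h2 => by
  have hb : b = 422 := Nat.le_antisymm (Nat.le_of_lt_succ h2) h1
  subst hb; exact ⟨_, lblk_422⟩
theorem lo_423_424 : ∀ b, 423 ≤ b → b < 424 → ∃ J, chkPBlk P 5 31 18 31671 b J = true := fun b h1 h2 => by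
  have hb : b = 423 := Nat.le_antisymm (Nat.le_of_lt_succ h2) h1
  subst hb; exact ⟨_, lblk_423⟩
theorem lo_422_424 : ∀ b, 422 ≤ b → b < 424 → ∃ J, chkPBlk P 5 31 18 31671 b J = true := fun b h1 h2 =>
  if h : b < 423 then lo_422_423 b h1 h else lo_423_424 b (Nat.le_of_not_lt h) h2
theorem lo_424_425 : ∀ b, 424 ≤ b → b < 425 → ∃ J, chkPBlk P 5 31 18 31671 b J = true := fun b h1 h2 => by
  have hb : b = 424 := Nat.le_antisymm (Nat.le_of_lt_succ h2) h1
  subst hb; exact ⟨_, lblk_424⟩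
theorem lo_425_426 : ∀ b, 425 ≤ b → b < 426 → ∃ J, chkPBlk P 5 31 18 31671 b J = true := fun b h1 h2 => by
  have hb : b = 425 := Nat.le_antisymm (Nat.le_of_lt_succ h2) h1
  subst hb; exact ⟨_, lblk_425⟩
theorem lo_424_426 : ∀ b, 424 ≤ b → b < 426 → ∃ J, chkPBlk P 5 31 18 31671 b J = true := fun b h1 h2 =>
  if h : b < 425 then lo_424_425 b h1 h else lo_425_426 b (Nat.le_of_not_lt h) h2
theorem lo_422_426 : ∀ b, 422 ≤ b → b < 426 → ∃ J, chkPBlk P 5 31 18 31671 b J = true := fun b h1 h2 =>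
  if h : b < 424 then lo_422_424 b h1 h else lo_424_426 b (Nat.le_of_not_lt h) h2
theorem lo_426_427 : ∀ b, 426 ≤ b → b < 427 → ∃ J, chkPBlk P 5 31 18 31671 b J = true := fun b h1 h2 => by
  have hb : b = 426 := Nat.le_antisymm (Nat.le_of_lt_succ h2) h1
  subst hb; exact ⟨_, lblk_426⟩
theorem lo_427_428 : ∀ b, 427 ≤ b → b < 428 → ∃ J, chkPBlk P 5 31 18 31671 b J = true := fun b h1 h2 => by
  have hb : b = 427 := Nat.le_antisymm (Nat.le_of_lt_succ h2) h1
  subst hb; exact ⟨_, lblk_427⟩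
theorem lo_426_428 : ∀ b, 426 ≤ b → b < 428 → ∃ J, chkPBlk P 5 31 18 31671 b J = true := fun b h1 h2 =>
  if h : b < 427 then lo_426_427 b h1 h else lo_427_428 b (Nat.le_of_not_lt h) h2
theorem lo_428_429 : ∀ b, 428 ≤ b → b < 429 → ∃ J, chkPBlk P 5 31 18 31671 b J = true := fun b h1 h2 => by
  have hb : b = 428 := Nat.le_antisymm (Nat.le_of_lt_succ h2) h1
  subst hb; exact ⟨_, lblk_428⟩
theorem lo_429_430 : ∀ b, 429 ≤ b → b < 430 → ∃ J, chkPBlk P 5 31 18 31671 b J = true := fun b h1 h2 => by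
  have hb : b = 429 := Nat.le_antisymm (Nat.le_of_lt_succ h2) h1
  subst hb; exact ⟨_, lblk_429⟩
theorem lo_430_431 : ∀ b, 430 ≤ b → b < 431 → ∃ J, chkPBlk P 5 31 18 31671 b J = true := fun b h1 h2 => by
  have hb : b = 430 := Nat.le_antisymm (Nat.le_of_lt_succ h2) h1
  subst hb; exact ⟨_, lblk_430⟩
theorem lo_429_431 : ∀ b, 429 ≤ b → b < 431 → ∃ J, chkPBlk P 5 31 18 31671 b J = true := fun b h1 h2 =>
  if h : b < 430 then lo_429_430 b h1 h else lo_430_431 b (Nat.le_of_not_lt h) h2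
theorem lo_428_431 : ∀ b, 428 ≤ b → b < 431 → ∃ J, chkPBlk P 5 31 18 31671 b J = true := fun b h1 h2 =>
  if h : b < 429 then lo_428_429 b h1 h else lo_429_431 b (Nat.le_of_not_lt h) h2
theorem lo_426_431 : ∀ b, 426 ≤ b → b < 431 → ∃ J, chkPBlk P 5 31 18 31671 b J = true := fun b h1 h2 =>
  if h : b < 428 then lo_426_428 b h1 h else lo_428_431 b (Nat.le_of_not_lt h) h2
theorem lo_422_431 : ∀ b, 422 ≤ b → b < 431 → ∃ J, chkPBlk P 5 31 18 31671 b J = true := fun b h1 h2 =>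
  if h : b < 426 then lo_422_426 b h1 h else lo_426_431 b (Nat.le_of_not_lt h) h2
theorem lo_431_432 : ∀ b, 431 ≤ b → b < 432 → ∃ J, chkPBlk P 5 31 18 31671 b J = true := fun b h1 h2 => by
  have hb : b = 431 := Nat.le_antisymm (Nat.le_of_lt_succ h2) h1
  subst hb; exact ⟨_, lblk_431⟩
theorem lo_432_433 : ∀ b, 432 ≤ b → b < 433 → ∃ J, chkPBlk P 5 31 18 31671 b J = true := fun b h1 h2 => by
  have hb : b = 432 := Nat.le_antisymm (Nat.le_of_lt_succ h2) h1
  subst hb; exact ⟨_, lblk_432⟩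
theorem lo_431_433 : ∀ b, 431 ≤ b → b < 433 → ∃ J, chkPBlk P 5 31 18 31671 b J = true := fun b h1 h2 =>
  if h : b < 432 then lo_431_432 b h1 h else lo_432_433 b (Nat.le_of_not_lt h) h2
theorem lo_433_434 : ∀ b, 433 ≤ b → b < 434 → ∃ J, chkPBlk P 5 31 18 31671 b J = true := fun b h1 h2 => by
  have hb : b = 433 := Nat.le_antisymm (Nat.le_of_lt_succ h2) h1
  subst hb; exact ⟨_, lblk_433⟩
theorem lo_434_435 : ∀ b, 434 ≤ b → b < 435 → ∃ J, chkPBlk P 5 31 18 31671 b J = true := fun b h1 h2 => by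
  have hb : b = 434 := Nat.le_antisymm (Nat.le_of_lt_succ h2) h1
  subst hb; exact ⟨_, lblk_434⟩
theorem lo_435_436 : ∀ b, 435 ≤ b → b < 436 → ∃ J, chkPBlk P 5 31 18 31671 b J = true := fun b h1 h2 => by
  have hb : b = 435 := Nat.le_antisymm (Nat.le_of_lt_succ h2) h1
  subst hb; exact ⟨_, lblk_435⟩
theorem lo_434_436 : ∀ b, 434 ≤ b → b < 436 → ∃ J, chkPBlk P 5 31 18 31671 b J = true := fun b h1 h2 =>
  if h : b < 435 then lo_434_435 b h1 h else lo_435_436 b (Nat.le_of_not_lt h) h2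
theorem lo_433_436 : ∀ b, 433 ≤ b → b < 436 → ∃ J, chkPBlk P 5 31 18 31671 b J = true := fun b h1 h2 =>
  if h : b < 434 then lo_433_434 b h1 h else lo_434_436 b (Nat.le_of_not_lt h) h2
theorem lo_431_436 : ∀ b, 431 ≤ b → b < 436 → ∃ J, chkPBlk P 5 31 18 31671 b J = true := fun b h1 h2 =>
  if h : b < 433 then lo_431_433 b h1 h else lo_433_436 b (Nat.le_of_not_lt h) h2
theorem lo_436_437 : ∀ b, 436 ≤ b → b < 437 → ∃ J, chkPBlk P 5 31 18 31671 b J = true := fun b h1 h2 => by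
  have hb : b = 436 := Nat.le_antisymm (Nat.le_of_lt_succ h2) h1
  subst hb; exact ⟨_, lblk_436⟩
theorem lo_437_438 : ∀ b, 437 ≤ b → b < 438 → ∃ J, chkPBlk P 5 31 18 31671 b J = true := fun b h1 h2 => by
  have hb : b = 437 := Nat.le_antisymm (Nat.le_of_lt_succ h2) h1
  subst hb; exact ⟨_, lblk_437⟩
theorem lo_436_438 : ∀ b, 436 ≤ b → b < 438 → ∃ J, chkPBlk P 5 31 18 31671 b J = true := fun b h1 h2 =>
  if h : b < 437 then lo_436_437 b h1 h else lo_437_438 b (Nat.le_of_not_lt h) h2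
theorem lo_438_439 : ∀ b, 438 ≤ b → b < 439 → ∃ J, chkPBlk P 5 31 18 31671 b J = true := fun b h1 h2 => by
  have hb : b = 438 := Nat.le_antisymm (Nat.le_of_lt_succ h2) h1
  subst hb; exact ⟨_, lblk_438⟩
theorem lo_439_440 : ∀ b, 439 ≤ b → b < 440 → ∃ J, chkPBlk P 5 31 18 31671 b J = true := fun b h1 h2 => by
  have hb : b = 439 := Nat.le_antisymm (Nat.le_of_lt_succ h2) h1
  subst hb; exact ⟨_, lblk_439⟩
theorem lo_440_441 : ∀ b, 440 ≤ b → b < 441 → ∃ J, chkPBlk P 5 31 18 31671 b J = true := fun b h1 h2 => by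
  have hb : b = 440 := Nat.le_antisymm (Nat.le_of_lt_succ h2) h1
  subst hb; exact ⟨_, lblk_440⟩
theorem lo_439_441 : ∀ b, 439 ≤ b → b < 441 → ∃ J, chkPBlk P 5 31 18 31671 b J = true := fun b h1 h2 =>
  if h : b < 440 then lo_439_440 b h1 h else lo_440_441 b (Nat.le_of_not_lt h) h2
theorem lo_438_441 : ∀ b, 438 ≤ b → b < 441 → ∃ J, chkPBlk P 5 31 18 31671 b J = true := fun b h1 h2 =>
  if h : b < 439 then lo_438_439 b h1 h else lo_439_441 b (Nat.le_of_not_lt h) h2
theorem lo_436_441 : ∀ b, 436 ≤ b → b < 441 → ∃ J, chkPBlk P 5 31 18 31671 b J = true := fun b h1 h2 =>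
  if h : b < 438 then lo_436_438 b h1 h else lo_438_441 b (Nat.le_of_not_lt h) h2
theorem lo_431_441 : ∀ b, 431 ≤ b → b < 441 → ∃ J, chkPBlk P 5 31 18 31671 b J = true := fun b h1 h2 =>
  if h : b < 436 then lo_431_436 b h1 h else lo_436_441 b (Nat.le_of_not_lt h) h2
theorem lo_422_441 : ∀ b, 422 ≤ b → b < 441 → ∃ J, chkPBlk P 5 31 18 31671 b J = true := fun b h1 h2 =>
  if h : b < 431 then lo_422_431 b h1 h else lo_431_441 b (Nat.le_of_not_lt h) h2
theorem lo_404_441 : ∀ b, 404 ≤ b → b < 441 → ∃ J, chkPBlk P 5 31 18 31671 b J = true := fun b h1 h2 =>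
  if h : b < 422 then lo_404_422 b h1 h else lo_422_441 b (Nat.le_of_not_lt h) h2
theorem lo_367_441 : ∀ b, 367 ≤ b → b < 441 → ∃ J, chkPBlk P 5 31 18 31671 b J = true := fun b h1 h2 =>
  if h : b < 404 then lo_367_404 b h1 h else lo_404_441 b (Nat.le_of_not_lt h) h2
theorem lo_294_441 : ∀ b, 294 ≤ b → b < 441 → ∃ J, chkPBlk P 5 31 18 31671 b J = true := fun b h1 h2 =>
  if h : b < 367 then lo_294_367 b h1 h else lo_367_441 b (Nat.le_of_not_lt h) h2

end Cfsg.Agent.Lib.Helper29.S1689
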