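import Cfsg.Agent.Lib.Helper29.S1689.Data

set_option autoImplicit false
set_option Elab.async false

namespace Cfsg.Agent.Lib.Helper29.S1689

open Cfsg.Agent.Lib.Helper29.TcTrace Cfsg.Agent.Lib.Helper29.TcCert Cfsg.Agent.Lib.Helper29.TcPerm

theorem lblk_441 : chkPBlk P 5 31 18 31671 441 0xa3398c51146449469220a3 = true := by decide +kernel
theorem lblk_442 : chkPBlk P 5 31 18 31671 442 0x1054a0c74a0a94a4a24a449 = true := by decide +kernel
theorem lblk_443 : chkPBlk P 5 31 18 31671 443 0xe628d2949469220a322524 = true := by decide +kernel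
theorem lblk_444 : chkPBlk P 5 31 18 31671 444 0x10928c6448d244152832525 = true := by decide +kernel
theorem lblk_445 : chkPBlk P 5 31 18 31671 445 0xa228d264944928d2442505 = true := by decide +kernel
theorem lblk_446 : chkPBlk P 5 31 18 31671 446 0xa51a523491094150911ce6 = true := by decide +kernel
theorem lblk_447 : chkPBlk P 5 31 18 31671 447 0x6921528399274992549128 = true := by decide +kernel
theorem lblk_448 : chkPBlk P 5 31 18 31671 448 0x6922509414842944948925 = true := by decide +kernel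
theorem lblk_449 : chkPBlk P 5 31 18 31671 449 0x64418c4294a5398e4498a9 = true := by decide +kernel
theorem lblk_450 : chkPBlk P 5 31 18 31671 450 0x1063a528324a92210749105 = true := by decide +kernel
theorem lblk_451 : chkPBlk P 5 31 18 31671 451 0x491a489491084992549124 = true := by decide +kernel
theorem lblk_452 : chkPBlk P 5 31 18 31671 452 0xa942524421264a48928d09 = true := by decide +kernel
theorem lblk_453 : chkPBlk P 5 31 18 31671 453 0x4928d091246922127424c9 = true := by decide +kernel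
theorem lblk_454 : chkPBlk P 5 31 18 31671 454 0xc7324692208831c8848509 = true := by decide +kernel
theorem lblk_455 : chkPBlk P 5 31 18 31671 455 0xa922488320e84892349088 = true := by decide +kernel
theorem lblk_456 : chkPBlk P 5 31 18 31671 456 0x10839109124692246922109 = true := by decide +kernel
theorem lblk_457 : chkPBlk P 5 31 18 31671 457 0x88424c92a489220c748d24 = true := by decide +kernel
theorem lblk_458 : chkPBlk P 5 31 18 31671 458 0xe849925494692212441929 = true := by decide +kernel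
theorem lblk_459 : chkPBlk P 5 31 18 31671 459 0x1090a122494684892349109 = true := by decide +kernel
theorem lblk_460 : chkPBlk P 5 31 18 31671 460 0x12349109495251a48849106 = true := by decide +kernel
theorem lblk_461 : chkPBlk P 5 31 18 31671 461 0x1244190742428489251a122 = true := by decide +kernel
theorem lblk_462 : chkPBlk P 5 31 18 31671 462 0xa928d24424883212928d24 = true := by decide +kernel
theorem lblk_463 : chkPBlk P 5 31 18 31671 463 0x69220a84a46922127424c9 = true := by decide +kernel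
theorem lblk_464 : chkPBlk P 5 31 18 31671 464 0x127424c849925124a349125 = true := by decide +kernel
theorem lblk_465 : chkPBlk P 5 31 18 31671 465 0x284a4a242428489251a128 = true := by decide +kernel
theorem lblk_466 : chkPBlk P 5 31 18 31671 466 0x109491083912441ca442509 = true := by decide +kernel
theorem lblk_467 : chkPBlk P 5 31 18 31671 467 0x88424c92a489220c83a524 = true := by decide +kernel
theorem lblk_468 : chkPBlk P 5 31 18 31671 468 0xc83a508391091246922469 = true := by decide +kernel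
theorem lblk_469 : chkPBlk P 5 31 18 31671 469 0x109220c91a488424a922488 = true := by decide +kernel
theorem lblk_470 : chkPBlk P 5 31 18 31671 470 0x491a48849d09324a928d24 = true := by decide +kernel
theorem lblk_471 : chkPBlk P 5 31 18 31671 471 0x124419071a1214244928d09 = true := by decide +kernel
theorem lblk_472 : chkPBlk P 5 31 18 31671 472 0x69221292a4a349109220c9 = true := by decide +kernel
theorem lblk_473 : chkPBlk P 5 31 18 31671 473 0xa249469224a34910542449 = true := by decide +kernel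
theorem lblk_474 : chkPBlk P 5 31 18 31671 474 0x109124a3425093a126424c9 = true := by decide +kernel
theorem lblk_475 : chkPBlk P 5 31 18 31671 475 0x129220884a1214252512121 = true := by decide +kernel
theorem lblk_476 : chkPBlk P 5 31 18 31671 476 0x1093a126495254910849524 = true := by decide +kernel
theorem lblk_477 : chkPBlk P 5 31 18 31671 477 0xa92a4884a4883252249469 = true := by decide +kernel
theorem lblk_478 : chkPBlk P 5 31 18 31671 478 0x125124a349125491054a129 = true := by decide +kernel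
theorem lblk_479 : chkPBlk P 5 31 18 31671 479 0x49489251a12849d0932126 = true := by decide +kernel
theorem lblk_480 : chkPBlk P 5 31 18 31671 480 0x6922124418884a12142525 = true := by decide +kernel
theorem lblk_481 : chkPBlk P 5 31 18 31671 481 0xc84a4a249469224a9220a9 = true := by decide +kernel
theorem lblk_482 : chkPBlk P 5 31 18 31671 482 0xa24946922121489251a109 = true := by decide +kernel
theorem lblk_483 : chkPBlk P 5 31 18 31671 483 0x1264942849925124a3424c9 = true := by decide +kernel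
theorem lblk_484 : chkPBlk P 5 31 18 31671 484 0x12142525120884a127424e8 = true := by decide +kernel
theorem lblk_485 : chkPBlk P 5 31 18 31671 485 0x45220884a109224a122128 = true := by decide +kernel
theorem lblk_486 : chkPBlk P 5 31 18 31671 486 0x4941109421244942512505 = true := by decide +kernel
theorem lblk_487 : chkPBlk P 5 31 18 31671 487 0x892842512429124a349025 = true := by decide +kernel
theorem lblk_488 : chkPBlk P 5 31 18 31671 488 0x884a109224a5220884a109 = true := by decide +kernel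
theorem lblk_489 : chkPBlk P 5 31 18 31671 489 0x10641d23491094910629104 = true := by decide +kernel
theorem lblk_490 : chkPBlk P 5 31 18 31671 490 0x109490c8489234912349104 = true := by decide +kernel
theorem lblk_491 : chkPBlk P 5 31 18 31671 491 0x883212248d2442509124a3 = true := by decide +kernel
theorem lblk_492 : chkPBlk P 5 31 18 31671 492 0x12249468489234912349109 = true := by decide +kernel
theorem lblk_493 : chkPBlk P 5 31 18 31671 493 0x1254952441929220c742428 = true := by decide +kernel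
theorem lblk_494 : chkPBlk P 5 31 18 31671 494 0xa249469224a9220a84a489 = true := by decide +kernel
theorem lblk_495 : chkPBlk P 5 31 18 31671 495 0x484a1224946949d26424c9 = true := by decide +kernel
theorem lblk_496 : chkPBlk P 5 31 18 31671 496 0x1214244928c884a12142525 = true := by decide +kernel
theorem lblk_497 : chkPBlk P 5 31 18 31671 497 0x122494684892349129220a8 = true := by decide +kernel
theorem lblk_498 : chkPBlk P 5 31 18 31671 498 0x12831109424284a4a242428 = true := by decide +kernel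
theorem lblk_499 : chkPBlk P 5 31 18 31671 499 0x125124a349123491054a488 = true := by decide +kernel
theorem lblk_500 : chkPBlk P 5 31 18 31671 500 0xa34910848509124a349909 = true := by decide +kernel
theorem lblk_501 : chkPBlk P 5 31 18 31671 501 0xa1424c9289251a12649449 = true := by decide +kernel
theorem lblk_502 : chkPBlk P 5 31 18 31671 502 0x1090a129289293a127424c9 = true := by decide +kernel
theorem lblk_503 : chkPBlk P 5 31 18 31671 503 0xe329104425084912509109 = true := by decide +kernel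
theorem lblk_504 : chkPBlk P 5 31 18 31671 504 0x109124692246922124418c8 = true := by decide +kernel
theorem lblk_505 : chkPBlk P 5 31 18 31671 505 0xc84a4a249469224a349105 = true := by decide +kernel
theorem lblk_506 : chkPBlk P 5 31 18 31671 506 0x1090a129289090a12249469 = true := by decide +kernel
theorem lblk_507 : chkPBlk P 5 31 18 31671 507 0x491a4891a4882a50639109 = true := by decide +kernel
theorem lblk_508 : chkPBlk P 5 31 18 31671 508 0x4928d24421214244928d09 = true := by decide +kernel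
theorem lblk_509 : chkPBlk P 5 31 18 31671 509 0xc928509324a24946849925 = true := by decide +kernel
theorem lblk_510 : chkPBlk P 5 31 18 31671 510 0x109424284a4a24a4e849d09 = true := by decide +kernel
theorem lblk_511 : chkPBlk P 5 31 18 31671 511 0x109490a4411094212449424 = true := by decide +kernel
theorem lblk_512 : chkPBlk P 5 31 18 31671 512 0x125424c9289251a1292a488 = true := by decide +kernel
theorem lblk_513 : chkPBlk P 5 31 18 31671 513 0x108491250a5214a4a24a109 = true := by decide +kernel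
theorem lblk_514 : chkPBlk P 5 31 18 31671 514 0x4928d0949109414a441109 = true := by decide +kernel
theorem lblk_515 : chkPBlk P 5 31 18 31671 515 0x4928d244a4294944848509 = true := by decide +kernel
theorem lblk_516 : chkPBlk P 5 31 18 31671 516 0xc9289093a1264942849925 = true := by decide +kernel
theorem lblk_517 : chkPBlk P 5 31 18 31671 517 0x127424c92a127424c928509 = true := by decide +kernel
theorem lblk_518 : chkPBlk P 5 31 18 31671 518 0xa441109421244942942488 = true := by decide +kernel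
theorem lblk_519 : chkPBlk P 5 31 18 31671 519 0x850a485220844250849125 = true := by decide +kernel
theorem lblk_520 : chkPBlk P 5 31 18 31671 520 0x850a485220844250849125 = true := by decide +kernel
theorem lblk_521 : chkPBlk P 5 31 18 31671 521 0x109224a4285290a525124a3 = true := by decide +kernel
theorem lblk_522 : chkPBlk P 5 31 18 31671 522 0x109221281a1242910422128 = true := by decide +kernel
theorem lblk_523 : chkPBlk P 5 31 18 31671 523 0x28489251a12248d2430ca4 = true := by decide +kernel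
theorem lblk_524 : chkPBlk P 5 31 18 31671 524 0xa249464425090a12928909 = true := by decide +kernel
theorem lblk_525 : chkPBlk P 5 31 18 31671 525 0x126494483a126224a1424c9 = true := by decide +kernel
theorem lblk_526 : chkPBlk P 5 31 18 31671 526 0x1093a126495093a12649428 = true := by decide +kernel
theorem lblk_527 : chkPBlk P 5 31 18 31671 527 0xa5220884a109224a14a124 = true := by decide +kernel
theorem lblk_528 : chkPBlk P 5 31 18 31671 528 0xa231464291042212842489 = true := by decide +kernel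
theorem lblk_529 : chkPBlk P 5 31 18 31671 529 0x1094212449424425090a129 = true := by decide +kernel
theorem lblk_530 : chkPBlk P 5 31 18 31671 530 0x126495093a126224a129104 = true := by decide +kernel
theorem lblk_531 : chkPBlk P 5 31 18 31671 531 0xa44248849d0932124424e8 = true := by decide +kernel
theorem lblk_532 : chkPBlk P 5 31 18 31671 532 0x68490a4410884a109224a8 = true := by decide +kernel
theorem lblk_533 : chkPBlk P 5 31 18 31671 533 0x10942124494c32910922128 = true := by decide +kernel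
theorem lblk_534 : chkPBlk P 5 31 18 31671 534 0x6522124425034248522084 = true := by decide +kernel
theorem lblk_535 : chkPBlk P 5 31 18 31671 535 0x4231464414884a5084a066 = true := by decide +kernel
theorem lblk_536 : chkPBlk P 5 31 18 31671 536 0xc51146428c884248442528 = true := by decide +kernel
theorem lblk_537 : chkPBlk P 5 31 18 31671 537 0x1054a0c74a0a9414864a0c1 = true := by decide +kernel
theorem lblk_538 : chkPBlk P 5 31 18 31671 538 0x1264944928d244146322524 = true := by decide +kernel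
theorem lblk_539 : chkPBlk P 5 31 18 31671 539 0x128299284a52949ce6288a3 = true := by decide +kernel
theorem lblk_540 : chkPBlk P 5 31 18 31671 540 0xa9315264a4a3490a54a488 = true := by decide +kernel
theorem lblk_541 : chkPBlk P 5 31 18 31671 541 0xa349128414a34a46922128 = true := by decide +kernel
theorem lblk_542 : chkPBlk P 5 31 18 31671 542 0x6922507318a23912649449 = true := by decide +kernel
theorem lblk_543 : chkPBlk P 5 31 18 31671 543 0x1243a527499251a4842a525 = true := by decide +kernel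
theorem lblk_544 : chkPBlk P 5 31 18 31671 544 0x8941068210a94a4a249464 = true := by decide +kernel
theorem lblk_545 : chkPBlk P 5 31 18 31671 545 0x6922064411273110912469 = true := by decide +kernel
theorem lblk_546 : chkPBlk P 5 31 18 31671 546 0xa9220c942126495244a125 = true := by decide +kernel
theorem lblk_547 : chkPBlk P 5 31 18 31671 547 0x109124a34a48849d09324a9 = true := by decide +kernel
theorem lblk_548 : chkPBlk P 5 31 18 31671 548 0x10932509491093a1284a509 = true := by decide +kernel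
theorem lblk_549 : chkPBlk P 5 31 18 31671 549 0x129289094244928c884a127 = true := by decide +kernel
theorem lblk_550 : chkPBlk P 5 31 18 31671 550 0x491a483220c83910942428 = true := by decide +kernel
theorem lblk_551 : chkPBlk P 5 31 18 31671 551 0x1244248832109124a321909 = true := by decide +kernel
theorem lblk_552 : chkPBlk P 5 31 18 31671 552 0x4928d0912469221292a4a3 = true := by decide +kernel
theorem lblk_553 : chkPBlk P 5 31 18 31671 553 0xc84a4a349124418e848509 = true := by decide +kernel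
theorem lblk_554 : chkPBlk P 5 31 18 31671 554 0xa84a48849d09324a92a488 = true := by decide +kernel
theorem lblk_555 : chkPBlk P 5 31 18 31671 555 0x126424c9289251a4892a488 = true := by decide +kernel
theorem lblk_556 : chkPBlk P 5 31 18 31671 556 0x109494494244928d09424e8 = true := by decide +kernel
theorem lblk_557 : chkPBlk P 5 31 18 31671 557 0x1251a48928d24414884a121 = true := by decide +kernel
theorem lblk_558 : chkPBlk P 5 31 18 31671 558 0x1090a12249468424c84a4a2 = true := by decide +kernel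
theorem lblk_559 : chkPBlk P 5 31 18 31671 559 0x1244248831109424284a4a2 = true := by decide +kernel
theorem lblk_560 : chkPBlk P 5 31 18 31671 560 0x8928d24415084a5251a4a3 = true := by decide +kernel
theorem lblk_561 : chkPBlk P 5 31 18 31671 561 0xa3425093a126424c949469 = true := by decide +kernel
theorem lblk_562 : chkPBlk P 5 31 18 31671 562 0xa3424c9289251a48842129 = true := by decide +kernel
theorem lblk_563 : chkPBlk P 5 31 18 31671 563 0x127424e8499250a12649449 = true := by decide +kernel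
theorem lblk_564 : chkPBlk P 5 31 18 31671 564 0xa122128485094944822128 = true := by decide +kernel
theorem lblk_565 : chkPBlk P 5 31 18 31671 565 0x12922107214882212842489 = true := by decide +kernel
theorem lblk_566 : chkPBlk P 5 31 18 31671 566 0x12441923491092a48922107 = true := by decide +kernel
theorem lblk_567 : chkPBlk P 5 31 18 31671 567 0x123491093a126495251a488 = true := by decide +kernel
theorem lblk_568 : chkPBlk P 5 31 18 31671 568 0x88320e342428489251a122 = true := by decide +kernel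
theorem lblk_569 : chkPBlk P 5 31 18 31671 569 0x12442525494692212441929 = true := by decide +kernel
theorem lblk_570 : chkPBlk P 5 31 18 31671 570 0x4928d2449469220a848923 = true := by decide +kernel
theorem lblk_571 : chkPBlk P 5 31 18 31671 571 0x122494684a127424c849925 = true := by decide +kernel
theorem lblk_572 : chkPBlk P 5 31 18 31671 572 0x10639109424284a4a242428 = true := by decide +kernel
theorem lblk_573 : chkPBlk P 5 31 18 31671 573 0xa3491251a4882a46922124 = true := by decide +kernel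
theorem lblk_574 : chkPBlk P 5 31 18 31671 574 0x1214244928d084990949449 = true := by decide +kernel
theorem lblk_575 : chkPBlk P 5 31 18 31671 575 0xa24946849925124a349108 = true := by decide +kernel
theorem lblk_576 : chkPBlk P 5 31 18 31671 576 0x109424e849d09324a1424c9 = true := by decide +kernel
theorem lblk_577 : chkPBlk P 5 31 18 31671 577 0x12449424425090a12928904 = true := by decide +kernel
theorem lblk_578 : chkPBlk P 5 31 18 31671 578 0x12442525425242910442508 = true := by decide +kernel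
theorem lblk_579 : chkPBlk P 5 31 18 31671 579 0x1094a4a22212849d0932525 = true := by decide +kernel
theorem lblk_580 : chkPBlk P 5 31 18 31671 580 0xa922108499094952448d24 = true := by decide +kernel
theorem lblk_581 : chkPBlk P 5 31 18 31671 581 0x1093a129424c9289251a129 = true := by decide +kernel
theorem lblk_582 : chkPBlk P 5 31 18 31671 582 0x109224a14a525120884a127 = true := by decide +kernel
theorem lblk_583 : chkPBlk P 5 31 18 31671 583 0x124421291a4894910522128 = true := by decide +kernel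
theorem lblk_584 : chkPBlk P 5 31 18 31671 584 0x1284252849925124a342525 = true := by decide +kernel
theorem lblk_585 : chkPBlk P 5 31 18 31671 585 0xc9289251a4894852928888 = true := by decide +kernel
theorem lblk_586 : chkPBlk P 5 31 18 31671 586 0x1250a1264944849d0932509 = true := by decide +kernel
theorem lblk_587 : chkPBlk P 5 31 18 31671 587 0x1244248849d09325093a126 = true := by decide +kernel
theorem lo_441_442 : ∀ b, 441 ≤ b → b < 442 → ∃ J, chkPBlk P 5 31 18 31671 b J = true := fun b h1 h2 => by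
  have hb : b = 441 := Nat.le_antisymm (Nat.le_of_lt_succ h2) h1
  subst hb; exact ⟨_, lblk_441⟩
theorem lo_442_443 : ∀ b, 442 ≤ b → b < 443 → ∃ J, chkPBlk P 5 31 18 31671 b J = true := fun b h1 h2 => by
  have hb : b = 442 := Nat.le_antisymm (Nat.le_of_lt_succ h2) h1
  subst hb; exact ⟨_, lblk_442⟩
theorem lo_441_443 : ∀ b, 441 ≤ b → b < 443 → ∃ J, chkPBlk P 5 31 18 31671 b J = true := fun b h1 h2 =>
  if h : b < 442 then lo_441_442 b h1 h else lo_442_443 b (Nat.le_of_not_lt h) h2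
theorem lo_443_444 : ∀ b, 443 ≤ b → b < 444 → ∃ J, chkPBlk P 5 31 18 31671 b J = true := fun b h1 h2 => by
  have hb : b = 443 := Nat.le_antisymm (Nat.le_of_lt_succ h2) h1
  subst hb; exact ⟨_, lblk_443⟩
theorem lo_444_445 : ∀ b, 444 ≤ b → b < 445 → ∃ J, chkPBlk P 5 31 18 31671 b J = true := fun b h1 h2 => by
  have hb : b = 444 := Nat.le_antisymm (Nat.le_of_lt_succ h2) h1
  subst hb; exact ⟨_, lblk_444⟩
theorem lo_443_445 : ∀ b, 443 ≤ b → b < 445 → ∃ J, chkPBlk P 5 31 18 31671 b J = true := fun b h1 h2 =>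
  if h : b < 444 then lo_443_444 b h1 h else lo_444_445 b (Nat.le_of_not_lt h) h2
theorem lo_441_445 : ∀ b, 441 ≤ b → b < 445 → ∃ J, chkPBlk P 5 31 18 31671 b J = true := fun b h1 h2 =>
  if h : b < 443 then lo_441_443 b h1 h else lo_443_445 b (Nat.le_of_not_lt h) h2
theorem lo_445_446 : ∀ b, 445 ≤ b → b < 446 → ∃ J, chkPBlk P 5 31 18 31671 b J = true := fun b h1 h2 => by
  have hb : b = 445 := Nat.le_antisymm (Nat.le_of_lt_succ h2) h1
  subst hb; exact ⟨_, lblk_445⟩
theorem lo_446_447 : ∀ b, 446 ≤ b → b < 447 → ∃ J, chkPBlk P 5 31 18 31671 b J = true := fun b h1 h2 => by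
  have hb : b = 446 := Nat.le_antisymm (Nat.le_of_lt_succ h2) h1
  subst hb; exact ⟨_, lblk_446⟩
theorem lo_445_447 : ∀ b, 445 ≤ b → b < 447 → ∃ J, chkPBlk P 5 31 18 31671 b J = true := fun b h1 h2 =>
  if h : b < 446 then lo_445_446 b h1 h else lo_446_447 b (Nat.le_of_not_lt h) h2
theorem lo_447_448 : ∀ b, 447 ≤ b → b < 448 → ∃ J, chkPBlk P 5 31 18 31671 b J = true := fun b h1 h2 => by
  have hb : b = 447 := Nat.le_antisymm (Nat.le_of_lt_succ h2) h1
  subst hb; exact ⟨_, lblk_447⟩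
theorem lo_448_449 : ∀ b, 448 ≤ b → b < 449 → ∃ J, chkPBlk P 5 31 18 31671 b J = true := fun b h1 h2 => by
  have hb : b = 448 := Nat.le_antisymm (Nat.le_of_lt_succ h2) h1
  subst hb; exact ⟨_, lblk_448⟩
theorem lo_449_450 : ∀ b, 449 ≤ b → b < 450 → ∃ J, chkPBlk P 5 31 18 31671 b J = true := fun b h1 h2 => by
  have hb : b = 449 := Nat.le_antisymm (Nat.le_of_lt_succ h2) h1
  subst hb; exact ⟨_, lblk_449⟩
theorem lo_448_450 : ∀ b, 448 ≤ b → b < 450 → ∃ J, chkPBlk P 5 31 18 31671 b J = true := fun b h1 h2 =>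
  if h : b < 449 then lo_448_449 b h1 h else lo_449_450 b (Nat.le_of_not_lt h) h2
theorem lo_447_450 : ∀ b, 447 ≤ b → b < 450 → ∃ J, chkPBlk P 5 31 18 31671 b J = true := fun b h1 h2 =>
  if h : b < 448 then lo_447_448 b h1 h else lo_448_450 b (Nat.le_of_not_lt h) h2
theorem lo_445_450 : ∀ b, 445 ≤ b → b < 450 → ∃ J, chkPBlk P 5 31 18 31671 b J = true := fun b h1 h2 =>
  if h : b < 447 then lo_445_447 b h1 h else lo_447_450 b (Nat.le_of_not_lt h) h2
theorem lo_441_450 : ∀ b, 441 ≤ b → b < 450 → ∃ J, chkPBlk P 5 31 18 31671 b J = true := fun b h1 h2 =>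
  if h : b < 445 then lo_441_445 b h1 h else lo_445_450 b (Nat.le_of_not_lt h) h2
theorem lo_450_451 : ∀ b, 450 ≤ b → b < 451 → ∃ J, chkPBlk P 5 31 18 31671 b J = true := fun b h1 h2 => by
  have hb : b = 450 := Nat.le_antisymm (Nat.le_of_lt_succ h2) h1
  subst hb; exact ⟨_, lblk_450⟩
theorem lo_451_452 : ∀ b, 451 ≤ b → b < 452 → ∃ J, chkPBlk P 5 31 18 31671 b J = true := fun b h1 h2 => by
  have hb : b = 451 := Nat.le_antisymm (Nat.le_of_lt_succ h2) h1
  subst hb; exact ⟨_, lblk_451⟩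
theorem lo_450_452 : ∀ b, 450 ≤ b → b < 452 → ∃ J, chkPBlk P 5 31 18 31671 b J = true := fun b h1 h2 =>
  if h : b < 451 then lo_450_451 b h1 h else lo_451_452 b (Nat.le_of_not_lt h) h2
theorem lo_452_453 : ∀ b, 452 ≤ b → b < 453 → ∃ J, chkPBlk P 5 31 18 31671 b J = true := fun b h1 h2 => by
  have hb : b = 452 := Nat.le_antisymm (Nat.le_of_lt_succ h2) h1
  subst hb; exact ⟨_, lblk_452⟩
theorem lo_453_454 : ∀ b, 453 ≤ b → b < 454 → ∃ J, chkPBlk P 5 31 18 31671 b J = true := fun b h1 h2 => by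
  have hb : b = 453 := Nat.le_antisymm (Nat.le_of_lt_succ h2) h1
  subst hb; exact ⟨_, lblk_453⟩
theorem lo_452_454 : ∀ b, 452 ≤ b → b < 454 → ∃ J, chkPBlk P 5 31 18 31671 b J = true := fun b h1 h2 =>
  if h : b < 453 then lo_452_453 b h1 h else lo_453_454 b (Nat.le_of_not_lt h) h2
theorem lo_450_454 : ∀ b, 450 ≤ b → b < 454 → ∃ J, chkPBlk P 5 31 18 31671 b J = true := fun b h1 h2 =>
  if h : b < 452 then lo_450_452 b h1 h else lo_452_454 b (Nat.le_of_not_lt h) h2
theorem lo_454_455 : ∀ b, 454 ≤ b → b < 455 → ∃ J, chkPBlk P 5 31 18 31671 b J = true := fun b h1 h2 => by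
  have hb : b = 454 := Nat.le_antisymm (Nat.le_of_lt_succ h2) h1
  subst hb; exact ⟨_, lblk_454⟩
theorem lo_455_456 : ∀ b, 455 ≤ b → b < 456 → ∃ J, chkPBlk P 5 31 18 31671 b J = true := fun b h1 h2 => by
  have hb : b = 455 := Nat.le_antisymm (Nat.le_of_lt_succ h2) h1
  subst hb; exact ⟨_, lblk_455⟩
theorem lo_454_456 : ∀ b, 454 ≤ b → b < 456 → ∃ J, chkPBlk P 5 31 18 31671 b J = true := fun b h1 h2 =>
  if h : b < 455 then lo_454_455 b h1 h else lo_455_456 b (Nat.le_of_not_lt h) h2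
theorem lo_456_457 : ∀ b, 456 ≤ b → b < 457 → ∃ J, chkPBlk P 5 31 18 31671 b J = true := fun b h1 h2 => by
  have hb : b = 456 := Nat.le_antisymm (Nat.le_of_lt_succ h2) h1
  subst hb; exact ⟨_, lblk_456⟩
theorem lo_457_458 : ∀ b, 457 ≤ b → b < 458 → ∃ J, chkPBlk P 5 31 18 31671 b J = true := fun b h1 h2 => by
  have hb : b = 457 := Nat.le_antisymm (Nat.le_of_lt_succ h2) h1
  subst hb; exact ⟨_, lblk_457⟩
theorem lo_458_459 : ∀ b, 458 ≤ b → b < 459 → ∃ J, chkPBlk P 5 31 18 31671 b J = true := fun b h1 h2 => by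
  have hb : b = 458 := Nat.le_antisymm (Nat.le_of_lt_succ h2) h1
  subst hb; exact ⟨_, lblk_458⟩
theorem lo_457_459 : ∀ b, 457 ≤ b → b < 459 → ∃ J, chkPBlk P 5 31 18 31671 b J = true := fun b h1 h2 =>
  if h : b < 458 then lo_457_458 b h1 h else lo_458_459 b (Nat.le_of_not_lt h) h2
theorem lo_456_459 : ∀ b, 456 ≤ b → b < 459 → ∃ J, chkPBlk P 5 31 18 31671 b J = true := fun b h1 h2 =>
  if h : b < 457 then lo_456_457 b h1 h else lo_457_459 b (Nat.le_of_not_lt h) h2
theorem lo_454_459 : ∀ b, 454 ≤ b → b < 459 → ∃ J, chkPBlk P 5 31 18 31671 b J = true := fun b h1 h2 =>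
  if h : b < 456 then lo_454_456 b h1 h else lo_456_459 b (Nat.le_of_not_lt h) h2
theorem lo_450_459 : ∀ b, 450 ≤ b → b < 459 → ∃ J, chkPBlk P 5 31 18 31671 b J = true := fun b h1 h2 =>
  if h : b < 454 then lo_450_454 b h1 h else lo_454_459 b (Nat.le_of_not_lt h) h2
theorem lo_441_459 : ∀ b, 441 ≤ b → b < 459 → ∃ J, chkPBlk P 5 31 18 31671 b J = true := fun b h1 h2 =>
  if h : b < 450 then lo_441_450 b h1 h else lo_450_459 b (Nat.le_of_not_lt h) h2
theorem lo_459_460 : ∀ b, 459 ≤ b → b < 460 → ∃ J, chkPBlk P 5 31 18 31671 b J = true := fun b h1 h2 => by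
  have hb : b = 459 := Nat.le_antisymm (Nat.le_of_lt_succ h2) h1
  subst hb; exact ⟨_, lblk_459⟩
theorem lo_460_461 : ∀ b, 460 ≤ b → b < 461 → ∃ J, chkPBlk P 5 31 18 31671 b J = true := fun b h1 h2 => by
  have hb : b = 460 := Nat.le_antisymm (Nat.le_of_lt_succ h2) h1
  subst hb; exact ⟨_, lblk_460⟩
theorem lo_459_461 : ∀ b, 459 ≤ b → b < 461 → ∃ J, chkPBlk P 5 31 18 31671 b J = true := fun b h1 h2 =>
  if h : b < 460 then lo_459_460 b h1 h else lo_460_461 b (Nat.le_of_not_lt h) h2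
theorem lo_461_462 : ∀ b, 461 ≤ b → b < 462 → ∃ J, chkPBlk P 5 31 18 31671 b J = true := fun b h1 h2 => by
  have hb : b = 461 := Nat.le_antisymm (Nat.le_of_lt_succ h2) h1
  subst hb; exact ⟨_, lblk_461⟩
theorem lo_462_463 : ∀ b, 462 ≤ b → b < 463 → ∃ J, chkPBlk P 5 31 18 31671 b J = true := fun b h1 h2 => by
  have hb : b = 462 := Nat.le_antisymm (Nat.le_of_lt_succ h2) h1
  subst hb; exact ⟨_, lblk_462⟩
theorem lo_461_463 : ∀ b, 461 ≤ b → b < 463 → ∃ J, chkPBlk P 5 31 18 31671 b J = true := fun b h1 h2 =>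
  if h : b < 462 then lo_461_462 b h1 h else lo_462_463 b (Nat.le_of_not_lt h) h2
theorem lo_459_463 : ∀ b, 459 ≤ b → b < 463 → ∃ J, chkPBlk P 5 31 18 31671 b J = true := fun b h1 h2 =>
  if h : b < 461 then lo_459_461 b h1 h else lo_461_463 b (Nat.le_of_not_lt h) h2
theorem lo_463_464 : ∀ b, 463 ≤ b → b < 464 → ∃ J, chkPBlk P 5 31 18 31671 b J = true := fun b h1 h2 => by
  have hb : b = 463 := Nat.le_antisymm (Nat.le_of_lt_succ h2) h1
  subst hb; exact ⟨_, lblk_463⟩
theorem lo_464_465 : ∀ b, 464 ≤ b → b < 465 → ∃ J, chkPBlk P 5 31 18 31671 b J = true := fun b h1 h2 => by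
  have hb : b = 464 := Nat.le_antisymm (Nat.le_of_lt_succ h2) h1
  subst hb; exact ⟨_, lblk_464⟩
theorem lo_463_465 : ∀ b, 463 ≤ b → b < 465 → ∃ J, chkPBlk P 5 31 18 31671 b J = true := fun b h1 h2 =>
  if h : b < 464 then lo_463_464 b h1 h else lo_464_465 b (Nat.le_of_not_lt h) h2
theorem lo_465_466 : ∀ b, 465 ≤ b → b < 466 → ∃ J, chkPBlk P 5 31 18 31671 b J = true := fun b h1 h2 => by
  have hb : b = 465 := Nat.le_antisymm (Nat.le_of_lt_succ h2) h1
  subst hb; exact ⟨_, lblk_465⟩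
theorem lo_466_467 : ∀ b, 466 ≤ b → b < 467 → ∃ J, chkPBlk P 5 31 18 31671 b J = true := fun b h1 h2 => by
  have hb : b = 466 := Nat.le_antisymm (Nat.le_of_lt_succ h2) h1
  subst hb; exact ⟨_, lblk_466⟩
theorem lo_467_468 : ∀ b, 467 ≤ b → b < 468 → ∃ J, chkPBlk P 5 31 18 31671 b J = true := fun b h1 h2 => by
  have hb : b = 467 := Nat.le_antisymm (Nat.le_of_lt_succ h2) h1
  subst hb; exact ⟨_, lblk_467⟩
theorem lo_466_468 : ∀ b, 466 ≤ b → b < 468 → ∃ J, chkPBlk P 5 31 18 31671 b J = true := fun b h1 h2 =>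
  if h : b < 467 then lo_466_467 b h1 h else lo_467_468 b (Nat.le_of_not_lt h) h2
theorem lo_465_468 : ∀ b, 465 ≤ b → b < 468 → ∃ J, chkPBlk P 5 31 18 31671 b J = true := fun b h1 h2 =>
  if h : b < 466 then lo_465_466 b h1 h else lo_466_468 b (Nat.le_of_not_lt h) h2
theorem lo_463_468 : ∀ b, 463 ≤ b → b < 468 → ∃ J, chkPBlk P 5 31 18 31671 b J = true := fun b h1 h2 =>
  if h : b < 465 then lo_463_465 b h1 h else lo_465_468 b (Nat.le_of_not_lt h) h2
theorem lo_459_468 : ∀ b, 459 ≤ b → b < 468 → ∃ J, chkPBlk P 5 31 18 31671 b J = true := fun b h1 h2 =>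
  if h : b < 463 then lo_459_463 b h1 h else lo_463_468 b (Nat.le_of_not_lt h) h2
theorem lo_468_469 : ∀ b, 468 ≤ b → b < 469 → ∃ J, chkPBlk P 5 31 18 31671 b J = true := fun b h1 h2 => by
  have hb : b = 468 := Nat.le_antisymm (Nat.le_of_lt_succ h2) h1
  subst hb; exact ⟨_, lblk_468⟩
theorem lo_469_470 : ∀ b, 469 ≤ b → b < 470 → ∃ J, chkPBlk P 5 31 18 31671 b J = true := fun b h1 h2 => by
  have hb : b = 469 := Nat.le_antisymm (Nat.le_of_lt_succ h2) h1
  subst hb; exact ⟨_, lblk_469⟩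
theorem lo_468_470 : ∀ b, 468 ≤ b → b < 470 → ∃ J, chkPBlk P 5 31 18 31671 b J = true := fun b h1 h2 =>
  if h : b < 469 then lo_468_469 b h1 h else lo_469_470 b (Nat.le_of_not_lt h) h2
theorem lo_470_471 : ∀ b, 470 ≤ b → b < 471 → ∃ J, chkPBlk P 5 31 18 31671 b J = true := fun b h1 h2 => by
  have hb : b = 470 := Nat.le_antisymm (Nat.le_of_lt_succ h2) h1
  subst hb; exact ⟨_, lblk_470⟩
theorem lo_471_472 : ∀ b, 471 ≤ b → b < 472 → ∃ J, chkPBlk P 5 31 18 31671 b J = true := fun b h1 h2 => by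
  have hb : b = 471 := Nat.le_antisymm (Nat.le_of_lt_succ h2) h1
  subst hb; exact ⟨_, lblk_471⟩
theorem lo_470_472 : ∀ b, 470 ≤ b → b < 472 → ∃ J, chkPBlk P 5 31 18 31671 b J = true := fun b h1 h2 =>
  if h : b < 471 then lo_470_471 b h1 h else lo_471_472 b (Nat.le_of_not_lt h) h2
theorem lo_468_472 : ∀ b, 468 ≤ b → b < 472 → ∃ J, chkPBlk P 5 31 18 31671 b J = true := fun b h1 h2 =>
  if h : b < 470 then lo_468_470 b h1 h else lo_470_472 b (Nat.le_of_not_lt h) h2
theorem lo_472_473 : ∀ b, 472 ≤ b → b < 473 → ∃ J, chkPBlk P 5 31 18 31671 b J = true := fun b h1 h2 => by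
  have hb : b = 472 := Nat.le_antisymm (Nat.le_of_lt_succ h2) h1
  subst hb; exact ⟨_, lblk_472⟩
theorem lo_473_474 : ∀ b, 473 ≤ b → b < 474 → ∃ J, chkPBlk P 5 31 18 31671 b J = true := fun b h1 h2 => by
  have hb : b = 473 := Nat.le_antisymm (Nat.le_of_lt_succ h2) h1
  subst hb; exact ⟨_, lblk_473⟩
theorem lo_472_474 : ∀ b, 472 ≤ b → b < 474 → ∃ J, chkPBlk P 5 31 18 31671 b J = true := fun b h1 h2 =>
  if h : b < 473 then lo_472_473 b h1 h else lo_473_474 b (Nat.le_of_not_lt h) h2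
theorem lo_474_475 : ∀ b, 474 ≤ b → b < 475 → ∃ J, chkPBlk P 5 31 18 31671 b J = true := fun b h1 h2 => by
  have hb : b = 474 := Nat.le_antisymm (Nat.le_of_lt_succ h2) h1
  subst hb; exact ⟨_, lblk_474⟩
theorem lo_475_476 : ∀ b, 475 ≤ b → b < 476 → ∃ J, chkPBlk P 5 31 18 31671 b J = true := fun b h1 h2 => by
  have hb : b = 475 := Nat.le_antisymm (Nat.le_of_lt_succ h2) h1
  subst hb; exact ⟨_, lblk_475⟩
theorem lo_476_477 : ∀ b, 476 ≤ b → b < 477 → ∃ J, chkPBlk P 5 31 18 31671 b J = true := fun b h1 h2 => by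
  have hb : b = 476 := Nat.le_antisymm (Nat.le_of_lt_succ h2) h1
  subst hb; exact ⟨_, lblk_476⟩
theorem lo_475_477 : ∀ b, 475 ≤ b → b < 477 → ∃ J, chkPBlk P 5 31 18 31671 b J = true := fun b h1 h2 =>
  if h : b < 476 then lo_475_476 b h1 h else lo_476_477 b (Nat.le_of_not_lt h) h2
theorem lo_474_477 : ∀ b, 474 ≤ b → b < 477 → ∃ J, chkPBlk P 5 31 18 31671 b J = true := fun b h1 h2 =>
  if h : b < 475 then lo_474_475 b h1 h else lo_475_477 b (Nat.le_of_not_lt h) h2
theorem lo_472_477 : ∀ b, 472 ≤ b → b < 477 → ∃ J, chkPBlk P 5 31 18 31671 b J = true := fun b h1 h2 =>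
  if h : b < 474 then lo_472_474 b h1 h else lo_474_477 b (Nat.le_of_not_lt h) h2
theorem lo_468_477 : ∀ b, 468 ≤ b → b < 477 → ∃ J, chkPBlk P 5 31 18 31671 b J = true := fun b h1 h2 =>
  if h : b < 472 then lo_468_472 b h1 h else lo_472_477 b (Nat.le_of_not_lt h) h2
theorem lo_459_477 : ∀ b, 459 ≤ b → b < 477 → ∃ J, chkPBlk P 5 31 18 31671 b J = true := fun b h1 h2 =>
  if h : b < 468 then lo_459_468 b h1 h else lo_468_477 b (Nat.le_of_not_lt h) h2
theorem lo_441_477 : ∀ b, 441 ≤ b → b < 477 → ∃ J, chkPBlk P 5 31 18 31671 b J = true := fun b h1 h2 =>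
  if h : b < 459 then lo_441_459 b h1 h else lo_459_477 b (Nat.le_of_not_lt h) h2
theorem lo_477_478 : ∀ b, 477 ≤ b → b < 478 → ∃ J, chkPBlk P 5 31 18 31671 b J = true := fun b h1 h2 => by
  have hb : b = 477 := Nat.le_antisymm (Nat.le_of_lt_succ h2) h1
  subst hb; exact ⟨_, lblk_477⟩
theorem lo_478_479 : ∀ b, 478 ≤ b → b < 479 → ∃ J, chkPBlk P 5 31 18 31671 b J = true := fun b h1 h2 => by
  have hb : b = 478 := Nat.le_antisymm (Nat.le_of_lt_succ h2) h1
  subst hb; exact ⟨_, lblk_478⟩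
theorem lo_477_479 : ∀ b, 477 ≤ b → b < 479 → ∃ J, chkPBlk P 5 31 18 31671 b J = true := fun b h1 h2 =>
  if h : b < 478 then lo_477_478 b h1 h else lo_478_479 b (Nat.le_of_not_lt h) h2
theorem lo_479_480 : ∀ b, 479 ≤ b → b < 480 → ∃ J, chkPBlk P 5 31 18 31671 b J = true := fun b h1 h2 => by
  have hb : b = 479 := Nat.le_antisymm (Nat.le_of_lt_succ h2) h1
  subst hb; exact ⟨_, lblk_479⟩
theorem lo_480_481 : ∀ b, 480 ≤ b → b < 481 → ∃ J, chkPBlk P 5 31 18 31671 b J = true := fun b h1 h2 => by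
  have hb : b = 480 := Nat.le_antisymm (Nat.le_of_lt_succ h2) h1
  subst hb; exact ⟨_, lblk_480⟩
theorem lo_479_481 : ∀ b, 479 ≤ b → b < 481 → ∃ J, chkPBlk P 5 31 18 31671 b J = true := fun b h1 h2 =>
  if h : b < 480 then lo_479_480 b h1 h else lo_480_481 b (Nat.le_of_not_lt h) h2
theorem lo_477_481 : ∀ b, 477 ≤ b → b < 481 → ∃ J, chkPBlk P 5 31 18 31671 b J = true := fun b h1 h2 =>
  if h : b < 479 then lo_477_479 b h1 h else lo_479_481 b (Nat.le_of_not_lt h) h2
theorem lo_481_482 : ∀ b, 481 ≤ b → b < 482 → ∃ J, chkPBlk P 5 31 18 31671 b J = true := fun b h1 h2 => by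
  have hb : b = 481 := Nat.le_antisymm (Nat.le_of_lt_succ h2) h1
  subst hb; exact ⟨_, lblk_481⟩
theorem lo_482_483 : ∀ b, 482 ≤ b → b < 483 → ∃ J, chkPBlk P 5 31 18 31671 b J = true := fun b h1 h2 => by
  have hb : b = 482 := Nat.le_antisymm (Nat.le_of_lt_succ h2) h1
  subst hb; exact ⟨_, lblk_482⟩
theorem lo_481_483 : ∀ b, 481 ≤ b → b < 483 → ∃ J, chkPBlk P 5 31 18 31671 b J = true := fun b h1 h2 =>
  if h : b < 482 then lo_481_482 b h1 h else lo_482_483 b (Nat.le_of_not_lt h) h2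
theorem lo_483_484 : ∀ b, 483 ≤ b → b < 484 → ∃ J, chkPBlk P 5 31 18 31671 b J = true := fun b h1 h2 => by
  have hb : b = 483 := Nat.le_antisymm (Nat.le_of_lt_succ h2) h1
  subst hb; exact ⟨_, lblk_483⟩
theorem lo_484_485 : ∀ b, 484 ≤ b → b < 485 → ∃ J, chkPBlk P 5 31 18 31671 b J = true := fun b h1 h2 => by
  have hb : b = 484 := Nat.le_antisymm (Nat.le_of_lt_succ h2) h1
  subst hb; exact ⟨_, lblk_484⟩
theorem lo_485_486 : ∀ b, 485 ≤ b → b < 486 → ∃ J, chkPBlk P 5 31 18 31671 b J = true := fun b h1 h2 => by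
  have hb : b = 485 := Nat.le_antisymm (Nat.le_of_lt_succ h2) h1
  subst hb; exact ⟨_, lblk_485⟩
theorem lo_484_486 : ∀ b, 484 ≤ b → b < 486 → ∃ J, chkPBlk P 5 31 18 31671 b J = true := fun b h1 h2 =>
  if h : b < 485 then lo_484_485 b h1 h else lo_485_486 b (Nat.le_of_not_lt h) h2
theorem lo_483_486 : ∀ b, 483 ≤ b → b < 486 → ∃ J, chkPBlk P 5 31 18 31671 b J = true := fun b h1 h2 =>
  if h : b < 484 then lo_483_484 b h1 h else lo_484_486 b (Nat.le_of_not_lt h) h2
theorem lo_481_486 : ∀ b, 481 ≤ b → b < 486 → ∃ J, chkPBlk P 5 31 18 31671 b J = true := fun b h1 h2 =>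
  if h : b < 483 then lo_481_483 b h1 h else lo_483_486 b (Nat.le_of_not_lt h) h2
theorem lo_477_486 : ∀ b, 477 ≤ b → b < 486 → ∃ J, chkPBlk P 5 31 18 31671 b J = true := fun b h1 h2 =>
  if h : b < 481 then lo_477_481 b h1 h else lo_481_486 b (Nat.le_of_not_lt h) h2
theorem lo_486_487 : ∀ b, 486 ≤ b → b < 487 → ∃ J, chkPBlk P 5 31 18 31671 b J = true := fun b h1 h2 => by
  have hb : b = 486 := Nat.le_antisymm (Nat.le_of_lt_succ h2) h1
  subst hb; exact ⟨_, lblk_486⟩
theorem lo_487_488 : ∀ b, 487 ≤ b → b < 488 → ∃ J, chkPBlk P 5 31 18 31671 b J = true := fun b h1 h2 => by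
  have hb : b = 487 := Nat.le_antisymm (Nat.le_of_lt_succ h2) h1
  subst hb; exact ⟨_, lblk_487⟩
theorem lo_486_488 : ∀ b, 486 ≤ b → b < 488 → ∃ J, chkPBlk P 5 31 18 31671 b J = true := fun b h1 h2 =>
  if h : b < 487 then lo_486_487 b h1 h else lo_487_488 b (Nat.le_of_not_lt h) h2
theorem lo_488_489 : ∀ b, 488 ≤ b → b < 489 → ∃ J, chkPBlk P 5 31 18 31671 b J = true := fun b h1 h2 => by
  have hb : b = 488 := Nat.le_antisymm (Nat.le_of_lt_succ h2) h1
  subst hb; exact ⟨_, lblk_488⟩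
theorem lo_489_490 : ∀ b, 489 ≤ b → b < 490 → ∃ J, chkPBlk P 5 31 18 31671 b J = true := fun b h1 h2 => by
  have hb : b = 489 := Nat.le_antisymm (Nat.le_of_lt_succ h2) h1
  subst hb; exact ⟨_, lblk_489⟩
theorem lo_488_490 : ∀ b, 488 ≤ b → b < 490 → ∃ J, chkPBlk P 5 31 18 31671 b J = true := fun b h1 h2 =>
  if h : b < 489 then lo_488_489 b h1 h else lo_489_490 b (Nat.le_of_not_lt h) h2
theorem lo_486_490 : ∀ b, 486 ≤ b → b < 490 → ∃ J, chkPBlk P 5 31 18 31671 b J = true := fun b h1 h2 =>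
  if h : b < 488 then lo_486_488 b h1 h else lo_488_490 b (Nat.le_of_not_lt h) h2
theorem lo_490_491 : ∀ b, 490 ≤ b → b < 491 → ∃ J, chkPBlk P 5 31 18 31671 b J = true := fun b h1 h2 => by
  have hb : b = 490 := Nat.le_antisymm (Nat.le_of_lt_succ h2) h1
  subst hb; exact ⟨_, lblk_490⟩
theorem lo_491_492 : ∀ b, 491 ≤ b → b < 492 → ∃ J, chkPBlk P 5 31 18 31671 b J = true := fun b h1 h2 => by
  have hb : b = 491 := Nat.le_antisymm (Nat.le_of_lt_succ h2) h1
  subst hb; exact ⟨_, lblk_491⟩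
theorem lo_490_492 : ∀ b, 490 ≤ b → b < 492 → ∃ J, chkPBlk P 5 31 18 31671 b J = true := fun b h1 h2 =>
  if h : b < 491 then lo_490_491 b h1 h else lo_491_492 b (Nat.le_of_not_lt h) h2
theorem lo_492_493 : ∀ b, 492 ≤ b → b < 493 → ∃ J, chkPBlk P 5 31 18 31671 b J = true := fun b h1 h2 => by
  have hb : b = 492 := Nat.le_antisymm (Nat.le_of_lt_succ h2) h1
  subst hb; exact ⟨_, lblk_492⟩
theorem lo_493_494 : ∀ b, 493 ≤ b → b < 494 → ∃ J, chkPBlk P 5 31 18 31671 b J = true := fun b h1 h2 => by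
  have hb : b = 493 := Nat.le_antisymm (Nat.le_of_lt_succ h2) h1
  subst hb; exact ⟨_, lblk_493⟩
theorem lo_494_495 : ∀ b, 494 ≤ b → b < 495 → ∃ J, chkPBlk P 5 31 18 31671 b J = true := fun b h1 h2 => by
  have hb : b = 494 := Nat.le_antisymm (Nat.le_of_lt_succ h2) h1
  subst hb; exact ⟨_, lblk_494⟩
theorem lo_493_495 : ∀ b, 493 ≤ b → b < 495 → ∃ J, chkPBlk P 5 31 18 31671 b J = true := fun b h1 h2 =>
  if h : b < 494 then lo_493_494 b h1 h else lo_494_495 b (Nat.le_of_not_lt h) h2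
theorem lo_492_495 : ∀ b, 492 ≤ b → b < 495 → ∃ J, chkPBlk P 5 31 18 31671 b J = true := fun b h1 h2 =>
  if h : b < 493 then lo_492_493 b h1 h else lo_493_495 b (Nat.le_of_not_lt h) h2
theorem lo_490_495 : ∀ b, 490 ≤ b → b < 495 → ∃ J, chkPBlk P 5 31 18 31671 b J = true := fun b h1 h2 =>
  if h : b < 492 then lo_490_492 b h1 h else lo_492_495 b (Nat.le_of_not_lt h) h2
theorem lo_486_495 : ∀ b, 486 ≤ b → b < 495 → ∃ J, chkPBlk P 5 31 18 31671 b J = true := fun b h1 h2 =>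
  if h : b < 490 then lo_486_490 b h1 h else lo_490_495 b (Nat.le_of_not_lt h) h2
theorem lo_477_495 : ∀ b, 477 ≤ b → b < 495 → ∃ J, chkPBlk P 5 31 18 31671 b J = true := fun b h1 h2 =>
  if h : b < 486 then lo_477_486 b h1 h else lo_486_495 b (Nat.le_of_not_lt h) h2
theorem lo_495_496 : ∀ b, 495 ≤ b → b < 496 → ∃ J, chkPBlk P 5 31 18 31671 b J = true := fun b h1 h2 => by
  have hb : b = 495 := Nat.le_antisymm (Nat.le_of_lt_succ h2) h1
  subst hb; exact ⟨_, lblk_495⟩
theorem lo_496_497 : ∀ b, 496 ≤ b → b < 497 → ∃ J, chkPBlk P 5 31 18 31671 b J = true := fun b h1 h2 => by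
  have hb : b = 496 := Nat.le_antisymm (Nat.le_of_lt_succ h2) h1
  subst hb; exact ⟨_, lblk_496⟩
theorem lo_495_497 : ∀ b, 495 ≤ b → b < 497 → ∃ J, chkPBlk P 5 31 18 31671 b J = true := fun b h1 h2 =>
  if h : b < 496 then lo_495_496 b h1 h else lo_496_497 b (Nat.le_of_not_lt h) h2
theorem lo_497_498 : ∀ b, 497 ≤ b → b < 498 → ∃ J, chkPBlk P 5 31 18 31671 b J = true := fun b h1 h2 => by
  have hb : b = 497 := Nat.le_antisymm (Nat.le_of_lt_succ h2) h1
  subst hb; exact ⟨_, lblk_497⟩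
theorem lo_498_499 : ∀ b, 498 ≤ b → b < 499 → ∃ J, chkPBlk P 5 31 18 31671 b J = true := fun b h1 h2 => by
  have hb : b = 498 := Nat.le_antisymm (Nat.le_of_lt_succ h2) h1
  subst hb; exact ⟨_, lblk_498⟩
theorem lo_497_499 : ∀ b, 497 ≤ b → b < 499 → ∃ J, chkPBlk P 5 31 18 31671 b J = true := fun b h1 h2 =>
  if h : b < 498 then lo_497_498 b h1 h else lo_498_499 b (Nat.le_of_not_lt h) h2
theorem lo_495_499 : ∀ b, 495 ≤ b → b < 499 → ∃ J, chkPBlk P 5 31 18 31671 b J = true := fun b h1 h2 =>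
  if h : b < 497 then lo_495_497 b h1 h else lo_497_499 b (Nat.le_of_not_lt h) h2
theorem lo_499_500 : ∀ b, 499 ≤ b → b < 500 → ∃ J, chkPBlk P 5 31 18 31671 b J = true := fun b h1 h2 => by
  have hb : b = 499 := Nat.le_antisymm (Nat.le_of_lt_succ h2) h1
  subst hb; exact ⟨_, lblk_499⟩
theorem lo_500_501 : ∀ b, 500 ≤ b → b < 501 → ∃ J, chkPBlk P 5 31 18 31671 b J = true := fun b h1 h2 => by
  have hb : b = 500 := Nat.le_antisymm (Nat.le_of_lt_succ h2) h1
  subst hb; exact ⟨_, lblk_500⟩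
theorem lo_499_501 : ∀ b, 499 ≤ b → b < 501 → ∃ J, chkPBlk P 5 31 18 31671 b J = true := fun b h1 h2 =>
  if h : b < 500 then lo_499_500 b h1 h else lo_500_501 b (Nat.le_of_not_lt h) h2
theorem lo_501_502 : ∀ b, 501 ≤ b → b < 502 → ∃ J, chkPBlk P 5 31 18 31671 b J = true := fun b h1 h2 => by
  have hb : b = 501 := Nat.le_antisymm (Nat.le_of_lt_succ h2) h1
  subst hb; exact ⟨_, lblk_501⟩
theorem lo_502_503 : ∀ b, 502 ≤ b → b < 503 → ∃ J, chkPBlk P 5 31 18 31671 b J = true := fun b h1 h2 => by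
  have hb : b = 502 := Nat.le_antisymm (Nat.le_of_lt_succ h2) h1
  subst hb; exact ⟨_, lblk_502⟩
theorem lo_503_504 : ∀ b, 503 ≤ b → b < 504 → ∃ J, chkPBlk P 5 31 18 31671 b J = true := fun b h1 h2 => by
  have hb : b = 503 := Nat.le_antisymm (Nat.le_of_lt_succ h2) h1
  subst hb; exact ⟨_, lblk_503⟩
theorem lo_502_504 : ∀ b, 502 ≤ b → b < 504 → ∃ J, chkPBlk P 5 31 18 31671 b J = true := fun b h1 h2 =>
  if h : b < 503 then lo_502_503 b h1 h else lo_503_504 b (Nat.le_of_not_lt h) h2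
theorem lo_501_504 : ∀ b, 501 ≤ b → b < 504 → ∃ J, chkPBlk P 5 31 18 31671 b J = true := fun b h1 h2 =>
  if h : b < 502 then lo_501_502 b h1 h else lo_502_504 b (Nat.le_of_not_lt h) h2
theorem lo_499_504 : ∀ b, 499 ≤ b → b < 504 → ∃ J, chkPBlk P 5 31 18 31671 b J = true := fun b h1 h2 =>
  if h : b < 501 then lo_499_501 b h1 h else lo_501_504 b (Nat.le_of_not_lt h) h2
theorem lo_495_504 : ∀ b, 495 ≤ b → b < 504 → ∃ J, chkPBlk P 5 31 18 31671 b J = true := fun b h1 h2 =>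
  if h : b < 499 then lo_495_499 b h1 h else lo_499_504 b (Nat.le_of_not_lt h) h2
theorem lo_504_505 : ∀ b, 504 ≤ b → b < 505 → ∃ J, chkPBlk P 5 31 18 31671 b J = true := fun b h1 h2 => by
  have hb : b = 504 := Nat.le_antisymm (Nat.le_of_lt_succ h2) h1
  subst hb; exact ⟨_, lblk_504⟩
theorem lo_505_506 : ∀ b, 505 ≤ b → b < 506 → ∃ J, chkPBlk P 5 31 18 31671 b J = true := fun b h1 h2 => by
  have hb : b = 505 := Nat.le_antisymm (Nat.le_of_lt_succ h2) h1
  subst hb; exact ⟨_, lblk_505⟩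
theorem lo_504_506 : ∀ b, 504 ≤ b → b < 506 → ∃ J, chkPBlk P 5 31 18 31671 b J = true := fun b h1 h2 =>
  if h : b < 505 then lo_504_505 b h1 h else lo_505_506 b (Nat.le_of_not_lt h) h2
theorem lo_506_507 : ∀ b, 506 ≤ b → b < 507 → ∃ J, chkPBlk P 5 31 18 31671 b J = true := fun b h1 h2 => by
  have hb : b = 506 := Nat.le_antisymm (Nat.le_of_lt_succ h2) h1
  subst hb; exact ⟨_, lblk_506⟩
theorem lo_507_508 : ∀ b, 507 ≤ b → b < 508 → ∃ J, chkPBlk P 5 31 18 31671 b J = true := fun b h1 h2 => by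
  have hb : b = 507 := Nat.le_antisymm (Nat.le_of_lt_succ h2) h1
  subst hb; exact ⟨_, lblk_507⟩
theorem lo_508_509 : ∀ b, 508 ≤ b → b < 509 → ∃ J, chkPBlk P 5 31 18 31671 b J = true := fun b h1 h2 => by
  have hb : b = 508 := Nat.le_antisymm (Nat.le_of_lt_succ h2) h1
  subst hb; exact ⟨_, lblk_508⟩
theorem lo_507_509 : ∀ b, 507 ≤ b → b < 509 → ∃ J, chkPBlk P 5 31 18 31671 b J = true := fun b h1 h2 =>
  if h : b < 508 then lo_507_508 b h1 h else lo_508_509 b (Nat.le_of_not_lt h) h2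
theorem lo_506_509 : ∀ b, 506 ≤ b → b < 509 → ∃ J, chkPBlk P 5 31 18 31671 b J = true := fun b h1 h2 =>
  if h : b < 507 then lo_506_507 b h1 h else lo_507_509 b (Nat.le_of_not_lt h) h2
theorem lo_504_509 : ∀ b, 504 ≤ b → b < 509 → ∃ J, chkPBlk P 5 31 18 31671 b J = true := fun b h1 h2 =>
  if h : b < 506 then lo_504_506 b h1 h else lo_506_509 b (Nat.le_of_not_lt h) h2
theorem lo_509_510 : ∀ b, 509 ≤ b → b < 510 → ∃ J, chkPBlk P 5 31 18 31671 b J = true := fun b h1 h2 => by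
  have hb : b = 509 := Nat.le_antisymm (Nat.le_of_lt_succ h2) h1
  subst hb; exact ⟨_, lblk_509⟩
theorem lo_510_511 : ∀ b, 510 ≤ b → b < 511 → ∃ J, chkPBlk P 5 31 18 31671 b J = true := fun b h1 h2 => by
  have hb : b = 510 := Nat.le_antisymm (Nat.le_of_lt_succ h2) h1
  subst hb; exact ⟨_, lblk_510⟩
theorem lo_509_511 : ∀ b, 509 ≤ b → b < 511 → ∃ J, chkPBlk P 5 31 18 31671 b J = true := fun b h1 h2 =>
  if h : b < 510 then lo_509_510 b h1 h else lo_510_511 b (Nat.le_of_not_lt h) h2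
theorem lo_511_512 : ∀ b, 511 ≤ b → b < 512 → ∃ J, chkPBlk P 5 31 18 31671 b J = true := fun b h1 h2 => by
  have hb : b = 511 := Nat.le_antisymm (Nat.le_of_lt_succ h2) h1
  subst hb; exact ⟨_, lblk_511⟩
theorem lo_512_513 : ∀ b, 512 ≤ b → b < 513 → ∃ J, chkPBlk P 5 31 18 31671 b J = true := fun b h1 h2 => by
  have hb : b = 512 := Nat.le_antisymm (Nat.le_of_lt_succ h2) h1
  subst hb; exact ⟨_, lblk_512⟩
theorem lo_513_514 : ∀ b, 513 ≤ b → b < 514 → ∃ J, chkPBlk P 5 31 18 31671 b J = true := fun b h1 h2 => by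
  have hb : b = 513 := Nat.le_antisymm (Nat.le_of_lt_succ h2) h1
  subst hb; exact ⟨_, lblk_513⟩
theorem lo_512_514 : ∀ b, 512 ≤ b → b < 514 → ∃ J, chkPBlk P 5 31 18 31671 b J = true := fun b h1 h2 =>
  if h : b < 513 then lo_512_513 b h1 h else lo_513_514 b (Nat.le_of_not_lt h) h2
theorem lo_511_514 : ∀ b, 511 ≤ b → b < 514 → ∃ J, chkPBlk P 5 31 18 31671 b J = true := fun b h1 h2 =>
  if h : b < 512 then lo_511_512 b h1 h else lo_512_514 b (Nat.le_of_not_lt h) h2
theorem lo_509_514 : ∀ b, 509 ≤ b → b < 514 → ∃ J, chkPBlk P 5 31 18 31671 b J = true := fun b h1 h2 =>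
  if h : b < 511 then lo_509_511 b h1 h else lo_511_514 b (Nat.le_of_not_lt h) h2
theorem lo_504_514 : ∀ b, 504 ≤ b → b < 514 → ∃ J, chkPBlk P 5 31 18 31671 b J = true := fun b h1 h2 =>
  if h : b < 509 then lo_504_509 b h1 h else lo_509_514 b (Nat.le_of_not_lt h) h2
theorem lo_495_514 : ∀ b, 495 ≤ b → b < 514 → ∃ J, chkPBlk P 5 31 18 31671 b J = true := fun b h1 h2 =>
  if h : b < 504 then lo_495_504 b h1 h else lo_504_514 b (Nat.le_of_not_lt h) h2
theorem lo_477_514 : ∀ b, 477 ≤ b → b < 514 → ∃ J, chkPBlk P 5 31 18 31671 b J = true := fun b h1 h2 =>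
  if h : b < 495 then lo_477_495 b h1 h else lo_495_514 b (Nat.le_of_not_lt h) h2
theorem lo_441_514 : ∀ b, 441 ≤ b → b < 514 → ∃ J, chkPBlk P 5 31 18 31671 b J = true := fun b h1 h2 =>
  if h : b < 477 then lo_441_477 b h1 h else lo_477_514 b (Nat.le_of_not_lt h) h2
theorem lo_514_515 : ∀ b, 514 ≤ b → b < 515 → ∃ J, chkPBlk P 5 31 18 31671 b J = true := fun b h1 h2 => by
  have hb : b = 514 := Nat.le_antisymm (Nat.le_of_lt_succ h2) h1
  subst hb; exact ⟨_, lblk_514⟩
theorem lo_515_516 : ∀ b, 515 ≤ b → b < 516 → ∃ J, chkPBlk P 5 31 18 31671 b J = true := fun b h1 h2 => by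
  have hb : b = 515 := Nat.le_antisymm (Nat.le_of_lt_succ h2) h1
  subst hb; exact ⟨_, lblk_515⟩
theorem lo_514_516 : ∀ b, 514 ≤ b → b < 516 → ∃ J, chkPBlk P 5 31 18 31671 b J = true := fun b h1 h2 =>
  if h : b < 515 then lo_514_515 b h1 h else lo_515_516 b (Nat.le_of_not_lt h) h2
theorem lo_516_517 : ∀ b, 516 ≤ b → b < 517 → ∃ J, chkPBlk P 5 31 18 31671 b J = true := fun b h1 h2 => by
  have hb : b = 516 := Nat.le_antisymm (Nat.le_of_lt_succ h2) h1
  subst hb; exact ⟨_, lblk_516⟩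
theorem lo_517_518 : ∀ b, 517 ≤ b → b < 518 → ∃ J, chkPBlk P 5 31 18 31671 b J = true := fun b h1 h2 => by
  have hb : b = 517 := Nat.le_antisymm (Nat.le_of_lt_succ h2) h1
  subst hb; exact ⟨_, lblk_517⟩
theorem lo_516_518 : ∀ b, 516 ≤ b → b < 518 → ∃ J, chkPBlk P 5 31 18 31671 b J = true := fun b h1 h2 =>
  if h : b < 517 then lo_516_517 b h1 h else lo_517_518 b (Nat.le_of_not_lt h) h2
theorem lo_514_518 : ∀ b, 514 ≤ b → b < 518 → ∃ J, chkPBlk P 5 31 18 31671 b J = true := fun b h1 h2 =>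
  if h : b < 516 then lo_514_516 b h1 h else lo_516_518 b (Nat.le_of_not_lt h) h2
theorem lo_518_519 : ∀ b, 518 ≤ b → b < 519 → ∃ J, chkPBlk P 5 31 18 31671 b J = true := fun b h1 h2 => by
  have hb : b = 518 := Nat.le_antisymm (Nat.le_of_lt_succ h2) h1
  subst hb; exact ⟨_, lblk_518⟩
theorem lo_519_520 : ∀ b, 519 ≤ b → b < 520 → ∃ J, chkPBlk P 5 31 18 31671 b J = true := fun b h1 h2 => by
  have hb : b = 519 := Nat.le_antisymm (Nat.le_of_lt_succ h2) h1
  subst hb; exact ⟨_, lblk_519⟩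
theorem lo_518_520 : ∀ b, 518 ≤ b → b < 520 → ∃ J, chkPBlk P 5 31 18 31671 b J = true := fun b h1 h2 =>
  if h : b < 519 then lo_518_519 b h1 h else lo_519_520 b (Nat.le_of_not_lt h) h2
theorem lo_520_521 : ∀ b, 520 ≤ b → b < 521 → ∃ J, chkPBlk P 5 31 18 31671 b J = true := fun b h1 h2 => by
  have hb : b = 520 := Nat.le_antisymm (Nat.le_of_lt_succ h2) h1
  subst hb; exact ⟨_, lblk_520⟩
theorem lo_521_522 : ∀ b, 521 ≤ b → b < 522 → ∃ J, chkPBlk P 5 31 18 31671 b J = true := fun b h1 h2 => by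
  have hb : b = 521 := Nat.le_antisymm (Nat.le_of_lt_succ h2) h1
  subst hb; exact ⟨_, lblk_521⟩
theorem lo_522_523 : ∀ b, 522 ≤ b → b < 523 → ∃ J, chkPBlk P 5 31 18 31671 b J = true := fun b h1 h2 => by
  have hb : b = 522 := Nat.le_antisymm (Nat.le_of_lt_succ h2) h1
  subst hb; exact ⟨_, lblk_522⟩
theorem lo_521_523 : ∀ b, 521 ≤ b → b < 523 → ∃ J, chkPBlk P 5 31 18 31671 b J = true := fun b h1 h2 =>
  if h : b < 522 then lo_521_522 b h1 h else lo_522_523 b (Nat.le_of_not_lt h) h2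
theorem lo_520_523 : ∀ b, 520 ≤ b → b < 523 → ∃ J, chkPBlk P 5 31 18 31671 b J = true := fun b h1 h2 =>
  if h : b < 521 then lo_520_521 b h1 h else lo_521_523 b (Nat.le_of_not_lt h) h2
theorem lo_518_523 : ∀ b, 518 ≤ b → b < 523 → ∃ J, chkPBlk P 5 31 18 31671 b J = true := fun b h1 h2 =>
  if h : b < 520 then lo_518_520 b h1 h else lo_520_523 b (Nat.le_of_not_lt h) h2
theorem lo_514_523 : ∀ b, 514 ≤ b → b < 523 → ∃ J, chkPBlk P 5 31 18 31671 b J = true := fun b h1 h2 =>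
  if h : b < 518 then lo_514_518 b h1 h else lo_518_523 b (Nat.le_of_not_lt h) h2
theorem lo_523_524 : ∀ b, 523 ≤ b → b < 524 → ∃ J, chkPBlk P 5 31 18 31671 b J = true := fun b h1 h2 => by
  have hb : b = 523 := Nat.le_antisymm (Nat.le_of_lt_succ h2) h1
  subst hb; exact ⟨_, lblk_523⟩
theorem lo_524_525 : ∀ b, 524 ≤ b → b < 525 → ∃ J, chkPBlk P 5 31 18 31671 b J = true := fun b h1 h2 => by
  have hb : b = 524 := Nat.le_antisymm (Nat.le_of_lt_succ h2) h1
  subst hb; exact ⟨_, lblk_524⟩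
theorem lo_523_525 : ∀ b, 523 ≤ b → b < 525 → ∃ J, chkPBlk P 5 31 18 31671 b J = true := fun b h1 h2 =>
  if h : b < 524 then lo_523_524 b h1 h else lo_524_525 b (Nat.le_of_not_lt h) h2
theorem lo_525_526 : ∀ b, 525 ≤ b → b < 526 → ∃ J, chkPBlk P 5 31 18 31671 b J = true := fun b h1 h2 => by
  have hb : b = 525 := Nat.le_antisymm (Nat.le_of_lt_succ h2) h1
  subst hb; exact ⟨_, lblk_525⟩
theorem lo_526_527 : ∀ b, 526 ≤ b → b < 527 → ∃ J, chkPBlk P 5 31 18 31671 b J = true := fun b h1 h2 => by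
  have hb : b = 526 := Nat.le_antisymm (Nat.le_of_lt_succ h2) h1
  subst hb; exact ⟨_, lblk_526⟩
theorem lo_525_527 : ∀ b, 525 ≤ b → b < 527 → ∃ J, chkPBlk P 5 31 18 31671 b J = true := fun b h1 h2 =>
  if h : b < 526 then lo_525_526 b h1 h else lo_526_527 b (Nat.le_of_not_lt h) h2
theorem lo_523_527 : ∀ b, 523 ≤ b → b < 527 → ∃ J, chkPBlk P 5 31 18 31671 b J = true := fun b h1 h2 =>
  if h : b < 525 then lo_523_525 b h1 h else lo_525_527 b (Nat.le_of_not_lt h) h2
theorem lo_527_528 : ∀ b, 527 ≤ b → b < 528 → ∃ J, chkPBlk P 5 31 18 31671 b J = true := fun b h1 h2 => by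
  have hb : b = 527 := Nat.le_antisymm (Nat.le_of_lt_succ h2) h1
  subst hb; exact ⟨_, lblk_527⟩
theorem lo_528_529 : ∀ b, 528 ≤ b → b < 529 → ∃ J, chkPBlk P 5 31 18 31671 b J = true := fun b h1 h2 => by
  have hb : b = 528 := Nat.le_antisymm (Nat.le_of_lt_succ h2) h1
  subst hb; exact ⟨_, lblk_528⟩
theorem lo_527_529 : ∀ b, 527 ≤ b → b < 529 → ∃ J, chkPBlk P 5 31 18 31671 b J = true := fun b h1 h2 =>
  if h : b < 528 then lo_527_528 b h1 h else lo_528_529 b (Nat.le_of_not_lt h) h2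
theorem lo_529_530 : ∀ b, 529 ≤ b → b < 530 → ∃ J, chkPBlk P 5 31 18 31671 b J = true := fun b h1 h2 => by
  have hb : b = 529 := Nat.le_antisymm (Nat.le_of_lt_succ h2) h1
  subst hb; exact ⟨_, lblk_529⟩
theorem lo_530_531 : ∀ b, 530 ≤ b → b < 531 → ∃ J, chkPBlk P 5 31 18 31671 b J = true := fun b h1 h2 => by
  have hb : b = 530 := Nat.le_antisymm (Nat.le_of_lt_succ h2) h1
  subst hb; exact ⟨_, lblk_530⟩
theorem lo_531_532 : ∀ b, 531 ≤ b → b < 532 → ∃ J, chkPBlk P 5 31 18 31671 b J = true := fun b h1 h2 => by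
  have hb : b = 531 := Nat.le_antisymm (Nat.le_of_lt_succ h2) h1
  subst hb; exact ⟨_, lblk_531⟩
theorem lo_530_532 : ∀ b, 530 ≤ b → b < 532 → ∃ J, chkPBlk P 5 31 18 31671 b J = true := fun b h1 h2 =>
  if h : b < 531 then lo_530_531 b h1 h else lo_531_532 b (Nat.le_of_not_lt h) h2
theorem lo_529_532 : ∀ b, 529 ≤ b → b < 532 → ∃ J, chkPBlk P 5 31 18 31671 b J = true := fun b h1 h2 =>
  if h : b < 530 then lo_529_530 b h1 h else lo_530_532 b (Nat.le_of_not_lt h) h2
theorem lo_527_532 : ∀ b, 527 ≤ b → b < 532 → ∃ J, chkPBlk P 5 31 18 31671 b J = true := fun b h1 h2 =>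
  if h : b < 529 then lo_527_529 b h1 h else lo_529_532 b (Nat.le_of_not_lt h) h2
theorem lo_523_532 : ∀ b, 523 ≤ b → b < 532 → ∃ J, chkPBlk P 5 31 18 31671 b J = true := fun b h1 h2 =>
  if h : b < 527 then lo_523_527 b h1 h else lo_527_532 b (Nat.le_of_not_lt h) h2
theorem lo_514_532 : ∀ b, 514 ≤ b → b < 532 → ∃ J, chkPBlk P 5 31 18 31671 b J = true := fun b h1 h2 =>
  if h : b < 523 then lo_514_523 b h1 h else lo_523_532 b (Nat.le_of_not_lt h) h2
theorem lo_532_533 : ∀ b, 532 ≤ b → b < 533 → ∃ J, chkPBlk P 5 31 18 31671 b J = true := fun b h1 h2 => by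
  have hb : b = 532 := Nat.le_antisymm (Nat.le_of_lt_succ h2) h1
  subst hb; exact ⟨_, lblk_532⟩
theorem lo_533_534 : ∀ b, 533 ≤ b → b < 534 → ∃ J, chkPBlk P 5 31 18 31671 b J = true := fun b h1 h2 => by
  have hb : b = 533 := Nat.le_antisymm (Nat.le_of_lt_succ h2) h1
  subst hb; exact ⟨_, lblk_533⟩
theorem lo_532_534 : ∀ b, 532 ≤ b → b < 534 → ∃ J, chkPBlk P 5 31 18 31671 b J = true := fun b h1 h2 =>
  if h : b < 533 then lo_532_533 b h1 h else lo_533_534 b (Nat.le_of_not_lt h) h2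
theorem lo_534_535 : ∀ b, 534 ≤ b → b < 535 → ∃ J, chkPBlk P 5 31 18 31671 b J = true := fun b h1 h2 => by
  have hb : b = 534 := Nat.le_antisymm (Nat.le_of_lt_succ h2) h1
  subst hb; exact ⟨_, lblk_534⟩
theorem lo_535_536 : ∀ b, 535 ≤ b → b < 536 → ∃ J, chkPBlk P 5 31 18 31671 b J = true := fun b h1 h2 => by
  have hb : b = 535 := Nat.le_antisymm (Nat.le_of_lt_succ h2) h1
  subst hb; exact ⟨_, lblk_535⟩
theorem lo_534_536 : ∀ b, 534 ≤ b → b < 536 → ∃ J, chkPBlk P 5 31 18 31671 b J = true := fun b h1 h2 =>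
  if h : b < 535 then lo_534_535 b h1 h else lo_535_536 b (Nat.le_of_not_lt h) h2
theorem lo_532_536 : ∀ b, 532 ≤ b → b < 536 → ∃ J, chkPBlk P 5 31 18 31671 b J = true := fun b h1 h2 =>
  if h : b < 534 then lo_532_534 b h1 h else lo_534_536 b (Nat.le_of_not_lt h) h2
theorem lo_536_537 : ∀ b, 536 ≤ b → b < 537 → ∃ J, chkPBlk P 5 31 18 31671 b J = true := fun b h1 h2 => by
  have hb : b = 536 := Nat.le_antisymm (Nat.le_of_lt_succ h2) h1
  subst hb; exact ⟨_, lblk_536⟩
theorem lo_537_538 : ∀ b, 537 ≤ b → b < 538 → ∃ J, chkPBlk P 5 31 18 31671 b J = true := fun b h1 h2 => by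
  have hb : b = 537 := Nat.le_antisymm (Nat.le_of_lt_succ h2) h1
  subst hb; exact ⟨_, lblk_537⟩
theorem lo_536_538 : ∀ b, 536 ≤ b → b < 538 → ∃ J, chkPBlk P 5 31 18 31671 b J = true := fun b h1 h2 =>
  if h : b < 537 then lo_536_537 b h1 h else lo_537_538 b (Nat.le_of_not_lt h) h2
theorem lo_538_539 : ∀ b, 538 ≤ b → b < 539 → ∃ J, chkPBlk P 5 31 18 31671 b J = true := fun b h1 h2 => by
  have hb : b = 538 := Nat.le_antisymm (Nat.le_of_lt_succ h2) h1
  subst hb; exact ⟨_, lblk_538⟩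
theorem lo_539_540 : ∀ b, 539 ≤ b → b < 540 → ∃ J, chkPBlk P 5 31 18 31671 b J = true := fun b h1 h2 => by
  have hb : b = 539 := Nat.le_antisymm (Nat.le_of_lt_succ h2) h1
  subst hb; exact ⟨_, lblk_539⟩
theorem lo_540_541 : ∀ b, 540 ≤ b → b < 541 → ∃ J, chkPBlk P 5 31 18 31671 b J = true := fun b h1 h2 => by
  have hb : b = 540 := Nat.le_antisymm (Nat.le_of_lt_succ h2) h1
  subst hb; exact ⟨_, lblk_540⟩
theorem lo_539_541 : ∀ b, 539 ≤ b → b < 541 → ∃ J, chkPBlk P 5 31 18 31671 b J = true := fun b h1 h2 =>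
  if h : b < 540 then lo_539_540 b h1 h else lo_540_541 b (Nat.le_of_not_lt h) h2
theorem lo_538_541 : ∀ b, 538 ≤ b → b < 541 → ∃ J, chkPBlk P 5 31 18 31671 b J = true := fun b h1 h2 =>
  if h : b < 539 then lo_538_539 b h1 h else lo_539_541 b (Nat.le_of_not_lt h) h2
theorem lo_536_541 : ∀ b, 536 ≤ b → b < 541 → ∃ J, chkPBlk P 5 31 18 31671 b J = true := fun b h1 h2 =>
  if h : b < 538 then lo_536_538 b h1 h else lo_538_541 b (Nat.le_of_not_lt h) h2
theorem lo_532_541 : ∀ b, 532 ≤ b → b < 541 → ∃ J, chkPBlk P 5 31 18 31671 b J = true := fun b h1 h2 =>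
  if h : b < 536 then lo_532_536 b h1 h else lo_536_541 b (Nat.le_of_not_lt h) h2
theorem lo_541_542 : ∀ b, 541 ≤ b → b < 542 → ∃ J, chkPBlk P 5 31 18 31671 b J = true := fun b h1 h2 => by
  have hb : b = 541 := Nat.le_antisymm (Nat.le_of_lt_succ h2) h1
  subst hb; exact ⟨_, lblk_541⟩
theorem lo_542_543 : ∀ b, 542 ≤ b → b < 543 → ∃ J, chkPBlk P 5 31 18 31671 b J = true := fun b h1 h2 => by
  have hb : b = 542 := Nat.le_antisymm (Nat.le_of_lt_succ h2) h1
  subst hb; exact ⟨_, lblk_542⟩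
theorem lo_541_543 : ∀ b, 541 ≤ b → b < 543 → ∃ J, chkPBlk P 5 31 18 31671 b J = true := fun b h1 h2 =>
  if h : b < 542 then lo_541_542 b h1 h else lo_542_543 b (Nat.le_of_not_lt h) h2
theorem lo_543_544 : ∀ b, 543 ≤ b → b < 544 → ∃ J, chkPBlk P 5 31 18 31671 b J = true := fun b h1 h2 => by
  have hb : b = 543 := Nat.le_antisymm (Nat.le_of_lt_succ h2) h1
  subst hb; exact ⟨_, lblk_543⟩
theorem lo_544_545 : ∀ b, 544 ≤ b → b < 545 → ∃ J, chkPBlk P 5 31 18 31671 b J = true := fun b h1 h2 => by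
  have hb : b = 544 := Nat.le_antisymm (Nat.le_of_lt_succ h2) h1
  subst hb; exact ⟨_, lblk_544⟩
theorem lo_545_546 : ∀ b, 545 ≤ b → b < 546 → ∃ J, chkPBlk P 5 31 18 31671 b J = true := fun b h1 h2 => by
  have hb : b = 545 := Nat.le_antisymm (Nat.le_of_lt_succ h2) h1
  subst hb; exact ⟨_, lblk_545⟩
theorem lo_544_546 : ∀ b, 544 ≤ b → b < 546 → ∃ J, chkPBlk P 5 31 18 31671 b J = true := fun b h1 h2 =>
  if h : b < 545 then lo_544_545 b h1 h else lo_545_546 b (Nat.le_of_not_lt h) h2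
theorem lo_543_546 : ∀ b, 543 ≤ b → b < 546 → ∃ J, chkPBlk P 5 31 18 31671 b J = true := fun b h1 h2 =>
  if h : b < 544 then lo_543_544 b h1 h else lo_544_546 b (Nat.le_of_not_lt h) h2
theorem lo_541_546 : ∀ b, 541 ≤ b → b < 546 → ∃ J, chkPBlk P 5 31 18 31671 b J = true := fun b h1 h2 =>
  if h : b < 543 then lo_541_543 b h1 h else lo_543_546 b (Nat.le_of_not_lt h) h2
theorem lo_546_547 : ∀ b, 546 ≤ b → b < 547 → ∃ J, chkPBlk P 5 31 18 31671 b J = true := fun b h1 h2 => by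
  have hb : b = 546 := Nat.le_antisymm (Nat.le_of_lt_succ h2) h1
  subst hb; exact ⟨_, lblk_546⟩
theorem lo_547_548 : ∀ b, 547 ≤ b → b < 548 → ∃ J, chkPBlk P 5 31 18 31671 b J = true := fun b h1 h2 => by
  have hb : b = 547 := Nat.le_antisymm (Nat.le_of_lt_succ h2) h1
  subst hb; exact ⟨_, lblk_547⟩
theorem lo_546_548 : ∀ b, 546 ≤ b → b < 548 → ∃ J, chkPBlk P 5 31 18 31671 b J = true := fun b h1 h2 =>
  if h : b < 547 then lo_546_547 b h1 h else lo_547_548 b (Nat.le_of_not_lt h) h2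
theorem lo_548_549 : ∀ b, 548 ≤ b → b < 549 → ∃ J, chkPBlk P 5 31 18 31671 b J = true := fun b h1 h2 => by
  have hb : b = 548 := Nat.le_antisymm (Nat.le_of_lt_succ h2) h1
  subst hb; exact ⟨_, lblk_548⟩
theorem lo_549_550 : ∀ b, 549 ≤ b → b < 550 → ∃ J, chkPBlk P 5 31 18 31671 b J = true := fun b h1 h2 => by
  have hb : b = 549 := Nat.le_antisymm (Nat.le_of_lt_succ h2) h1
  subst hb; exact ⟨_, lblk_549⟩
theorem lo_550_551 : ∀ b, 550 ≤ b → b < 551 → ∃ J, chkPBlk P 5 31 18 31671 b J = true := fun b h1 h2 => by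
  have hb : b = 550 := Nat.le_antisymm (Nat.le_of_lt_succ h2) h1
  subst hb; exact ⟨_, lblk_550⟩
theorem lo_549_551 : ∀ b, 549 ≤ b → b < 551 → ∃ J, chkPBlk P 5 31 18 31671 b J = true := fun b h1 h2 =>
  if h : b < 550 then lo_549_550 b h1 h else lo_550_551 b (Nat.le_of_not_lt h) h2
theorem lo_548_551 : ∀ b, 548 ≤ b → b < 551 → ∃ J, chkPBlk P 5 31 18 31671 b J = true := fun b h1 h2 =>
  if h : b < 549 then lo_548_549 b h1 h else lo_549_551 b (Nat.le_of_not_lt h) h2
theorem lo_546_551 : ∀ b, 546 ≤ b → b < 551 → ∃ J, chkPBlk P 5 31 18 31671 b J = true := fun b h1 h2 =>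
  if h : b < 548 then lo_546_548 b h1 h else lo_548_551 b (Nat.le_of_not_lt h) h2
theorem lo_541_551 : ∀ b, 541 ≤ b → b < 551 → ∃ J, chkPBlk P 5 31 18 31671 b J = true := fun b h1 h2 =>
  if h : b < 546 then lo_541_546 b h1 h else lo_546_551 b (Nat.le_of_not_lt h) h2
theorem lo_532_551 : ∀ b, 532 ≤ b → b < 551 → ∃ J, chkPBlk P 5 31 18 31671 b J = true := fun b h1 h2 =>
  if h : b < 541 then lo_532_541 b h1 h else lo_541_551 b (Nat.le_of_not_lt h) h2
theorem lo_514_551 : ∀ b, 514 ≤ b → b < 551 → ∃ J, chkPBlk P 5 31 18 31671 b J = true := fun b h1 h2 =>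
  if h : b < 532 then lo_514_532 b h1 h else lo_532_551 b (Nat.le_of_not_lt h) h2
theorem lo_551_552 : ∀ b, 551 ≤ b → b < 552 → ∃ J, chkPBlk P 5 31 18 31671 b J = true := fun b h1 h2 => by
  have hb : b = 551 := Nat.le_antisymm (Nat.le_of_lt_succ h2) h1
  subst hb; exact ⟨_, lblk_551⟩
theorem lo_552_553 : ∀ b, 552 ≤ b → b < 553 → ∃ J, chkPBlk P 5 31 18 31671 b J = true := fun b h1 h2 => by
  have hb : b = 552 := Nat.le_antisymm (Nat.le_of_lt_succ h2) h1
  subst hb; exact ⟨_, lblk_552⟩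
theorem lo_551_553 : ∀ b, 551 ≤ b → b < 553 → ∃ J, chkPBlk P 5 31 18 31671 b J = true := fun b h1 h2 =>
  if h : b < 552 then lo_551_552 b h1 h else lo_552_553 b (Nat.le_of_not_lt h) h2
theorem lo_553_554 : ∀ b, 553 ≤ b → b < 554 → ∃ J, chkPBlk P 5 31 18 31671 b J = true := fun b h1 h2 => by
  have hb : b = 553 := Nat.le_antisymm (Nat.le_of_lt_succ h2) h1
  subst hb; exact ⟨_, lblk_553⟩
theorem lo_554_555 : ∀ b, 554 ≤ b → b < 555 → ∃ J, chkPBlk P 5 31 18 31671 b J = true := fun b h1 h2 => by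
  have hb : b = 554 := Nat.le_antisymm (Nat.le_of_lt_succ h2) h1
  subst hb; exact ⟨_, lblk_554⟩
theorem lo_553_555 : ∀ b, 553 ≤ b → b < 555 → ∃ J, chkPBlk P 5 31 18 31671 b J = true := fun b h1 h2 =>
  if h : b < 554 then lo_553_554 b h1 h else lo_554_555 b (Nat.le_of_not_lt h) h2
theorem lo_551_555 : ∀ b, 551 ≤ b → b < 555 → ∃ J, chkPBlk P 5 31 18 31671 b J = true := fun b h1 h2 =>
  if h : b < 553 then lo_551_553 b h1 h else lo_553_555 b (Nat.le_of_not_lt h) h2
theorem lo_555_556 : ∀ b, 555 ≤ b → b < 556 → ∃ J, chkPBlk P 5 31 18 31671 b J = true := fun b h1 h2 => by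
  have hb : b = 555 := Nat.le_antisymm (Nat.le_of_lt_succ h2) h1
  subst hb; exact ⟨_, lblk_555⟩
theorem lo_556_557 : ∀ b, 556 ≤ b → b < 557 → ∃ J, chkPBlk P 5 31 18 31671 b J = true := fun b h1 h2 => by
  have hb : b = 556 := Nat.le_antisymm (Nat.le_of_lt_succ h2) h1
  subst hb; exact ⟨_, lblk_556⟩
theorem lo_555_557 : ∀ b, 555 ≤ b → b < 557 → ∃ J, chkPBlk P 5 31 18 31671 b J = true := fun b h1 h2 =>
  if h : b < 556 then lo_555_556 b h1 h else lo_556_557 b (Nat.le_of_not_lt h) h2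
theorem lo_557_558 : ∀ b, 557 ≤ b → b < 558 → ∃ J, chkPBlk P 5 31 18 31671 b J = true := fun b h1 h2 => by
  have hb : b = 557 := Nat.le_antisymm (Nat.le_of_lt_succ h2) h1
  subst hb; exact ⟨_, lblk_557⟩
theorem lo_558_559 : ∀ b, 558 ≤ b → b < 559 → ∃ J, chkPBlk P 5 31 18 31671 b J = true := fun b h1 h2 => by
  have hb : b = 558 := Nat.le_antisymm (Nat.le_of_lt_succ h2) h1
  subst hb; exact ⟨_, lblk_558⟩
theorem lo_559_560 : ∀ b, 559 ≤ b → b < 560 → ∃ J, chkPBlk P 5 31 18 31671 b J = true := fun b h1 h2 => by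
  have hb : b = 559 := Nat.le_antisymm (Nat.le_of_lt_succ h2) h1
  subst hb; exact ⟨_, lblk_559⟩
theorem lo_558_560 : ∀ b, 558 ≤ b → b < 560 → ∃ J, chkPBlk P 5 31 18 31671 b J = true := fun b h1 h2 =>
  if h : b < 559 then lo_558_559 b h1 h else lo_559_560 b (Nat.le_of_not_lt h) h2
theorem lo_557_560 : ∀ b, 557 ≤ b → b < 560 → ∃ J, chkPBlk P 5 31 18 31671 b J = true := fun b h1 h2 =>
  if h : b < 558 then lo_557_558 b h1 h else lo_558_560 b (Nat.le_of_not_lt h) h2
theorem lo_555_560 : ∀ b, 555 ≤ b → b < 560 → ∃ J, chkPBlk P 5 31 18 31671 b J = true := fun b h1 h2 =>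
  if h : b < 557 then lo_555_557 b h1 h else lo_557_560 b (Nat.le_of_not_lt h) h2
theorem lo_551_560 : ∀ b, 551 ≤ b → b < 560 → ∃ J, chkPBlk P 5 31 18 31671 b J = true := fun b h1 h2 =>
  if h : b < 555 then lo_551_555 b h1 h else lo_555_560 b (Nat.le_of_not_lt h) h2
theorem lo_560_561 : ∀ b, 560 ≤ b → b < 561 → ∃ J, chkPBlk P 5 31 18 31671 b J = true := fun b h1 h2 => by
  have hb : b = 560 := Nat.le_antisymm (Nat.le_of_lt_succ h2) h1
  subst hb; exact ⟨_, lblk_560⟩
theorem lo_561_562 : ∀ b, 561 ≤ b → b < 562 → ∃ J, chkPBlk P 5 31 18 31671 b J = true := fun b h1 h2 => by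
  have hb : b = 561 := Nat.le_antisymm (Nat.le_of_lt_succ h2) h1
  subst hb; exact ⟨_, lblk_561⟩
theorem lo_560_562 : ∀ b, 560 ≤ b → b < 562 → ∃ J, chkPBlk P 5 31 18 31671 b J = true := fun b h1 h2 =>
  if h : b < 561 then lo_560_561 b h1 h else lo_561_562 b (Nat.le_of_not_lt h) h2
theorem lo_562_563 : ∀ b, 562 ≤ b → b < 563 → ∃ J, chkPBlk P 5 31 18 31671 b J = true := fun b h1 h2 => by
  have hb : b = 562 := Nat.le_antisymm (Nat.le_of_lt_succ h2) h1
  subst hb; exact ⟨_, lblk_562⟩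
theorem lo_563_564 : ∀ b, 563 ≤ b → b < 564 → ∃ J, chkPBlk P 5 31 18 31671 b J = true := fun b h1 h2 => by
  have hb : b = 563 := Nat.le_antisymm (Nat.le_of_lt_succ h2) h1
  subst hb; exact ⟨_, lblk_563⟩
theorem lo_562_564 : ∀ b, 562 ≤ b → b < 564 → ∃ J, chkPBlk P 5 31 18 31671 b J = true := fun b h1 h2 =>
  if h : b < 563 then lo_562_563 b h1 h else lo_563_564 b (Nat.le_of_not_lt h) h2
theorem lo_560_564 : ∀ b, 560 ≤ b → b < 564 → ∃ J, chkPBlk P 5 31 18 31671 b J = true := fun b h1 h2 =>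
  if h : b < 562 then lo_560_562 b h1 h else lo_562_564 b (Nat.le_of_not_lt h) h2
theorem lo_564_565 : ∀ b, 564 ≤ b → b < 565 → ∃ J, chkPBlk P 5 31 18 31671 b J = true := fun b h1 h2 => by
  have hb : b = 564 := Nat.le_antisymm (Nat.le_of_lt_succ h2) h1
  subst hb; exact ⟨_, lblk_564⟩
theorem lo_565_566 : ∀ b, 565 ≤ b → b < 566 → ∃ J, chkPBlk P 5 31 18 31671 b J = true := fun b h1 h2 => by
  have hb : b = 565 := Nat.le_antisymm (Nat.le_of_lt_succ h2) h1
  subst hb; exact ⟨_, lblk_565⟩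
theorem lo_564_566 : ∀ b, 564 ≤ b → b < 566 → ∃ J, chkPBlk P 5 31 18 31671 b J = true := fun b h1 h2 =>
  if h : b < 565 then lo_564_565 b h1 h else lo_565_566 b (Nat.le_of_not_lt h) h2
theorem lo_566_567 : ∀ b, 566 ≤ b → b < 567 → ∃ J, chkPBlk P 5 31 18 31671 b J = true := fun b h1 h2 => by
  have hb : b = 566 := Nat.le_antisymm (Nat.le_of_lt_succ h2) h1
  subst hb; exact ⟨_, lblk_566⟩
theorem lo_567_568 : ∀ b, 567 ≤ b → b < 568 → ∃ J, chkPBlk P 5 31 18 31671 b J = true := fun b h1 h2 => by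
  have hb : b = 567 := Nat.le_antisymm (Nat.le_of_lt_succ h2) h1
  subst hb; exact ⟨_, lblk_567⟩
theorem lo_568_569 : ∀ b, 568 ≤ b → b < 569 → ∃ J, chkPBlk P 5 31 18 31671 b J = true := fun b h1 h2 => by
  have hb : b = 568 := Nat.le_antisymm (Nat.le_of_lt_succ h2) h1
  subst hb; exact ⟨_, lblk_568⟩
theorem lo_567_569 : ∀ b, 567 ≤ b → b < 569 → ∃ J, chkPBlk P 5 31 18 31671 b J = true := fun b h1 h2 =>
  if h : b < 568 then lo_567_568 b h1 h else lo_568_569 b (Nat.le_of_not_lt h) h2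
theorem lo_566_569 : ∀ b, 566 ≤ b → b < 569 → ∃ J, chkPBlk P 5 31 18 31671 b J = true := fun b h1 h2 =>
  if h : b < 567 then lo_566_567 b h1 h else lo_567_569 b (Nat.le_of_not_lt h) h2
theorem lo_564_569 : ∀ b, 564 ≤ b → b < 569 → ∃ J, chkPBlk P 5 31 18 31671 b J = true := fun b h1 h2 =>
  if h : b < 566 then lo_564_566 b h1 h else lo_566_569 b (Nat.le_of_not_lt h) h2
theorem lo_560_569 : ∀ b, 560 ≤ b → b < 569 → ∃ J, chkPBlk P 5 31 18 31671 b J = true := fun b h1 h2 =>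
  if h : b < 564 then lo_560_564 b h1 h else lo_564_569 b (Nat.le_of_not_lt h) h2
theorem lo_551_569 : ∀ b, 551 ≤ b → b < 569 → ∃ J, chkPBlk P 5 31 18 31671 b J = true := fun b h1 h2 =>
  if h : b < 560 then lo_551_560 b h1 h else lo_560_569 b (Nat.le_of_not_lt h) h2
theorem lo_569_570 : ∀ b, 569 ≤ b → b < 570 → ∃ J, chkPBlk P 5 31 18 31671 b J = true := fun b h1 h2 => by
  have hb : b = 569 := Nat.le_antisymm (Nat.le_of_lt_succ h2) h1
  subst hb; exact ⟨_, lblk_569⟩
theorem lo_570_571 : ∀ b, 570 ≤ b → b < 571 → ∃ J, chkPBlk P 5 31 18 31671 b J = true := fun b h1 h2 => by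
  have hb : b = 570 := Nat.le_antisymm (Nat.le_of_lt_succ h2) h1
  subst hb; exact ⟨_, lblk_570⟩
theorem lo_569_571 : ∀ b, 569 ≤ b → b < 571 → ∃ J, chkPBlk P 5 31 18 31671 b J = true := fun b h1 h2 =>
  if h : b < 570 then lo_569_570 b h1 h else lo_570_571 b (Nat.le_of_not_lt h) h2
theorem lo_571_572 : ∀ b, 571 ≤ b → b < 572 → ∃ J, chkPBlk P 5 31 18 31671 b J = true := fun b h1 h2 => by
  have hb : b = 571 := Nat.le_antisymm (Nat.le_of_lt_succ h2) h1
  subst hb; exact ⟨_, lblk_571⟩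
theorem lo_572_573 : ∀ b, 572 ≤ b → b < 573 → ∃ J, chkPBlk P 5 31 18 31671 b J = true := fun b h1 h2 => by
  have hb : b = 572 := Nat.le_antisymm (Nat.le_of_lt_succ h2) h1
  subst hb; exact ⟨_, lblk_572⟩
theorem lo_571_573 : ∀ b, 571 ≤ b → b < 573 → ∃ J, chkPBlk P 5 31 18 31671 b J = true := fun b h1 h2 =>
  if h : b < 572 then lo_571_572 b h1 h else lo_572_573 b (Nat.le_of_not_lt h) h2
theorem lo_569_573 : ∀ b, 569 ≤ b → b < 573 → ∃ J, chkPBlk P 5 31 18 31671 b J = true := fun b h1 h2 =>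
  if h : b < 571 then lo_569_571 b h1 h else lo_571_573 b (Nat.le_of_not_lt h) h2
theorem lo_573_574 : ∀ b, 573 ≤ b → b < 574 → ∃ J, chkPBlk P 5 31 18 31671 b J = true := fun b h1 h2 => by
  have hb : b = 573 := Nat.le_antisymm (Nat.le_of_lt_succ h2) h1
  subst hb; exact ⟨_, lblk_573⟩
theorem lo_574_575 : ∀ b, 574 ≤ b → b < 575 → ∃ J, chkPBlk P 5 31 18 31671 b J = true := fun b h1 h2 => by
  have hb : b = 574 := Nat.le_antisymm (Nat.le_of_lt_succ h2) h1
  subst hb; exact ⟨_, lblk_574⟩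
theorem lo_573_575 : ∀ b, 573 ≤ b → b < 575 → ∃ J, chkPBlk P 5 31 18 31671 b J = true := fun b h1 h2 =>
  if h : b < 574 then lo_573_574 b h1 h else lo_574_575 b (Nat.le_of_not_lt h) h2
theorem lo_575_576 : ∀ b, 575 ≤ b → b < 576 → ∃ J, chkPBlk P 5 31 18 31671 b J = true := fun b h1 h2 => by
  have hb : b = 575 := Nat.le_antisymm (Nat.le_of_lt_succ h2) h1
  subst hb; exact ⟨_, lblk_575⟩
theorem lo_576_577 : ∀ b, 576 ≤ b → b < 577 → ∃ J, chkPBlk P 5 31 18 31671 b J = true := fun b h1 h2 => by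
  have hb : b = 576 := Nat.le_antisymm (Nat.le_of_lt_succ h2) h1
  subst hb; exact ⟨_, lblk_576⟩
theorem lo_577_578 : ∀ b, 577 ≤ b → b < 578 → ∃ J, chkPBlk P 5 31 18 31671 b J = true := fun b h1 h2 => by
  have hb : b = 577 := Nat.le_antisymm (Nat.le_of_lt_succ h2) h1
  subst hb; exact ⟨_, lblk_577⟩
theorem lo_576_578 : ∀ b, 576 ≤ b → b < 578 → ∃ J, chkPBlk P 5 31 18 31671 b J = true := fun b h1 h2 =>
  if h : b < 577 then lo_576_577 b h1 h else lo_577_578 b (Nat.le_of_not_lt h) h2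
theorem lo_575_578 : ∀ b, 575 ≤ b → b < 578 → ∃ J, chkPBlk P 5 31 18 31671 b J = true := fun b h1 h2 =>
  if h : b < 576 then lo_575_576 b h1 h else lo_576_578 b (Nat.le_of_not_lt h) h2
theorem lo_573_578 : ∀ b, 573 ≤ b → b < 578 → ∃ J, chkPBlk P 5 31 18 31671 b J = true := fun b h1 h2 =>
  if h : b < 575 then lo_573_575 b h1 h else lo_575_578 b (Nat.le_of_not_lt h) h2
theorem lo_569_578 : ∀ b, 569 ≤ b → b < 578 → ∃ J, chkPBlk P 5 31 18 31671 b J = true := fun b h1 h2 =>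
  if h : b < 573 then lo_569_573 b h1 h else lo_573_578 b (Nat.le_of_not_lt h) h2
theorem lo_578_579 : ∀ b, 578 ≤ b → b < 579 → ∃ J, chkPBlk P 5 31 18 31671 b J = true := fun b h1 h2 => by
  have hb : b = 578 := Nat.le_antisymm (Nat.le_of_lt_succ h2) h1
  subst hb; exact ⟨_, lblk_578⟩
theorem lo_579_580 : ∀ b, 579 ≤ b → b < 580 → ∃ J, chkPBlk P 5 31 18 31671 b J = true := fun b h1 h2 => by
  have hb : b = 579 := Nat.le_antisymm (Nat.le_of_lt_succ h2) h1
  subst hb; exact ⟨_, lblk_579⟩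
theorem lo_578_580 : ∀ b, 578 ≤ b → b < 580 → ∃ J, chkPBlk P 5 31 18 31671 b J = true := fun b h1 h2 =>
  if h : b < 579 then lo_578_579 b h1 h else lo_579_580 b (Nat.le_of_not_lt h) h2
theorem lo_580_581 : ∀ b, 580 ≤ b → b < 581 → ∃ J, chkPBlk P 5 31 18 31671 b J = true := fun b h1 h2 => by
  have hb : b = 580 := Nat.le_antisymm (Nat.le_of_lt_succ h2) h1
  subst hb; exact ⟨_, lblk_580⟩
theorem lo_581_582 : ∀ b, 581 ≤ b → b < 582 → ∃ J, chkPBlk P 5 31 18 31671 b J = true := fun b h1 h2 => by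
  have hb : b = 581 := Nat.le_antisymm (Nat.le_of_lt_succ h2) h1
  subst hb; exact ⟨_, lblk_581⟩
theorem lo_582_583 : ∀ b, 582 ≤ b → b < 583 → ∃ J, chkPBlk P 5 31 18 31671 b J = true := fun b h1 h2 => by
  have hb : b = 582 := Nat.le_antisymm (Nat.le_of_lt_succ h2) h1
  subst hb; exact ⟨_, lblk_582⟩
theorem lo_581_583 : ∀ b, 581 ≤ b → b < 583 → ∃ J, chkPBlk P 5 31 18 31671 b J = true := fun b h1 h2 =>
  if h : b < 582 then lo_581_582 b h1 h else lo_582_583 b (Nat.le_of_not_lt h) h2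
theorem lo_580_583 : ∀ b, 580 ≤ b → b < 583 → ∃ J, chkPBlk P 5 31 18 31671 b J = true := fun b h1 h2 =>
  if h : b < 581 then lo_580_581 b h1 h else lo_581_583 b (Nat.le_of_not_lt h) h2
theorem lo_578_583 : ∀ b, 578 ≤ b → b < 583 → ∃ J, chkPBlk P 5 31 18 31671 b J = true := fun b h1 h2 =>
  if h : b < 580 then lo_578_580 b h1 h else lo_580_583 b (Nat.le_of_not_lt h) h2
theorem lo_583_584 : ∀ b, 583 ≤ b → b < 584 → ∃ J, chkPBlk P 5 31 18 31671 b J = true := fun b h1 h2 => by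
  have hb : b = 583 := Nat.le_antisymm (Nat.le_of_lt_succ h2) h1
  subst hb; exact ⟨_, lblk_583⟩
theorem lo_584_585 : ∀ b, 584 ≤ b → b < 585 → ∃ J, chkPBlk P 5 31 18 31671 b J = true := fun b h1 h2 => by
  have hb : b = 584 := Nat.le_antisymm (Nat.le_of_lt_succ h2) h1
  subst hb; exact ⟨_, lblk_584⟩
theorem lo_583_585 : ∀ b, 583 ≤ b → b < 585 → ∃ J, chkPBlk P 5 31 18 31671 b J = true := fun b h1 h2 =>
  if h : b < 584 then lo_583_584 b h1 h else lo_584_585 b (Nat.le_of_not_lt h) h2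
theorem lo_585_586 : ∀ b, 585 ≤ b → b < 586 → ∃ J, chkPBlk P 5 31 18 31671 b J = true := fun b h1 h2 => by
  have hb : b = 585 := Nat.le_antisymm (Nat.le_of_lt_succ h2) h1
  subst hb; exact ⟨_, lblk_585⟩
theorem lo_586_587 : ∀ b, 586 ≤ b → b < 587 → ∃ J, chkPBlk P 5 31 18 31671 b J = true := fun b h1 h2 => by
  have hb : b = 586 := Nat.le_antisymm (Nat.le_of_lt_succ h2) h1
  subst hb; exact ⟨_, lblk_586⟩
theorem lo_587_588 : ∀ b, 587 ≤ b → b < 588 → ∃ J, chkPBlk P 5 31 18 31671 b J = true := fun b h1 h2 => by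
  have hb : b = 587 := Nat.le_antisymm (Nat.le_of_lt_succ h2) h1
  subst hb; exact ⟨_, lblk_587⟩
theorem lo_586_588 : ∀ b, 586 ≤ b → b < 588 → ∃ J, chkPBlk P 5 31 18 31671 b J = true := fun b h1 h2 =>
  if h : b < 587 then lo_586_587 b h1 h else lo_587_588 b (Nat.le_of_not_lt h) h2
theorem lo_585_588 : ∀ b, 585 ≤ b → b < 588 → ∃ J, chkPBlk P 5 31 18 31671 b J = true := fun b h1 h2 =>
  if h : b < 586 then lo_585_586 b h1 h else lo_586_588 b (Nat.le_of_not_lt h) h2
theorem lo_583_588 : ∀ b, 583 ≤ b → b < 588 → ∃ J, chkPBlk P 5 31 18 31671 b J = true := fun b h1 h2 =>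
  if h : b < 585 then lo_583_585 b h1 h else lo_585_588 b (Nat.le_of_not_lt h) h2
theorem lo_578_588 : ∀ b, 578 ≤ b → b < 588 → ∃ J, chkPBlk P 5 31 18 31671 b J = true := fun b h1 h2 =>
  if h : b < 583 then lo_578_583 b h1 h else lo_583_588 b (Nat.le_of_not_lt h) h2
theorem lo_569_588 : ∀ b, 569 ≤ b → b < 588 → ∃ J, chkPBlk P 5 31 18 31671 b J = true := fun b h1 h2 =>
  if h : b < 578 then lo_569_578 b h1 h else lo_578_588 b (Nat.le_of_not_lt h) h2
theorem lo_551_588 : ∀ b, 551 ≤ b → b < 588 → ∃ J, chkPBlk P 5 31 18 31671 b J = true := fun b h1 h2 =>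
  if h : b < 569 then lo_551_569 b h1 h else lo_569_588 b (Nat.le_of_not_lt h) h2
theorem lo_514_588 : ∀ b, 514 ≤ b → b < 588 → ∃ J, chkPBlk P 5 31 18 31671 b J = true := fun b h1 h2 =>
  if h : b < 551 then lo_514_551 b h1 h else lo_551_588 b (Nat.le_of_not_lt h) h2
theorem lo_441_588 : ∀ b, 441 ≤ b → b < 588 → ∃ J, chkPBlk P 5 31 18 31671 b J = true := fun b h1 h2 =>
  if h : b < 514 then lo_441_514 b h1 h else lo_514_588 b (Nat.le_of_not_lt h) h2

end Cfsg.Agent.Lib.Helper29.S1689
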