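import Cfsg.Agent.Lib.Helper29.S1689.Data

set_option autoImplicit false
set_option Elab.async false

namespace Cfsg.Agent.Lib.Helper29.S1689

open Cfsg.Agent.Lib.Helper29.TcTrace Cfsg.Agent.Lib.Helper29.TcCert Cfsg.Agent.Lib.Helper29.TcPerm

theorem lblk_588 : chkPBlk P 5 31 18 31671 588 0xa441109421244942322088 = true := by decide +kernel
theorem lblk_589 : chkPBlk P 5 31 18 31671 589 0xa9210a5220844250849125 = true := by decide +kernel
theorem lblk_590 : chkPBlk P 5 31 18 31671 590 0xa321429210884a109224a4 = true := by decide +kernel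
theorem lblk_591 : chkPBlk P 5 31 18 31671 591 0x12842489290a14a42949449 = true := by decide +kernel
theorem lblk_592 : chkPBlk P 5 31 18 31671 592 0xa4424884a068490a441088 = true := by decide +kernel
theorem lblk_593 : chkPBlk P 5 31 18 31671 593 0x104419091246922469220c3 = true := by decide +kernel
theorem lblk_594 : chkPBlk P 5 31 18 31671 594 0x1090a122494684892349064 = true := by decide +kernel
theorem lblk_595 : chkPBlk P 5 31 18 31671 595 0x12249464421284a4a2424a5 = true := by decide +kernel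
theorem lblk_596 : chkPBlk P 5 31 18 31671 596 0x6848923491234910542428 = true := by decide +kernel
theorem lblk_597 : chkPBlk P 5 31 18 31671 597 0x109424284a4a24242848925 = true := by decide +kernel
theorem lblk_598 : chkPBlk P 5 31 18 31671 598 0x1092a4c84a4a921529220c4 = true := by decide +kernel
theorem lblk_599 : chkPBlk P 5 31 18 31671 599 0xa849925124a3424c92a488 = true := by decide +kernel
theorem lblk_600 : chkPBlk P 5 31 18 31671 600 0x1084a129289293a127424c9 = true := by decide +kernel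
theorem lblk_601 : chkPBlk P 5 31 18 31671 601 0x129288a4411094212449424 = true := by decide +kernel
theorem lblk_602 : chkPBlk P 5 31 18 31671 602 0x109124a3425244110942428 = true := by decide +kernel
theorem lblk_603 : chkPBlk P 5 31 18 31671 603 0x89284884a1214252512121 = true := by decide +kernel
theorem lblk_604 : chkPBlk P 5 31 18 31671 604 0x88425244a0a5220884a109 = true := by decide +kernel
theorem lblk_605 : chkPBlk P 5 31 18 31671 605 0x1084a509324a2494684a469 = true := by decide +kernel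
theorem lblk_606 : chkPBlk P 5 31 18 31671 606 0x4928d24221284850949449 = true := by decide +kernel
theorem lblk_607 : chkPBlk P 5 31 18 31671 607 0x109324a2424e84a4a849925 = true := by decide +kernel
theorem lblk_608 : chkPBlk P 5 31 18 31671 608 0x8849d09324a849d09324a1 = true := by decide +kernel
theorem lblk_609 : chkPBlk P 5 31 18 31671 609 0x1252910442508491250a509 = true := by decide +kernel
theorem lblk_610 : chkPBlk P 5 31 18 31671 610 0x12442506394882110942124 = true := by decide +kernel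
theorem lblk_611 : chkPBlk P 5 31 18 31671 611 0x12442121424491a1291a489 = true := by decide +kernel
theorem lblk_612 : chkPBlk P 5 31 18 31671 612 0xa1424c9289251a129124a3 = true := by decide +kernel
theorem lblk_613 : chkPBlk P 5 31 18 31671 613 0xa122128485094944942129 = true := by decide +kernel
theorem lblk_614 : chkPBlk P 5 31 18 31671 614 0x12442505314882212842489 = true := by decide +kernel
theorem lblk_615 : chkPBlk P 5 31 18 31671 615 0x129289090a1224946848923 = true := by decide +kernel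
theorem lblk_616 : chkPBlk P 5 31 18 31671 616 0x109324a2494692110942428 = true := by decide +kernel
theorem lblk_617 : chkPBlk P 5 31 18 31671 617 0xc928509324a241d0931125 = true := by decide +kernel
theorem lblk_618 : chkPBlk P 5 31 18 31671 618 0x294248849d09324a849d09 = true := by decide +kernel
theorem lblk_619 : chkPBlk P 5 31 18 31671 619 0x10849125291044250849125 = true := by decide +kernel
theorem lblk_620 : chkPBlk P 5 31 18 31671 620 0x12549109298a32148821109 = true := by decide +kernel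
theorem lblk_621 : chkPBlk P 5 31 18 31671 621 0x1284a12649509324a242126 = true := by decide +kernel
theorem lblk_622 : chkPBlk P 5 31 18 31671 622 0x8442508491254a48928508 = true := by decide +kernel
theorem lblk_623 : chkPBlk P 5 31 18 31671 623 0x1090a129289092a48941488 = true := by decide +kernel
theorem lblk_624 : chkPBlk P 5 31 18 31671 624 0x2849925124a34a48928509 = true := by decide +kernel
theorem lblk_625 : chkPBlk P 5 31 18 31671 625 0xa1425093a129424e849925 = true := by decide +kernel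
theorem lblk_626 : chkPBlk P 5 31 18 31671 626 0x124424e849925424e849889 = true := by decide +kernel
theorem lblk_627 : chkPBlk P 5 31 18 31671 627 0x1084912541488491093a128 = true := by decide +kernel
theorem lblk_628 : chkPBlk P 5 31 18 31671 628 0x884910940d092148821109 = true := by decide +kernel
theorem lblk_629 : chkPBlk P 5 31 18 31671 629 0x109221281a124410a919865 = true := by decide +kernel
theorem lblk_630 : chkPBlk P 5 31 18 31671 630 0x8928509494482152330ca4 = true := by decide +kernel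
theorem lblk_631 : chkPBlk P 5 31 18 31671 631 0x6522124425034248821529 = true := by decide +kernel
theorem lblk_632 : chkPBlk P 5 31 18 31671 632 0x6231464414884a5084a066 = true := by decide +kernel
theorem lblk_633 : chkPBlk P 5 31 18 31671 633 0x109424284a4a24242848925 = true := by decide +kernel
theorem lblk_634 : chkPBlk P 5 31 18 31671 634 0xc9288a4411094212449424 = true := by decide +kernel
theorem lblk_635 : chkPBlk P 5 31 18 31671 635 0x10931125424e84988928509 = true := by decide +kernel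
theorem lblk_636 : chkPBlk P 5 31 18 31671 636 0x109324a849d093112509107 = true := by decide +kernel
theorem lblk_637 : chkPBlk P 5 31 18 31671 637 0x10522124424e84990922127 = true := by decide +kernel
theorem lblk_638 : chkPBlk P 5 31 18 31671 638 0x8628c85220844250849125 = true := by decide +kernel
theorem lblk_639 : chkPBlk P 5 31 18 31671 639 0xa331464194884910940d09 = true := by decide +kernel
theorem lblk_640 : chkPBlk P 5 31 18 31671 640 0x12529104425084912509cc5 = true := by decide +kernel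
theorem lblk_641 : chkPBlk P 5 31 18 31671 641 0xc849889294882110942124 = true := by decide +kernel
theorem lblk_642 : chkPBlk P 5 31 18 31671 642 0x10922127424c44248849d28 = true := by decide +kernel
theorem lblk_643 : chkPBlk P 5 31 18 31671 643 0x1281a12429104425093a0a4 = true := by decide +kernel
theorem lblk_644 : chkPBlk P 5 31 18 31671 644 0xa4425284250330ca442488 = true := by decide +kernel
theorem lblk_645 : chkPBlk P 5 31 18 31671 645 0xa4424884a0684904628c88 = true := by decide +kernel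
theorem lblk_646 : chkPBlk P 5 31 18 31671 646 0x4628c88291094a10940cc3 = true := by decide +kernel
theorem lblk_647 : chkPBlk P 5 31 18 31671 647 0xa228c8519108490884a502 = true := by decide +kernel
theorem lblk_648 : chkPBlk P 5 31 18 31671 648 0x10528c8849464421244a026 = true := by decide +kernel
theorem lblk_649 : chkPBlk P 5 31 18 31671 649 0x12428d2922128299284a0a9 = true := by decide +kernel
theorem lblk_650 : chkPBlk P 5 31 18 31671 650 0x125491282a487318e9324a9 = true := by decide +kernel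
theorem lblk_651 : chkPBlk P 5 31 18 31671 651 0x854a4a3491284a4c92a4a3 = true := by decide +kernel
theorem lblk_652 : chkPBlk P 5 31 18 31671 652 0x1251a487324e6224c949469 = true := by decide +kernel
theorem lblk_653 : chkPBlk P 5 31 18 31671 653 0x491a527424c92892322525 = true := by decide +kernel
theorem lblk_654 : chkPBlk P 5 31 18 31671 654 0x491a48840d044912542525 = true := by decide +kernel
theorem lblk_655 : chkPBlk P 5 31 18 31671 655 0xa9424c94946928cc848509 = true := by decide +kernel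
theorem lblk_656 : chkPBlk P 5 31 18 31671 656 0xe849926495244a127424c9 = true := by decide +kernel
theorem lblk_657 : chkPBlk P 5 31 18 31671 657 0x1284210942525124a442509 = true := by decide +kernel
theorem lblk_658 : chkPBlk P 5 31 18 31671 658 0x1094944322109424e849488 = true := by decide +kernel
theorem lblk_659 : chkPBlk P 5 31 18 31671 659 0x1062910442508491250a109 = true := by decide +kernel
theorem lblk_660 : chkPBlk P 5 31 18 31671 660 0x129288a5424284892518864 = true := by decide +kernel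
theorem lblk_661 : chkPBlk P 5 31 18 31671 661 0x129289251a48928d2441508 = true := by decide +kernel
theorem lblk_662 : chkPBlk P 5 31 18 31671 662 0x129289090a12249468424c8 = true := by decide +kernel
theorem lblk_663 : chkPBlk P 5 31 18 31671 663 0x125494692a4883110942428 = true := by decide +kernel
theorem lblk_664 : chkPBlk P 5 31 18 31671 664 0x12849d0932126495242a109 = true := by decide +kernel
theorem lblk_665 : chkPBlk P 5 31 18 31671 665 0x125124a3424c92a488424a8 = true := by decide +kernel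
theorem lblk_666 : chkPBlk P 5 31 18 31671 666 0x482212849d093a1264a126 = true := by decide +kernel
theorem lblk_667 : chkPBlk P 5 31 18 31671 667 0x12441109421244942942525 = true := by decide +kernel
theorem lblk_668 : chkPBlk P 5 31 18 31671 668 0x1094a1264944928d094a4a3 = true := by decide +kernel
theorem lblk_669 : chkPBlk P 5 31 18 31671 669 0x12509109424284a4a222128 = true := by decide +kernel
theorem lblk_670 : chkPBlk P 5 31 18 31671 670 0x6922524414a44110942124 = true := by decide +kernel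
theorem lblk_671 : chkPBlk P 5 31 18 31671 671 0x12928d2442108499284a525 = true := by decide +kernel
theorem lblk_672 : chkPBlk P 5 31 18 31671 672 0x109424e849d084992928d09 = true := by decide +kernel
theorem lblk_673 : chkPBlk P 5 31 18 31671 673 0x1264944928d242210949504 = true := by decide +kernel
theorem lblk_674 : chkPBlk P 5 31 18 31671 674 0x12649428499251212742528 = true := by decide +kernel
theorem lblk_675 : chkPBlk P 5 31 18 31671 675 0x10442488491093a129424e8 = true := by decide +kernel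
theorem lblk_676 : chkPBlk P 5 31 18 31671 676 0x8929488221284248928464 = true := by decide +kernel
theorem lblk_677 : chkPBlk P 5 31 18 31671 677 0x1244910838ca4410884a109 = true := by decide +kernel
theorem lblk_678 : chkPBlk P 5 31 18 31671 678 0x491a1292a4a34912442125 = true := by decide +kernel
theorem lblk_679 : chkPBlk P 5 31 18 31671 679 0x1264944928d244946922109 = true := by decide +kernel
theorem lblk_680 : chkPBlk P 5 31 18 31671 680 0x1090a12248c884a127424c8 = true := by decide +kernel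
theorem lblk_681 : chkPBlk P 5 31 18 31671 681 0x1244250639109424284a4a2 = true := by decide +kernel
theorem lblk_682 : chkPBlk P 5 31 18 31671 682 0xc84a4a249469224a349109 = true := by decide +kernel
theorem lblk_683 : chkPBlk P 5 31 18 31671 683 0x4928d2442121424491a109 = true := by decide +kernel
theorem lblk_684 : chkPBlk P 5 31 18 31671 684 0xc928509324a24946849925 = true := by decide +kernel
theorem lblk_685 : chkPBlk P 5 31 18 31671 685 0x284a4a241109424e849d09 = true := by decide +kernel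
theorem lblk_686 : chkPBlk P 5 31 18 31671 686 0xa441109421244942442509 = true := by decide +kernel
theorem lblk_687 : chkPBlk P 5 31 18 31671 687 0xa3491084892349129220a6 = true := by decide +kernel
theorem lblk_688 : chkPBlk P 5 31 18 31671 688 0x1250a1264944928d0949449 = true := by decide +kernel
theorem lblk_689 : chkPBlk P 5 31 18 31671 689 0x84425090a129288884a109 = true := by decide +kernel
theorem lblk_690 : chkPBlk P 5 31 18 31671 690 0xa2424e84a509324a249469 = true := by decide +kernel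
theorem lblk_691 : chkPBlk P 5 31 18 31671 691 0x1274252849d09324a1424c9 = true := by decide +kernel
theorem lblk_692 : chkPBlk P 5 31 18 31671 692 0x1084912508c882212442488 = true := by decide +kernel
theorem lblk_693 : chkPBlk P 5 31 18 31671 693 0x882110942124494a441109 = true := by decide +kernel
theorem lblk_694 : chkPBlk P 5 31 18 31671 694 0x12522109424e9324a849925 = true := by decide +kernel
theorem lblk_695 : chkPBlk P 5 31 18 31671 695 0x8442508499254252349124 = true := by decide +kernel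
theorem lblk_696 : chkPBlk P 5 31 18 31671 696 0xe8499284992512109324a9 = true := by decide +kernel
theorem lblk_697 : chkPBlk P 5 31 18 31671 697 0xa9224a3220884910942109 = true := by decide +kernel
theorem lblk_698 : chkPBlk P 5 31 18 31671 698 0x12928d09491042212842489 = true := by decide +kernel
theorem lblk_699 : chkPBlk P 5 31 18 31671 699 0xc9424c9289084992549108 = true := by decide +kernel
theorem lblk_700 : chkPBlk P 5 31 18 31671 700 0xa34a489284644110842509 = true := by decide +kernel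
theorem lblk_701 : chkPBlk P 5 31 18 31671 701 0x1093a1093a1264a12649449 = true := by decide +kernel
theorem lblk_702 : chkPBlk P 5 31 18 31671 702 0xe84992849d093112509109 = true := by decide +kernel
theorem lblk_703 : chkPBlk P 5 31 18 31671 703 0x6441488491093a08849109 = true := by decide +kernel
theorem lblk_704 : chkPBlk P 5 31 18 31671 704 0x8821109421244944320c88 = true := by decide +kernel
theorem lblk_705 : chkPBlk P 5 31 18 31671 705 0x6821865221244250342485 = true := by decide +kernel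
theorem lblk_706 : chkPBlk P 5 31 18 31671 706 0x8548c65221284a06922089 = true := by decide +kernel
theorem lblk_707 : chkPBlk P 5 31 18 31671 707 0x109220854a4892850949448 = true := by decide +kernel
theorem lblk_708 : chkPBlk P 5 31 18 31671 708 0x12942128198652212442503 = true := by decide +kernel
theorem lblk_709 : chkPBlk P 5 31 18 31671 709 0x122494691a4823146441488 = true := by decide +kernel
theorem lblk_710 : chkPBlk P 5 31 18 31671 710 0x4848509124a310c83220a8 = true := by decide +kernel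
theorem lblk_711 : chkPBlk P 5 31 18 31671 711 0x284a4a2424a84a12142525 = true := by decide +kernel
theorem lblk_712 : chkPBlk P 5 31 18 31671 712 0x1214244928d091246922109 = true := by decide +kernel
theorem lblk_713 : chkPBlk P 5 31 18 31671 713 0x109224a1221284850949448 = true := by decide +kernel
theorem lblk_714 : chkPBlk P 5 31 18 31671 714 0x1094a109324a84a48522128 = true := by decide +kernel
theorem lblk_715 : chkPBlk P 5 31 18 31671 715 0x125424c9289093a12649524 = true := by decide +kernel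
theorem lblk_716 : chkPBlk P 5 31 18 31671 716 0x892a50922127425093a126 = true := by decide +kernel
theorem lblk_717 : chkPBlk P 5 31 18 31671 717 0x109224a122109224a442109 = true := by decide +kernel
theorem lblk_718 : chkPBlk P 5 31 18 31671 718 0x284a4a2424a92148822128 = true := by decide +kernel
theorem lblk_719 : chkPBlk P 5 31 18 31671 719 0xa441109421244942442509 = true := by decide +kernel
theorem lblk_720 : chkPBlk P 5 31 18 31671 720 0x1092a505220844250849125 = true := by decide +kernel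
theorem lblk_721 : chkPBlk P 5 31 18 31671 721 0x10932509324a24212928d24 = true := by decide +kernel
theorem lblk_722 : chkPBlk P 5 31 18 31671 722 0xa441109421244942442109 = true := by decide +kernel
theorem lblk_723 : chkPBlk P 5 31 18 31671 723 0x12849d09324a849925124a3 = true := by decide +kernel
theorem lblk_724 : chkPBlk P 5 31 18 31671 724 0xc92a127424c44942849108 = true := by decide +kernel
theorem lblk_725 : chkPBlk P 5 31 18 31671 725 0xa44248849d094248849d09 = true := by decide +kernel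
theorem lblk_726 : chkPBlk P 5 31 18 31671 726 0x68490a4410884a109224a8 = true := by decide +kernel
theorem lblk_727 : chkPBlk P 5 31 18 31671 727 0x48425251a1292250622128 = true := by decide +kernel
theorem lblk_728 : chkPBlk P 5 31 18 31671 728 0x1093244928d242212848509 = true := by decide +kernel
theorem lblk_729 : chkPBlk P 5 31 18 31671 729 0x1284a126494284992512109 = true := by decide +kernel
theorem lblk_730 : chkPBlk P 5 31 18 31671 730 0xa5220884a109224a122109 = true := by decide +kernel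
theorem lblk_731 : chkPBlk P 5 31 18 31671 731 0x6922505291042212842489 = true := by decide +kernel
theorem lblk_732 : chkPBlk P 5 31 18 31671 732 0x884a121425251212848925 = true := by decide +kernel
theorem lblk_733 : chkPBlk P 5 31 18 31671 733 0xa249465220884a109224a1 = true := by decide +kernel
theorem lblk_734 : chkPBlk P 5 31 18 31671 734 0x1074248849d0931125424c9 = true := by decide +kernel
theorem lo_588_589 : ∀ b, 588 ≤ b → b < 589 → ∃ J, chkPBlk P 5 31 18 31671 b J = true := fun b h1 h2 => by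
  have hb : b = 588 := Nat.le_antisymm (Nat.le_of_lt_succ h2) h1
  subst hb; exact ⟨_, lblk_588⟩
theorem lo_589_590 : ∀ b, 589 ≤ b → b < 590 → ∃ J, chkPBlk P 5 31 18 31671 b J = true := fun b h1 h2 => by
  have hb : b = 589 := Nat.le_antisymm (Nat.le_of_lt_succ h2) h1
  subst hb; exact ⟨_, lblk_589⟩
theorem lo_588_590 : ∀ b, 588 ≤ b → b < 590 → ∃ J, chkPBlk P 5 31 18 31671 b J = true := fun b h1 h2 =>
  if h : b < 589 then lo_588_589 b h1 h else lo_589_590 b (Nat.le_of_not_lt h) h2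
theorem lo_590_591 : ∀ b, 590 ≤ b → b < 591 → ∃ J, chkPBlk P 5 31 18 31671 b J = true := fun b h1 h2 => by
  have hb : b = 590 := Nat.le_antisymm (Nat.le_of_lt_succ h2) h1
  subst hb; exact ⟨_, lblk_590⟩
theorem lo_591_592 : ∀ b, 591 ≤ b → b < 592 → ∃ J, chkPBlk P 5 31 18 31671 b J = true := fun b h1 h2 => by
  have hb : b = 591 := Nat.le_antisymm (Nat.le_of_lt_succ h2) h1
  subst hb; exact ⟨_, lblk_591⟩
theorem lo_590_592 : ∀ b, 590 ≤ b → b < 592 → ∃ J, chkPBlk P 5 31 18 31671 b J = true := fun b h1 h2 =>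
  if h : b < 591 then lo_590_591 b h1 h else lo_591_592 b (Nat.le_of_not_lt h) h2
theorem lo_588_592 : ∀ b, 588 ≤ b → b < 592 → ∃ J, chkPBlk P 5 31 18 31671 b J = true := fun b h1 h2 =>
  if h : b < 590 then lo_588_590 b h1 h else lo_590_592 b (Nat.le_of_not_lt h) h2
theorem lo_592_593 : ∀ b, 592 ≤ b → b < 593 → ∃ J, chkPBlk P 5 31 18 31671 b J = true := fun b h1 h2 => by
  have hb : b = 592 := Nat.le_antisymm (Nat.le_of_lt_succ h2) h1
  subst hb; exact ⟨_, lblk_592⟩
theorem lo_593_594 : ∀ b, 593 ≤ b → b < 594 → ∃ J, chkPBlk P 5 31 18 31671 b J = true := fun b h1 h2 => by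
  have hb : b = 593 := Nat.le_antisymm (Nat.le_of_lt_succ h2) h1
  subst hb; exact ⟨_, lblk_593⟩
theorem lo_592_594 : ∀ b, 592 ≤ b → b < 594 → ∃ J, chkPBlk P 5 31 18 31671 b J = true := fun b h1 h2 =>
  if h : b < 593 then lo_592_593 b h1 h else lo_593_594 b (Nat.le_of_not_lt h) h2
theorem lo_594_595 : ∀ b, 594 ≤ b → b < 595 → ∃ J, chkPBlk P 5 31 18 31671 b J = true := fun b h1 h2 => by
  have hb : b = 594 := Nat.le_antisymm (Nat.le_of_lt_succ h2) h1
  subst hb; exact ⟨_, lblk_594⟩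
theorem lo_595_596 : ∀ b, 595 ≤ b → b < 596 → ∃ J, chkPBlk P 5 31 18 31671 b J = true := fun b h1 h2 => by
  have hb : b = 595 := Nat.le_antisymm (Nat.le_of_lt_succ h2) h1
  subst hb; exact ⟨_, lblk_595⟩
theorem lo_596_597 : ∀ b, 596 ≤ b → b < 597 → ∃ J, chkPBlk P 5 31 18 31671 b J = true := fun b h1 h2 => by
  have hb : b = 596 := Nat.le_antisymm (Nat.le_of_lt_succ h2) h1
  subst hb; exact ⟨_, lblk_596⟩
theorem lo_595_597 : ∀ b, 595 ≤ b → b < 597 → ∃ J, chkPBlk P 5 31 18 31671 b J = true := fun b h1 h2 =>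
  if h : b < 596 then lo_595_596 b h1 h else lo_596_597 b (Nat.le_of_not_lt h) h2
theorem lo_594_597 : ∀ b, 594 ≤ b → b < 597 → ∃ J, chkPBlk P 5 31 18 31671 b J = true := fun b h1 h2 =>
  if h : b < 595 then lo_594_595 b h1 h else lo_595_597 b (Nat.le_of_not_lt h) h2
theorem lo_592_597 : ∀ b, 592 ≤ b → b < 597 → ∃ J, chkPBlk P 5 31 18 31671 b J = true := fun b h1 h2 =>
  if h : b < 594 then lo_592_594 b h1 h else lo_594_597 b (Nat.le_of_not_lt h) h2
theorem lo_588_597 : ∀ b, 588 ≤ b → b < 597 → ∃ J, chkPBlk P 5 31 18 31671 b J = true := fun b h1 h2 =>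
  if h : b < 592 then lo_588_592 b h1 h else lo_592_597 b (Nat.le_of_not_lt h) h2
theorem lo_597_598 : ∀ b, 597 ≤ b → b < 598 → ∃ J, chkPBlk P 5 31 18 31671 b J = true := fun b h1 h2 => by
  have hb : b = 597 := Nat.le_antisymm (Nat.le_of_lt_succ h2) h1
  subst hb; exact ⟨_, lblk_597⟩
theorem lo_598_599 : ∀ b, 598 ≤ b → b < 599 → ∃ J, chkPBlk P 5 31 18 31671 b J = true := fun b h1 h2 => by
  have hb : b = 598 := Nat.le_antisymm (Nat.le_of_lt_succ h2) h1
  subst hb; exact ⟨_, lblk_598⟩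
theorem lo_597_599 : ∀ b, 597 ≤ b → b < 599 → ∃ J, chkPBlk P 5 31 18 31671 b J = true := fun b h1 h2 =>
  if h : b < 598 then lo_597_598 b h1 h else lo_598_599 b (Nat.le_of_not_lt h) h2
theorem lo_599_600 : ∀ b, 599 ≤ b → b < 600 → ∃ J, chkPBlk P 5 31 18 31671 b J = true := fun b h1 h2 => by
  have hb : b = 599 := Nat.le_antisymm (Nat.le_of_lt_succ h2) h1
  subst hb; exact ⟨_, lblk_599⟩
theorem lo_600_601 : ∀ b, 600 ≤ b → b < 601 → ∃ J, chkPBlk P 5 31 18 31671 b J = true := fun b h1 h2 => by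
  have hb : b = 600 := Nat.le_antisymm (Nat.le_of_lt_succ h2) h1
  subst hb; exact ⟨_, lblk_600⟩
theorem lo_599_601 : ∀ b, 599 ≤ b → b < 601 → ∃ J, chkPBlk P 5 31 18 31671 b J = true := fun b h1 h2 =>
  if h : b < 600 then lo_599_600 b h1 h else lo_600_601 b (Nat.le_of_not_lt h) h2
theorem lo_597_601 : ∀ b, 597 ≤ b → b < 601 → ∃ J, chkPBlk P 5 31 18 31671 b J = true := fun b h1 h2 =>
  if h : b < 599 then lo_597_599 b h1 h else lo_599_601 b (Nat.le_of_not_lt h) h2
theorem lo_601_602 : ∀ b, 601 ≤ b → b < 602 → ∃ J, chkPBlk P 5 31 18 31671 b J = true := fun b h1 h2 => by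
  have hb : b = 601 := Nat.le_antisymm (Nat.le_of_lt_succ h2) h1
  subst hb; exact ⟨_, lblk_601⟩
theorem lo_602_603 : ∀ b, 602 ≤ b → b < 603 → ∃ J, chkPBlk P 5 31 18 31671 b J = true := fun b h1 h2 => by
  have hb : b = 602 := Nat.le_antisymm (Nat.le_of_lt_succ h2) h1
  subst hb; exact ⟨_, lblk_602⟩
theorem lo_601_603 : ∀ b, 601 ≤ b → b < 603 → ∃ J, chkPBlk P 5 31 18 31671 b J = true := fun b h1 h2 =>
  if h : b < 602 then lo_601_602 b h1 h else lo_602_603 b (Nat.le_of_not_lt h) h2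
theorem lo_603_604 : ∀ b, 603 ≤ b → b < 604 → ∃ J, chkPBlk P 5 31 18 31671 b J = true := fun b h1 h2 => by
  have hb : b = 603 := Nat.le_antisymm (Nat.le_of_lt_succ h2) h1
  subst hb; exact ⟨_, lblk_603⟩
theorem lo_604_605 : ∀ b, 604 ≤ b → b < 605 → ∃ J, chkPBlk P 5 31 18 31671 b J = true := fun b h1 h2 => by
  have hb : b = 604 := Nat.le_antisymm (Nat.le_of_lt_succ h2) h1
  subst hb; exact ⟨_, lblk_604⟩
theorem lo_605_606 : ∀ b, 605 ≤ b → b < 606 → ∃ J, chkPBlk P 5 31 18 31671 b J = true := fun b h1 h2 => by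
  have hb : b = 605 := Nat.le_antisymm (Nat.le_of_lt_succ h2) h1
  subst hb; exact ⟨_, lblk_605⟩
theorem lo_604_606 : ∀ b, 604 ≤ b → b < 606 → ∃ J, chkPBlk P 5 31 18 31671 b J = true := fun b h1 h2 =>
  if h : b < 605 then lo_604_605 b h1 h else lo_605_606 b (Nat.le_of_not_lt h) h2
theorem lo_603_606 : ∀ b, 603 ≤ b → b < 606 → ∃ J, chkPBlk P 5 31 18 31671 b J = true := fun b h1 h2 =>
  if h : b < 604 then lo_603_604 b h1 h else lo_604_606 b (Nat.le_of_not_lt h) h2
theorem lo_601_606 : ∀ b, 601 ≤ b → b < 606 → ∃ J, chkPBlk P 5 31 18 31671 b J = true := fun b h1 h2 =>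
  if h : b < 603 then lo_601_603 b h1 h else lo_603_606 b (Nat.le_of_not_lt h) h2
theorem lo_597_606 : ∀ b, 597 ≤ b → b < 606 → ∃ J, chkPBlk P 5 31 18 31671 b J = true := fun b h1 h2 =>
  if h : b < 601 then lo_597_601 b h1 h else lo_601_606 b (Nat.le_of_not_lt h) h2
theorem lo_588_606 : ∀ b, 588 ≤ b → b < 606 → ∃ J, chkPBlk P 5 31 18 31671 b J = true := fun b h1 h2 =>
  if h : b < 597 then lo_588_597 b h1 h else lo_597_606 b (Nat.le_of_not_lt h) h2
theorem lo_606_607 : ∀ b, 606 ≤ b → b < 607 → ∃ J, chkPBlk P 5 31 18 31671 b J = true := fun b h1 h2 => by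
  have hb : b = 606 := Nat.le_antisymm (Nat.le_of_lt_succ h2) h1
  subst hb; exact ⟨_, lblk_606⟩
theorem lo_607_608 : ∀ b, 607 ≤ b → b < 608 → ∃ J, chkPBlk P 5 31 18 31671 b J = true := fun b h1 h2 => by
  have hb : b = 607 := Nat.le_antisymm (Nat.le_of_lt_succ h2) h1
  subst hb; exact ⟨_, lblk_607⟩
theorem lo_606_608 : ∀ b, 606 ≤ b → b < 608 → ∃ J, chkPBlk P 5 31 18 31671 b J = true := fun b h1 h2 =>
  if h : b < 607 then lo_606_607 b h1 h else lo_607_608 b (Nat.le_of_not_lt h) h2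
theorem lo_608_609 : ∀ b, 608 ≤ b → b < 609 → ∃ J, chkPBlk P 5 31 18 31671 b J = true := fun b h1 h2 => by
  have hb : b = 608 := Nat.le_antisymm (Nat.le_of_lt_succ h2) h1
  subst hb; exact ⟨_, lblk_608⟩
theorem lo_609_610 : ∀ b, 609 ≤ b → b < 610 → ∃ J, chkPBlk P 5 31 18 31671 b J = true := fun b h1 h2 => by
  have hb : b = 609 := Nat.le_antisymm (Nat.le_of_lt_succ h2) h1
  subst hb; exact ⟨_, lblk_609⟩
theorem lo_608_610 : ∀ b, 608 ≤ b → b < 610 → ∃ J, chkPBlk P 5 31 18 31671 b J = true := fun b h1 h2 =>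
  if h : b < 609 then lo_608_609 b h1 h else lo_609_610 b (Nat.le_of_not_lt h) h2
theorem lo_606_610 : ∀ b, 606 ≤ b → b < 610 → ∃ J, chkPBlk P 5 31 18 31671 b J = true := fun b h1 h2 =>
  if h : b < 608 then lo_606_608 b h1 h else lo_608_610 b (Nat.le_of_not_lt h) h2
theorem lo_610_611 : ∀ b, 610 ≤ b → b < 611 → ∃ J, chkPBlk P 5 31 18 31671 b J = true := fun b h1 h2 => by
  have hb : b = 610 := Nat.le_antisymm (Nat.le_of_lt_succ h2) h1
  subst hb; exact ⟨_, lblk_610⟩
theorem lo_611_612 : ∀ b, 611 ≤ b → b < 612 → ∃ J, chkPBlk P 5 31 18 31671 b J = true := fun b h1 h2 => by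
  have hb : b = 611 := Nat.le_antisymm (Nat.le_of_lt_succ h2) h1
  subst hb; exact ⟨_, lblk_611⟩
theorem lo_610_612 : ∀ b, 610 ≤ b → b < 612 → ∃ J, chkPBlk P 5 31 18 31671 b J = true := fun b h1 h2 =>
  if h : b < 611 then lo_610_611 b h1 h else lo_611_612 b (Nat.le_of_not_lt h) h2
theorem lo_612_613 : ∀ b, 612 ≤ b → b < 613 → ∃ J, chkPBlk P 5 31 18 31671 b J = true := fun b h1 h2 => by
  have hb : b = 612 := Nat.le_antisymm (Nat.le_of_lt_succ h2) h1
  subst hb; exact ⟨_, lblk_612⟩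
theorem lo_613_614 : ∀ b, 613 ≤ b → b < 614 → ∃ J, chkPBlk P 5 31 18 31671 b J = true := fun b h1 h2 => by
  have hb : b = 613 := Nat.le_antisymm (Nat.le_of_lt_succ h2) h1
  subst hb; exact ⟨_, lblk_613⟩
theorem lo_614_615 : ∀ b, 614 ≤ b → b < 615 → ∃ J, chkPBlk P 5 31 18 31671 b J = true := fun b h1 h2 => by
  have hb : b = 614 := Nat.le_antisymm (Nat.le_of_lt_succ h2) h1
  subst hb; exact ⟨_, lblk_614⟩
theorem lo_613_615 : ∀ b, 613 ≤ b → b < 615 → ∃ J, chkPBlk P 5 31 18 31671 b J = true := fun b h1 h2 =>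
  if h : b < 614 then lo_613_614 b h1 h else lo_614_615 b (Nat.le_of_not_lt h) h2
theorem lo_612_615 : ∀ b, 612 ≤ b → b < 615 → ∃ J, chkPBlk P 5 31 18 31671 b J = true := fun b h1 h2 =>
  if h : b < 613 then lo_612_613 b h1 h else lo_613_615 b (Nat.le_of_not_lt h) h2
theorem lo_610_615 : ∀ b, 610 ≤ b → b < 615 → ∃ J, chkPBlk P 5 31 18 31671 b J = true := fun b h1 h2 =>
  if h : b < 612 then lo_610_612 b h1 h else lo_612_615 b (Nat.le_of_not_lt h) h2
theorem lo_606_615 : ∀ b, 606 ≤ b → b < 615 → ∃ J, chkPBlk P 5 31 18 31671 b J = true := fun b h1 h2 =>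
  if h : b < 610 then lo_606_610 b h1 h else lo_610_615 b (Nat.le_of_not_lt h) h2
theorem lo_615_616 : ∀ b, 615 ≤ b → b < 616 → ∃ J, chkPBlk P 5 31 18 31671 b J = true := fun b h1 h2 => by
  have hb : b = 615 := Nat.le_antisymm (Nat.le_of_lt_succ h2) h1
  subst hb; exact ⟨_, lblk_615⟩
theorem lo_616_617 : ∀ b, 616 ≤ b → b < 617 → ∃ J, chkPBlk P 5 31 18 31671 b J = true := fun b h1 h2 => by
  have hb : b = 616 := Nat.le_antisymm (Nat.le_of_lt_succ h2) h1
  subst hb; exact ⟨_, lblk_616⟩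
theorem lo_615_617 : ∀ b, 615 ≤ b → b < 617 → ∃ J, chkPBlk P 5 31 18 31671 b J = true := fun b h1 h2 =>
  if h : b < 616 then lo_615_616 b h1 h else lo_616_617 b (Nat.le_of_not_lt h) h2
theorem lo_617_618 : ∀ b, 617 ≤ b → b < 618 → ∃ J, chkPBlk P 5 31 18 31671 b J = true := fun b h1 h2 => by
  have hb : b = 617 := Nat.le_antisymm (Nat.le_of_lt_succ h2) h1
  subst hb; exact ⟨_, lblk_617⟩
theorem lo_618_619 : ∀ b, 618 ≤ b → b < 619 → ∃ J, chkPBlk P 5 31 18 31671 b J = true := fun b h1 h2 => by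
  have hb : b = 618 := Nat.le_antisymm (Nat.le_of_lt_succ h2) h1
  subst hb; exact ⟨_, lblk_618⟩
theorem lo_617_619 : ∀ b, 617 ≤ b → b < 619 → ∃ J, chkPBlk P 5 31 18 31671 b J = true := fun b h1 h2 =>
  if h : b < 618 then lo_617_618 b h1 h else lo_618_619 b (Nat.le_of_not_lt h) h2
theorem lo_615_619 : ∀ b, 615 ≤ b → b < 619 → ∃ J, chkPBlk P 5 31 18 31671 b J = true := fun b h1 h2 =>
  if h : b < 617 then lo_615_617 b h1 h else lo_617_619 b (Nat.le_of_not_lt h) h2
theorem lo_619_620 : ∀ b, 619 ≤ b → b < 620 → ∃ J, chkPBlk P 5 31 18 31671 b J = true := fun b h1 h2 => by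
  have hb : b = 619 := Nat.le_antisymm (Nat.le_of_lt_succ h2) h1
  subst hb; exact ⟨_, lblk_619⟩
theorem lo_620_621 : ∀ b, 620 ≤ b → b < 621 → ∃ J, chkPBlk P 5 31 18 31671 b J = true := fun b h1 h2 => by
  have hb : b = 620 := Nat.le_antisymm (Nat.le_of_lt_succ h2) h1
  subst hb; exact ⟨_, lblk_620⟩
theorem lo_619_621 : ∀ b, 619 ≤ b → b < 621 → ∃ J, chkPBlk P 5 31 18 31671 b J = true := fun b h1 h2 =>
  if h : b < 620 then lo_619_620 b h1 h else lo_620_621 b (Nat.le_of_not_lt h) h2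
theorem lo_621_622 : ∀ b, 621 ≤ b → b < 622 → ∃ J, chkPBlk P 5 31 18 31671 b J = true := fun b h1 h2 => by
  have hb : b = 621 := Nat.le_antisymm (Nat.le_of_lt_succ h2) h1
  subst hb; exact ⟨_, lblk_621⟩
theorem lo_622_623 : ∀ b, 622 ≤ b → b < 623 → ∃ J, chkPBlk P 5 31 18 31671 b J = true := fun b h1 h2 => by
  have hb : b = 622 := Nat.le_antisymm (Nat.le_of_lt_succ h2) h1
  subst hb; exact ⟨_, lblk_622⟩
theorem lo_623_624 : ∀ b, 623 ≤ b → b < 624 → ∃ J, chkPBlk P 5 31 18 31671 b J = true := fun b h1 h2 => by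
  have hb : b = 623 := Nat.le_antisymm (Nat.le_of_lt_succ h2) h1
  subst hb; exact ⟨_, lblk_623⟩
theorem lo_622_624 : ∀ b, 622 ≤ b → b < 624 → ∃ J, chkPBlk P 5 31 18 31671 b J = true := fun b h1 h2 =>
  if h : b < 623 then lo_622_623 b h1 h else lo_623_624 b (Nat.le_of_not_lt h) h2
theorem lo_621_624 : ∀ b, 621 ≤ b → b < 624 → ∃ J, chkPBlk P 5 31 18 31671 b J = true := fun b h1 h2 =>
  if h : b < 622 then lo_621_622 b h1 h else lo_622_624 b (Nat.le_of_not_lt h) h2
theorem lo_619_624 : ∀ b, 619 ≤ b → b < 624 → ∃ J, chkPBlk P 5 31 18 31671 b J = true := fun b h1 h2 =>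
  if h : b < 621 then lo_619_621 b h1 h else lo_621_624 b (Nat.le_of_not_lt h) h2
theorem lo_615_624 : ∀ b, 615 ≤ b → b < 624 → ∃ J, chkPBlk P 5 31 18 31671 b J = true := fun b h1 h2 =>
  if h : b < 619 then lo_615_619 b h1 h else lo_619_624 b (Nat.le_of_not_lt h) h2
theorem lo_606_624 : ∀ b, 606 ≤ b → b < 624 → ∃ J, chkPBlk P 5 31 18 31671 b J = true := fun b h1 h2 =>
  if h : b < 615 then lo_606_615 b h1 h else lo_615_624 b (Nat.le_of_not_lt h) h2
theorem lo_588_624 : ∀ b, 588 ≤ b → b < 624 → ∃ J, chkPBlk P 5 31 18 31671 b J = true := fun b h1 h2 =>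
  if h : b < 606 then lo_588_606 b h1 h else lo_606_624 b (Nat.le_of_not_lt h) h2
theorem lo_624_625 : ∀ b, 624 ≤ b → b < 625 → ∃ J, chkPBlk P 5 31 18 31671 b J = true := fun b h1 h2 => by
  have hb : b = 624 := Nat.le_antisymm (Nat.le_of_lt_succ h2) h1
  subst hb; exact ⟨_, lblk_624⟩
theorem lo_625_626 : ∀ b, 625 ≤ b → b < 626 → ∃ J, chkPBlk P 5 31 18 31671 b J = true := fun b h1 h2 => by
  have hb : b = 625 := Nat.le_antisymm (Nat.le_of_lt_succ h2) h1
  subst hb; exact ⟨_, lblk_625⟩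
theorem lo_624_626 : ∀ b, 624 ≤ b → b < 626 → ∃ J, chkPBlk P 5 31 18 31671 b J = true := fun b h1 h2 =>
  if h : b < 625 then lo_624_625 b h1 h else lo_625_626 b (Nat.le_of_not_lt h) h2
theorem lo_626_627 : ∀ b, 626 ≤ b → b < 627 → ∃ J, chkPBlk P 5 31 18 31671 b J = true := fun b h1 h2 => by
  have hb : b = 626 := Nat.le_antisymm (Nat.le_of_lt_succ h2) h1
  subst hb; exact ⟨_, lblk_626⟩
theorem lo_627_628 : ∀ b, 627 ≤ b → b < 628 → ∃ J, chkPBlk P 5 31 18 31671 b J = true := fun b h1 h2 => by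
  have hb : b = 627 := Nat.le_antisymm (Nat.le_of_lt_succ h2) h1
  subst hb; exact ⟨_, lblk_627⟩
theorem lo_626_628 : ∀ b, 626 ≤ b → b < 628 → ∃ J, chkPBlk P 5 31 18 31671 b J = true := fun b h1 h2 =>
  if h : b < 627 then lo_626_627 b h1 h else lo_627_628 b (Nat.le_of_not_lt h) h2
theorem lo_624_628 : ∀ b, 624 ≤ b → b < 628 → ∃ J, chkPBlk P 5 31 18 31671 b J = true := fun b h1 h2 =>
  if h : b < 626 then lo_624_626 b h1 h else lo_626_628 b (Nat.le_of_not_lt h) h2
theorem lo_628_629 : ∀ b, 628 ≤ b → b < 629 → ∃ J, chkPBlk P 5 31 18 31671 b J = true := fun b h1 h2 => by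
  have hb : b = 628 := Nat.le_antisymm (Nat.le_of_lt_succ h2) h1
  subst hb; exact ⟨_, lblk_628⟩
theorem lo_629_630 : ∀ b, 629 ≤ b → b < 630 → ∃ J, chkPBlk P 5 31 18 31671 b J = true := fun b h1 h2 => by
  have hb : b = 629 := Nat.le_antisymm (Nat.le_of_lt_succ h2) h1
  subst hb; exact ⟨_, lblk_629⟩
theorem lo_628_630 : ∀ b, 628 ≤ b → b < 630 → ∃ J, chkPBlk P 5 31 18 31671 b J = true := fun b h1 h2 =>
  if h : b < 629 then lo_628_629 b h1 h else lo_629_630 b (Nat.le_of_not_lt h) h2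
theorem lo_630_631 : ∀ b, 630 ≤ b → b < 631 → ∃ J, chkPBlk P 5 31 18 31671 b J = true := fun b h1 h2 => by
  have hb : b = 630 := Nat.le_antisymm (Nat.le_of_lt_succ h2) h1
  subst hb; exact ⟨_, lblk_630⟩
theorem lo_631_632 : ∀ b, 631 ≤ b → b < 632 → ∃ J, chkPBlk P 5 31 18 31671 b J = true := fun b h1 h2 => by
  have hb : b = 631 := Nat.le_antisymm (Nat.le_of_lt_succ h2) h1
  subst hb; exact ⟨_, lblk_631⟩
theorem lo_632_633 : ∀ b, 632 ≤ b → b < 633 → ∃ J, chkPBlk P 5 31 18 31671 b J = true := fun b h1 h2 => by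
  have hb : b = 632 := Nat.le_antisymm (Nat.le_of_lt_succ h2) h1
  subst hb; exact ⟨_, lblk_632⟩
theorem lo_631_633 : ∀ b, 631 ≤ b → b < 633 → ∃ J, chkPBlk P 5 31 18 31671 b J = true := fun b h1 h2 =>
  if h : b < 632 then lo_631_632 b h1 h else lo_632_633 b (Nat.le_of_not_lt h) h2
theorem lo_630_633 : ∀ b, 630 ≤ b → b < 633 → ∃ J, chkPBlk P 5 31 18 31671 b J = true := fun b h1 h2 =>
  if h : b < 631 then lo_630_631 b h1 h else lo_631_633 b (Nat.le_of_not_lt h) h2
theorem lo_628_633 : ∀ b, 628 ≤ b → b < 633 → ∃ J, chkPBlk P 5 31 18 31671 b J = true := fun b h1 h2 =>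
  if h : b < 630 then lo_628_630 b h1 h else lo_630_633 b (Nat.le_of_not_lt h) h2
theorem lo_624_633 : ∀ b, 624 ≤ b → b < 633 → ∃ J, chkPBlk P 5 31 18 31671 b J = true := fun b h1 h2 =>
  if h : b < 628 then lo_624_628 b h1 h else lo_628_633 b (Nat.le_of_not_lt h) h2
theorem lo_633_634 : ∀ b, 633 ≤ b → b < 634 → ∃ J, chkPBlk P 5 31 18 31671 b J = true := fun b h1 h2 => by
  have hb : b = 633 := Nat.le_antisymm (Nat.le_of_lt_succ h2) h1
  subst hb; exact ⟨_, lblk_633⟩
theorem lo_634_635 : ∀ b, 634 ≤ b → b < 635 → ∃ J, chkPBlk P 5 31 18 31671 b J = true := fun b h1 h2 => by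
  have hb : b = 634 := Nat.le_antisymm (Nat.le_of_lt_succ h2) h1
  subst hb; exact ⟨_, lblk_634⟩
theorem lo_633_635 : ∀ b, 633 ≤ b → b < 635 → ∃ J, chkPBlk P 5 31 18 31671 b J = true := fun b h1 h2 =>
  if h : b < 634 then lo_633_634 b h1 h else lo_634_635 b (Nat.le_of_not_lt h) h2
theorem lo_635_636 : ∀ b, 635 ≤ b → b < 636 → ∃ J, chkPBlk P 5 31 18 31671 b J = true := fun b h1 h2 => by
  have hb : b = 635 := Nat.le_antisymm (Nat.le_of_lt_succ h2) h1
  subst hb; exact ⟨_, lblk_635⟩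
theorem lo_636_637 : ∀ b, 636 ≤ b → b < 637 → ∃ J, chkPBlk P 5 31 18 31671 b J = true := fun b h1 h2 => by
  have hb : b = 636 := Nat.le_antisymm (Nat.le_of_lt_succ h2) h1
  subst hb; exact ⟨_, lblk_636⟩
theorem lo_635_637 : ∀ b, 635 ≤ b → b < 637 → ∃ J, chkPBlk P 5 31 18 31671 b J = true := fun b h1 h2 =>
  if h : b < 636 then lo_635_636 b h1 h else lo_636_637 b (Nat.le_of_not_lt h) h2
theorem lo_633_637 : ∀ b, 633 ≤ b → b < 637 → ∃ J, chkPBlk P 5 31 18 31671 b J = true := fun b h1 h2 =>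
  if h : b < 635 then lo_633_635 b h1 h else lo_635_637 b (Nat.le_of_not_lt h) h2
theorem lo_637_638 : ∀ b, 637 ≤ b → b < 638 → ∃ J, chkPBlk P 5 31 18 31671 b J = true := fun b h1 h2 => by
  have hb : b = 637 := Nat.le_antisymm (Nat.le_of_lt_succ h2) h1
  subst hb; exact ⟨_, lblk_637⟩
theorem lo_638_639 : ∀ b, 638 ≤ b → b < 639 → ∃ J, chkPBlk P 5 31 18 31671 b J = true := fun b h1 h2 => by
  have hb : b = 638 := Nat.le_antisymm (Nat.le_of_lt_succ h2) h1
  subst hb; exact ⟨_, lblk_638⟩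
theorem lo_637_639 : ∀ b, 637 ≤ b → b < 639 → ∃ J, chkPBlk P 5 31 18 31671 b J = true := fun b h1 h2 =>
  if h : b < 638 then lo_637_638 b h1 h else lo_638_639 b (Nat.le_of_not_lt h) h2
theorem lo_639_640 : ∀ b, 639 ≤ b → b < 640 → ∃ J, chkPBlk P 5 31 18 31671 b J = true := fun b h1 h2 => by
  have hb : b = 639 := Nat.le_antisymm (Nat.le_of_lt_succ h2) h1
  subst hb; exact ⟨_, lblk_639⟩
theorem lo_640_641 : ∀ b, 640 ≤ b → b < 641 → ∃ J, chkPBlk P 5 31 18 31671 b J = true := fun b h1 h2 => by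
  have hb : b = 640 := Nat.le_antisymm (Nat.le_of_lt_succ h2) h1
  subst hb; exact ⟨_, lblk_640⟩
theorem lo_641_642 : ∀ b, 641 ≤ b → b < 642 → ∃ J, chkPBlk P 5 31 18 31671 b J = true := fun b h1 h2 => by
  have hb : b = 641 := Nat.le_antisymm (Nat.le_of_lt_succ h2) h1
  subst hb; exact ⟨_, lblk_641⟩
theorem lo_640_642 : ∀ b, 640 ≤ b → b < 642 → ∃ J, chkPBlk P 5 31 18 31671 b J = true := fun b h1 h2 =>
  if h : b < 641 then lo_640_641 b h1 h else lo_641_642 b (Nat.le_of_not_lt h) h2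
theorem lo_639_642 : ∀ b, 639 ≤ b → b < 642 → ∃ J, chkPBlk P 5 31 18 31671 b J = true := fun b h1 h2 =>
  if h : b < 640 then lo_639_640 b h1 h else lo_640_642 b (Nat.le_of_not_lt h) h2
theorem lo_637_642 : ∀ b, 637 ≤ b → b < 642 → ∃ J, chkPBlk P 5 31 18 31671 b J = true := fun b h1 h2 =>
  if h : b < 639 then lo_637_639 b h1 h else lo_639_642 b (Nat.le_of_not_lt h) h2
theorem lo_633_642 : ∀ b, 633 ≤ b → b < 642 → ∃ J, chkPBlk P 5 31 18 31671 b J = true := fun b h1 h2 =>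
  if h : b < 637 then lo_633_637 b h1 h else lo_637_642 b (Nat.le_of_not_lt h) h2
theorem lo_624_642 : ∀ b, 624 ≤ b → b < 642 → ∃ J, chkPBlk P 5 31 18 31671 b J = true := fun b h1 h2 =>
  if h : b < 633 then lo_624_633 b h1 h else lo_633_642 b (Nat.le_of_not_lt h) h2
theorem lo_642_643 : ∀ b, 642 ≤ b → b < 643 → ∃ J, chkPBlk P 5 31 18 31671 b J = true := fun b h1 h2 => by
  have hb : b = 642 := Nat.le_antisymm (Nat.le_of_lt_succ h2) h1
  subst hb; exact ⟨_, lblk_642⟩
theorem lo_643_644 : ∀ b, 643 ≤ b → b < 644 → ∃ J, chkPBlk P 5 31 18 31671 b J = true := fun b h1 h2 => by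
  have hb : b = 643 := Nat.le_antisymm (Nat.le_of_lt_succ h2) h1
  subst hb; exact ⟨_, lblk_643⟩
theorem lo_642_644 : ∀ b, 642 ≤ b → b < 644 → ∃ J, chkPBlk P 5 31 18 31671 b J = true := fun b h1 h2 =>
  if h : b < 643 then lo_642_643 b h1 h else lo_643_644 b (Nat.le_of_not_lt h) h2
theorem lo_644_645 : ∀ b, 644 ≤ b → b < 645 → ∃ J, chkPBlk P 5 31 18 31671 b J = true := fun b h1 h2 => by
  have hb : b = 644 := Nat.le_antisymm (Nat.le_of_lt_succ h2) h1
  subst hb; exact ⟨_, lblk_644⟩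
theorem lo_645_646 : ∀ b, 645 ≤ b → b < 646 → ∃ J, chkPBlk P 5 31 18 31671 b J = true := fun b h1 h2 => by
  have hb : b = 645 := Nat.le_antisymm (Nat.le_of_lt_succ h2) h1
  subst hb; exact ⟨_, lblk_645⟩
theorem lo_644_646 : ∀ b, 644 ≤ b → b < 646 → ∃ J, chkPBlk P 5 31 18 31671 b J = true := fun b h1 h2 =>
  if h : b < 645 then lo_644_645 b h1 h else lo_645_646 b (Nat.le_of_not_lt h) h2
theorem lo_642_646 : ∀ b, 642 ≤ b → b < 646 → ∃ J, chkPBlk P 5 31 18 31671 b J = true := fun b h1 h2 =>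
  if h : b < 644 then lo_642_644 b h1 h else lo_644_646 b (Nat.le_of_not_lt h) h2
theorem lo_646_647 : ∀ b, 646 ≤ b → b < 647 → ∃ J, chkPBlk P 5 31 18 31671 b J = true := fun b h1 h2 => by
  have hb : b = 646 := Nat.le_antisymm (Nat.le_of_lt_succ h2) h1
  subst hb; exact ⟨_, lblk_646⟩
theorem lo_647_648 : ∀ b, 647 ≤ b → b < 648 → ∃ J, chkPBlk P 5 31 18 31671 b J = true := fun b h1 h2 => by
  have hb : b = 647 := Nat.le_antisymm (Nat.le_of_lt_succ h2) h1
  subst hb; exact ⟨_, lblk_647⟩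
theorem lo_646_648 : ∀ b, 646 ≤ b → b < 648 → ∃ J, chkPBlk P 5 31 18 31671 b J = true := fun b h1 h2 =>
  if h : b < 647 then lo_646_647 b h1 h else lo_647_648 b (Nat.le_of_not_lt h) h2
theorem lo_648_649 : ∀ b, 648 ≤ b → b < 649 → ∃ J, chkPBlk P 5 31 18 31671 b J = true := fun b h1 h2 => by
  have hb : b = 648 := Nat.le_antisymm (Nat.le_of_lt_succ h2) h1
  subst hb; exact ⟨_, lblk_648⟩
theorem lo_649_650 : ∀ b, 649 ≤ b → b < 650 → ∃ J, chkPBlk P 5 31 18 31671 b J = true := fun b h1 h2 => by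
  have hb : b = 649 := Nat.le_antisymm (Nat.le_of_lt_succ h2) h1
  subst hb; exact ⟨_, lblk_649⟩
theorem lo_650_651 : ∀ b, 650 ≤ b → b < 651 → ∃ J, chkPBlk P 5 31 18 31671 b J = true := fun b h1 h2 => by
  have hb : b = 650 := Nat.le_antisymm (Nat.le_of_lt_succ h2) h1
  subst hb; exact ⟨_, lblk_650⟩
theorem lo_649_651 : ∀ b, 649 ≤ b → b < 651 → ∃ J, chkPBlk P 5 31 18 31671 b J = true := fun b h1 h2 =>
  if h : b < 650 then lo_649_650 b h1 h else lo_650_651 b (Nat.le_of_not_lt h) h2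
theorem lo_648_651 : ∀ b, 648 ≤ b → b < 651 → ∃ J, chkPBlk P 5 31 18 31671 b J = true := fun b h1 h2 =>
  if h : b < 649 then lo_648_649 b h1 h else lo_649_651 b (Nat.le_of_not_lt h) h2
theorem lo_646_651 : ∀ b, 646 ≤ b → b < 651 → ∃ J, chkPBlk P 5 31 18 31671 b J = true := fun b h1 h2 =>
  if h : b < 648 then lo_646_648 b h1 h else lo_648_651 b (Nat.le_of_not_lt h) h2
theorem lo_642_651 : ∀ b, 642 ≤ b → b < 651 → ∃ J, chkPBlk P 5 31 18 31671 b J = true := fun b h1 h2 =>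
  if h : b < 646 then lo_642_646 b h1 h else lo_646_651 b (Nat.le_of_not_lt h) h2
theorem lo_651_652 : ∀ b, 651 ≤ b → b < 652 → ∃ J, chkPBlk P 5 31 18 31671 b J = true := fun b h1 h2 => by
  have hb : b = 651 := Nat.le_antisymm (Nat.le_of_lt_succ h2) h1
  subst hb; exact ⟨_, lblk_651⟩
theorem lo_652_653 : ∀ b, 652 ≤ b → b < 653 → ∃ J, chkPBlk P 5 31 18 31671 b J = true := fun b h1 h2 => by
  have hb : b = 652 := Nat.le_antisymm (Nat.le_of_lt_succ h2) h1
  subst hb; exact ⟨_, lblk_652⟩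
theorem lo_651_653 : ∀ b, 651 ≤ b → b < 653 → ∃ J, chkPBlk P 5 31 18 31671 b J = true := fun b h1 h2 =>
  if h : b < 652 then lo_651_652 b h1 h else lo_652_653 b (Nat.le_of_not_lt h) h2
theorem lo_653_654 : ∀ b, 653 ≤ b → b < 654 → ∃ J, chkPBlk P 5 31 18 31671 b J = true := fun b h1 h2 => by
  have hb : b = 653 := Nat.le_antisymm (Nat.le_of_lt_succ h2) h1
  subst hb; exact ⟨_, lblk_653⟩
theorem lo_654_655 : ∀ b, 654 ≤ b → b < 655 → ∃ J, chkPBlk P 5 31 18 31671 b J = true := fun b h1 h2 => by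
  have hb : b = 654 := Nat.le_antisymm (Nat.le_of_lt_succ h2) h1
  subst hb; exact ⟨_, lblk_654⟩
theorem lo_655_656 : ∀ b, 655 ≤ b → b < 656 → ∃ J, chkPBlk P 5 31 18 31671 b J = true := fun b h1 h2 => by
  have hb : b = 655 := Nat.le_antisymm (Nat.le_of_lt_succ h2) h1
  subst hb; exact ⟨_, lblk_655⟩
theorem lo_654_656 : ∀ b, 654 ≤ b → b < 656 → ∃ J, chkPBlk P 5 31 18 31671 b J = true := fun b h1 h2 =>
  if h : b < 655 then lo_654_655 b h1 h else lo_655_656 b (Nat.le_of_not_lt h) h2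
theorem lo_653_656 : ∀ b, 653 ≤ b → b < 656 → ∃ J, chkPBlk P 5 31 18 31671 b J = true := fun b h1 h2 =>
  if h : b < 654 then lo_653_654 b h1 h else lo_654_656 b (Nat.le_of_not_lt h) h2
theorem lo_651_656 : ∀ b, 651 ≤ b → b < 656 → ∃ J, chkPBlk P 5 31 18 31671 b J = true := fun b h1 h2 =>
  if h : b < 653 then lo_651_653 b h1 h else lo_653_656 b (Nat.le_of_not_lt h) h2
theorem lo_656_657 : ∀ b, 656 ≤ b → b < 657 → ∃ J, chkPBlk P 5 31 18 31671 b J = true := fun b h1 h2 => by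
  have hb : b = 656 := Nat.le_antisymm (Nat.le_of_lt_succ h2) h1
  subst hb; exact ⟨_, lblk_656⟩
theorem lo_657_658 : ∀ b, 657 ≤ b → b < 658 → ∃ J, chkPBlk P 5 31 18 31671 b J = true := fun b h1 h2 => by
  have hb : b = 657 := Nat.le_antisymm (Nat.le_of_lt_succ h2) h1
  subst hb; exact ⟨_, lblk_657⟩
theorem lo_656_658 : ∀ b, 656 ≤ b → b < 658 → ∃ J, chkPBlk P 5 31 18 31671 b J = true := fun b h1 h2 =>
  if h : b < 657 then lo_656_657 b h1 h else lo_657_658 b (Nat.le_of_not_lt h) h2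
theorem lo_658_659 : ∀ b, 658 ≤ b → b < 659 → ∃ J, chkPBlk P 5 31 18 31671 b J = true := fun b h1 h2 => by
  have hb : b = 658 := Nat.le_antisymm (Nat.le_of_lt_succ h2) h1
  subst hb; exact ⟨_, lblk_658⟩
theorem lo_659_660 : ∀ b, 659 ≤ b → b < 660 → ∃ J, chkPBlk P 5 31 18 31671 b J = true := fun b h1 h2 => by
  have hb : b = 659 := Nat.le_antisymm (Nat.le_of_lt_succ h2) h1
  subst hb; exact ⟨_, lblk_659⟩
theorem lo_660_661 : ∀ b, 660 ≤ b → b < 661 → ∃ J, chkPBlk P 5 31 18 31671 b J = true := fun b h1 h2 => by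
  have hb : b = 660 := Nat.le_antisymm (Nat.le_of_lt_succ h2) h1
  subst hb; exact ⟨_, lblk_660⟩
theorem lo_659_661 : ∀ b, 659 ≤ b → b < 661 → ∃ J, chkPBlk P 5 31 18 31671 b J = true := fun b h1 h2 =>
  if h : b < 660 then lo_659_660 b h1 h else lo_660_661 b (Nat.le_of_not_lt h) h2
theorem lo_658_661 : ∀ b, 658 ≤ b → b < 661 → ∃ J, chkPBlk P 5 31 18 31671 b J = true := fun b h1 h2 =>
  if h : b < 659 then lo_658_659 b h1 h else lo_659_661 b (Nat.le_of_not_lt h) h2
theorem lo_656_661 : ∀ b, 656 ≤ b → b < 661 → ∃ J, chkPBlk P 5 31 18 31671 b J = true := fun b h1 h2 =>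
  if h : b < 658 then lo_656_658 b h1 h else lo_658_661 b (Nat.le_of_not_lt h) h2
theorem lo_651_661 : ∀ b, 651 ≤ b → b < 661 → ∃ J, chkPBlk P 5 31 18 31671 b J = true := fun b h1 h2 =>
  if h : b < 656 then lo_651_656 b h1 h else lo_656_661 b (Nat.le_of_not_lt h) h2
theorem lo_642_661 : ∀ b, 642 ≤ b → b < 661 → ∃ J, chkPBlk P 5 31 18 31671 b J = true := fun b h1 h2 =>
  if h : b < 651 then lo_642_651 b h1 h else lo_651_661 b (Nat.le_of_not_lt h) h2
theorem lo_624_661 : ∀ b, 624 ≤ b → b < 661 → ∃ J, chkPBlk P 5 31 18 31671 b J = true := fun b h1 h2 =>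
  if h : b < 642 then lo_624_642 b h1 h else lo_642_661 b (Nat.le_of_not_lt h) h2
theorem lo_588_661 : ∀ b, 588 ≤ b → b < 661 → ∃ J, chkPBlk P 5 31 18 31671 b J = true := fun b h1 h2 =>
  if h : b < 624 then lo_588_624 b h1 h else lo_624_661 b (Nat.le_of_not_lt h) h2
theorem lo_661_662 : ∀ b, 661 ≤ b → b < 662 → ∃ J, chkPBlk P 5 31 18 31671 b J = true := fun b h1 h2 => by
  have hb : b = 661 := Nat.le_antisymm (Nat.le_of_lt_succ h2) h1
  subst hb; exact ⟨_, lblk_661⟩
theorem lo_662_663 : ∀ b, 662 ≤ b → b < 663 → ∃ J, chkPBlk P 5 31 18 31671 b J = true := fun b h1 h2 => by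
  have hb : b = 662 := Nat.le_antisymm (Nat.le_of_lt_succ h2) h1
  subst hb; exact ⟨_, lblk_662⟩
theorem lo_661_663 : ∀ b, 661 ≤ b → b < 663 → ∃ J, chkPBlk P 5 31 18 31671 b J = true := fun b h1 h2 =>
  if h : b < 662 then lo_661_662 b h1 h else lo_662_663 b (Nat.le_of_not_lt h) h2
theorem lo_663_664 : ∀ b, 663 ≤ b → b < 664 → ∃ J, chkPBlk P 5 31 18 31671 b J = true := fun b h1 h2 => by
  have hb : b = 663 := Nat.le_antisymm (Nat.le_of_lt_succ h2) h1
  subst hb; exact ⟨_, lblk_663⟩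
theorem lo_664_665 : ∀ b, 664 ≤ b → b < 665 → ∃ J, chkPBlk P 5 31 18 31671 b J = true := fun b h1 h2 => by
  have hb : b = 664 := Nat.le_antisymm (Nat.le_of_lt_succ h2) h1
  subst hb; exact ⟨_, lblk_664⟩
theorem lo_663_665 : ∀ b, 663 ≤ b → b < 665 → ∃ J, chkPBlk P 5 31 18 31671 b J = true := fun b h1 h2 =>
  if h : b < 664 then lo_663_664 b h1 h else lo_664_665 b (Nat.le_of_not_lt h) h2
theorem lo_661_665 : ∀ b, 661 ≤ b → b < 665 → ∃ J, chkPBlk P 5 31 18 31671 b J = true := fun b h1 h2 =>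
  if h : b < 663 then lo_661_663 b h1 h else lo_663_665 b (Nat.le_of_not_lt h) h2
theorem lo_665_666 : ∀ b, 665 ≤ b → b < 666 → ∃ J, chkPBlk P 5 31 18 31671 b J = true := fun b h1 h2 => by
  have hb : b = 665 := Nat.le_antisymm (Nat.le_of_lt_succ h2) h1
  subst hb; exact ⟨_, lblk_665⟩
theorem lo_666_667 : ∀ b, 666 ≤ b → b < 667 → ∃ J, chkPBlk P 5 31 18 31671 b J = true := fun b h1 h2 => by
  have hb : b = 666 := Nat.le_antisymm (Nat.le_of_lt_succ h2) h1
  subst hb; exact ⟨_, lblk_666⟩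
theorem lo_665_667 : ∀ b, 665 ≤ b → b < 667 → ∃ J, chkPBlk P 5 31 18 31671 b J = true := fun b h1 h2 =>
  if h : b < 666 then lo_665_666 b h1 h else lo_666_667 b (Nat.le_of_not_lt h) h2
theorem lo_667_668 : ∀ b, 667 ≤ b → b < 668 → ∃ J, chkPBlk P 5 31 18 31671 b J = true := fun b h1 h2 => by
  have hb : b = 667 := Nat.le_antisymm (Nat.le_of_lt_succ h2) h1
  subst hb; exact ⟨_, lblk_667⟩
theorem lo_668_669 : ∀ b, 668 ≤ b → b < 669 → ∃ J, chkPBlk P 5 31 18 31671 b J = true := fun b h1 h2 => by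
  have hb : b = 668 := Nat.le_antisymm (Nat.le_of_lt_succ h2) h1
  subst hb; exact ⟨_, lblk_668⟩
theorem lo_669_670 : ∀ b, 669 ≤ b → b < 670 → ∃ J, chkPBlk P 5 31 18 31671 b J = true := fun b h1 h2 => by
  have hb : b = 669 := Nat.le_antisymm (Nat.le_of_lt_succ h2) h1
  subst hb; exact ⟨_, lblk_669⟩
theorem lo_668_670 : ∀ b, 668 ≤ b → b < 670 → ∃ J, chkPBlk P 5 31 18 31671 b J = true := fun b h1 h2 =>
  if h : b < 669 then lo_668_669 b h1 h else lo_669_670 b (Nat.le_of_not_lt h) h2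
theorem lo_667_670 : ∀ b, 667 ≤ b → b < 670 → ∃ J, chkPBlk P 5 31 18 31671 b J = true := fun b h1 h2 =>
  if h : b < 668 then lo_667_668 b h1 h else lo_668_670 b (Nat.le_of_not_lt h) h2
theorem lo_665_670 : ∀ b, 665 ≤ b → b < 670 → ∃ J, chkPBlk P 5 31 18 31671 b J = true := fun b h1 h2 =>
  if h : b < 667 then lo_665_667 b h1 h else lo_667_670 b (Nat.le_of_not_lt h) h2
theorem lo_661_670 : ∀ b, 661 ≤ b → b < 670 → ∃ J, chkPBlk P 5 31 18 31671 b J = true := fun b h1 h2 =>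
  if h : b < 665 then lo_661_665 b h1 h else lo_665_670 b (Nat.le_of_not_lt h) h2
theorem lo_670_671 : ∀ b, 670 ≤ b → b < 671 → ∃ J, chkPBlk P 5 31 18 31671 b J = true := fun b h1 h2 => by
  have hb : b = 670 := Nat.le_antisymm (Nat.le_of_lt_succ h2) h1
  subst hb; exact ⟨_, lblk_670⟩
theorem lo_671_672 : ∀ b, 671 ≤ b → b < 672 → ∃ J, chkPBlk P 5 31 18 31671 b J = true := fun b h1 h2 => by
  have hb : b = 671 := Nat.le_antisymm (Nat.le_of_lt_succ h2) h1
  subst hb; exact ⟨_, lblk_671⟩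
theorem lo_670_672 : ∀ b, 670 ≤ b → b < 672 → ∃ J, chkPBlk P 5 31 18 31671 b J = true := fun b h1 h2 =>
  if h : b < 671 then lo_670_671 b h1 h else lo_671_672 b (Nat.le_of_not_lt h) h2
theorem lo_672_673 : ∀ b, 672 ≤ b → b < 673 → ∃ J, chkPBlk P 5 31 18 31671 b J = true := fun b h1 h2 => by
  have hb : b = 672 := Nat.le_antisymm (Nat.le_of_lt_succ h2) h1
  subst hb; exact ⟨_, lblk_672⟩
theorem lo_673_674 : ∀ b, 673 ≤ b → b < 674 → ∃ J, chkPBlk P 5 31 18 31671 b J = true := fun b h1 h2 => by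
  have hb : b = 673 := Nat.le_antisymm (Nat.le_of_lt_succ h2) h1
  subst hb; exact ⟨_, lblk_673⟩
theorem lo_672_674 : ∀ b, 672 ≤ b → b < 674 → ∃ J, chkPBlk P 5 31 18 31671 b J = true := fun b h1 h2 =>
  if h : b < 673 then lo_672_673 b h1 h else lo_673_674 b (Nat.le_of_not_lt h) h2
theorem lo_670_674 : ∀ b, 670 ≤ b → b < 674 → ∃ J, chkPBlk P 5 31 18 31671 b J = true := fun b h1 h2 =>
  if h : b < 672 then lo_670_672 b h1 h else lo_672_674 b (Nat.le_of_not_lt h) h2
theorem lo_674_675 : ∀ b, 674 ≤ b → b < 675 → ∃ J, chkPBlk P 5 31 18 31671 b J = true := fun b h1 h2 => by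
  have hb : b = 674 := Nat.le_antisymm (Nat.le_of_lt_succ h2) h1
  subst hb; exact ⟨_, lblk_674⟩
theorem lo_675_676 : ∀ b, 675 ≤ b → b < 676 → ∃ J, chkPBlk P 5 31 18 31671 b J = true := fun b h1 h2 => by
  have hb : b = 675 := Nat.le_antisymm (Nat.le_of_lt_succ h2) h1
  subst hb; exact ⟨_, lblk_675⟩
theorem lo_674_676 : ∀ b, 674 ≤ b → b < 676 → ∃ J, chkPBlk P 5 31 18 31671 b J = true := fun b h1 h2 =>
  if h : b < 675 then lo_674_675 b h1 h else lo_675_676 b (Nat.le_of_not_lt h) h2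
theorem lo_676_677 : ∀ b, 676 ≤ b → b < 677 → ∃ J, chkPBlk P 5 31 18 31671 b J = true := fun b h1 h2 => by
  have hb : b = 676 := Nat.le_antisymm (Nat.le_of_lt_succ h2) h1
  subst hb; exact ⟨_, lblk_676⟩
theorem lo_677_678 : ∀ b, 677 ≤ b → b < 678 → ∃ J, chkPBlk P 5 31 18 31671 b J = true := fun b h1 h2 => by
  have hb : b = 677 := Nat.le_antisymm (Nat.le_of_lt_succ h2) h1
  subst hb; exact ⟨_, lblk_677⟩
theorem lo_678_679 : ∀ b, 678 ≤ b → b < 679 → ∃ J, chkPBlk P 5 31 18 31671 b J = true := fun b h1 h2 => by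
  have hb : b = 678 := Nat.le_antisymm (Nat.le_of_lt_succ h2) h1
  subst hb; exact ⟨_, lblk_678⟩
theorem lo_677_679 : ∀ b, 677 ≤ b → b < 679 → ∃ J, chkPBlk P 5 31 18 31671 b J = true := fun b h1 h2 =>
  if h : b < 678 then lo_677_678 b h1 h else lo_678_679 b (Nat.le_of_not_lt h) h2
theorem lo_676_679 : ∀ b, 676 ≤ b → b < 679 → ∃ J, chkPBlk P 5 31 18 31671 b J = true := fun b h1 h2 =>
  if h : b < 677 then lo_676_677 b h1 h else lo_677_679 b (Nat.le_of_not_lt h) h2
theorem lo_674_679 : ∀ b, 674 ≤ b → b < 679 → ∃ J, chkPBlk P 5 31 18 31671 b J = true := fun b h1 h2 =>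
  if h : b < 676 then lo_674_676 b h1 h else lo_676_679 b (Nat.le_of_not_lt h) h2
theorem lo_670_679 : ∀ b, 670 ≤ b → b < 679 → ∃ J, chkPBlk P 5 31 18 31671 b J = true := fun b h1 h2 =>
  if h : b < 674 then lo_670_674 b h1 h else lo_674_679 b (Nat.le_of_not_lt h) h2
theorem lo_661_679 : ∀ b, 661 ≤ b → b < 679 → ∃ J, chkPBlk P 5 31 18 31671 b J = true := fun b h1 h2 =>
  if h : b < 670 then lo_661_670 b h1 h else lo_670_679 b (Nat.le_of_not_lt h) h2
theorem lo_679_680 : ∀ b, 679 ≤ b → b < 680 → ∃ J, chkPBlk P 5 31 18 31671 b J = true := fun b h1 h2 => by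
  have hb : b = 679 := Nat.le_antisymm (Nat.le_of_lt_succ h2) h1
  subst hb; exact ⟨_, lblk_679⟩
theorem lo_680_681 : ∀ b, 680 ≤ b → b < 681 → ∃ J, chkPBlk P 5 31 18 31671 b J = true := fun b h1 h2 => by
  have hb : b = 680 := Nat.le_antisymm (Nat.le_of_lt_succ h2) h1
  subst hb; exact ⟨_, lblk_680⟩
theorem lo_679_681 : ∀ b, 679 ≤ b → b < 681 → ∃ J, chkPBlk P 5 31 18 31671 b J = true := fun b h1 h2 =>
  if h : b < 680 then lo_679_680 b h1 h else lo_680_681 b (Nat.le_of_not_lt h) h2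
theorem lo_681_682 : ∀ b, 681 ≤ b → b < 682 → ∃ J, chkPBlk P 5 31 18 31671 b J = true := fun b h1 h2 => by
  have hb : b = 681 := Nat.le_antisymm (Nat.le_of_lt_succ h2) h1
  subst hb; exact ⟨_, lblk_681⟩
theorem lo_682_683 : ∀ b, 682 ≤ b → b < 683 → ∃ J, chkPBlk P 5 31 18 31671 b J = true := fun b h1 h2 => by
  have hb : b = 682 := Nat.le_antisymm (Nat.le_of_lt_succ h2) h1
  subst hb; exact ⟨_, lblk_682⟩
theorem lo_681_683 : ∀ b, 681 ≤ b → b < 683 → ∃ J, chkPBlk P 5 31 18 31671 b J = true := fun b h1 h2 =>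
  if h : b < 682 then lo_681_682 b h1 h else lo_682_683 b (Nat.le_of_not_lt h) h2
theorem lo_679_683 : ∀ b, 679 ≤ b → b < 683 → ∃ J, chkPBlk P 5 31 18 31671 b J = true := fun b h1 h2 =>
  if h : b < 681 then lo_679_681 b h1 h else lo_681_683 b (Nat.le_of_not_lt h) h2
theorem lo_683_684 : ∀ b, 683 ≤ b → b < 684 → ∃ J, chkPBlk P 5 31 18 31671 b J = true := fun b h1 h2 => by
  have hb : b = 683 := Nat.le_antisymm (Nat.le_of_lt_succ h2) h1
  subst hb; exact ⟨_, lblk_683⟩
theorem lo_684_685 : ∀ b, 684 ≤ b → b < 685 → ∃ J, chkPBlk P 5 31 18 31671 b J = true := fun b h1 h2 => by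
  have hb : b = 684 := Nat.le_antisymm (Nat.le_of_lt_succ h2) h1
  subst hb; exact ⟨_, lblk_684⟩
theorem lo_683_685 : ∀ b, 683 ≤ b → b < 685 → ∃ J, chkPBlk P 5 31 18 31671 b J = true := fun b h1 h2 =>
  if h : b < 684 then lo_683_684 b h1 h else lo_684_685 b (Nat.le_of_not_lt h) h2
theorem lo_685_686 : ∀ b, 685 ≤ b → b < 686 → ∃ J, chkPBlk P 5 31 18 31671 b J = true := fun b h1 h2 => by
  have hb : b = 685 := Nat.le_antisymm (Nat.le_of_lt_succ h2) h1
  subst hb; exact ⟨_, lblk_685⟩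
theorem lo_686_687 : ∀ b, 686 ≤ b → b < 687 → ∃ J, chkPBlk P 5 31 18 31671 b J = true := fun b h1 h2 => by
  have hb : b = 686 := Nat.le_antisymm (Nat.le_of_lt_succ h2) h1
  subst hb; exact ⟨_, lblk_686⟩
theorem lo_687_688 : ∀ b, 687 ≤ b → b < 688 → ∃ J, chkPBlk P 5 31 18 31671 b J = true := fun b h1 h2 => by
  have hb : b = 687 := Nat.le_antisymm (Nat.le_of_lt_succ h2) h1
  subst hb; exact ⟨_, lblk_687⟩
theorem lo_686_688 : ∀ b, 686 ≤ b → b < 688 → ∃ J, chkPBlk P 5 31 18 31671 b J = true := fun b h1 h2 =>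
  if h : b < 687 then lo_686_687 b h1 h else lo_687_688 b (Nat.le_of_not_lt h) h2
theorem lo_685_688 : ∀ b, 685 ≤ b → b < 688 → ∃ J, chkPBlk P 5 31 18 31671 b J = true := fun b h1 h2 =>
  if h : b < 686 then lo_685_686 b h1 h else lo_686_688 b (Nat.le_of_not_lt h) h2
theorem lo_683_688 : ∀ b, 683 ≤ b → b < 688 → ∃ J, chkPBlk P 5 31 18 31671 b J = true := fun b h1 h2 =>
  if h : b < 685 then lo_683_685 b h1 h else lo_685_688 b (Nat.le_of_not_lt h) h2
theorem lo_679_688 : ∀ b, 679 ≤ b → b < 688 → ∃ J, chkPBlk P 5 31 18 31671 b J = true := fun b h1 h2 =>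
  if h : b < 683 then lo_679_683 b h1 h else lo_683_688 b (Nat.le_of_not_lt h) h2
theorem lo_688_689 : ∀ b, 688 ≤ b → b < 689 → ∃ J, chkPBlk P 5 31 18 31671 b J = true := fun b h1 h2 => by
  have hb : b = 688 := Nat.le_antisymm (Nat.le_of_lt_succ h2) h1
  subst hb; exact ⟨_, lblk_688⟩
theorem lo_689_690 : ∀ b, 689 ≤ b → b < 690 → ∃ J, chkPBlk P 5 31 18 31671 b J = true := fun b h1 h2 => by
  have hb : b = 689 := Nat.le_antisymm (Nat.le_of_lt_succ h2) h1
  subst hb; exact ⟨_, lblk_689⟩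
theorem lo_688_690 : ∀ b, 688 ≤ b → b < 690 → ∃ J, chkPBlk P 5 31 18 31671 b J = true := fun b h1 h2 =>
  if h : b < 689 then lo_688_689 b h1 h else lo_689_690 b (Nat.le_of_not_lt h) h2
theorem lo_690_691 : ∀ b, 690 ≤ b → b < 691 → ∃ J, chkPBlk P 5 31 18 31671 b J = true := fun b h1 h2 => by
  have hb : b = 690 := Nat.le_antisymm (Nat.le_of_lt_succ h2) h1
  subst hb; exact ⟨_, lblk_690⟩
theorem lo_691_692 : ∀ b, 691 ≤ b → b < 692 → ∃ J, chkPBlk P 5 31 18 31671 b J = true := fun b h1 h2 => by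
  have hb : b = 691 := Nat.le_antisymm (Nat.le_of_lt_succ h2) h1
  subst hb; exact ⟨_, lblk_691⟩
theorem lo_692_693 : ∀ b, 692 ≤ b → b < 693 → ∃ J, chkPBlk P 5 31 18 31671 b J = true := fun b h1 h2 => by
  have hb : b = 692 := Nat.le_antisymm (Nat.le_of_lt_succ h2) h1
  subst hb; exact ⟨_, lblk_692⟩
theorem lo_691_693 : ∀ b, 691 ≤ b → b < 693 → ∃ J, chkPBlk P 5 31 18 31671 b J = true := fun b h1 h2 =>
  if h : b < 692 then lo_691_692 b h1 h else lo_692_693 b (Nat.le_of_not_lt h) h2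
theorem lo_690_693 : ∀ b, 690 ≤ b → b < 693 → ∃ J, chkPBlk P 5 31 18 31671 b J = true := fun b h1 h2 =>
  if h : b < 691 then lo_690_691 b h1 h else lo_691_693 b (Nat.le_of_not_lt h) h2
theorem lo_688_693 : ∀ b, 688 ≤ b → b < 693 → ∃ J, chkPBlk P 5 31 18 31671 b J = true := fun b h1 h2 =>
  if h : b < 690 then lo_688_690 b h1 h else lo_690_693 b (Nat.le_of_not_lt h) h2
theorem lo_693_694 : ∀ b, 693 ≤ b → b < 694 → ∃ J, chkPBlk P 5 31 18 31671 b J = true := fun b h1 h2 => by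
  have hb : b = 693 := Nat.le_antisymm (Nat.le_of_lt_succ h2) h1
  subst hb; exact ⟨_, lblk_693⟩
theorem lo_694_695 : ∀ b, 694 ≤ b → b < 695 → ∃ J, chkPBlk P 5 31 18 31671 b J = true := fun b h1 h2 => by
  have hb : b = 694 := Nat.le_antisymm (Nat.le_of_lt_succ h2) h1
  subst hb; exact ⟨_, lblk_694⟩
theorem lo_693_695 : ∀ b, 693 ≤ b → b < 695 → ∃ J, chkPBlk P 5 31 18 31671 b J = true := fun b h1 h2 =>
  if h : b < 694 then lo_693_694 b h1 h else lo_694_695 b (Nat.le_of_not_lt h) h2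
theorem lo_695_696 : ∀ b, 695 ≤ b → b < 696 → ∃ J, chkPBlk P 5 31 18 31671 b J = true := fun b h1 h2 => by
  have hb : b = 695 := Nat.le_antisymm (Nat.le_of_lt_succ h2) h1
  subst hb; exact ⟨_, lblk_695⟩
theorem lo_696_697 : ∀ b, 696 ≤ b → b < 697 → ∃ J, chkPBlk P 5 31 18 31671 b J = true := fun b h1 h2 => by
  have hb : b = 696 := Nat.le_antisymm (Nat.le_of_lt_succ h2) h1
  subst hb; exact ⟨_, lblk_696⟩
theorem lo_697_698 : ∀ b, 697 ≤ b → b < 698 → ∃ J, chkPBlk P 5 31 18 31671 b J = true := fun b h1 h2 => by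
  have hb : b = 697 := Nat.le_antisymm (Nat.le_of_lt_succ h2) h1
  subst hb; exact ⟨_, lblk_697⟩
theorem lo_696_698 : ∀ b, 696 ≤ b → b < 698 → ∃ J, chkPBlk P 5 31 18 31671 b J = true := fun b h1 h2 =>
  if h : b < 697 then lo_696_697 b h1 h else lo_697_698 b (Nat.le_of_not_lt h) h2
theorem lo_695_698 : ∀ b, 695 ≤ b → b < 698 → ∃ J, chkPBlk P 5 31 18 31671 b J = true := fun b h1 h2 =>
  if h : b < 696 then lo_695_696 b h1 h else lo_696_698 b (Nat.le_of_not_lt h) h2
theorem lo_693_698 : ∀ b, 693 ≤ b → b < 698 → ∃ J, chkPBlk P 5 31 18 31671 b J = true := fun b h1 h2 =>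
  if h : b < 695 then lo_693_695 b h1 h else lo_695_698 b (Nat.le_of_not_lt h) h2
theorem lo_688_698 : ∀ b, 688 ≤ b → b < 698 → ∃ J, chkPBlk P 5 31 18 31671 b J = true := fun b h1 h2 =>
  if h : b < 693 then lo_688_693 b h1 h else lo_693_698 b (Nat.le_of_not_lt h) h2
theorem lo_679_698 : ∀ b, 679 ≤ b → b < 698 → ∃ J, chkPBlk P 5 31 18 31671 b J = true := fun b h1 h2 =>
  if h : b < 688 then lo_679_688 b h1 h else lo_688_698 b (Nat.le_of_not_lt h) h2
theorem lo_661_698 : ∀ b, 661 ≤ b → b < 698 → ∃ J, chkPBlk P 5 31 18 31671 b J = true := fun b h1 h2 =>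
  if h : b < 679 then lo_661_679 b h1 h else lo_679_698 b (Nat.le_of_not_lt h) h2
theorem lo_698_699 : ∀ b, 698 ≤ b → b < 699 → ∃ J, chkPBlk P 5 31 18 31671 b J = true := fun b h1 h2 => by
  have hb : b = 698 := Nat.le_antisymm (Nat.le_of_lt_succ h2) h1
  subst hb; exact ⟨_, lblk_698⟩
theorem lo_699_700 : ∀ b, 699 ≤ b → b < 700 → ∃ J, chkPBlk P 5 31 18 31671 b J = true := fun b h1 h2 => by
  have hb : b = 699 := Nat.le_antisymm (Nat.le_of_lt_succ h2) h1
  subst hb; exact ⟨_, lblk_699⟩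
theorem lo_698_700 : ∀ b, 698 ≤ b → b < 700 → ∃ J, chkPBlk P 5 31 18 31671 b J = true := fun b h1 h2 =>
  if h : b < 699 then lo_698_699 b h1 h else lo_699_700 b (Nat.le_of_not_lt h) h2
theorem lo_700_701 : ∀ b, 700 ≤ b → b < 701 → ∃ J, chkPBlk P 5 31 18 31671 b J = true := fun b h1 h2 => by
  have hb : b = 700 := Nat.le_antisymm (Nat.le_of_lt_succ h2) h1
  subst hb; exact ⟨_, lblk_700⟩
theorem lo_701_702 : ∀ b, 701 ≤ b → b < 702 → ∃ J, chkPBlk P 5 31 18 31671 b J = true := fun b h1 h2 => by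
  have hb : b = 701 := Nat.le_antisymm (Nat.le_of_lt_succ h2) h1
  subst hb; exact ⟨_, lblk_701⟩
theorem lo_700_702 : ∀ b, 700 ≤ b → b < 702 → ∃ J, chkPBlk P 5 31 18 31671 b J = true := fun b h1 h2 =>
  if h : b < 701 then lo_700_701 b h1 h else lo_701_702 b (Nat.le_of_not_lt h) h2
theorem lo_698_702 : ∀ b, 698 ≤ b → b < 702 → ∃ J, chkPBlk P 5 31 18 31671 b J = true := fun b h1 h2 =>
  if h : b < 700 then lo_698_700 b h1 h else lo_700_702 b (Nat.le_of_not_lt h) h2
theorem lo_702_703 : ∀ b, 702 ≤ b → b < 703 → ∃ J, chkPBlk P 5 31 18 31671 b J = true := fun b h1 h2 => by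
  have hb : b = 702 := Nat.le_antisymm (Nat.le_of_lt_succ h2) h1
  subst hb; exact ⟨_, lblk_702⟩
theorem lo_703_704 : ∀ b, 703 ≤ b → b < 704 → ∃ J, chkPBlk P 5 31 18 31671 b J = true := fun b h1 h2 => by
  have hb : b = 703 := Nat.le_antisymm (Nat.le_of_lt_succ h2) h1
  subst hb; exact ⟨_, lblk_703⟩
theorem lo_702_704 : ∀ b, 702 ≤ b → b < 704 → ∃ J, chkPBlk P 5 31 18 31671 b J = true := fun b h1 h2 =>
  if h : b < 703 then lo_702_703 b h1 h else lo_703_704 b (Nat.le_of_not_lt h) h2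
theorem lo_704_705 : ∀ b, 704 ≤ b → b < 705 → ∃ J, chkPBlk P 5 31 18 31671 b J = true := fun b h1 h2 => by
  have hb : b = 704 := Nat.le_antisymm (Nat.le_of_lt_succ h2) h1
  subst hb; exact ⟨_, lblk_704⟩
theorem lo_705_706 : ∀ b, 705 ≤ b → b < 706 → ∃ J, chkPBlk P 5 31 18 31671 b J = true := fun b h1 h2 => by
  have hb : b = 705 := Nat.le_antisymm (Nat.le_of_lt_succ h2) h1
  subst hb; exact ⟨_, lblk_705⟩
theorem lo_706_707 : ∀ b, 706 ≤ b → b < 707 → ∃ J, chkPBlk P 5 31 18 31671 b J = true := fun b h1 h2 => by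
  have hb : b = 706 := Nat.le_antisymm (Nat.le_of_lt_succ h2) h1
  subst hb; exact ⟨_, lblk_706⟩
theorem lo_705_707 : ∀ b, 705 ≤ b → b < 707 → ∃ J, chkPBlk P 5 31 18 31671 b J = true := fun b h1 h2 =>
  if h : b < 706 then lo_705_706 b h1 h else lo_706_707 b (Nat.le_of_not_lt h) h2
theorem lo_704_707 : ∀ b, 704 ≤ b → b < 707 → ∃ J, chkPBlk P 5 31 18 31671 b J = true := fun b h1 h2 =>
  if h : b < 705 then lo_704_705 b h1 h else lo_705_707 b (Nat.le_of_not_lt h) h2
theorem lo_702_707 : ∀ b, 702 ≤ b → b < 707 → ∃ J, chkPBlk P 5 31 18 31671 b J = true := fun b h1 h2 =>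
  if h : b < 704 then lo_702_704 b h1 h else lo_704_707 b (Nat.le_of_not_lt h) h2
theorem lo_698_707 : ∀ b, 698 ≤ b → b < 707 → ∃ J, chkPBlk P 5 31 18 31671 b J = true := fun b h1 h2 =>
  if h : b < 702 then lo_698_702 b h1 h else lo_702_707 b (Nat.le_of_not_lt h) h2
theorem lo_707_708 : ∀ b, 707 ≤ b → b < 708 → ∃ J, chkPBlk P 5 31 18 31671 b J = true := fun b h1 h2 => by
  have hb : b = 707 := Nat.le_antisymm (Nat.le_of_lt_succ h2) h1
  subst hb; exact ⟨_, lblk_707⟩
theorem lo_708_709 : ∀ b, 708 ≤ b → b < 709 → ∃ J, chkPBlk P 5 31 18 31671 b J = true := fun b h1 h2 => by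
  have hb : b = 708 := Nat.le_antisymm (Nat.le_of_lt_succ h2) h1
  subst hb; exact ⟨_, lblk_708⟩
theorem lo_707_709 : ∀ b, 707 ≤ b → b < 709 → ∃ J, chkPBlk P 5 31 18 31671 b J = true := fun b h1 h2 =>
  if h : b < 708 then lo_707_708 b h1 h else lo_708_709 b (Nat.le_of_not_lt h) h2
theorem lo_709_710 : ∀ b, 709 ≤ b → b < 710 → ∃ J, chkPBlk P 5 31 18 31671 b J = true := fun b h1 h2 => by
  have hb : b = 709 := Nat.le_antisymm (Nat.le_of_lt_succ h2) h1
  subst hb; exact ⟨_, lblk_709⟩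
theorem lo_710_711 : ∀ b, 710 ≤ b → b < 711 → ∃ J, chkPBlk P 5 31 18 31671 b J = true := fun b h1 h2 => by
  have hb : b = 710 := Nat.le_antisymm (Nat.le_of_lt_succ h2) h1
  subst hb; exact ⟨_, lblk_710⟩
theorem lo_709_711 : ∀ b, 709 ≤ b → b < 711 → ∃ J, chkPBlk P 5 31 18 31671 b J = true := fun b h1 h2 =>
  if h : b < 710 then lo_709_710 b h1 h else lo_710_711 b (Nat.le_of_not_lt h) h2
theorem lo_707_711 : ∀ b, 707 ≤ b → b < 711 → ∃ J, chkPBlk P 5 31 18 31671 b J = true := fun b h1 h2 =>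
  if h : b < 709 then lo_707_709 b h1 h else lo_709_711 b (Nat.le_of_not_lt h) h2
theorem lo_711_712 : ∀ b, 711 ≤ b → b < 712 → ∃ J, chkPBlk P 5 31 18 31671 b J = true := fun b h1 h2 => by
  have hb : b = 711 := Nat.le_antisymm (Nat.le_of_lt_succ h2) h1
  subst hb; exact ⟨_, lblk_711⟩
theorem lo_712_713 : ∀ b, 712 ≤ b → b < 713 → ∃ J, chkPBlk P 5 31 18 31671 b J = true := fun b h1 h2 => by
  have hb : b = 712 := Nat.le_antisymm (Nat.le_of_lt_succ h2) h1
  subst hb; exact ⟨_, lblk_712⟩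
theorem lo_711_713 : ∀ b, 711 ≤ b → b < 713 → ∃ J, chkPBlk P 5 31 18 31671 b J = true := fun b h1 h2 =>
  if h : b < 712 then lo_711_712 b h1 h else lo_712_713 b (Nat.le_of_not_lt h) h2
theorem lo_713_714 : ∀ b, 713 ≤ b → b < 714 → ∃ J, chkPBlk P 5 31 18 31671 b J = true := fun b h1 h2 => by
  have hb : b = 713 := Nat.le_antisymm (Nat.le_of_lt_succ h2) h1
  subst hb; exact ⟨_, lblk_713⟩
theorem lo_714_715 : ∀ b, 714 ≤ b → b < 715 → ∃ J, chkPBlk P 5 31 18 31671 b J = true := fun b h1 h2 => by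
  have hb : b = 714 := Nat.le_antisymm (Nat.le_of_lt_succ h2) h1
  subst hb; exact ⟨_, lblk_714⟩
theorem lo_715_716 : ∀ b, 715 ≤ b → b < 716 → ∃ J, chkPBlk P 5 31 18 31671 b J = true := fun b h1 h2 => by
  have hb : b = 715 := Nat.le_antisymm (Nat.le_of_lt_succ h2) h1
  subst hb; exact ⟨_, lblk_715⟩
theorem lo_714_716 : ∀ b, 714 ≤ b → b < 716 → ∃ J, chkPBlk P 5 31 18 31671 b J = true := fun b h1 h2 =>
  if h : b < 715 then lo_714_715 b h1 h else lo_715_716 b (Nat.le_of_not_lt h) h2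
theorem lo_713_716 : ∀ b, 713 ≤ b → b < 716 → ∃ J, chkPBlk P 5 31 18 31671 b J = true := fun b h1 h2 =>
  if h : b < 714 then lo_713_714 b h1 h else lo_714_716 b (Nat.le_of_not_lt h) h2
theorem lo_711_716 : ∀ b, 711 ≤ b → b < 716 → ∃ J, chkPBlk P 5 31 18 31671 b J = true := fun b h1 h2 =>
  if h : b < 713 then lo_711_713 b h1 h else lo_713_716 b (Nat.le_of_not_lt h) h2
theorem lo_707_716 : ∀ b, 707 ≤ b → b < 716 → ∃ J, chkPBlk P 5 31 18 31671 b J = true := fun b h1 h2 =>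
  if h : b < 711 then lo_707_711 b h1 h else lo_711_716 b (Nat.le_of_not_lt h) h2
theorem lo_698_716 : ∀ b, 698 ≤ b → b < 716 → ∃ J, chkPBlk P 5 31 18 31671 b J = true := fun b h1 h2 =>
  if h : b < 707 then lo_698_707 b h1 h else lo_707_716 b (Nat.le_of_not_lt h) h2
theorem lo_716_717 : ∀ b, 716 ≤ b → b < 717 → ∃ J, chkPBlk P 5 31 18 31671 b J = true := fun b h1 h2 => by
  have hb : b = 716 := Nat.le_antisymm (Nat.le_of_lt_succ h2) h1
  subst hb; exact ⟨_, lblk_716⟩
theorem lo_717_718 : ∀ b, 717 ≤ b → b < 718 → ∃ J, chkPBlk P 5 31 18 31671 b J = true := fun b h1 h2 => by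
  have hb : b = 717 := Nat.le_antisymm (Nat.le_of_lt_succ h2) h1
  subst hb; exact ⟨_, lblk_717⟩
theorem lo_716_718 : ∀ b, 716 ≤ b → b < 718 → ∃ J, chkPBlk P 5 31 18 31671 b J = true := fun b h1 h2 =>
  if h : b < 717 then lo_716_717 b h1 h else lo_717_718 b (Nat.le_of_not_lt h) h2
theorem lo_718_719 : ∀ b, 718 ≤ b → b < 719 → ∃ J, chkPBlk P 5 31 18 31671 b J = true := fun b h1 h2 => by
  have hb : b = 718 := Nat.le_antisymm (Nat.le_of_lt_succ h2) h1
  subst hb; exact ⟨_, lblk_718⟩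
theorem lo_719_720 : ∀ b, 719 ≤ b → b < 720 → ∃ J, chkPBlk P 5 31 18 31671 b J = true := fun b h1 h2 => by
  have hb : b = 719 := Nat.le_antisymm (Nat.le_of_lt_succ h2) h1
  subst hb; exact ⟨_, lblk_719⟩
theorem lo_718_720 : ∀ b, 718 ≤ b → b < 720 → ∃ J, chkPBlk P 5 31 18 31671 b J = true := fun b h1 h2 =>
  if h : b < 719 then lo_718_719 b h1 h else lo_719_720 b (Nat.le_of_not_lt h) h2
theorem lo_716_720 : ∀ b, 716 ≤ b → b < 720 → ∃ J, chkPBlk P 5 31 18 31671 b J = true := fun b h1 h2 =>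
  if h : b < 718 then lo_716_718 b h1 h else lo_718_720 b (Nat.le_of_not_lt h) h2
theorem lo_720_721 : ∀ b, 720 ≤ b → b < 721 → ∃ J, chkPBlk P 5 31 18 31671 b J = true := fun b h1 h2 => by
  have hb : b = 720 := Nat.le_antisymm (Nat.le_of_lt_succ h2) h1
  subst hb; exact ⟨_, lblk_720⟩
theorem lo_721_722 : ∀ b, 721 ≤ b → b < 722 → ∃ J, chkPBlk P 5 31 18 31671 b J = true := fun b h1 h2 => by
  have hb : b = 721 := Nat.le_antisymm (Nat.le_of_lt_succ h2) h1
  subst hb; exact ⟨_, lblk_721⟩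
theorem lo_720_722 : ∀ b, 720 ≤ b → b < 722 → ∃ J, chkPBlk P 5 31 18 31671 b J = true := fun b h1 h2 =>
  if h : b < 721 then lo_720_721 b h1 h else lo_721_722 b (Nat.le_of_not_lt h) h2
theorem lo_722_723 : ∀ b, 722 ≤ b → b < 723 → ∃ J, chkPBlk P 5 31 18 31671 b J = true := fun b h1 h2 => by
  have hb : b = 722 := Nat.le_antisymm (Nat.le_of_lt_succ h2) h1
  subst hb; exact ⟨_, lblk_722⟩
theorem lo_723_724 : ∀ b, 723 ≤ b → b < 724 → ∃ J, chkPBlk P 5 31 18 31671 b J = true := fun b h1 h2 => by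
  have hb : b = 723 := Nat.le_antisymm (Nat.le_of_lt_succ h2) h1
  subst hb; exact ⟨_, lblk_723⟩
theorem lo_724_725 : ∀ b, 724 ≤ b → b < 725 → ∃ J, chkPBlk P 5 31 18 31671 b J = true := fun b h1 h2 => by
  have hb : b = 724 := Nat.le_antisymm (Nat.le_of_lt_succ h2) h1
  subst hb; exact ⟨_, lblk_724⟩
theorem lo_723_725 : ∀ b, 723 ≤ b → b < 725 → ∃ J, chkPBlk P 5 31 18 31671 b J = true := fun b h1 h2 =>
  if h : b < 724 then lo_723_724 b h1 h else lo_724_725 b (Nat.le_of_not_lt h) h2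
theorem lo_722_725 : ∀ b, 722 ≤ b → b < 725 → ∃ J, chkPBlk P 5 31 18 31671 b J = true := fun b h1 h2 =>
  if h : b < 723 then lo_722_723 b h1 h else lo_723_725 b (Nat.le_of_not_lt h) h2
theorem lo_720_725 : ∀ b, 720 ≤ b → b < 725 → ∃ J, chkPBlk P 5 31 18 31671 b J = true := fun b h1 h2 =>
  if h : b < 722 then lo_720_722 b h1 h else lo_722_725 b (Nat.le_of_not_lt h) h2
theorem lo_716_725 : ∀ b, 716 ≤ b → b < 725 → ∃ J, chkPBlk P 5 31 18 31671 b J = true := fun b h1 h2 =>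
  if h : b < 720 then lo_716_720 b h1 h else lo_720_725 b (Nat.le_of_not_lt h) h2
theorem lo_725_726 : ∀ b, 725 ≤ b → b < 726 → ∃ J, chkPBlk P 5 31 18 31671 b J = true := fun b h1 h2 => by
  have hb : b = 725 := Nat.le_antisymm (Nat.le_of_lt_succ h2) h1
  subst hb; exact ⟨_, lblk_725⟩
theorem lo_726_727 : ∀ b, 726 ≤ b → b < 727 → ∃ J, chkPBlk P 5 31 18 31671 b J = true := fun b h1 h2 => by
  have hb : b = 726 := Nat.le_antisymm (Nat.le_of_lt_succ h2) h1
  subst hb; exact ⟨_, lblk_726⟩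
theorem lo_725_727 : ∀ b, 725 ≤ b → b < 727 → ∃ J, chkPBlk P 5 31 18 31671 b J = true := fun b h1 h2 =>
  if h : b < 726 then lo_725_726 b h1 h else lo_726_727 b (Nat.le_of_not_lt h) h2
theorem lo_727_728 : ∀ b, 727 ≤ b → b < 728 → ∃ J, chkPBlk P 5 31 18 31671 b J = true := fun b h1 h2 => by
  have hb : b = 727 := Nat.le_antisymm (Nat.le_of_lt_succ h2) h1
  subst hb; exact ⟨_, lblk_727⟩
theorem lo_728_729 : ∀ b, 728 ≤ b → b < 729 → ∃ J, chkPBlk P 5 31 18 31671 b J = true := fun b h1 h2 => by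
  have hb : b = 728 := Nat.le_antisymm (Nat.le_of_lt_succ h2) h1
  subst hb; exact ⟨_, lblk_728⟩
theorem lo_729_730 : ∀ b, 729 ≤ b → b < 730 → ∃ J, chkPBlk P 5 31 18 31671 b J = true := fun b h1 h2 => by
  have hb : b = 729 := Nat.le_antisymm (Nat.le_of_lt_succ h2) h1
  subst hb; exact ⟨_, lblk_729⟩
theorem lo_728_730 : ∀ b, 728 ≤ b → b < 730 → ∃ J, chkPBlk P 5 31 18 31671 b J = true := fun b h1 h2 =>
  if h : b < 729 then lo_728_729 b h1 h else lo_729_730 b (Nat.le_of_not_lt h) h2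
theorem lo_727_730 : ∀ b, 727 ≤ b → b < 730 → ∃ J, chkPBlk P 5 31 18 31671 b J = true := fun b h1 h2 =>
  if h : b < 728 then lo_727_728 b h1 h else lo_728_730 b (Nat.le_of_not_lt h) h2
theorem lo_725_730 : ∀ b, 725 ≤ b → b < 730 → ∃ J, chkPBlk P 5 31 18 31671 b J = true := fun b h1 h2 =>
  if h : b < 727 then lo_725_727 b h1 h else lo_727_730 b (Nat.le_of_not_lt h) h2
theorem lo_730_731 : ∀ b, 730 ≤ b → b < 731 → ∃ J, chkPBlk P 5 31 18 31671 b J = true := fun b h1 h2 => by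
  have hb : b = 730 := Nat.le_antisymm (Nat.le_of_lt_succ h2) h1
  subst hb; exact ⟨_, lblk_730⟩
theorem lo_731_732 : ∀ b, 731 ≤ b → b < 732 → ∃ J, chkPBlk P 5 31 18 31671 b J = true := fun b h1 h2 => by
  have hb : b = 731 := Nat.le_antisymm (Nat.le_of_lt_succ h2) h1
  subst hb; exact ⟨_, lblk_731⟩
theorem lo_730_732 : ∀ b, 730 ≤ b → b < 732 → ∃ J, chkPBlk P 5 31 18 31671 b J = true := fun b h1 h2 =>
  if h : b < 731 then lo_730_731 b h1 h else lo_731_732 b (Nat.le_of_not_lt h) h2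
theorem lo_732_733 : ∀ b, 732 ≤ b → b < 733 → ∃ J, chkPBlk P 5 31 18 31671 b J = true := fun b h1 h2 => by
  have hb : b = 732 := Nat.le_antisymm (Nat.le_of_lt_succ h2) h1
  subst hb; exact ⟨_, lblk_732⟩
theorem lo_733_734 : ∀ b, 733 ≤ b → b < 734 → ∃ J, chkPBlk P 5 31 18 31671 b J = true := fun b h1 h2 => by
  have hb : b = 733 := Nat.le_antisymm (Nat.le_of_lt_succ h2) h1
  subst hb; exact ⟨_, lblk_733⟩
theorem lo_734_735 : ∀ b, 734 ≤ b → b < 735 → ∃ J, chkPBlk P 5 31 18 31671 b J = true := fun b h1 h2 => by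
  have hb : b = 734 := Nat.le_antisymm (Nat.le_of_lt_succ h2) h1
  subst hb; exact ⟨_, lblk_734⟩
theorem lo_733_735 : ∀ b, 733 ≤ b → b < 735 → ∃ J, chkPBlk P 5 31 18 31671 b J = true := fun b h1 h2 =>
  if h : b < 734 then lo_733_734 b h1 h else lo_734_735 b (Nat.le_of_not_lt h) h2
theorem lo_732_735 : ∀ b, 732 ≤ b → b < 735 → ∃ J, chkPBlk P 5 31 18 31671 b J = true := fun b h1 h2 =>
  if h : b < 733 then lo_732_733 b h1 h else lo_733_735 b (Nat.le_of_not_lt h) h2
theorem lo_730_735 : ∀ b, 730 ≤ b → b < 735 → ∃ J, chkPBlk P 5 31 18 31671 b J = true := fun b h1 h2 =>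
  if h : b < 732 then lo_730_732 b h1 h else lo_732_735 b (Nat.le_of_not_lt h) h2
theorem lo_725_735 : ∀ b, 725 ≤ b → b < 735 → ∃ J, chkPBlk P 5 31 18 31671 b J = true := fun b h1 h2 =>
  if h : b < 730 then lo_725_730 b h1 h else lo_730_735 b (Nat.le_of_not_lt h) h2
theorem lo_716_735 : ∀ b, 716 ≤ b → b < 735 → ∃ J, chkPBlk P 5 31 18 31671 b J = true := fun b h1 h2 =>
  if h : b < 725 then lo_716_725 b h1 h else lo_725_735 b (Nat.le_of_not_lt h) h2
theorem lo_698_735 : ∀ b, 698 ≤ b → b < 735 → ∃ J, chkPBlk P 5 31 18 31671 b J = true := fun b h1 h2 =>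
  if h : b < 716 then lo_698_716 b h1 h else lo_716_735 b (Nat.le_of_not_lt h) h2
theorem lo_661_735 : ∀ b, 661 ≤ b → b < 735 → ∃ J, chkPBlk P 5 31 18 31671 b J = true := fun b h1 h2 =>
  if h : b < 698 then lo_661_698 b h1 h else lo_698_735 b (Nat.le_of_not_lt h) h2
theorem lo_588_735 : ∀ b, 588 ≤ b → b < 735 → ∃ J, chkPBlk P 5 31 18 31671 b J = true := fun b h1 h2 =>
  if h : b < 661 then lo_588_661 b h1 h else lo_661_735 b (Nat.le_of_not_lt h) h2

end Cfsg.Agent.Lib.Helper29.S1689
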