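import Cfsg.Agent.Lib.Helper29.S1689.Data

set_option autoImplicit false
set_option Elab.async false

namespace Cfsg.Agent.Lib.Helper29.S1689

open Cfsg.Agent.Lib.Helper29.TcTrace Cfsg.Agent.Lib.Helper29.TcCert Cfsg.Agent.Lib.Helper29.TcPerm

theorem lblk_735 : chkPBlk P 5 31 18 31671 735 0x127424c92a127424c449424 = true := by decide +kernel
theorem lblk_736 : chkPBlk P 5 31 18 31671 736 0x892a0a44248849d0942488 = true := by decide +kernel
theorem lblk_737 : chkPBlk P 5 31 18 31671 737 0x68490c5190a4410884a109 = true := by decide +kernel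
theorem lblk_738 : chkPBlk P 5 31 18 31671 738 0xa84a126494684946422128 = true := by decide +kernel
theorem lblk_739 : chkPBlk P 5 31 18 31671 739 0x8929108425093212849889 = true := by decide +kernel
theorem lblk_740 : chkPBlk P 5 31 18 31671 740 0x86194884910940d0922509 = true := by decide +kernel
theorem lblk_741 : chkPBlk P 5 31 18 31671 741 0x12542128424892850949469 = true := by decide +kernel
theorem lblk_742 : chkPBlk P 5 31 18 31671 742 0xe84988928509324a24a124 = true := by decide +kernel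
theorem lblk_743 : chkPBlk P 5 31 18 31671 743 0xa8221284212849d0932509 = true := by decide +kernel
theorem lblk_744 : chkPBlk P 5 31 18 31671 744 0x10931109221274a0c849889 = true := by decide +kernel
theorem lblk_745 : chkPBlk P 5 31 18 31671 745 0x12429104425082910922127 = true := by decide +kernel
theorem lblk_746 : chkPBlk P 5 31 18 31671 746 0x1284250330ca4424884a068 = true := by decide +kernel
theorem lblk_747 : chkPBlk P 5 31 18 31671 747 0xa4425094a0644244229109 = true := by decide +kernel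
theorem lblk_748 : chkPBlk P 5 31 18 31671 748 0x1244942940c884884628c88 = true := by decide +kernel
theorem lblk_749 : chkPBlk P 5 31 18 31671 749 0x128425034a0644a12449508 = true := by decide +kernel
theorem lblk_750 : chkPBlk P 5 31 18 31671 750 0x64424844a04628c8829109 = true := by decide +kernel
theorem lblk_751 : chkPBlk P 5 31 18 31671 751 0x108491250a1214252510445 = true := by decide +kernel
theorem lblk_752 : chkPBlk P 5 31 18 31671 752 0xa129104221284248929109 = true := by decide +kernel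
theorem lblk_753 : chkPBlk P 5 31 18 31671 753 0x1093990931125424e849889 = true := by decide +kernel
theorem lblk_754 : chkPBlk P 5 31 18 31671 754 0x1274a0c8498892a0e931104 = true := by decide +kernel
theorem lblk_755 : chkPBlk P 5 31 18 31671 755 0xe82910922127424c442488 = true := by decide +kernel
theorem lblk_756 : chkPBlk P 5 31 18 31671 756 0x884910940d092150442509 = true := by decide +kernel
theorem lblk_757 : chkPBlk P 5 31 18 31671 757 0x64425282212819cc519065 = true := by decide +kernel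
theorem lblk_758 : chkPBlk P 5 31 18 31671 758 0x1042212842489294c528c45 = true := by decide +kernel
theorem lblk_759 : chkPBlk P 5 31 18 31671 759 0xc430ca4424884a068490a4 = true := by decide +kernel
theorem lblk_760 : chkPBlk P 5 31 18 31671 760 0x884a12941c8849d2830d09 = true := by decide +kernel
theorem lblk_761 : chkPBlk P 5 31 18 31671 761 0x88424c5220884a12719105 = true := by decide +kernel
theorem lblk_762 : chkPBlk P 5 31 18 31671 762 0x4628c88291094a10940c83 = true := by decide +kernel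
theorem lblk_763 : chkPBlk P 5 31 18 31671 763 0x1281844519108490884a502 = true := by decide +kernel
theorem lblk_764 : chkPBlk P 5 31 18 31671 764 0x1094a04231464414884a508 = true := by decide +kernel
theorem lblk_765 : chkPBlk P 5 31 18 31671 765 0x124404c51146428c8842484 = true := by decide +kernel
theorem lblk_766 : chkPBlk P 5 31 18 31671 766 0x1244a1244a4a40910928c88 = true := by decide +kernel
theorem lblk_767 : chkPBlk P 5 31 18 31671 767 0x129424c94a4a34912349d29 = true := by decide +kernel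
theorem lblk_768 : chkPBlk P 5 31 18 31671 768 0x6649d09325234a4a928d24 = true := by decide +kernel
theorem lblk_769 : chkPBlk P 5 31 18 31671 769 0x127424c90a1224910949449 = true := by decide +kernel
theorem lblk_770 : chkPBlk P 5 31 18 31671 770 0x1034a124421244942848928 = true := by decide +kernel
theorem lblk_771 : chkPBlk P 5 31 18 31671 771 0x128494a4425090a12248c88 = true := by decide +kernel
theorem lblk_772 : chkPBlk P 5 31 18 31671 772 0x104495234250939d264a4e8 = true := by decide +kernel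
theorem lblk_773 : chkPBlk P 5 31 18 31671 773 0x12542109224a5191084a124 = true := by decide +kernel
theorem lblk_774 : chkPBlk P 5 31 18 31671 774 0x284a4a2088a34146442124 = true := by decide +kernel
theorem lblk_775 : chkPBlk P 5 31 18 31671 775 0x1251a125124a34910542509 = true := by decide +kernel
theorem lblk_776 : chkPBlk P 5 31 18 31671 776 0x125111094212928509324a2 = true := by decide +kernel
theorem lblk_777 : chkPBlk P 5 31 18 31671 777 0x10442508491250a12848509 = true := by decide +kernel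
theorem lblk_778 : chkPBlk P 5 31 18 31671 778 0xc92a1084992542525490a4 = true := by decide +kernel
theorem lblk_779 : chkPBlk P 5 31 18 31671 779 0xc92a4884a089424e849d09 = true := by decide +kernel
theorem lblk_780 : chkPBlk P 5 31 18 31671 780 0x1093a1264a1264944849d09 = true := by decide +kernel
theorem lblk_781 : chkPBlk P 5 31 18 31671 781 0x109224a32208849109424e8 = true := by decide +kernel
theorem lblk_782 : chkPBlk P 5 31 18 31671 782 0xa242109325251a48849125 = true := by decide +kernel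
theorem lblk_783 : chkPBlk P 5 31 18 31671 783 0x232208442109424c9424c9 = true := by decide +kernel
theorem lblk_784 : chkPBlk P 5 31 18 31671 784 0x10849125291044250849125 = true := by decide +kernel
theorem lblk_785 : chkPBlk P 5 31 18 31671 785 0x1264a4a3425244148821109 = true := by decide +kernel
theorem lblk_786 : chkPBlk P 5 31 18 31671 786 0x108424c9494692110942108 = true := by decide +kernel
theorem lblk_787 : chkPBlk P 5 31 18 31671 787 0x88221244248849d0849925 = true := by decide +kernel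
theorem lblk_788 : chkPBlk P 5 31 18 31671 788 0x10932509324a24946442124 = true := by decide +kernel
theorem lblk_789 : chkPBlk P 5 31 18 31671 789 0x127424c4494244248842127 = true := by decide +kernel
theorem lblk_790 : chkPBlk P 5 31 18 31671 790 0xa84910822124424e849928 = true := by decide +kernel
theorem lblk_791 : chkPBlk P 5 31 18 31671 791 0x884a109224a21906440c88 = true := by decide +kernel
theorem lblk_792 : chkPBlk P 5 31 18 31671 792 0x12441c884a068490c529104 = true := by decide +kernel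
theorem lblk_793 : chkPBlk P 5 31 18 31671 793 0x12519109121262a4a349125 = true := by decide +kernel
theorem lblk_794 : chkPBlk P 5 31 18 31671 794 0x12849ce931509324a249465 = true := by decide +kernel
theorem lblk_795 : chkPBlk P 5 31 18 31671 795 0x884a109224a14242848908 = true := by decide +kernel
theorem lblk_796 : chkPBlk P 5 31 18 31671 796 0xa34252928d24425244a0c5 = true := by decide +kernel
theorem lblk_797 : chkPBlk P 5 31 18 31671 797 0x28488884a1094a12649449 = true := by decide +kernel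
theorem lblk_798 : chkPBlk P 5 31 18 31671 798 0xe84a509324a24946921109 = true := by decide +kernel
theorem lblk_799 : chkPBlk P 5 31 18 31671 799 0x12849d09324a1424c928909 = true := by decide +kernel
theorem lblk_800 : chkPBlk P 5 31 18 31671 800 0xa11910442488491093a126 = true := by decide +kernel
theorem lblk_801 : chkPBlk P 5 31 18 31671 801 0x10942124494a42212842489 = true := by decide +kernel
theorem lblk_802 : chkPBlk P 5 31 18 31671 802 0x128489251a129220a522084 = true := by decide +kernel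
theorem lblk_803 : chkPBlk P 5 31 18 31671 803 0xa242129424c9289251a488 = true := by decide +kernel
theorem lblk_804 : chkPBlk P 5 31 18 31671 804 0x844212942509324a1424c9 = true := by decide +kernel
theorem lblk_805 : chkPBlk P 5 31 18 31671 805 0xa329104425084912508c88 = true := by decide +kernel
theorem lblk_806 : chkPBlk P 5 31 18 31671 806 0x124421093a1264a12649449 = true := by decide +kernel
theorem lblk_807 : chkPBlk P 5 31 18 31671 807 0x127424c9424e84988928488 = true := by decide +kernel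
theorem lblk_808 : chkPBlk P 5 31 18 31671 808 0x6440c88291092210442488 = true := by decide +kernel
theorem lblk_809 : chkPBlk P 5 31 18 31671 809 0x12429104221284248928864 = true := by decide +kernel
theorem lblk_810 : chkPBlk P 5 31 18 31671 810 0x1284908842529324884a068 = true := by decide +kernel
theorem lblk_811 : chkPBlk P 5 31 18 31671 811 0xc928c8822128499084a4a3 = true := by decide +kernel
theorem lblk_812 : chkPBlk P 5 31 18 31671 812 0x1284a1093a126224a442509 = true := by decide +kernel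
theorem lblk_813 : chkPBlk P 5 31 18 31671 813 0x1281a489424841910322088 = true := by decide +kernel
theorem lblk_814 : chkPBlk P 5 31 18 31671 814 0x64421292a1254906522128 = true := by decide +kernel
theorem lblk_815 : chkPBlk P 5 31 18 31671 815 0x12842509311252212849925 = true := by decide +kernel
theorem lblk_816 : chkPBlk P 5 31 18 31671 816 0x126494494248928c8321108 = true := by decide +kernel
theorem lblk_817 : chkPBlk P 5 31 18 31671 817 0x124425093a1093a126224a8 = true := by decide +kernel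
theorem lblk_818 : chkPBlk P 5 31 18 31671 818 0x8849d2832126224a322088 = true := by decide +kernel
theorem lblk_819 : chkPBlk P 5 31 18 31671 819 0x8848c88291092212741109 = true := by decide +kernel
theorem lblk_820 : chkPBlk P 5 31 18 31671 820 0x10342481188a32086428c88 = true := by decide +kernel
theorem lblk_821 : chkPBlk P 5 31 18 31671 821 0x884a5084a0661948849109 = true := by decide +kernel
theorem lblk_822 : chkPBlk P 5 31 18 31671 822 0x4228c88221294a06848845 = true := by decide +kernel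
theorem lblk_823 : chkPBlk P 5 31 18 31671 823 0x109224a8424892852819109 = true := by decide +kernel
theorem lblk_824 : chkPBlk P 5 31 18 31671 824 0x64414884a5084a06940c89 = true := by decide +kernel
theorem lblk_825 : chkPBlk P 5 31 18 31671 825 0x4928c2228c8849089408c5 = true := by decide +kernel
theorem lblk_826 : chkPBlk P 5 31 18 31671 826 0x284a4a2088a310c8842525 = true := by decide +kernel
theorem lblk_827 : chkPBlk P 5 31 18 31671 827 0x4928d24421244942928509 = true := by decide +kernel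
theorem lblk_828 : chkPBlk P 5 31 18 31671 828 0x12509109424284a4a242509 = true := by decide +kernel
theorem lblk_829 : chkPBlk P 5 31 18 31671 829 0x10932125424892910942124 = true := by decide +kernel
theorem lblk_830 : chkPBlk P 5 31 18 31671 830 0x126224a84a127424c92a109 = true := by decide +kernel
theorem lblk_831 : chkPBlk P 5 31 18 31671 831 0x10442508491093a126424e8 = true := by decide +kernel
theorem lblk_832 : chkPBlk P 5 31 18 31671 832 0x1094212449468490884a124 = true := by decide +kernel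
theorem lblk_833 : chkPBlk P 5 31 18 31671 833 0x12842489285094946522084 = true := by decide +kernel
theorem lblk_834 : chkPBlk P 5 31 18 31671 834 0x8522084425084912522088 = true := by decide +kernel
theorem lblk_835 : chkPBlk P 5 31 18 31671 835 0x1084a4a92a1292110940d09 = true := by decide +kernel
theorem lblk_836 : chkPBlk P 5 31 18 31671 836 0xa521104425084a126224a4 = true := by decide +kernel
theorem lblk_837 : chkPBlk P 5 31 18 31671 837 0x109324a2294882110942489 = true := by decide +kernel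
theorem lblk_838 : chkPBlk P 5 31 18 31671 838 0x10849109424c849d0931125 = true := by decide +kernel
theorem lblk_839 : chkPBlk P 5 31 18 31671 839 0x88491093a506424c449504 = true := by decide +kernel
theorem lblk_840 : chkPBlk P 5 31 18 31671 840 0x882212841488491093a126 = true := by decide +kernel
theorem lblk_841 : chkPBlk P 5 31 18 31671 841 0x10940cc329109221281a124 = true := by decide +kernel
theorem lblk_842 : chkPBlk P 5 31 18 31671 842 0x884a12122109495092a528 = true := by decide +kernel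
theorem lblk_843 : chkPBlk P 5 31 18 31671 843 0x24421284a1264944928ca4 = true := by decide +kernel
theorem lblk_844 : chkPBlk P 5 31 18 31671 844 0x10841109424c94250931125 = true := by decide +kernel
theorem lblk_845 : chkPBlk P 5 31 18 31671 845 0x12431488221284248929484 = true := by decide +kernel
theorem lblk_846 : chkPBlk P 5 31 18 31671 846 0x10942525124a3490884a068 = true := by decide +kernel
theorem lblk_847 : chkPBlk P 5 31 18 31671 847 0x8929488221284248928488 = true := by decide +kernel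
theorem lblk_848 : chkPBlk P 5 31 18 31671 848 0x892a12649445220884a109 = true := by decide +kernel
theorem lblk_849 : chkPBlk P 5 31 18 31671 849 0x884110939909311093a126 = true := by decide +kernel
theorem lblk_850 : chkPBlk P 5 31 18 31671 850 0xc44248849d2832126224a5 = true := by decide +kernel
theorem lblk_851 : chkPBlk P 5 31 18 31671 851 0xa322124420a44248849d09 = true := by decide +kernel
theorem lblk_852 : chkPBlk P 5 31 18 31671 852 0x64194884910940d09218a8 = true := by decide +kernel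
theorem lblk_853 : chkPBlk P 5 31 18 31671 853 0x109324a240d282212819cc5 = true := by decide +kernel
theorem lblk_854 : chkPBlk P 5 31 18 31671 854 0x8842488425283212622109 = true := by decide +kernel
theorem lblk_855 : chkPBlk P 5 31 18 31671 855 0x49188a442509425281a484 = true := by decide +kernel
theorem lblk_856 : chkPBlk P 5 31 18 31671 856 0x69220884a109224a842525 = true := by decide +kernel
theorem lblk_857 : chkPBlk P 5 31 18 31671 857 0xc4495093a126224a142528 = true := by decide +kernel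
theorem lblk_858 : chkPBlk P 5 31 18 31671 858 0x1044250941109424e941909 = true := by decide +kernel
theorem lblk_859 : chkPBlk P 5 31 18 31671 859 0x128391093a5061a12621104 = true := by decide +kernel
theorem lblk_860 : chkPBlk P 5 31 18 31671 860 0xc5220884a123220a442509 = true := by decide +kernel
theorem lblk_861 : chkPBlk P 5 31 18 31671 861 0xa3220a4425284250320c88 = true := by decide +kernel
theorem lblk_862 : chkPBlk P 5 31 18 31671 862 0x89424211a1242212940846 = true := by decide +kernel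
theorem lblk_863 : chkPBlk P 5 31 18 31671 863 0x884a109224a94242111464 = true := by decide +kernel
theorem lblk_864 : chkPBlk P 5 31 18 31671 864 0xa321464424894a12940d24 = true := by decide +kernel
theorem lblk_865 : chkPBlk P 5 31 18 31671 865 0x108491254212449429098a2 = true := by decide +kernel
theorem lblk_866 : chkPBlk P 5 31 18 31671 866 0xc329109221281a12421109 = true := by decide +kernel
theorem lblk_867 : chkPBlk P 5 31 18 31671 867 0x12621104424e94190931125 = true := by decide +kernel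
theorem lblk_868 : chkPBlk P 5 31 18 31671 868 0x1093a5061a12621d05424e6 = true := by decide +kernel
theorem lblk_869 : chkPBlk P 5 31 18 31671 869 0x109424e3220a4425094a0e4 = true := by decide +kernel
theorem lblk_870 : chkPBlk P 5 31 18 31671 870 0x10519109491094212629104 = true := by decide +kernel
theorem lblk_871 : chkPBlk P 5 31 18 31671 871 0x251a1251910949cc231464 = true := by decide +kernel
theorem lblk_872 : chkPBlk P 5 31 18 31671 872 0x12849865221244250342485 = true := by decide +kernel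
theorem lblk_873 : chkPBlk P 5 31 18 31671 873 0xe9321274984628c8829109 = true := by decide +kernel
theorem lblk_874 : chkPBlk P 5 31 18 31671 874 0xa322088425282910942528 = true := by decide +kernel
theorem lblk_875 : chkPBlk P 5 31 18 31671 875 0x884a488314832210910c86 = true := by decide +kernel
theorem lblk_876 : chkPBlk P 5 31 18 31671 876 0x884252131445190a322109 = true := by decide +kernel
theorem lblk_877 : chkPBlk P 5 31 18 31671 877 0x6428c88424884a42322123 = true := by decide +kernel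
theorem lblk_878 : chkPBlk P 5 31 18 31671 878 0x89484a3221232212131445 = true := by decide +kernel
theorem lblk_879 : chkPBlk P 5 31 18 31671 879 0xa248d09421291246848909 = true := by decide +kernel
theorem lblk_880 : chkPBlk P 5 31 18 31671 880 0x12449428489093a10912129 = true := by decide +kernel
theorem lblk_881 : chkPBlk P 5 31 18 31671 881 0x884850922127425090a508 = true := by decide +kernel
theorem lo_735_736 : ∀ b, 735 ≤ b → b < 736 → ∃ J, chkPBlk P 5 31 18 31671 b J = true := fun b h1 h2 => by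
  have hb : b = 735 := Nat.le_antisymm (Nat.le_of_lt_succ h2) h1
  subst hb; exact ⟨_, lblk_735⟩
theorem lo_736_737 : ∀ b, 736 ≤ b → b < 737 → ∃ J, chkPBlk P 5 31 18 31671 b J = true := fun b h1 h2 => by
  have hb : b = 736 := Nat.le_antisymm (Nat.le_of_lt_succ h2) h1
  subst hb; exact ⟨_, lblk_736⟩
theorem lo_735_737 : ∀ b, 735 ≤ b → b < 737 → ∃ J, chkPBlk P 5 31 18 31671 b J = true := fun b h1 h2 =>
  if h : b < 736 then lo_735_736 b h1 h else lo_736_737 b (Nat.le_of_not_lt h) h2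
theorem lo_737_738 : ∀ b, 737 ≤ b → b < 738 → ∃ J, chkPBlk P 5 31 18 31671 b J = true := fun b h1 h2 => by
  have hb : b = 737 := Nat.le_antisymm (Nat.le_of_lt_succ h2) h1
  subst hb; exact ⟨_, lblk_737⟩
theorem lo_738_739 : ∀ b, 738 ≤ b → b < 739 → ∃ J, chkPBlk P 5 31 18 31671 b J = true := fun b h1 h2 => by
  have hb : b = 738 := Nat.le_antisymm (Nat.le_of_lt_succ h2) h1
  subst hb; exact ⟨_, lblk_738⟩
theorem lo_737_739 : ∀ b, 737 ≤ b → b < 739 → ∃ J, chkPBlk P 5 31 18 31671 b J = true := fun b h1 h2 =>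
  if h : b < 738 then lo_737_738 b h1 h else lo_738_739 b (Nat.le_of_not_lt h) h2
theorem lo_735_739 : ∀ b, 735 ≤ b → b < 739 → ∃ J, chkPBlk P 5 31 18 31671 b J = true := fun b h1 h2 =>
  if h : b < 737 then lo_735_737 b h1 h else lo_737_739 b (Nat.le_of_not_lt h) h2
theorem lo_739_740 : ∀ b, 739 ≤ b → b < 740 → ∃ J, chkPBlk P 5 31 18 31671 b J = true := fun b h1 h2 => by
  have hb : b = 739 := Nat.le_antisymm (Nat.le_of_lt_succ h2) h1
  subst hb; exact ⟨_, lblk_739⟩
theorem lo_740_741 : ∀ b, 740 ≤ b → b < 741 → ∃ J, chkPBlk P 5 31 18 31671 b J = true := fun b h1 h2 => by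
  have hb : b = 740 := Nat.le_antisymm (Nat.le_of_lt_succ h2) h1
  subst hb; exact ⟨_, lblk_740⟩
theorem lo_739_741 : ∀ b, 739 ≤ b → b < 741 → ∃ J, chkPBlk P 5 31 18 31671 b J = true := fun b h1 h2 =>
  if h : b < 740 then lo_739_740 b h1 h else lo_740_741 b (Nat.le_of_not_lt h) h2
theorem lo_741_742 : ∀ b, 741 ≤ b → b < 742 → ∃ J, chkPBlk P 5 31 18 31671 b J = true := fun b h1 h2 => by
  have hb : b = 741 := Nat.le_antisymm (Nat.le_of_lt_succ h2) h1
  subst hb; exact ⟨_, lblk_741⟩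
theorem lo_742_743 : ∀ b, 742 ≤ b → b < 743 → ∃ J, chkPBlk P 5 31 18 31671 b J = true := fun b h1 h2 => by
  have hb : b = 742 := Nat.le_antisymm (Nat.le_of_lt_succ h2) h1
  subst hb; exact ⟨_, lblk_742⟩
theorem lo_743_744 : ∀ b, 743 ≤ b → b < 744 → ∃ J, chkPBlk P 5 31 18 31671 b J = true := fun b h1 h2 => by
  have hb : b = 743 := Nat.le_antisymm (Nat.le_of_lt_succ h2) h1
  subst hb; exact ⟨_, lblk_743⟩
theorem lo_742_744 : ∀ b, 742 ≤ b → b < 744 → ∃ J, chkPBlk P 5 31 18 31671 b J = true := fun b h1 h2 =>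
  if h : b < 743 then lo_742_743 b h1 h else lo_743_744 b (Nat.le_of_not_lt h) h2
theorem lo_741_744 : ∀ b, 741 ≤ b → b < 744 → ∃ J, chkPBlk P 5 31 18 31671 b J = true := fun b h1 h2 =>
  if h : b < 742 then lo_741_742 b h1 h else lo_742_744 b (Nat.le_of_not_lt h) h2
theorem lo_739_744 : ∀ b, 739 ≤ b → b < 744 → ∃ J, chkPBlk P 5 31 18 31671 b J = true := fun b h1 h2 =>
  if h : b < 741 then lo_739_741 b h1 h else lo_741_744 b (Nat.le_of_not_lt h) h2
theorem lo_735_744 : ∀ b, 735 ≤ b → b < 744 → ∃ J, chkPBlk P 5 31 18 31671 b J = true := fun b h1 h2 =>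
  if h : b < 739 then lo_735_739 b h1 h else lo_739_744 b (Nat.le_of_not_lt h) h2
theorem lo_744_745 : ∀ b, 744 ≤ b → b < 745 → ∃ J, chkPBlk P 5 31 18 31671 b J = true := fun b h1 h2 => by
  have hb : b = 744 := Nat.le_antisymm (Nat.le_of_lt_succ h2) h1
  subst hb; exact ⟨_, lblk_744⟩
theorem lo_745_746 : ∀ b, 745 ≤ b → b < 746 → ∃ J, chkPBlk P 5 31 18 31671 b J = true := fun b h1 h2 => by
  have hb : b = 745 := Nat.le_antisymm (Nat.le_of_lt_succ h2) h1
  subst hb; exact ⟨_, lblk_745⟩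
theorem lo_744_746 : ∀ b, 744 ≤ b → b < 746 → ∃ J, chkPBlk P 5 31 18 31671 b J = true := fun b h1 h2 =>
  if h : b < 745 then lo_744_745 b h1 h else lo_745_746 b (Nat.le_of_not_lt h) h2
theorem lo_746_747 : ∀ b, 746 ≤ b → b < 747 → ∃ J, chkPBlk P 5 31 18 31671 b J = true := fun b h1 h2 => by
  have hb : b = 746 := Nat.le_antisymm (Nat.le_of_lt_succ h2) h1
  subst hb; exact ⟨_, lblk_746⟩
theorem lo_747_748 : ∀ b, 747 ≤ b → b < 748 → ∃ J, chkPBlk P 5 31 18 31671 b J = true := fun b h1 h2 => by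
  have hb : b = 747 := Nat.le_antisymm (Nat.le_of_lt_succ h2) h1
  subst hb; exact ⟨_, lblk_747⟩
theorem lo_746_748 : ∀ b, 746 ≤ b → b < 748 → ∃ J, chkPBlk P 5 31 18 31671 b J = true := fun b h1 h2 =>
  if h : b < 747 then lo_746_747 b h1 h else lo_747_748 b (Nat.le_of_not_lt h) h2
theorem lo_744_748 : ∀ b, 744 ≤ b → b < 748 → ∃ J, chkPBlk P 5 31 18 31671 b J = true := fun b h1 h2 =>
  if h : b < 746 then lo_744_746 b h1 h else lo_746_748 b (Nat.le_of_not_lt h) h2
theorem lo_748_749 : ∀ b, 748 ≤ b → b < 749 → ∃ J, chkPBlk P 5 31 18 31671 b J = true := fun b h1 h2 => by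
  have hb : b = 748 := Nat.le_antisymm (Nat.le_of_lt_succ h2) h1
  subst hb; exact ⟨_, lblk_748⟩
theorem lo_749_750 : ∀ b, 749 ≤ b → b < 750 → ∃ J, chkPBlk P 5 31 18 31671 b J = true := fun b h1 h2 => by
  have hb : b = 749 := Nat.le_antisymm (Nat.le_of_lt_succ h2) h1
  subst hb; exact ⟨_, lblk_749⟩
theorem lo_748_750 : ∀ b, 748 ≤ b → b < 750 → ∃ J, chkPBlk P 5 31 18 31671 b J = true := fun b h1 h2 =>
  if h : b < 749 then lo_748_749 b h1 h else lo_749_750 b (Nat.le_of_not_lt h) h2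
theorem lo_750_751 : ∀ b, 750 ≤ b → b < 751 → ∃ J, chkPBlk P 5 31 18 31671 b J = true := fun b h1 h2 => by
  have hb : b = 750 := Nat.le_antisymm (Nat.le_of_lt_succ h2) h1
  subst hb; exact ⟨_, lblk_750⟩
theorem lo_751_752 : ∀ b, 751 ≤ b → b < 752 → ∃ J, chkPBlk P 5 31 18 31671 b J = true := fun b h1 h2 => by
  have hb : b = 751 := Nat.le_antisymm (Nat.le_of_lt_succ h2) h1
  subst hb; exact ⟨_, lblk_751⟩
theorem lo_752_753 : ∀ b, 752 ≤ b → b < 753 → ∃ J, chkPBlk P 5 31 18 31671 b J = true := fun b h1 h2 => by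
  have hb : b = 752 := Nat.le_antisymm (Nat.le_of_lt_succ h2) h1
  subst hb; exact ⟨_, lblk_752⟩
theorem lo_751_753 : ∀ b, 751 ≤ b → b < 753 → ∃ J, chkPBlk P 5 31 18 31671 b J = true := fun b h1 h2 =>
  if h : b < 752 then lo_751_752 b h1 h else lo_752_753 b (Nat.le_of_not_lt h) h2
theorem lo_750_753 : ∀ b, 750 ≤ b → b < 753 → ∃ J, chkPBlk P 5 31 18 31671 b J = true := fun b h1 h2 =>
  if h : b < 751 then lo_750_751 b h1 h else lo_751_753 b (Nat.le_of_not_lt h) h2
theorem lo_748_753 : ∀ b, 748 ≤ b → b < 753 → ∃ J, chkPBlk P 5 31 18 31671 b J = true := fun b h1 h2 =>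
  if h : b < 750 then lo_748_750 b h1 h else lo_750_753 b (Nat.le_of_not_lt h) h2
theorem lo_744_753 : ∀ b, 744 ≤ b → b < 753 → ∃ J, chkPBlk P 5 31 18 31671 b J = true := fun b h1 h2 =>
  if h : b < 748 then lo_744_748 b h1 h else lo_748_753 b (Nat.le_of_not_lt h) h2
theorem lo_735_753 : ∀ b, 735 ≤ b → b < 753 → ∃ J, chkPBlk P 5 31 18 31671 b J = true := fun b h1 h2 =>
  if h : b < 744 then lo_735_744 b h1 h else lo_744_753 b (Nat.le_of_not_lt h) h2
theorem lo_753_754 : ∀ b, 753 ≤ b → b < 754 → ∃ J, chkPBlk P 5 31 18 31671 b J = true := fun b h1 h2 => by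
  have hb : b = 753 := Nat.le_antisymm (Nat.le_of_lt_succ h2) h1
  subst hb; exact ⟨_, lblk_753⟩
theorem lo_754_755 : ∀ b, 754 ≤ b → b < 755 → ∃ J, chkPBlk P 5 31 18 31671 b J = true := fun b h1 h2 => by
  have hb : b = 754 := Nat.le_antisymm (Nat.le_of_lt_succ h2) h1
  subst hb; exact ⟨_, lblk_754⟩
theorem lo_753_755 : ∀ b, 753 ≤ b → b < 755 → ∃ J, chkPBlk P 5 31 18 31671 b J = true := fun b h1 h2 =>
  if h : b < 754 then lo_753_754 b h1 h else lo_754_755 b (Nat.le_of_not_lt h) h2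
theorem lo_755_756 : ∀ b, 755 ≤ b → b < 756 → ∃ J, chkPBlk P 5 31 18 31671 b J = true := fun b h1 h2 => by
  have hb : b = 755 := Nat.le_antisymm (Nat.le_of_lt_succ h2) h1
  subst hb; exact ⟨_, lblk_755⟩
theorem lo_756_757 : ∀ b, 756 ≤ b → b < 757 → ∃ J, chkPBlk P 5 31 18 31671 b J = true := fun b h1 h2 => by
  have hb : b = 756 := Nat.le_antisymm (Nat.le_of_lt_succ h2) h1
  subst hb; exact ⟨_, lblk_756⟩
theorem lo_755_757 : ∀ b, 755 ≤ b → b < 757 → ∃ J, chkPBlk P 5 31 18 31671 b J = true := fun b h1 h2 =>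
  if h : b < 756 then lo_755_756 b h1 h else lo_756_757 b (Nat.le_of_not_lt h) h2
theorem lo_753_757 : ∀ b, 753 ≤ b → b < 757 → ∃ J, chkPBlk P 5 31 18 31671 b J = true := fun b h1 h2 =>
  if h : b < 755 then lo_753_755 b h1 h else lo_755_757 b (Nat.le_of_not_lt h) h2
theorem lo_757_758 : ∀ b, 757 ≤ b → b < 758 → ∃ J, chkPBlk P 5 31 18 31671 b J = true := fun b h1 h2 => by
  have hb : b = 757 := Nat.le_antisymm (Nat.le_of_lt_succ h2) h1
  subst hb; exact ⟨_, lblk_757⟩
theorem lo_758_759 : ∀ b, 758 ≤ b → b < 759 → ∃ J, chkPBlk P 5 31 18 31671 b J = true := fun b h1 h2 => by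
  have hb : b = 758 := Nat.le_antisymm (Nat.le_of_lt_succ h2) h1
  subst hb; exact ⟨_, lblk_758⟩
theorem lo_757_759 : ∀ b, 757 ≤ b → b < 759 → ∃ J, chkPBlk P 5 31 18 31671 b J = true := fun b h1 h2 =>
  if h : b < 758 then lo_757_758 b h1 h else lo_758_759 b (Nat.le_of_not_lt h) h2
theorem lo_759_760 : ∀ b, 759 ≤ b → b < 760 → ∃ J, chkPBlk P 5 31 18 31671 b J = true := fun b h1 h2 => by
  have hb : b = 759 := Nat.le_antisymm (Nat.le_of_lt_succ h2) h1
  subst hb; exact ⟨_, lblk_759⟩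
theorem lo_760_761 : ∀ b, 760 ≤ b → b < 761 → ∃ J, chkPBlk P 5 31 18 31671 b J = true := fun b h1 h2 => by
  have hb : b = 760 := Nat.le_antisymm (Nat.le_of_lt_succ h2) h1
  subst hb; exact ⟨_, lblk_760⟩
theorem lo_761_762 : ∀ b, 761 ≤ b → b < 762 → ∃ J, chkPBlk P 5 31 18 31671 b J = true := fun b h1 h2 => by
  have hb : b = 761 := Nat.le_antisymm (Nat.le_of_lt_succ h2) h1
  subst hb; exact ⟨_, lblk_761⟩
theorem lo_760_762 : ∀ b, 760 ≤ b → b < 762 → ∃ J, chkPBlk P 5 31 18 31671 b J = true := fun b h1 h2 =>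
  if h : b < 761 then lo_760_761 b h1 h else lo_761_762 b (Nat.le_of_not_lt h) h2
theorem lo_759_762 : ∀ b, 759 ≤ b → b < 762 → ∃ J, chkPBlk P 5 31 18 31671 b J = true := fun b h1 h2 =>
  if h : b < 760 then lo_759_760 b h1 h else lo_760_762 b (Nat.le_of_not_lt h) h2
theorem lo_757_762 : ∀ b, 757 ≤ b → b < 762 → ∃ J, chkPBlk P 5 31 18 31671 b J = true := fun b h1 h2 =>
  if h : b < 759 then lo_757_759 b h1 h else lo_759_762 b (Nat.le_of_not_lt h) h2
theorem lo_753_762 : ∀ b, 753 ≤ b → b < 762 → ∃ J, chkPBlk P 5 31 18 31671 b J = true := fun b h1 h2 =>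
  if h : b < 757 then lo_753_757 b h1 h else lo_757_762 b (Nat.le_of_not_lt h) h2
theorem lo_762_763 : ∀ b, 762 ≤ b → b < 763 → ∃ J, chkPBlk P 5 31 18 31671 b J = true := fun b h1 h2 => by
  have hb : b = 762 := Nat.le_antisymm (Nat.le_of_lt_succ h2) h1
  subst hb; exact ⟨_, lblk_762⟩
theorem lo_763_764 : ∀ b, 763 ≤ b → b < 764 → ∃ J, chkPBlk P 5 31 18 31671 b J = true := fun b h1 h2 => by
  have hb : b = 763 := Nat.le_antisymm (Nat.le_of_lt_succ h2) h1
  subst hb; exact ⟨_, lblk_763⟩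
theorem lo_762_764 : ∀ b, 762 ≤ b → b < 764 → ∃ J, chkPBlk P 5 31 18 31671 b J = true := fun b h1 h2 =>
  if h : b < 763 then lo_762_763 b h1 h else lo_763_764 b (Nat.le_of_not_lt h) h2
theorem lo_764_765 : ∀ b, 764 ≤ b → b < 765 → ∃ J, chkPBlk P 5 31 18 31671 b J = true := fun b h1 h2 => by
  have hb : b = 764 := Nat.le_antisymm (Nat.le_of_lt_succ h2) h1
  subst hb; exact ⟨_, lblk_764⟩
theorem lo_765_766 : ∀ b, 765 ≤ b → b < 766 → ∃ J, chkPBlk P 5 31 18 31671 b J = true := fun b h1 h2 => by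
  have hb : b = 765 := Nat.le_antisymm (Nat.le_of_lt_succ h2) h1
  subst hb; exact ⟨_, lblk_765⟩
theorem lo_764_766 : ∀ b, 764 ≤ b → b < 766 → ∃ J, chkPBlk P 5 31 18 31671 b J = true := fun b h1 h2 =>
  if h : b < 765 then lo_764_765 b h1 h else lo_765_766 b (Nat.le_of_not_lt h) h2
theorem lo_762_766 : ∀ b, 762 ≤ b → b < 766 → ∃ J, chkPBlk P 5 31 18 31671 b J = true := fun b h1 h2 =>
  if h : b < 764 then lo_762_764 b h1 h else lo_764_766 b (Nat.le_of_not_lt h) h2
theorem lo_766_767 : ∀ b, 766 ≤ b → b < 767 → ∃ J, chkPBlk P 5 31 18 31671 b J = true := fun b h1 h2 => by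
  have hb : b = 766 := Nat.le_antisymm (Nat.le_of_lt_succ h2) h1
  subst hb; exact ⟨_, lblk_766⟩
theorem lo_767_768 : ∀ b, 767 ≤ b → b < 768 → ∃ J, chkPBlk P 5 31 18 31671 b J = true := fun b h1 h2 => by
  have hb : b = 767 := Nat.le_antisymm (Nat.le_of_lt_succ h2) h1
  subst hb; exact ⟨_, lblk_767⟩
theorem lo_766_768 : ∀ b, 766 ≤ b → b < 768 → ∃ J, chkPBlk P 5 31 18 31671 b J = true := fun b h1 h2 =>
  if h : b < 767 then lo_766_767 b h1 h else lo_767_768 b (Nat.le_of_not_lt h) h2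
theorem lo_768_769 : ∀ b, 768 ≤ b → b < 769 → ∃ J, chkPBlk P 5 31 18 31671 b J = true := fun b h1 h2 => by
  have hb : b = 768 := Nat.le_antisymm (Nat.le_of_lt_succ h2) h1
  subst hb; exact ⟨_, lblk_768⟩
theorem lo_769_770 : ∀ b, 769 ≤ b → b < 770 → ∃ J, chkPBlk P 5 31 18 31671 b J = true := fun b h1 h2 => by
  have hb : b = 769 := Nat.le_antisymm (Nat.le_of_lt_succ h2) h1
  subst hb; exact ⟨_, lblk_769⟩
theorem lo_770_771 : ∀ b, 770 ≤ b → b < 771 → ∃ J, chkPBlk P 5 31 18 31671 b J = true := fun b h1 h2 => by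
  have hb : b = 770 := Nat.le_antisymm (Nat.le_of_lt_succ h2) h1
  subst hb; exact ⟨_, lblk_770⟩
theorem lo_769_771 : ∀ b, 769 ≤ b → b < 771 → ∃ J, chkPBlk P 5 31 18 31671 b J = true := fun b h1 h2 =>
  if h : b < 770 then lo_769_770 b h1 h else lo_770_771 b (Nat.le_of_not_lt h) h2
theorem lo_768_771 : ∀ b, 768 ≤ b → b < 771 → ∃ J, chkPBlk P 5 31 18 31671 b J = true := fun b h1 h2 =>
  if h : b < 769 then lo_768_769 b h1 h else lo_769_771 b (Nat.le_of_not_lt h) h2
theorem lo_766_771 : ∀ b, 766 ≤ b → b < 771 → ∃ J, chkPBlk P 5 31 18 31671 b J = true := fun b h1 h2 =>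
  if h : b < 768 then lo_766_768 b h1 h else lo_768_771 b (Nat.le_of_not_lt h) h2
theorem lo_762_771 : ∀ b, 762 ≤ b → b < 771 → ∃ J, chkPBlk P 5 31 18 31671 b J = true := fun b h1 h2 =>
  if h : b < 766 then lo_762_766 b h1 h else lo_766_771 b (Nat.le_of_not_lt h) h2
theorem lo_753_771 : ∀ b, 753 ≤ b → b < 771 → ∃ J, chkPBlk P 5 31 18 31671 b J = true := fun b h1 h2 =>
  if h : b < 762 then lo_753_762 b h1 h else lo_762_771 b (Nat.le_of_not_lt h) h2
theorem lo_735_771 : ∀ b, 735 ≤ b → b < 771 → ∃ J, chkPBlk P 5 31 18 31671 b J = true := fun b h1 h2 =>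
  if h : b < 753 then lo_735_753 b h1 h else lo_753_771 b (Nat.le_of_not_lt h) h2
theorem lo_771_772 : ∀ b, 771 ≤ b → b < 772 → ∃ J, chkPBlk P 5 31 18 31671 b J = true := fun b h1 h2 => by
  have hb : b = 771 := Nat.le_antisymm (Nat.le_of_lt_succ h2) h1
  subst hb; exact ⟨_, lblk_771⟩
theorem lo_772_773 : ∀ b, 772 ≤ b → b < 773 → ∃ J, chkPBlk P 5 31 18 31671 b J = true := fun b h1 h2 => by
  have hb : b = 772 := Nat.le_antisymm (Nat.le_of_lt_succ h2) h1
  subst hb; exact ⟨_, lblk_772⟩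
theorem lo_771_773 : ∀ b, 771 ≤ b → b < 773 → ∃ J, chkPBlk P 5 31 18 31671 b J = true := fun b h1 h2 =>
  if h : b < 772 then lo_771_772 b h1 h else lo_772_773 b (Nat.le_of_not_lt h) h2
theorem lo_773_774 : ∀ b, 773 ≤ b → b < 774 → ∃ J, chkPBlk P 5 31 18 31671 b J = true := fun b h1 h2 => by
  have hb : b = 773 := Nat.le_antisymm (Nat.le_of_lt_succ h2) h1
  subst hb; exact ⟨_, lblk_773⟩
theorem lo_774_775 : ∀ b, 774 ≤ b → b < 775 → ∃ J, chkPBlk P 5 31 18 31671 b J = true := fun b h1 h2 => by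
  have hb : b = 774 := Nat.le_antisymm (Nat.le_of_lt_succ h2) h1
  subst hb; exact ⟨_, lblk_774⟩
theorem lo_773_775 : ∀ b, 773 ≤ b → b < 775 → ∃ J, chkPBlk P 5 31 18 31671 b J = true := fun b h1 h2 =>
  if h : b < 774 then lo_773_774 b h1 h else lo_774_775 b (Nat.le_of_not_lt h) h2
theorem lo_771_775 : ∀ b, 771 ≤ b → b < 775 → ∃ J, chkPBlk P 5 31 18 31671 b J = true := fun b h1 h2 =>
  if h : b < 773 then lo_771_773 b h1 h else lo_773_775 b (Nat.le_of_not_lt h) h2
theorem lo_775_776 : ∀ b, 775 ≤ b → b < 776 → ∃ J, chkPBlk P 5 31 18 31671 b J = true := fun b h1 h2 => by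
  have hb : b = 775 := Nat.le_antisymm (Nat.le_of_lt_succ h2) h1
  subst hb; exact ⟨_, lblk_775⟩
theorem lo_776_777 : ∀ b, 776 ≤ b → b < 777 → ∃ J, chkPBlk P 5 31 18 31671 b J = true := fun b h1 h2 => by
  have hb : b = 776 := Nat.le_antisymm (Nat.le_of_lt_succ h2) h1
  subst hb; exact ⟨_, lblk_776⟩
theorem lo_775_777 : ∀ b, 775 ≤ b → b < 777 → ∃ J, chkPBlk P 5 31 18 31671 b J = true := fun b h1 h2 =>
  if h : b < 776 then lo_775_776 b h1 h else lo_776_777 b (Nat.le_of_not_lt h) h2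
theorem lo_777_778 : ∀ b, 777 ≤ b → b < 778 → ∃ J, chkPBlk P 5 31 18 31671 b J = true := fun b h1 h2 => by
  have hb : b = 777 := Nat.le_antisymm (Nat.le_of_lt_succ h2) h1
  subst hb; exact ⟨_, lblk_777⟩
theorem lo_778_779 : ∀ b, 778 ≤ b → b < 779 → ∃ J, chkPBlk P 5 31 18 31671 b J = true := fun b h1 h2 => by
  have hb : b = 778 := Nat.le_antisymm (Nat.le_of_lt_succ h2) h1
  subst hb; exact ⟨_, lblk_778⟩
theorem lo_779_780 : ∀ b, 779 ≤ b → b < 780 → ∃ J, chkPBlk P 5 31 18 31671 b J = true := fun b h1 h2 => by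
  have hb : b = 779 := Nat.le_antisymm (Nat.le_of_lt_succ h2) h1
  subst hb; exact ⟨_, lblk_779⟩
theorem lo_778_780 : ∀ b, 778 ≤ b → b < 780 → ∃ J, chkPBlk P 5 31 18 31671 b J = true := fun b h1 h2 =>
  if h : b < 779 then lo_778_779 b h1 h else lo_779_780 b (Nat.le_of_not_lt h) h2
theorem lo_777_780 : ∀ b, 777 ≤ b → b < 780 → ∃ J, chkPBlk P 5 31 18 31671 b J = true := fun b h1 h2 =>
  if h : b < 778 then lo_777_778 b h1 h else lo_778_780 b (Nat.le_of_not_lt h) h2
theorem lo_775_780 : ∀ b, 775 ≤ b → b < 780 → ∃ J, chkPBlk P 5 31 18 31671 b J = true := fun b h1 h2 =>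
  if h : b < 777 then lo_775_777 b h1 h else lo_777_780 b (Nat.le_of_not_lt h) h2
theorem lo_771_780 : ∀ b, 771 ≤ b → b < 780 → ∃ J, chkPBlk P 5 31 18 31671 b J = true := fun b h1 h2 =>
  if h : b < 775 then lo_771_775 b h1 h else lo_775_780 b (Nat.le_of_not_lt h) h2
theorem lo_780_781 : ∀ b, 780 ≤ b → b < 781 → ∃ J, chkPBlk P 5 31 18 31671 b J = true := fun b h1 h2 => by
  have hb : b = 780 := Nat.le_antisymm (Nat.le_of_lt_succ h2) h1
  subst hb; exact ⟨_, lblk_780⟩
theorem lo_781_782 : ∀ b, 781 ≤ b → b < 782 → ∃ J, chkPBlk P 5 31 18 31671 b J = true := fun b h1 h2 => by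
  have hb : b = 781 := Nat.le_antisymm (Nat.le_of_lt_succ h2) h1
  subst hb; exact ⟨_, lblk_781⟩
theorem lo_780_782 : ∀ b, 780 ≤ b → b < 782 → ∃ J, chkPBlk P 5 31 18 31671 b J = true := fun b h1 h2 =>
  if h : b < 781 then lo_780_781 b h1 h else lo_781_782 b (Nat.le_of_not_lt h) h2
theorem lo_782_783 : ∀ b, 782 ≤ b → b < 783 → ∃ J, chkPBlk P 5 31 18 31671 b J = true := fun b h1 h2 => by
  have hb : b = 782 := Nat.le_antisymm (Nat.le_of_lt_succ h2) h1
  subst hb; exact ⟨_, lblk_782⟩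
theorem lo_783_784 : ∀ b, 783 ≤ b → b < 784 → ∃ J, chkPBlk P 5 31 18 31671 b J = true := fun b h1 h2 => by
  have hb : b = 783 := Nat.le_antisymm (Nat.le_of_lt_succ h2) h1
  subst hb; exact ⟨_, lblk_783⟩
theorem lo_782_784 : ∀ b, 782 ≤ b → b < 784 → ∃ J, chkPBlk P 5 31 18 31671 b J = true := fun b h1 h2 =>
  if h : b < 783 then lo_782_783 b h1 h else lo_783_784 b (Nat.le_of_not_lt h) h2
theorem lo_780_784 : ∀ b, 780 ≤ b → b < 784 → ∃ J, chkPBlk P 5 31 18 31671 b J = true := fun b h1 h2 =>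
  if h : b < 782 then lo_780_782 b h1 h else lo_782_784 b (Nat.le_of_not_lt h) h2
theorem lo_784_785 : ∀ b, 784 ≤ b → b < 785 → ∃ J, chkPBlk P 5 31 18 31671 b J = true := fun b h1 h2 => by
  have hb : b = 784 := Nat.le_antisymm (Nat.le_of_lt_succ h2) h1
  subst hb; exact ⟨_, lblk_784⟩
theorem lo_785_786 : ∀ b, 785 ≤ b → b < 786 → ∃ J, chkPBlk P 5 31 18 31671 b J = true := fun b h1 h2 => by
  have hb : b = 785 := Nat.le_antisymm (Nat.le_of_lt_succ h2) h1
  subst hb; exact ⟨_, lblk_785⟩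
theorem lo_784_786 : ∀ b, 784 ≤ b → b < 786 → ∃ J, chkPBlk P 5 31 18 31671 b J = true := fun b h1 h2 =>
  if h : b < 785 then lo_784_785 b h1 h else lo_785_786 b (Nat.le_of_not_lt h) h2
theorem lo_786_787 : ∀ b, 786 ≤ b → b < 787 → ∃ J, chkPBlk P 5 31 18 31671 b J = true := fun b h1 h2 => by
  have hb : b = 786 := Nat.le_antisymm (Nat.le_of_lt_succ h2) h1
  subst hb; exact ⟨_, lblk_786⟩
theorem lo_787_788 : ∀ b, 787 ≤ b → b < 788 → ∃ J, chkPBlk P 5 31 18 31671 b J = true := fun b h1 h2 => by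
  have hb : b = 787 := Nat.le_antisymm (Nat.le_of_lt_succ h2) h1
  subst hb; exact ⟨_, lblk_787⟩
theorem lo_788_789 : ∀ b, 788 ≤ b → b < 789 → ∃ J, chkPBlk P 5 31 18 31671 b J = true := fun b h1 h2 => by
  have hb : b = 788 := Nat.le_antisymm (Nat.le_of_lt_succ h2) h1
  subst hb; exact ⟨_, lblk_788⟩
theorem lo_787_789 : ∀ b, 787 ≤ b → b < 789 → ∃ J, chkPBlk P 5 31 18 31671 b J = true := fun b h1 h2 =>
  if h : b < 788 then lo_787_788 b h1 h else lo_788_789 b (Nat.le_of_not_lt h) h2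
theorem lo_786_789 : ∀ b, 786 ≤ b → b < 789 → ∃ J, chkPBlk P 5 31 18 31671 b J = true := fun b h1 h2 =>
  if h : b < 787 then lo_786_787 b h1 h else lo_787_789 b (Nat.le_of_not_lt h) h2
theorem lo_784_789 : ∀ b, 784 ≤ b → b < 789 → ∃ J, chkPBlk P 5 31 18 31671 b J = true := fun b h1 h2 =>
  if h : b < 786 then lo_784_786 b h1 h else lo_786_789 b (Nat.le_of_not_lt h) h2
theorem lo_780_789 : ∀ b, 780 ≤ b → b < 789 → ∃ J, chkPBlk P 5 31 18 31671 b J = true := fun b h1 h2 =>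
  if h : b < 784 then lo_780_784 b h1 h else lo_784_789 b (Nat.le_of_not_lt h) h2
theorem lo_771_789 : ∀ b, 771 ≤ b → b < 789 → ∃ J, chkPBlk P 5 31 18 31671 b J = true := fun b h1 h2 =>
  if h : b < 780 then lo_771_780 b h1 h else lo_780_789 b (Nat.le_of_not_lt h) h2
theorem lo_789_790 : ∀ b, 789 ≤ b → b < 790 → ∃ J, chkPBlk P 5 31 18 31671 b J = true := fun b h1 h2 => by
  have hb : b = 789 := Nat.le_antisymm (Nat.le_of_lt_succ h2) h1
  subst hb; exact ⟨_, lblk_789⟩
theorem lo_790_791 : ∀ b, 790 ≤ b → b < 791 → ∃ J, chkPBlk P 5 31 18 31671 b J = true := fun b h1 h2 => by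
  have hb : b = 790 := Nat.le_antisymm (Nat.le_of_lt_succ h2) h1
  subst hb; exact ⟨_, lblk_790⟩
theorem lo_789_791 : ∀ b, 789 ≤ b → b < 791 → ∃ J, chkPBlk P 5 31 18 31671 b J = true := fun b h1 h2 =>
  if h : b < 790 then lo_789_790 b h1 h else lo_790_791 b (Nat.le_of_not_lt h) h2
theorem lo_791_792 : ∀ b, 791 ≤ b → b < 792 → ∃ J, chkPBlk P 5 31 18 31671 b J = true := fun b h1 h2 => by
  have hb : b = 791 := Nat.le_antisymm (Nat.le_of_lt_succ h2) h1
  subst hb; exact ⟨_, lblk_791⟩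
theorem lo_792_793 : ∀ b, 792 ≤ b → b < 793 → ∃ J, chkPBlk P 5 31 18 31671 b J = true := fun b h1 h2 => by
  have hb : b = 792 := Nat.le_antisymm (Nat.le_of_lt_succ h2) h1
  subst hb; exact ⟨_, lblk_792⟩
theorem lo_791_793 : ∀ b, 791 ≤ b → b < 793 → ∃ J, chkPBlk P 5 31 18 31671 b J = true := fun b h1 h2 =>
  if h : b < 792 then lo_791_792 b h1 h else lo_792_793 b (Nat.le_of_not_lt h) h2
theorem lo_789_793 : ∀ b, 789 ≤ b → b < 793 → ∃ J, chkPBlk P 5 31 18 31671 b J = true := fun b h1 h2 =>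
  if h : b < 791 then lo_789_791 b h1 h else lo_791_793 b (Nat.le_of_not_lt h) h2
theorem lo_793_794 : ∀ b, 793 ≤ b → b < 794 → ∃ J, chkPBlk P 5 31 18 31671 b J = true := fun b h1 h2 => by
  have hb : b = 793 := Nat.le_antisymm (Nat.le_of_lt_succ h2) h1
  subst hb; exact ⟨_, lblk_793⟩
theorem lo_794_795 : ∀ b, 794 ≤ b → b < 795 → ∃ J, chkPBlk P 5 31 18 31671 b J = true := fun b h1 h2 => by
  have hb : b = 794 := Nat.le_antisymm (Nat.le_of_lt_succ h2) h1
  subst hb; exact ⟨_, lblk_794⟩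
theorem lo_793_795 : ∀ b, 793 ≤ b → b < 795 → ∃ J, chkPBlk P 5 31 18 31671 b J = true := fun b h1 h2 =>
  if h : b < 794 then lo_793_794 b h1 h else lo_794_795 b (Nat.le_of_not_lt h) h2
theorem lo_795_796 : ∀ b, 795 ≤ b → b < 796 → ∃ J, chkPBlk P 5 31 18 31671 b J = true := fun b h1 h2 => by
  have hb : b = 795 := Nat.le_antisymm (Nat.le_of_lt_succ h2) h1
  subst hb; exact ⟨_, lblk_795⟩
theorem lo_796_797 : ∀ b, 796 ≤ b → b < 797 → ∃ J, chkPBlk P 5 31 18 31671 b J = true := fun b h1 h2 => by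
  have hb : b = 796 := Nat.le_antisymm (Nat.le_of_lt_succ h2) h1
  subst hb; exact ⟨_, lblk_796⟩
theorem lo_797_798 : ∀ b, 797 ≤ b → b < 798 → ∃ J, chkPBlk P 5 31 18 31671 b J = true := fun b h1 h2 => by
  have hb : b = 797 := Nat.le_antisymm (Nat.le_of_lt_succ h2) h1
  subst hb; exact ⟨_, lblk_797⟩
theorem lo_796_798 : ∀ b, 796 ≤ b → b < 798 → ∃ J, chkPBlk P 5 31 18 31671 b J = true := fun b h1 h2 =>
  if h : b < 797 then lo_796_797 b h1 h else lo_797_798 b (Nat.le_of_not_lt h) h2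
theorem lo_795_798 : ∀ b, 795 ≤ b → b < 798 → ∃ J, chkPBlk P 5 31 18 31671 b J = true := fun b h1 h2 =>
  if h : b < 796 then lo_795_796 b h1 h else lo_796_798 b (Nat.le_of_not_lt h) h2
theorem lo_793_798 : ∀ b, 793 ≤ b → b < 798 → ∃ J, chkPBlk P 5 31 18 31671 b J = true := fun b h1 h2 =>
  if h : b < 795 then lo_793_795 b h1 h else lo_795_798 b (Nat.le_of_not_lt h) h2
theorem lo_789_798 : ∀ b, 789 ≤ b → b < 798 → ∃ J, chkPBlk P 5 31 18 31671 b J = true := fun b h1 h2 =>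
  if h : b < 793 then lo_789_793 b h1 h else lo_793_798 b (Nat.le_of_not_lt h) h2
theorem lo_798_799 : ∀ b, 798 ≤ b → b < 799 → ∃ J, chkPBlk P 5 31 18 31671 b J = true := fun b h1 h2 => by
  have hb : b = 798 := Nat.le_antisymm (Nat.le_of_lt_succ h2) h1
  subst hb; exact ⟨_, lblk_798⟩
theorem lo_799_800 : ∀ b, 799 ≤ b → b < 800 → ∃ J, chkPBlk P 5 31 18 31671 b J = true := fun b h1 h2 => by
  have hb : b = 799 := Nat.le_antisymm (Nat.le_of_lt_succ h2) h1
  subst hb; exact ⟨_, lblk_799⟩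
theorem lo_798_800 : ∀ b, 798 ≤ b → b < 800 → ∃ J, chkPBlk P 5 31 18 31671 b J = true := fun b h1 h2 =>
  if h : b < 799 then lo_798_799 b h1 h else lo_799_800 b (Nat.le_of_not_lt h) h2
theorem lo_800_801 : ∀ b, 800 ≤ b → b < 801 → ∃ J, chkPBlk P 5 31 18 31671 b J = true := fun b h1 h2 => by
  have hb : b = 800 := Nat.le_antisymm (Nat.le_of_lt_succ h2) h1
  subst hb; exact ⟨_, lblk_800⟩
theorem lo_801_802 : ∀ b, 801 ≤ b → b < 802 → ∃ J, chkPBlk P 5 31 18 31671 b J = true := fun b h1 h2 => by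
  have hb : b = 801 := Nat.le_antisymm (Nat.le_of_lt_succ h2) h1
  subst hb; exact ⟨_, lblk_801⟩
theorem lo_802_803 : ∀ b, 802 ≤ b → b < 803 → ∃ J, chkPBlk P 5 31 18 31671 b J = true := fun b h1 h2 => by
  have hb : b = 802 := Nat.le_antisymm (Nat.le_of_lt_succ h2) h1
  subst hb; exact ⟨_, lblk_802⟩
theorem lo_801_803 : ∀ b, 801 ≤ b → b < 803 → ∃ J, chkPBlk P 5 31 18 31671 b J = true := fun b h1 h2 =>
  if h : b < 802 then lo_801_802 b h1 h else lo_802_803 b (Nat.le_of_not_lt h) h2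
theorem lo_800_803 : ∀ b, 800 ≤ b → b < 803 → ∃ J, chkPBlk P 5 31 18 31671 b J = true := fun b h1 h2 =>
  if h : b < 801 then lo_800_801 b h1 h else lo_801_803 b (Nat.le_of_not_lt h) h2
theorem lo_798_803 : ∀ b, 798 ≤ b → b < 803 → ∃ J, chkPBlk P 5 31 18 31671 b J = true := fun b h1 h2 =>
  if h : b < 800 then lo_798_800 b h1 h else lo_800_803 b (Nat.le_of_not_lt h) h2
theorem lo_803_804 : ∀ b, 803 ≤ b → b < 804 → ∃ J, chkPBlk P 5 31 18 31671 b J = true := fun b h1 h2 => by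
  have hb : b = 803 := Nat.le_antisymm (Nat.le_of_lt_succ h2) h1
  subst hb; exact ⟨_, lblk_803⟩
theorem lo_804_805 : ∀ b, 804 ≤ b → b < 805 → ∃ J, chkPBlk P 5 31 18 31671 b J = true := fun b h1 h2 => by
  have hb : b = 804 := Nat.le_antisymm (Nat.le_of_lt_succ h2) h1
  subst hb; exact ⟨_, lblk_804⟩
theorem lo_803_805 : ∀ b, 803 ≤ b → b < 805 → ∃ J, chkPBlk P 5 31 18 31671 b J = true := fun b h1 h2 =>
  if h : b < 804 then lo_803_804 b h1 h else lo_804_805 b (Nat.le_of_not_lt h) h2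
theorem lo_805_806 : ∀ b, 805 ≤ b → b < 806 → ∃ J, chkPBlk P 5 31 18 31671 b J = true := fun b h1 h2 => by
  have hb : b = 805 := Nat.le_antisymm (Nat.le_of_lt_succ h2) h1
  subst hb; exact ⟨_, lblk_805⟩
theorem lo_806_807 : ∀ b, 806 ≤ b → b < 807 → ∃ J, chkPBlk P 5 31 18 31671 b J = true := fun b h1 h2 => by
  have hb : b = 806 := Nat.le_antisymm (Nat.le_of_lt_succ h2) h1
  subst hb; exact ⟨_, lblk_806⟩
theorem lo_807_808 : ∀ b, 807 ≤ b → b < 808 → ∃ J, chkPBlk P 5 31 18 31671 b J = true := fun b h1 h2 => by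
  have hb : b = 807 := Nat.le_antisymm (Nat.le_of_lt_succ h2) h1
  subst hb; exact ⟨_, lblk_807⟩
theorem lo_806_808 : ∀ b, 806 ≤ b → b < 808 → ∃ J, chkPBlk P 5 31 18 31671 b J = true := fun b h1 h2 =>
  if h : b < 807 then lo_806_807 b h1 h else lo_807_808 b (Nat.le_of_not_lt h) h2
theorem lo_805_808 : ∀ b, 805 ≤ b → b < 808 → ∃ J, chkPBlk P 5 31 18 31671 b J = true := fun b h1 h2 =>
  if h : b < 806 then lo_805_806 b h1 h else lo_806_808 b (Nat.le_of_not_lt h) h2
theorem lo_803_808 : ∀ b, 803 ≤ b → b < 808 → ∃ J, chkPBlk P 5 31 18 31671 b J = true := fun b h1 h2 =>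
  if h : b < 805 then lo_803_805 b h1 h else lo_805_808 b (Nat.le_of_not_lt h) h2
theorem lo_798_808 : ∀ b, 798 ≤ b → b < 808 → ∃ J, chkPBlk P 5 31 18 31671 b J = true := fun b h1 h2 =>
  if h : b < 803 then lo_798_803 b h1 h else lo_803_808 b (Nat.le_of_not_lt h) h2
theorem lo_789_808 : ∀ b, 789 ≤ b → b < 808 → ∃ J, chkPBlk P 5 31 18 31671 b J = true := fun b h1 h2 =>
  if h : b < 798 then lo_789_798 b h1 h else lo_798_808 b (Nat.le_of_not_lt h) h2
theorem lo_771_808 : ∀ b, 771 ≤ b → b < 808 → ∃ J, chkPBlk P 5 31 18 31671 b J = true := fun b h1 h2 =>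
  if h : b < 789 then lo_771_789 b h1 h else lo_789_808 b (Nat.le_of_not_lt h) h2
theorem lo_735_808 : ∀ b, 735 ≤ b → b < 808 → ∃ J, chkPBlk P 5 31 18 31671 b J = true := fun b h1 h2 =>
  if h : b < 771 then lo_735_771 b h1 h else lo_771_808 b (Nat.le_of_not_lt h) h2
theorem lo_808_809 : ∀ b, 808 ≤ b → b < 809 → ∃ J, chkPBlk P 5 31 18 31671 b J = true := fun b h1 h2 => by
  have hb : b = 808 := Nat.le_antisymm (Nat.le_of_lt_succ h2) h1
  subst hb; exact ⟨_, lblk_808⟩
theorem lo_809_810 : ∀ b, 809 ≤ b → b < 810 → ∃ J, chkPBlk P 5 31 18 31671 b J = true := fun b h1 h2 => by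
  have hb : b = 809 := Nat.le_antisymm (Nat.le_of_lt_succ h2) h1
  subst hb; exact ⟨_, lblk_809⟩
theorem lo_808_810 : ∀ b, 808 ≤ b → b < 810 → ∃ J, chkPBlk P 5 31 18 31671 b J = true := fun b h1 h2 =>
  if h : b < 809 then lo_808_809 b h1 h else lo_809_810 b (Nat.le_of_not_lt h) h2
theorem lo_810_811 : ∀ b, 810 ≤ b → b < 811 → ∃ J, chkPBlk P 5 31 18 31671 b J = true := fun b h1 h2 => by
  have hb : b = 810 := Nat.le_antisymm (Nat.le_of_lt_succ h2) h1
  subst hb; exact ⟨_, lblk_810⟩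
theorem lo_811_812 : ∀ b, 811 ≤ b → b < 812 → ∃ J, chkPBlk P 5 31 18 31671 b J = true := fun b h1 h2 => by
  have hb : b = 811 := Nat.le_antisymm (Nat.le_of_lt_succ h2) h1
  subst hb; exact ⟨_, lblk_811⟩
theorem lo_810_812 : ∀ b, 810 ≤ b → b < 812 → ∃ J, chkPBlk P 5 31 18 31671 b J = true := fun b h1 h2 =>
  if h : b < 811 then lo_810_811 b h1 h else lo_811_812 b (Nat.le_of_not_lt h) h2
theorem lo_808_812 : ∀ b, 808 ≤ b → b < 812 → ∃ J, chkPBlk P 5 31 18 31671 b J = true := fun b h1 h2 =>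
  if h : b < 810 then lo_808_810 b h1 h else lo_810_812 b (Nat.le_of_not_lt h) h2
theorem lo_812_813 : ∀ b, 812 ≤ b → b < 813 → ∃ J, chkPBlk P 5 31 18 31671 b J = true := fun b h1 h2 => by
  have hb : b = 812 := Nat.le_antisymm (Nat.le_of_lt_succ h2) h1
  subst hb; exact ⟨_, lblk_812⟩
theorem lo_813_814 : ∀ b, 813 ≤ b → b < 814 → ∃ J, chkPBlk P 5 31 18 31671 b J = true := fun b h1 h2 => by
  have hb : b = 813 := Nat.le_antisymm (Nat.le_of_lt_succ h2) h1
  subst hb; exact ⟨_, lblk_813⟩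
theorem lo_812_814 : ∀ b, 812 ≤ b → b < 814 → ∃ J, chkPBlk P 5 31 18 31671 b J = true := fun b h1 h2 =>
  if h : b < 813 then lo_812_813 b h1 h else lo_813_814 b (Nat.le_of_not_lt h) h2
theorem lo_814_815 : ∀ b, 814 ≤ b → b < 815 → ∃ J, chkPBlk P 5 31 18 31671 b J = true := fun b h1 h2 => by
  have hb : b = 814 := Nat.le_antisymm (Nat.le_of_lt_succ h2) h1
  subst hb; exact ⟨_, lblk_814⟩
theorem lo_815_816 : ∀ b, 815 ≤ b → b < 816 → ∃ J, chkPBlk P 5 31 18 31671 b J = true := fun b h1 h2 => by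
  have hb : b = 815 := Nat.le_antisymm (Nat.le_of_lt_succ h2) h1
  subst hb; exact ⟨_, lblk_815⟩
theorem lo_816_817 : ∀ b, 816 ≤ b → b < 817 → ∃ J, chkPBlk P 5 31 18 31671 b J = true := fun b h1 h2 => by
  have hb : b = 816 := Nat.le_antisymm (Nat.le_of_lt_succ h2) h1
  subst hb; exact ⟨_, lblk_816⟩
theorem lo_815_817 : ∀ b, 815 ≤ b → b < 817 → ∃ J, chkPBlk P 5 31 18 31671 b J = true := fun b h1 h2 =>
  if h : b < 816 then lo_815_816 b h1 h else lo_816_817 b (Nat.le_of_not_lt h) h2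
theorem lo_814_817 : ∀ b, 814 ≤ b → b < 817 → ∃ J, chkPBlk P 5 31 18 31671 b J = true := fun b h1 h2 =>
  if h : b < 815 then lo_814_815 b h1 h else lo_815_817 b (Nat.le_of_not_lt h) h2
theorem lo_812_817 : ∀ b, 812 ≤ b → b < 817 → ∃ J, chkPBlk P 5 31 18 31671 b J = true := fun b h1 h2 =>
  if h : b < 814 then lo_812_814 b h1 h else lo_814_817 b (Nat.le_of_not_lt h) h2
theorem lo_808_817 : ∀ b, 808 ≤ b → b < 817 → ∃ J, chkPBlk P 5 31 18 31671 b J = true := fun b h1 h2 =>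
  if h : b < 812 then lo_808_812 b h1 h else lo_812_817 b (Nat.le_of_not_lt h) h2
theorem lo_817_818 : ∀ b, 817 ≤ b → b < 818 → ∃ J, chkPBlk P 5 31 18 31671 b J = true := fun b h1 h2 => by
  have hb : b = 817 := Nat.le_antisymm (Nat.le_of_lt_succ h2) h1
  subst hb; exact ⟨_, lblk_817⟩
theorem lo_818_819 : ∀ b, 818 ≤ b → b < 819 → ∃ J, chkPBlk P 5 31 18 31671 b J = true := fun b h1 h2 => by
  have hb : b = 818 := Nat.le_antisymm (Nat.le_of_lt_succ h2) h1
  subst hb; exact ⟨_, lblk_818⟩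
theorem lo_817_819 : ∀ b, 817 ≤ b → b < 819 → ∃ J, chkPBlk P 5 31 18 31671 b J = true := fun b h1 h2 =>
  if h : b < 818 then lo_817_818 b h1 h else lo_818_819 b (Nat.le_of_not_lt h) h2
theorem lo_819_820 : ∀ b, 819 ≤ b → b < 820 → ∃ J, chkPBlk P 5 31 18 31671 b J = true := fun b h1 h2 => by
  have hb : b = 819 := Nat.le_antisymm (Nat.le_of_lt_succ h2) h1
  subst hb; exact ⟨_, lblk_819⟩
theorem lo_820_821 : ∀ b, 820 ≤ b → b < 821 → ∃ J, chkPBlk P 5 31 18 31671 b J = true := fun b h1 h2 => by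
  have hb : b = 820 := Nat.le_antisymm (Nat.le_of_lt_succ h2) h1
  subst hb; exact ⟨_, lblk_820⟩
theorem lo_819_821 : ∀ b, 819 ≤ b → b < 821 → ∃ J, chkPBlk P 5 31 18 31671 b J = true := fun b h1 h2 =>
  if h : b < 820 then lo_819_820 b h1 h else lo_820_821 b (Nat.le_of_not_lt h) h2
theorem lo_817_821 : ∀ b, 817 ≤ b → b < 821 → ∃ J, chkPBlk P 5 31 18 31671 b J = true := fun b h1 h2 =>
  if h : b < 819 then lo_817_819 b h1 h else lo_819_821 b (Nat.le_of_not_lt h) h2
theorem lo_821_822 : ∀ b, 821 ≤ b → b < 822 → ∃ J, chkPBlk P 5 31 18 31671 b J = true := fun b h1 h2 => by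
  have hb : b = 821 := Nat.le_antisymm (Nat.le_of_lt_succ h2) h1
  subst hb; exact ⟨_, lblk_821⟩
theorem lo_822_823 : ∀ b, 822 ≤ b → b < 823 → ∃ J, chkPBlk P 5 31 18 31671 b J = true := fun b h1 h2 => by
  have hb : b = 822 := Nat.le_antisymm (Nat.le_of_lt_succ h2) h1
  subst hb; exact ⟨_, lblk_822⟩
theorem lo_821_823 : ∀ b, 821 ≤ b → b < 823 → ∃ J, chkPBlk P 5 31 18 31671 b J = true := fun b h1 h2 =>
  if h : b < 822 then lo_821_822 b h1 h else lo_822_823 b (Nat.le_of_not_lt h) h2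
theorem lo_823_824 : ∀ b, 823 ≤ b → b < 824 → ∃ J, chkPBlk P 5 31 18 31671 b J = true := fun b h1 h2 => by
  have hb : b = 823 := Nat.le_antisymm (Nat.le_of_lt_succ h2) h1
  subst hb; exact ⟨_, lblk_823⟩
theorem lo_824_825 : ∀ b, 824 ≤ b → b < 825 → ∃ J, chkPBlk P 5 31 18 31671 b J = true := fun b h1 h2 => by
  have hb : b = 824 := Nat.le_antisymm (Nat.le_of_lt_succ h2) h1
  subst hb; exact ⟨_, lblk_824⟩
theorem lo_825_826 : ∀ b, 825 ≤ b → b < 826 → ∃ J, chkPBlk P 5 31 18 31671 b J = true := fun b h1 h2 => by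
  have hb : b = 825 := Nat.le_antisymm (Nat.le_of_lt_succ h2) h1
  subst hb; exact ⟨_, lblk_825⟩
theorem lo_824_826 : ∀ b, 824 ≤ b → b < 826 → ∃ J, chkPBlk P 5 31 18 31671 b J = true := fun b h1 h2 =>
  if h : b < 825 then lo_824_825 b h1 h else lo_825_826 b (Nat.le_of_not_lt h) h2
theorem lo_823_826 : ∀ b, 823 ≤ b → b < 826 → ∃ J, chkPBlk P 5 31 18 31671 b J = true := fun b h1 h2 =>
  if h : b < 824 then lo_823_824 b h1 h else lo_824_826 b (Nat.le_of_not_lt h) h2
theorem lo_821_826 : ∀ b, 821 ≤ b → b < 826 → ∃ J, chkPBlk P 5 31 18 31671 b J = true := fun b h1 h2 =>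
  if h : b < 823 then lo_821_823 b h1 h else lo_823_826 b (Nat.le_of_not_lt h) h2
theorem lo_817_826 : ∀ b, 817 ≤ b → b < 826 → ∃ J, chkPBlk P 5 31 18 31671 b J = true := fun b h1 h2 =>
  if h : b < 821 then lo_817_821 b h1 h else lo_821_826 b (Nat.le_of_not_lt h) h2
theorem lo_808_826 : ∀ b, 808 ≤ b → b < 826 → ∃ J, chkPBlk P 5 31 18 31671 b J = true := fun b h1 h2 =>
  if h : b < 817 then lo_808_817 b h1 h else lo_817_826 b (Nat.le_of_not_lt h) h2
theorem lo_826_827 : ∀ b, 826 ≤ b → b < 827 → ∃ J, chkPBlk P 5 31 18 31671 b J = true := fun b h1 h2 => by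
  have hb : b = 826 := Nat.le_antisymm (Nat.le_of_lt_succ h2) h1
  subst hb; exact ⟨_, lblk_826⟩
theorem lo_827_828 : ∀ b, 827 ≤ b → b < 828 → ∃ J, chkPBlk P 5 31 18 31671 b J = true := fun b h1 h2 => by
  have hb : b = 827 := Nat.le_antisymm (Nat.le_of_lt_succ h2) h1
  subst hb; exact ⟨_, lblk_827⟩
theorem lo_826_828 : ∀ b, 826 ≤ b → b < 828 → ∃ J, chkPBlk P 5 31 18 31671 b J = true := fun b h1 h2 =>
  if h : b < 827 then lo_826_827 b h1 h else lo_827_828 b (Nat.le_of_not_lt h) h2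
theorem lo_828_829 : ∀ b, 828 ≤ b → b < 829 → ∃ J, chkPBlk P 5 31 18 31671 b J = true := fun b h1 h2 => by
  have hb : b = 828 := Nat.le_antisymm (Nat.le_of_lt_succ h2) h1
  subst hb; exact ⟨_, lblk_828⟩
theorem lo_829_830 : ∀ b, 829 ≤ b → b < 830 → ∃ J, chkPBlk P 5 31 18 31671 b J = true := fun b h1 h2 => by
  have hb : b = 829 := Nat.le_antisymm (Nat.le_of_lt_succ h2) h1
  subst hb; exact ⟨_, lblk_829⟩
theorem lo_828_830 : ∀ b, 828 ≤ b → b < 830 → ∃ J, chkPBlk P 5 31 18 31671 b J = true := fun b h1 h2 =>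
  if h : b < 829 then lo_828_829 b h1 h else lo_829_830 b (Nat.le_of_not_lt h) h2
theorem lo_826_830 : ∀ b, 826 ≤ b → b < 830 → ∃ J, chkPBlk P 5 31 18 31671 b J = true := fun b h1 h2 =>
  if h : b < 828 then lo_826_828 b h1 h else lo_828_830 b (Nat.le_of_not_lt h) h2
theorem lo_830_831 : ∀ b, 830 ≤ b → b < 831 → ∃ J, chkPBlk P 5 31 18 31671 b J = true := fun b h1 h2 => by
  have hb : b = 830 := Nat.le_antisymm (Nat.le_of_lt_succ h2) h1
  subst hb; exact ⟨_, lblk_830⟩
theorem lo_831_832 : ∀ b, 831 ≤ b → b < 832 → ∃ J, chkPBlk P 5 31 18 31671 b J = true := fun b h1 h2 => by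
  have hb : b = 831 := Nat.le_antisymm (Nat.le_of_lt_succ h2) h1
  subst hb; exact ⟨_, lblk_831⟩
theorem lo_830_832 : ∀ b, 830 ≤ b → b < 832 → ∃ J, chkPBlk P 5 31 18 31671 b J = true := fun b h1 h2 =>
  if h : b < 831 then lo_830_831 b h1 h else lo_831_832 b (Nat.le_of_not_lt h) h2
theorem lo_832_833 : ∀ b, 832 ≤ b → b < 833 → ∃ J, chkPBlk P 5 31 18 31671 b J = true := fun b h1 h2 => by
  have hb : b = 832 := Nat.le_antisymm (Nat.le_of_lt_succ h2) h1
  subst hb; exact ⟨_, lblk_832⟩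
theorem lo_833_834 : ∀ b, 833 ≤ b → b < 834 → ∃ J, chkPBlk P 5 31 18 31671 b J = true := fun b h1 h2 => by
  have hb : b = 833 := Nat.le_antisymm (Nat.le_of_lt_succ h2) h1
  subst hb; exact ⟨_, lblk_833⟩
theorem lo_834_835 : ∀ b, 834 ≤ b → b < 835 → ∃ J, chkPBlk P 5 31 18 31671 b J = true := fun b h1 h2 => by
  have hb : b = 834 := Nat.le_antisymm (Nat.le_of_lt_succ h2) h1
  subst hb; exact ⟨_, lblk_834⟩
theorem lo_833_835 : ∀ b, 833 ≤ b → b < 835 → ∃ J, chkPBlk P 5 31 18 31671 b J = true := fun b h1 h2 =>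
  if h : b < 834 then lo_833_834 b h1 h else lo_834_835 b (Nat.le_of_not_lt h) h2
theorem lo_832_835 : ∀ b, 832 ≤ b → b < 835 → ∃ J, chkPBlk P 5 31 18 31671 b J = true := fun b h1 h2 =>
  if h : b < 833 then lo_832_833 b h1 h else lo_833_835 b (Nat.le_of_not_lt h) h2
theorem lo_830_835 : ∀ b, 830 ≤ b → b < 835 → ∃ J, chkPBlk P 5 31 18 31671 b J = true := fun b h1 h2 =>
  if h : b < 832 then lo_830_832 b h1 h else lo_832_835 b (Nat.le_of_not_lt h) h2
theorem lo_826_835 : ∀ b, 826 ≤ b → b < 835 → ∃ J, chkPBlk P 5 31 18 31671 b J = true := fun b h1 h2 =>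
  if h : b < 830 then lo_826_830 b h1 h else lo_830_835 b (Nat.le_of_not_lt h) h2
theorem lo_835_836 : ∀ b, 835 ≤ b → b < 836 → ∃ J, chkPBlk P 5 31 18 31671 b J = true := fun b h1 h2 => by
  have hb : b = 835 := Nat.le_antisymm (Nat.le_of_lt_succ h2) h1
  subst hb; exact ⟨_, lblk_835⟩
theorem lo_836_837 : ∀ b, 836 ≤ b → b < 837 → ∃ J, chkPBlk P 5 31 18 31671 b J = true := fun b h1 h2 => by
  have hb : b = 836 := Nat.le_antisymm (Nat.le_of_lt_succ h2) h1
  subst hb; exact ⟨_, lblk_836⟩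
theorem lo_835_837 : ∀ b, 835 ≤ b → b < 837 → ∃ J, chkPBlk P 5 31 18 31671 b J = true := fun b h1 h2 =>
  if h : b < 836 then lo_835_836 b h1 h else lo_836_837 b (Nat.le_of_not_lt h) h2
theorem lo_837_838 : ∀ b, 837 ≤ b → b < 838 → ∃ J, chkPBlk P 5 31 18 31671 b J = true := fun b h1 h2 => by
  have hb : b = 837 := Nat.le_antisymm (Nat.le_of_lt_succ h2) h1
  subst hb; exact ⟨_, lblk_837⟩
theorem lo_838_839 : ∀ b, 838 ≤ b → b < 839 → ∃ J, chkPBlk P 5 31 18 31671 b J = true := fun b h1 h2 => by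
  have hb : b = 838 := Nat.le_antisymm (Nat.le_of_lt_succ h2) h1
  subst hb; exact ⟨_, lblk_838⟩
theorem lo_839_840 : ∀ b, 839 ≤ b → b < 840 → ∃ J, chkPBlk P 5 31 18 31671 b J = true := fun b h1 h2 => by
  have hb : b = 839 := Nat.le_antisymm (Nat.le_of_lt_succ h2) h1
  subst hb; exact ⟨_, lblk_839⟩
theorem lo_838_840 : ∀ b, 838 ≤ b → b < 840 → ∃ J, chkPBlk P 5 31 18 31671 b J = true := fun b h1 h2 =>
  if h : b < 839 then lo_838_839 b h1 h else lo_839_840 b (Nat.le_of_not_lt h) h2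
theorem lo_837_840 : ∀ b, 837 ≤ b → b < 840 → ∃ J, chkPBlk P 5 31 18 31671 b J = true := fun b h1 h2 =>
  if h : b < 838 then lo_837_838 b h1 h else lo_838_840 b (Nat.le_of_not_lt h) h2
theorem lo_835_840 : ∀ b, 835 ≤ b → b < 840 → ∃ J, chkPBlk P 5 31 18 31671 b J = true := fun b h1 h2 =>
  if h : b < 837 then lo_835_837 b h1 h else lo_837_840 b (Nat.le_of_not_lt h) h2
theorem lo_840_841 : ∀ b, 840 ≤ b → b < 841 → ∃ J, chkPBlk P 5 31 18 31671 b J = true := fun b h1 h2 => by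
  have hb : b = 840 := Nat.le_antisymm (Nat.le_of_lt_succ h2) h1
  subst hb; exact ⟨_, lblk_840⟩
theorem lo_841_842 : ∀ b, 841 ≤ b → b < 842 → ∃ J, chkPBlk P 5 31 18 31671 b J = true := fun b h1 h2 => by
  have hb : b = 841 := Nat.le_antisymm (Nat.le_of_lt_succ h2) h1
  subst hb; exact ⟨_, lblk_841⟩
theorem lo_840_842 : ∀ b, 840 ≤ b → b < 842 → ∃ J, chkPBlk P 5 31 18 31671 b J = true := fun b h1 h2 =>
  if h : b < 841 then lo_840_841 b h1 h else lo_841_842 b (Nat.le_of_not_lt h) h2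
theorem lo_842_843 : ∀ b, 842 ≤ b → b < 843 → ∃ J, chkPBlk P 5 31 18 31671 b J = true := fun b h1 h2 => by
  have hb : b = 842 := Nat.le_antisymm (Nat.le_of_lt_succ h2) h1
  subst hb; exact ⟨_, lblk_842⟩
theorem lo_843_844 : ∀ b, 843 ≤ b → b < 844 → ∃ J, chkPBlk P 5 31 18 31671 b J = true := fun b h1 h2 => by
  have hb : b = 843 := Nat.le_antisymm (Nat.le_of_lt_succ h2) h1
  subst hb; exact ⟨_, lblk_843⟩
theorem lo_844_845 : ∀ b, 844 ≤ b → b < 845 → ∃ J, chkPBlk P 5 31 18 31671 b J = true := fun b h1 h2 => by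
  have hb : b = 844 := Nat.le_antisymm (Nat.le_of_lt_succ h2) h1
  subst hb; exact ⟨_, lblk_844⟩
theorem lo_843_845 : ∀ b, 843 ≤ b → b < 845 → ∃ J, chkPBlk P 5 31 18 31671 b J = true := fun b h1 h2 =>
  if h : b < 844 then lo_843_844 b h1 h else lo_844_845 b (Nat.le_of_not_lt h) h2
theorem lo_842_845 : ∀ b, 842 ≤ b → b < 845 → ∃ J, chkPBlk P 5 31 18 31671 b J = true := fun b h1 h2 =>
  if h : b < 843 then lo_842_843 b h1 h else lo_843_845 b (Nat.le_of_not_lt h) h2
theorem lo_840_845 : ∀ b, 840 ≤ b → b < 845 → ∃ J, chkPBlk P 5 31 18 31671 b J = true := fun b h1 h2 =>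
  if h : b < 842 then lo_840_842 b h1 h else lo_842_845 b (Nat.le_of_not_lt h) h2
theorem lo_835_845 : ∀ b, 835 ≤ b → b < 845 → ∃ J, chkPBlk P 5 31 18 31671 b J = true := fun b h1 h2 =>
  if h : b < 840 then lo_835_840 b h1 h else lo_840_845 b (Nat.le_of_not_lt h) h2
theorem lo_826_845 : ∀ b, 826 ≤ b → b < 845 → ∃ J, chkPBlk P 5 31 18 31671 b J = true := fun b h1 h2 =>
  if h : b < 835 then lo_826_835 b h1 h else lo_835_845 b (Nat.le_of_not_lt h) h2
theorem lo_808_845 : ∀ b, 808 ≤ b → b < 845 → ∃ J, chkPBlk P 5 31 18 31671 b J = true := fun b h1 h2 =>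
  if h : b < 826 then lo_808_826 b h1 h else lo_826_845 b (Nat.le_of_not_lt h) h2
theorem lo_845_846 : ∀ b, 845 ≤ b → b < 846 → ∃ J, chkPBlk P 5 31 18 31671 b J = true := fun b h1 h2 => by
  have hb : b = 845 := Nat.le_antisymm (Nat.le_of_lt_succ h2) h1
  subst hb; exact ⟨_, lblk_845⟩
theorem lo_846_847 : ∀ b, 846 ≤ b → b < 847 → ∃ J, chkPBlk P 5 31 18 31671 b J = true := fun b h1 h2 => by
  have hb : b = 846 := Nat.le_antisymm (Nat.le_of_lt_succ h2) h1
  subst hb; exact ⟨_, lblk_846⟩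
theorem lo_845_847 : ∀ b, 845 ≤ b → b < 847 → ∃ J, chkPBlk P 5 31 18 31671 b J = true := fun b h1 h2 =>
  if h : b < 846 then lo_845_846 b h1 h else lo_846_847 b (Nat.le_of_not_lt h) h2
theorem lo_847_848 : ∀ b, 847 ≤ b → b < 848 → ∃ J, chkPBlk P 5 31 18 31671 b J = true := fun b h1 h2 => by
  have hb : b = 847 := Nat.le_antisymm (Nat.le_of_lt_succ h2) h1
  subst hb; exact ⟨_, lblk_847⟩
theorem lo_848_849 : ∀ b, 848 ≤ b → b < 849 → ∃ J, chkPBlk P 5 31 18 31671 b J = true := fun b h1 h2 => by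
  have hb : b = 848 := Nat.le_antisymm (Nat.le_of_lt_succ h2) h1
  subst hb; exact ⟨_, lblk_848⟩
theorem lo_847_849 : ∀ b, 847 ≤ b → b < 849 → ∃ J, chkPBlk P 5 31 18 31671 b J = true := fun b h1 h2 =>
  if h : b < 848 then lo_847_848 b h1 h else lo_848_849 b (Nat.le_of_not_lt h) h2
theorem lo_845_849 : ∀ b, 845 ≤ b → b < 849 → ∃ J, chkPBlk P 5 31 18 31671 b J = true := fun b h1 h2 =>
  if h : b < 847 then lo_845_847 b h1 h else lo_847_849 b (Nat.le_of_not_lt h) h2
theorem lo_849_850 : ∀ b, 849 ≤ b → b < 850 → ∃ J, chkPBlk P 5 31 18 31671 b J = true := fun b h1 h2 => by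
  have hb : b = 849 := Nat.le_antisymm (Nat.le_of_lt_succ h2) h1
  subst hb; exact ⟨_, lblk_849⟩
theorem lo_850_851 : ∀ b, 850 ≤ b → b < 851 → ∃ J, chkPBlk P 5 31 18 31671 b J = true := fun b h1 h2 => by
  have hb : b = 850 := Nat.le_antisymm (Nat.le_of_lt_succ h2) h1
  subst hb; exact ⟨_, lblk_850⟩
theorem lo_849_851 : ∀ b, 849 ≤ b → b < 851 → ∃ J, chkPBlk P 5 31 18 31671 b J = true := fun b h1 h2 =>
  if h : b < 850 then lo_849_850 b h1 h else lo_850_851 b (Nat.le_of_not_lt h) h2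
theorem lo_851_852 : ∀ b, 851 ≤ b → b < 852 → ∃ J, chkPBlk P 5 31 18 31671 b J = true := fun b h1 h2 => by
  have hb : b = 851 := Nat.le_antisymm (Nat.le_of_lt_succ h2) h1
  subst hb; exact ⟨_, lblk_851⟩
theorem lo_852_853 : ∀ b, 852 ≤ b → b < 853 → ∃ J, chkPBlk P 5 31 18 31671 b J = true := fun b h1 h2 => by
  have hb : b = 852 := Nat.le_antisymm (Nat.le_of_lt_succ h2) h1
  subst hb; exact ⟨_, lblk_852⟩
theorem lo_853_854 : ∀ b, 853 ≤ b → b < 854 → ∃ J, chkPBlk P 5 31 18 31671 b J = true := fun b h1 h2 => by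
  have hb : b = 853 := Nat.le_antisymm (Nat.le_of_lt_succ h2) h1
  subst hb; exact ⟨_, lblk_853⟩
theorem lo_852_854 : ∀ b, 852 ≤ b → b < 854 → ∃ J, chkPBlk P 5 31 18 31671 b J = true := fun b h1 h2 =>
  if h : b < 853 then lo_852_853 b h1 h else lo_853_854 b (Nat.le_of_not_lt h) h2
theorem lo_851_854 : ∀ b, 851 ≤ b → b < 854 → ∃ J, chkPBlk P 5 31 18 31671 b J = true := fun b h1 h2 =>
  if h : b < 852 then lo_851_852 b h1 h else lo_852_854 b (Nat.le_of_not_lt h) h2
theorem lo_849_854 : ∀ b, 849 ≤ b → b < 854 → ∃ J, chkPBlk P 5 31 18 31671 b J = true := fun b h1 h2 =>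
  if h : b < 851 then lo_849_851 b h1 h else lo_851_854 b (Nat.le_of_not_lt h) h2
theorem lo_845_854 : ∀ b, 845 ≤ b → b < 854 → ∃ J, chkPBlk P 5 31 18 31671 b J = true := fun b h1 h2 =>
  if h : b < 849 then lo_845_849 b h1 h else lo_849_854 b (Nat.le_of_not_lt h) h2
theorem lo_854_855 : ∀ b, 854 ≤ b → b < 855 → ∃ J, chkPBlk P 5 31 18 31671 b J = true := fun b h1 h2 => by
  have hb : b = 854 := Nat.le_antisymm (Nat.le_of_lt_succ h2) h1
  subst hb; exact ⟨_, lblk_854⟩
theorem lo_855_856 : ∀ b, 855 ≤ b → b < 856 → ∃ J, chkPBlk P 5 31 18 31671 b J = true := fun b h1 h2 => by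
  have hb : b = 855 := Nat.le_antisymm (Nat.le_of_lt_succ h2) h1
  subst hb; exact ⟨_, lblk_855⟩
theorem lo_854_856 : ∀ b, 854 ≤ b → b < 856 → ∃ J, chkPBlk P 5 31 18 31671 b J = true := fun b h1 h2 =>
  if h : b < 855 then lo_854_855 b h1 h else lo_855_856 b (Nat.le_of_not_lt h) h2
theorem lo_856_857 : ∀ b, 856 ≤ b → b < 857 → ∃ J, chkPBlk P 5 31 18 31671 b J = true := fun b h1 h2 => by
  have hb : b = 856 := Nat.le_antisymm (Nat.le_of_lt_succ h2) h1
  subst hb; exact ⟨_, lblk_856⟩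
theorem lo_857_858 : ∀ b, 857 ≤ b → b < 858 → ∃ J, chkPBlk P 5 31 18 31671 b J = true := fun b h1 h2 => by
  have hb : b = 857 := Nat.le_antisymm (Nat.le_of_lt_succ h2) h1
  subst hb; exact ⟨_, lblk_857⟩
theorem lo_856_858 : ∀ b, 856 ≤ b → b < 858 → ∃ J, chkPBlk P 5 31 18 31671 b J = true := fun b h1 h2 =>
  if h : b < 857 then lo_856_857 b h1 h else lo_857_858 b (Nat.le_of_not_lt h) h2
theorem lo_854_858 : ∀ b, 854 ≤ b → b < 858 → ∃ J, chkPBlk P 5 31 18 31671 b J = true := fun b h1 h2 =>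
  if h : b < 856 then lo_854_856 b h1 h else lo_856_858 b (Nat.le_of_not_lt h) h2
theorem lo_858_859 : ∀ b, 858 ≤ b → b < 859 → ∃ J, chkPBlk P 5 31 18 31671 b J = true := fun b h1 h2 => by
  have hb : b = 858 := Nat.le_antisymm (Nat.le_of_lt_succ h2) h1
  subst hb; exact ⟨_, lblk_858⟩
theorem lo_859_860 : ∀ b, 859 ≤ b → b < 860 → ∃ J, chkPBlk P 5 31 18 31671 b J = true := fun b h1 h2 => by
  have hb : b = 859 := Nat.le_antisymm (Nat.le_of_lt_succ h2) h1
  subst hb; exact ⟨_, lblk_859⟩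
theorem lo_858_860 : ∀ b, 858 ≤ b → b < 860 → ∃ J, chkPBlk P 5 31 18 31671 b J = true := fun b h1 h2 =>
  if h : b < 859 then lo_858_859 b h1 h else lo_859_860 b (Nat.le_of_not_lt h) h2
theorem lo_860_861 : ∀ b, 860 ≤ b → b < 861 → ∃ J, chkPBlk P 5 31 18 31671 b J = true := fun b h1 h2 => by
  have hb : b = 860 := Nat.le_antisymm (Nat.le_of_lt_succ h2) h1
  subst hb; exact ⟨_, lblk_860⟩
theorem lo_861_862 : ∀ b, 861 ≤ b → b < 862 → ∃ J, chkPBlk P 5 31 18 31671 b J = true := fun b h1 h2 => by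
  have hb : b = 861 := Nat.le_antisymm (Nat.le_of_lt_succ h2) h1
  subst hb; exact ⟨_, lblk_861⟩
theorem lo_862_863 : ∀ b, 862 ≤ b → b < 863 → ∃ J, chkPBlk P 5 31 18 31671 b J = true := fun b h1 h2 => by
  have hb : b = 862 := Nat.le_antisymm (Nat.le_of_lt_succ h2) h1
  subst hb; exact ⟨_, lblk_862⟩
theorem lo_861_863 : ∀ b, 861 ≤ b → b < 863 → ∃ J, chkPBlk P 5 31 18 31671 b J = true := fun b h1 h2 =>
  if h : b < 862 then lo_861_862 b h1 h else lo_862_863 b (Nat.le_of_not_lt h) h2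
theorem lo_860_863 : ∀ b, 860 ≤ b → b < 863 → ∃ J, chkPBlk P 5 31 18 31671 b J = true := fun b h1 h2 =>
  if h : b < 861 then lo_860_861 b h1 h else lo_861_863 b (Nat.le_of_not_lt h) h2
theorem lo_858_863 : ∀ b, 858 ≤ b → b < 863 → ∃ J, chkPBlk P 5 31 18 31671 b J = true := fun b h1 h2 =>
  if h : b < 860 then lo_858_860 b h1 h else lo_860_863 b (Nat.le_of_not_lt h) h2
theorem lo_854_863 : ∀ b, 854 ≤ b → b < 863 → ∃ J, chkPBlk P 5 31 18 31671 b J = true := fun b h1 h2 =>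
  if h : b < 858 then lo_854_858 b h1 h else lo_858_863 b (Nat.le_of_not_lt h) h2
theorem lo_845_863 : ∀ b, 845 ≤ b → b < 863 → ∃ J, chkPBlk P 5 31 18 31671 b J = true := fun b h1 h2 =>
  if h : b < 854 then lo_845_854 b h1 h else lo_854_863 b (Nat.le_of_not_lt h) h2
theorem lo_863_864 : ∀ b, 863 ≤ b → b < 864 → ∃ J, chkPBlk P 5 31 18 31671 b J = true := fun b h1 h2 => by
  have hb : b = 863 := Nat.le_antisymm (Nat.le_of_lt_succ h2) h1
  subst hb; exact ⟨_, lblk_863⟩
theorem lo_864_865 : ∀ b, 864 ≤ b → b < 865 → ∃ J, chkPBlk P 5 31 18 31671 b J = true := fun b h1 h2 => by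
  have hb : b = 864 := Nat.le_antisymm (Nat.le_of_lt_succ h2) h1
  subst hb; exact ⟨_, lblk_864⟩
theorem lo_863_865 : ∀ b, 863 ≤ b → b < 865 → ∃ J, chkPBlk P 5 31 18 31671 b J = true := fun b h1 h2 =>
  if h : b < 864 then lo_863_864 b h1 h else lo_864_865 b (Nat.le_of_not_lt h) h2
theorem lo_865_866 : ∀ b, 865 ≤ b → b < 866 → ∃ J, chkPBlk P 5 31 18 31671 b J = true := fun b h1 h2 => by
  have hb : b = 865 := Nat.le_antisymm (Nat.le_of_lt_succ h2) h1
  subst hb; exact ⟨_, lblk_865⟩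
theorem lo_866_867 : ∀ b, 866 ≤ b → b < 867 → ∃ J, chkPBlk P 5 31 18 31671 b J = true := fun b h1 h2 => by
  have hb : b = 866 := Nat.le_antisymm (Nat.le_of_lt_succ h2) h1
  subst hb; exact ⟨_, lblk_866⟩
theorem lo_865_867 : ∀ b, 865 ≤ b → b < 867 → ∃ J, chkPBlk P 5 31 18 31671 b J = true := fun b h1 h2 =>
  if h : b < 866 then lo_865_866 b h1 h else lo_866_867 b (Nat.le_of_not_lt h) h2
theorem lo_863_867 : ∀ b, 863 ≤ b → b < 867 → ∃ J, chkPBlk P 5 31 18 31671 b J = true := fun b h1 h2 =>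
  if h : b < 865 then lo_863_865 b h1 h else lo_865_867 b (Nat.le_of_not_lt h) h2
theorem lo_867_868 : ∀ b, 867 ≤ b → b < 868 → ∃ J, chkPBlk P 5 31 18 31671 b J = true := fun b h1 h2 => by
  have hb : b = 867 := Nat.le_antisymm (Nat.le_of_lt_succ h2) h1
  subst hb; exact ⟨_, lblk_867⟩
theorem lo_868_869 : ∀ b, 868 ≤ b → b < 869 → ∃ J, chkPBlk P 5 31 18 31671 b J = true := fun b h1 h2 => by
  have hb : b = 868 := Nat.le_antisymm (Nat.le_of_lt_succ h2) h1
  subst hb; exact ⟨_, lblk_868⟩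
theorem lo_867_869 : ∀ b, 867 ≤ b → b < 869 → ∃ J, chkPBlk P 5 31 18 31671 b J = true := fun b h1 h2 =>
  if h : b < 868 then lo_867_868 b h1 h else lo_868_869 b (Nat.le_of_not_lt h) h2
theorem lo_869_870 : ∀ b, 869 ≤ b → b < 870 → ∃ J, chkPBlk P 5 31 18 31671 b J = true := fun b h1 h2 => by
  have hb : b = 869 := Nat.le_antisymm (Nat.le_of_lt_succ h2) h1
  subst hb; exact ⟨_, lblk_869⟩
theorem lo_870_871 : ∀ b, 870 ≤ b → b < 871 → ∃ J, chkPBlk P 5 31 18 31671 b J = true := fun b h1 h2 => by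
  have hb : b = 870 := Nat.le_antisymm (Nat.le_of_lt_succ h2) h1
  subst hb; exact ⟨_, lblk_870⟩
theorem lo_871_872 : ∀ b, 871 ≤ b → b < 872 → ∃ J, chkPBlk P 5 31 18 31671 b J = true := fun b h1 h2 => by
  have hb : b = 871 := Nat.le_antisymm (Nat.le_of_lt_succ h2) h1
  subst hb; exact ⟨_, lblk_871⟩
theorem lo_870_872 : ∀ b, 870 ≤ b → b < 872 → ∃ J, chkPBlk P 5 31 18 31671 b J = true := fun b h1 h2 =>
  if h : b < 871 then lo_870_871 b h1 h else lo_871_872 b (Nat.le_of_not_lt h) h2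
theorem lo_869_872 : ∀ b, 869 ≤ b → b < 872 → ∃ J, chkPBlk P 5 31 18 31671 b J = true := fun b h1 h2 =>
  if h : b < 870 then lo_869_870 b h1 h else lo_870_872 b (Nat.le_of_not_lt h) h2
theorem lo_867_872 : ∀ b, 867 ≤ b → b < 872 → ∃ J, chkPBlk P 5 31 18 31671 b J = true := fun b h1 h2 =>
  if h : b < 869 then lo_867_869 b h1 h else lo_869_872 b (Nat.le_of_not_lt h) h2
theorem lo_863_872 : ∀ b, 863 ≤ b → b < 872 → ∃ J, chkPBlk P 5 31 18 31671 b J = true := fun b h1 h2 =>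
  if h : b < 867 then lo_863_867 b h1 h else lo_867_872 b (Nat.le_of_not_lt h) h2
theorem lo_872_873 : ∀ b, 872 ≤ b → b < 873 → ∃ J, chkPBlk P 5 31 18 31671 b J = true := fun b h1 h2 => by
  have hb : b = 872 := Nat.le_antisymm (Nat.le_of_lt_succ h2) h1
  subst hb; exact ⟨_, lblk_872⟩
theorem lo_873_874 : ∀ b, 873 ≤ b → b < 874 → ∃ J, chkPBlk P 5 31 18 31671 b J = true := fun b h1 h2 => by
  have hb : b = 873 := Nat.le_antisymm (Nat.le_of_lt_succ h2) h1
  subst hb; exact ⟨_, lblk_873⟩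
theorem lo_872_874 : ∀ b, 872 ≤ b → b < 874 → ∃ J, chkPBlk P 5 31 18 31671 b J = true := fun b h1 h2 =>
  if h : b < 873 then lo_872_873 b h1 h else lo_873_874 b (Nat.le_of_not_lt h) h2
theorem lo_874_875 : ∀ b, 874 ≤ b → b < 875 → ∃ J, chkPBlk P 5 31 18 31671 b J = true := fun b h1 h2 => by
  have hb : b = 874 := Nat.le_antisymm (Nat.le_of_lt_succ h2) h1
  subst hb; exact ⟨_, lblk_874⟩
theorem lo_875_876 : ∀ b, 875 ≤ b → b < 876 → ∃ J, chkPBlk P 5 31 18 31671 b J = true := fun b h1 h2 => by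
  have hb : b = 875 := Nat.le_antisymm (Nat.le_of_lt_succ h2) h1
  subst hb; exact ⟨_, lblk_875⟩
theorem lo_876_877 : ∀ b, 876 ≤ b → b < 877 → ∃ J, chkPBlk P 5 31 18 31671 b J = true := fun b h1 h2 => by
  have hb : b = 876 := Nat.le_antisymm (Nat.le_of_lt_succ h2) h1
  subst hb; exact ⟨_, lblk_876⟩
theorem lo_875_877 : ∀ b, 875 ≤ b → b < 877 → ∃ J, chkPBlk P 5 31 18 31671 b J = true := fun b h1 h2 =>
  if h : b < 876 then lo_875_876 b h1 h else lo_876_877 b (Nat.le_of_not_lt h) h2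
theorem lo_874_877 : ∀ b, 874 ≤ b → b < 877 → ∃ J, chkPBlk P 5 31 18 31671 b J = true := fun b h1 h2 =>
  if h : b < 875 then lo_874_875 b h1 h else lo_875_877 b (Nat.le_of_not_lt h) h2
theorem lo_872_877 : ∀ b, 872 ≤ b → b < 877 → ∃ J, chkPBlk P 5 31 18 31671 b J = true := fun b h1 h2 =>
  if h : b < 874 then lo_872_874 b h1 h else lo_874_877 b (Nat.le_of_not_lt h) h2
theorem lo_877_878 : ∀ b, 877 ≤ b → b < 878 → ∃ J, chkPBlk P 5 31 18 31671 b J = true := fun b h1 h2 => by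
  have hb : b = 877 := Nat.le_antisymm (Nat.le_of_lt_succ h2) h1
  subst hb; exact ⟨_, lblk_877⟩
theorem lo_878_879 : ∀ b, 878 ≤ b → b < 879 → ∃ J, chkPBlk P 5 31 18 31671 b J = true := fun b h1 h2 => by
  have hb : b = 878 := Nat.le_antisymm (Nat.le_of_lt_succ h2) h1
  subst hb; exact ⟨_, lblk_878⟩
theorem lo_877_879 : ∀ b, 877 ≤ b → b < 879 → ∃ J, chkPBlk P 5 31 18 31671 b J = true := fun b h1 h2 =>
  if h : b < 878 then lo_877_878 b h1 h else lo_878_879 b (Nat.le_of_not_lt h) h2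
theorem lo_879_880 : ∀ b, 879 ≤ b → b < 880 → ∃ J, chkPBlk P 5 31 18 31671 b J = true := fun b h1 h2 => by
  have hb : b = 879 := Nat.le_antisymm (Nat.le_of_lt_succ h2) h1
  subst hb; exact ⟨_, lblk_879⟩
theorem lo_880_881 : ∀ b, 880 ≤ b → b < 881 → ∃ J, chkPBlk P 5 31 18 31671 b J = true := fun b h1 h2 => by
  have hb : b = 880 := Nat.le_antisymm (Nat.le_of_lt_succ h2) h1
  subst hb; exact ⟨_, lblk_880⟩
theorem lo_881_882 : ∀ b, 881 ≤ b → b < 882 → ∃ J, chkPBlk P 5 31 18 31671 b J = true := fun b h1 h2 => by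
  have hb : b = 881 := Nat.le_antisymm (Nat.le_of_lt_succ h2) h1
  subst hb; exact ⟨_, lblk_881⟩
theorem lo_880_882 : ∀ b, 880 ≤ b → b < 882 → ∃ J, chkPBlk P 5 31 18 31671 b J = true := fun b h1 h2 =>
  if h : b < 881 then lo_880_881 b h1 h else lo_881_882 b (Nat.le_of_not_lt h) h2
theorem lo_879_882 : ∀ b, 879 ≤ b → b < 882 → ∃ J, chkPBlk P 5 31 18 31671 b J = true := fun b h1 h2 =>
  if h : b < 880 then lo_879_880 b h1 h else lo_880_882 b (Nat.le_of_not_lt h) h2
theorem lo_877_882 : ∀ b, 877 ≤ b → b < 882 → ∃ J, chkPBlk P 5 31 18 31671 b J = true := fun b h1 h2 =>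
  if h : b < 879 then lo_877_879 b h1 h else lo_879_882 b (Nat.le_of_not_lt h) h2
theorem lo_872_882 : ∀ b, 872 ≤ b → b < 882 → ∃ J, chkPBlk P 5 31 18 31671 b J = true := fun b h1 h2 =>
  if h : b < 877 then lo_872_877 b h1 h else lo_877_882 b (Nat.le_of_not_lt h) h2
theorem lo_863_882 : ∀ b, 863 ≤ b → b < 882 → ∃ J, chkPBlk P 5 31 18 31671 b J = true := fun b h1 h2 =>
  if h : b < 872 then lo_863_872 b h1 h else lo_872_882 b (Nat.le_of_not_lt h) h2
theorem lo_845_882 : ∀ b, 845 ≤ b → b < 882 → ∃ J, chkPBlk P 5 31 18 31671 b J = true := fun b h1 h2 =>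
  if h : b < 863 then lo_845_863 b h1 h else lo_863_882 b (Nat.le_of_not_lt h) h2
theorem lo_808_882 : ∀ b, 808 ≤ b → b < 882 → ∃ J, chkPBlk P 5 31 18 31671 b J = true := fun b h1 h2 =>
  if h : b < 845 then lo_808_845 b h1 h else lo_845_882 b (Nat.le_of_not_lt h) h2
theorem lo_735_882 : ∀ b, 735 ≤ b → b < 882 → ∃ J, chkPBlk P 5 31 18 31671 b J = true := fun b h1 h2 =>
  if h : b < 808 then lo_735_808 b h1 h else lo_808_882 b (Nat.le_of_not_lt h) h2

end Cfsg.Agent.Lib.Helper29.S1689
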