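import Cfsg.Agent.Lib.Helper29.S1689.Data

set_option autoImplicit false
set_option Elab.async false

namespace Cfsg.Agent.Lib.Helper29.S1689

open Cfsg.Agent.Lib.Helper29.TcTrace Cfsg.Agent.Lib.Helper29.TcCert Cfsg.Agent.Lib.Helper29.TcPerm

theorem lblk_882 : chkPBlk P 5 31 18 31671 882 0x884a12428d084252721484 = true := by decide +kernel
theorem lblk_883 : chkPBlk P 5 31 18 31671 883 0x1251a4884a4a10944818d09 = true := by decide +kernel
theorem lblk_884 : chkPBlk P 5 31 18 31671 884 0x109324a1424c928908498a2 = true := by decide +kernel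
theorem lblk_885 : chkPBlk P 5 31 18 31671 885 0x1284248928464411084a509 = true := by decide +kernel
theorem lblk_886 : chkPBlk P 5 31 18 31671 886 0x10942109324a44212449508 = true := by decide +kernel
theorem lblk_887 : chkPBlk P 5 31 18 31671 887 0x12649504424884a127424c4 = true := by decide +kernel
theorem lblk_888 : chkPBlk P 5 31 18 31671 888 0xe8424e84988929109424e8 = true := by decide +kernel
theorem lblk_889 : chkPBlk P 5 31 18 31671 889 0x12920883220644212442509 = true := by decide +kernel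
theorem lblk_890 : chkPBlk P 5 31 18 31671 890 0x12521109421264952518d24 = true := by decide +kernel
theorem lblk_891 : chkPBlk P 5 31 18 31671 891 0x6419484220884a109424c4 = true := by decide +kernel
theorem lblk_892 : chkPBlk P 5 31 18 31671 892 0x68490a4410884a109224a2 = true := by decide +kernel
theorem lblk_893 : chkPBlk P 5 31 18 31671 893 0x884a109324a84952422128 = true := by decide +kernel
theorem lblk_894 : chkPBlk P 5 31 18 31671 894 0x109210884a109324a929104 = true := by decide +kernel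
theorem lblk_895 : chkPBlk P 5 31 18 31671 895 0xa221109211044110922127 = true := by decide +kernel
theorem lblk_896 : chkPBlk P 5 31 18 31671 896 0x1244250849d0931125424c9 = true := by decide +kernel
theorem lblk_897 : chkPBlk P 5 31 18 31671 897 0x1274a0c84988928c8829088 = true := by decide +kernel
theorem lblk_898 : chkPBlk P 5 31 18 31671 898 0x10520c882a1244250442488 = true := by decide +kernel
theorem lblk_899 : chkPBlk P 5 31 18 31671 899 0x109221281a124188a320886 = true := by decide +kernel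
theorem lblk_900 : chkPBlk P 5 31 18 31671 900 0xc51a4c54a10940ce628ca4 = true := by decide +kernel
theorem lblk_901 : chkPBlk P 5 31 18 31671 901 0x12142127324e931509324a2 = true := by decide +kernel
theorem lblk_902 : chkPBlk P 5 31 18 31671 902 0x1251a125494884a109224a8 = true := by decide +kernel
theorem lblk_903 : chkPBlk P 5 31 18 31671 903 0x109424c9424c928908424c9 = true := by decide +kernel
theorem lblk_904 : chkPBlk P 5 31 18 31671 904 0x1264944928c884848821108 = true := by decide +kernel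
theorem lblk_905 : chkPBlk P 5 31 18 31671 905 0x892848849108424e849928 = true := by decide +kernel
theorem lblk_906 : chkPBlk P 5 31 18 31671 906 0x1044248849d09325093a126 = true := by decide +kernel
theorem lblk_907 : chkPBlk P 5 31 18 31671 907 0x892906440c882910922127 = true := by decide +kernel
theorem lblk_908 : chkPBlk P 5 31 18 31671 908 0x124221281a124290884a109 = true := by decide +kernel
theorem lblk_909 : chkPBlk P 5 31 18 31671 909 0x125124a3221094252512125 = true := by decide +kernel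
theorem lblk_910 : chkPBlk P 5 31 18 31671 910 0xc449424221084a1264a126 = true := by decide +kernel
theorem lblk_911 : chkPBlk P 5 31 18 31671 911 0xa42210441109424c942509 = true := by decide +kernel
theorem lblk_912 : chkPBlk P 5 31 18 31671 912 0x4519488221284248928c83 = true := by decide +kernel
theorem lblk_913 : chkPBlk P 5 31 18 31671 913 0x884a1093a126224a849925 = true := by decide +kernel
theorem lblk_914 : chkPBlk P 5 31 18 31671 914 0x12832126224a3220a421109 = true := by decide +kernel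
theorem lblk_915 : chkPBlk P 5 31 18 31671 915 0x6441488491094110922127 = true := by decide +kernel
theorem lblk_916 : chkPBlk P 5 31 18 31671 916 0x1034248311464218a3220a4 = true := by decide +kernel
theorem lblk_917 : chkPBlk P 5 31 18 31671 917 0x1284a5084a0661948849109 = true := by decide +kernel
theorem lblk_918 : chkPBlk P 5 31 18 31671 918 0x109324a221108491084a4a8 = true := by decide +kernel
theorem lblk_919 : chkPBlk P 5 31 18 31671 919 0x8841109425283212422109 = true := by decide +kernel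
theorem lblk_920 : chkPBlk P 5 31 18 31671 920 0x125188884a5094a06519083 = true := by decide +kernel
theorem lblk_921 : chkPBlk P 5 31 18 31671 921 0x6442128499251110849109 = true := by decide +kernel
theorem lblk_922 : chkPBlk P 5 31 18 31671 922 0x8518c64220884252832124 = true := by decide +kernel
theorem lblk_923 : chkPBlk P 5 31 18 31671 923 0x124424e849889285094a069 = true := by decide +kernel
theorem lblk_924 : chkPBlk P 5 31 18 31671 924 0x8819104424884a1274a0c8 = true := by decide +kernel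
theorem lblk_925 : chkPBlk P 5 31 18 31671 925 0x1094a0e4424e94186849043 = true := by decide +kernel
theorem lblk_926 : chkPBlk P 5 31 18 31671 926 0xa3218a32208848c8829109 = true := by decide +kernel
theorem lblk_927 : chkPBlk P 5 31 18 31671 927 0x12942128184a228c2329102 = true := by decide +kernel
theorem lblk_928 : chkPBlk P 5 31 18 31671 928 0x109211094a0423146441488 = true := by decide +kernel
theorem lblk_929 : chkPBlk P 5 31 18 31671 929 0x12449528484221912848423 = true := by decide +kernel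
theorem lblk_930 : chkPBlk P 5 31 18 31671 930 0x8849129425281a48442508 = true := by decide +kernel
theorem lblk_931 : chkPBlk P 5 31 18 31671 931 0xa10944228d2131445190a3 = true := by decide +kernel
theorem lblk_932 : chkPBlk P 5 31 18 31671 932 0xa1421284a4a24946942489 = true := by decide +kernel
theorem lblk_933 : chkPBlk P 5 31 18 31671 933 0x12442508491252212842489 = true := by decide +kernel
theorem lblk_934 : chkPBlk P 5 31 18 31671 934 0x109311084a127424c842509 = true := by decide +kernel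
theorem lblk_935 : chkPBlk P 5 31 18 31671 935 0x88220884a1244248849d26 = true := by decide +kernel
theorem lblk_936 : chkPBlk P 5 31 18 31671 936 0xa842525111094246522123 = true := by decide +kernel
theorem lblk_937 : chkPBlk P 5 31 18 31671 937 0x10940d09211042212842489 = true := by decide +kernel
theorem lblk_938 : chkPBlk P 5 31 18 31671 938 0x1092212848d284986522124 = true := by decide +kernel
theorem lblk_939 : chkPBlk P 5 31 18 31671 939 0x8529104220884a4c849088 = true := by decide +kernel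
theorem lblk_940 : chkPBlk P 5 31 18 31671 940 0x10931125098a32910442509 = true := by decide +kernel
theorem lblk_941 : chkPBlk P 5 31 18 31671 941 0x10922124425283212622127 = true := by decide +kernel
theorem lblk_942 : chkPBlk P 5 31 18 31671 942 0x128391093a5061a12622104 = true := by decide +kernel
theorem lblk_943 : chkPBlk P 5 31 18 31671 943 0x86220884a123220a442509 = true := by decide +kernel
theorem lblk_944 : chkPBlk P 5 31 18 31671 944 0x4628c88291094a10940c88 = true := by decide +kernel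
theorem lblk_945 : chkPBlk P 5 31 18 31671 945 0x12511484424a44212849128 = true := by decide +kernel
theorem lblk_946 : chkPBlk P 5 31 18 31671 946 0x892948822109424892a126 = true := by decide +kernel
theorem lblk_947 : chkPBlk P 5 31 18 31671 947 0xa441109411044252832126 = true := by decide +kernel
theorem lblk_948 : chkPBlk P 5 31 18 31671 948 0x127314884910940d09218a4 = true := by decide +kernel
theorem lblk_949 : chkPBlk P 5 31 18 31671 949 0x8442109224a84a4a248d28 = true := by decide +kernel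
theorem lblk_950 : chkPBlk P 5 31 18 31671 950 0x10342485220844250849125 = true := by decide +kernel
theorem lblk_951 : chkPBlk P 5 31 18 31671 951 0x1093a126224a13148849109 = true := by decide +kernel
theorem lblk_952 : chkPBlk P 5 31 18 31671 952 0xa4424c4411093a506424c4 = true := by decide +kernel
theorem lblk_953 : chkPBlk P 5 31 18 31671 953 0x128391093a5061a126214a8 = true := by decide +kernel
theorem lblk_954 : chkPBlk P 5 31 18 31671 954 0x1051910922123220a442509 = true := by decide +kernel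
theorem lblk_955 : chkPBlk P 5 31 18 31671 955 0x105191094a0884a067418a4 = true := by decide +kernel
theorem lblk_956 : chkPBlk P 5 31 18 31671 956 0x1284992509089408e631464 = true := by decide +kernel
theorem lblk_957 : chkPBlk P 5 31 18 31671 957 0x103211084a5084a50619108 = true := by decide +kernel
theorem lblk_958 : chkPBlk P 5 31 18 31671 958 0x1094942848823221094a484 = true := by decide +kernel
theorem lblk_959 : chkPBlk P 5 31 18 31671 959 0x1084a523221284a06849088 = true := by decide +kernel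
theorem lblk_960 : chkPBlk P 5 31 18 31671 960 0x12422124424e94190931125 = true := by decide +kernel
theorem lblk_961 : chkPBlk P 5 31 18 31671 961 0x6441109425283a12941868 = true := by decide +kernel
theorem lblk_962 : chkPBlk P 5 31 18 31671 962 0x1283a5064252830c8322088 = true := by decide +kernel
theorem lblk_963 : chkPBlk P 5 31 18 31671 963 0x8628c88221094a0a442509 = true := by decide +kernel
theorem lblk_964 : chkPBlk P 5 31 18 31671 964 0x88424884a4862906442043 = true := by decide +kernel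
theorem lblk_965 : chkPBlk P 5 31 18 31671 965 0x64424894252131445190a3 = true := by decide +kernel
theorem lblk_966 : chkPBlk P 5 31 18 31671 966 0x129494884910940d0921123 = true := by decide +kernel
theorem lblk_967 : chkPBlk P 5 31 18 31671 967 0x129424884a1294252519108 = true := by decide +kernel
theorem lblk_968 : chkPBlk P 5 31 18 31671 968 0x1084a4e5424e9488a322088 = true := by decide +kernel
theorem lblk_969 : chkPBlk P 5 31 18 31671 969 0xa44250949d2849d2849cc4 = true := by decide +kernel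
theorem lblk_970 : chkPBlk P 5 31 18 31671 970 0x10831488424a32208842528 = true := by decide +kernel
theorem lblk_971 : chkPBlk P 5 31 18 31671 971 0x101398a228c8629464420a4 = true := by decide +kernel
theorem lblk_972 : chkPBlk P 5 31 18 31671 972 0x884110628c882212942483 = true := by decide +kernel
theorem lblk_973 : chkPBlk P 5 31 18 31671 973 0x10939109424e131445190a3 = true := by decide +kernel
theorem lblk_974 : chkPBlk P 5 31 18 31671 974 0x8519088424a32208842528 = true := by decide +kernel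
theorem lblk_975 : chkPBlk P 5 31 18 31671 975 0x8819108314a322066288a3 = true := by decide +kernel
theorem lblk_976 : chkPBlk P 5 31 18 31671 976 0x6441464221013144519464 = true := by decide +kernel
theorem lblk_977 : chkPBlk P 5 31 18 31671 977 0x122425082142228ca228c88 = true := by decide +kernel
theorem lblk_978 : chkPBlk P 5 31 18 31671 978 0x1084a0884a1092a10442128 = true := by decide +kernel
theorem lblk_979 : chkPBlk P 5 31 18 31671 979 0x12331465220a44248822088 = true := by decide +kernel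
theorem lblk_980 : chkPBlk P 5 31 18 31671 980 0x10932126289251a48508c88 = true := by decide +kernel
theorem lblk_981 : chkPBlk P 5 31 18 31671 981 0x884250932509424c449424 = true := by decide +kernel
theorem lblk_982 : chkPBlk P 5 31 18 31671 982 0x126425084a109224a320d08 = true := by decide +kernel
theorem lblk_983 : chkPBlk P 5 31 18 31671 983 0xe8498882212849c8822128 = true := by decide +kernel
theorem lblk_984 : chkPBlk P 5 31 18 31671 984 0x884a127499092110442509 = true := by decide +kernel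
theorem lblk_985 : chkPBlk P 5 31 18 31671 985 0xa21a123114641110322109 = true := by decide +kernel
theorem lblk_986 : chkPBlk P 5 31 18 31671 986 0xc849065220884a124424c9 = true := by decide +kernel
theorem lblk_987 : chkPBlk P 5 31 18 31671 987 0xa331463214882110442528 = true := by decide +kernel
theorem lblk_988 : chkPBlk P 5 31 18 31671 988 0x12849865221244250342482 = true := by decide +kernel
theorem lblk_989 : chkPBlk P 5 31 18 31671 989 0x884988441109424884a4a3 = true := by decide +kernel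
theorem lblk_990 : chkPBlk P 5 31 18 31671 990 0xa421104424884910442509 = true := by decide +kernel
theorem lblk_991 : chkPBlk P 5 31 18 31671 991 0xc8491093a126224a119488 = true := by decide +kernel
theorem lblk_992 : chkPBlk P 5 31 18 31671 992 0x10921064415042212442528 = true := by decide +kernel
theorem lblk_993 : chkPBlk P 5 31 18 31671 993 0x882910942528391094a0c3 = true := by decide +kernel
theorem lblk_994 : chkPBlk P 5 31 18 31671 994 0x1281944519c45190c82a083 = true := by decide +kernel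
theorem lblk_995 : chkPBlk P 5 31 18 31671 995 0x89408e631464414884a508 = true := by decide +kernel
theorem lblk_996 : chkPBlk P 5 31 18 31671 996 0x125425094a0e939929314c6 = true := by decide +kernel
theorem lblk_997 : chkPBlk P 5 31 18 31671 997 0x10942128499252110942126 = true := by decide +kernel
theorem lblk_998 : chkPBlk P 5 31 18 31671 998 0xe8498892a1264944421104 = true := by decide +kernel
theorem lblk_999 : chkPBlk P 5 31 18 31671 999 0x8928c8829084424884a109 = true := by decide +kernel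
theorem lblk_1000 : chkPBlk P 5 31 18 31671 1000 0x8849d044248849d2832126 = true := by decide +kernel
theorem lblk_1001 : chkPBlk P 5 31 18 31671 1001 0x1281a4851908848c8829109 = true := by decide +kernel
theorem lblk_1002 : chkPBlk P 5 31 18 31671 1002 0x892a12928d28498a442488 = true := by decide +kernel
theorem lblk_1003 : chkPBlk P 5 31 18 31671 1003 0x128498892a1264944442109 = true := by decide +kernel
theorem lblk_1004 : chkPBlk P 5 31 18 31671 1004 0x106424c4494652110442508 = true := by decide +kernel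
theorem lblk_1005 : chkPBlk P 5 31 18 31671 1005 0x6518c85220884a08822129 = true := by decide +kernel
theorem lblk_1006 : chkPBlk P 5 31 18 31671 1006 0xc5194884910940d0921465 = true := by decide +kernel
theorem lblk_1007 : chkPBlk P 5 31 18 31671 1007 0x1094a0c8491093a126224a1 = true := by decide +kernel
theorem lblk_1008 : chkPBlk P 5 31 18 31671 1008 0xc34248428c882910422124 = true := by decide +kernel
theorem lblk_1009 : chkPBlk P 5 31 18 31671 1009 0x103220a4425094a0e442528 = true := by decide +kernel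
theorem lblk_1010 : chkPBlk P 5 31 18 31671 1010 0x6511464288a3218a3220a4 = true := by decide +kernel
theorem lblk_1011 : chkPBlk P 5 31 18 31671 1011 0x89408c5191052212942128 = true := by decide +kernel
theorem lblk_1012 : chkPBlk P 5 31 18 31671 1012 0x84421284a4252110442124 = true := by decide +kernel
theorem lblk_1013 : chkPBlk P 5 31 18 31671 1013 0x109494a519064411084a509 = true := by decide +kernel
theorem lblk_1014 : chkPBlk P 5 31 18 31671 1014 0x12649424221284212928868 = true := by decide +kernel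
theorem lblk_1015 : chkPBlk P 5 31 18 31671 1015 0x84421294212818c8442128 = true := by decide +kernel
theorem lblk_1016 : chkPBlk P 5 31 18 31671 1016 0xc8498892a1094a4a518c83 = true := by decide +kernel
theorem lblk_1017 : chkPBlk P 5 31 18 31671 1017 0x1094a0e84a0644248849d28 = true := by decide +kernel
theorem lblk_1018 : chkPBlk P 5 31 18 31671 1018 0xc84a063114642206441109 = true := by decide +kernel
theorem lblk_1019 : chkPBlk P 5 31 18 31671 1019 0x10442129414884a12941d28 = true := by decide +kernel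
theorem lblk_1020 : chkPBlk P 5 31 18 31671 1020 0xa228cc5190881146431464 = true := by decide +kernel
theorem lblk_1021 : chkPBlk P 5 31 18 31671 1021 0x6428c88424884a485094a1 = true := by decide +kernel
theorem lblk_1022 : chkPBlk P 5 31 18 31671 1022 0x8448864424894252131445 = true := by decide +kernel
theorem lblk_1023 : chkPBlk P 5 31 18 31671 1023 0xa442129494884910940d09 = true := by decide +kernel
theorem lblk_1024 : chkPBlk P 5 31 18 31671 1024 0xa84a4a921425118a629465 = true := by decide +kernel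
theorem lblk_1025 : chkPBlk P 5 31 18 31671 1025 0x12921109421244950842489 = true := by decide +kernel
theorem lblk_1026 : chkPBlk P 5 31 18 31671 1026 0xe84a468221284910829109 = true := by decide +kernel
theorem lblk_1027 : chkPBlk P 5 31 18 31671 1027 0x452208441103220a442509 = true := by decide +kernel
theorem lblk_1028 : chkPBlk P 5 31 18 31671 1028 0x884910940d09211084a4a8 = true := by decide +kernel
theorem lo_882_883 : ∀ b, 882 ≤ b → b < 883 → ∃ J, chkPBlk P 5 31 18 31671 b J = true := fun b h1 h2 => by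
  have hb : b = 882 := Nat.le_antisymm (Nat.le_of_lt_succ h2) h1
  subst hb; exact ⟨_, lblk_882⟩
theorem lo_883_884 : ∀ b, 883 ≤ b → b < 884 → ∃ J, chkPBlk P 5 31 18 31671 b J = true := fun b h1 h2 => by
  have hb : b = 883 := Nat.le_antisymm (Nat.le_of_lt_succ h2) h1
  subst hb; exact ⟨_, lblk_883⟩
theorem lo_882_884 : ∀ b, 882 ≤ b → b < 884 → ∃ J, chkPBlk P 5 31 18 31671 b J = true := fun b h1 h2 =>
  if h : b < 883 then lo_882_883 b h1 h else lo_883_884 b (Nat.le_of_not_lt h) h2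
theorem lo_884_885 : ∀ b, 884 ≤ b → b < 885 → ∃ J, chkPBlk P 5 31 18 31671 b J = true := fun b h1 h2 => by
  have hb : b = 884 := Nat.le_antisymm (Nat.le_of_lt_succ h2) h1
  subst hb; exact ⟨_, lblk_884⟩
theorem lo_885_886 : ∀ b, 885 ≤ b → b < 886 → ∃ J, chkPBlk P 5 31 18 31671 b J = true := fun b h1 h2 => by
  have hb : b = 885 := Nat.le_antisymm (Nat.le_of_lt_succ h2) h1
  subst hb; exact ⟨_, lblk_885⟩
theorem lo_884_886 : ∀ b, 884 ≤ b → b < 886 → ∃ J, chkPBlk P 5 31 18 31671 b J = true := fun b h1 h2 =>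
  if h : b < 885 then lo_884_885 b h1 h else lo_885_886 b (Nat.le_of_not_lt h) h2
theorem lo_882_886 : ∀ b, 882 ≤ b → b < 886 → ∃ J, chkPBlk P 5 31 18 31671 b J = true := fun b h1 h2 =>
  if h : b < 884 then lo_882_884 b h1 h else lo_884_886 b (Nat.le_of_not_lt h) h2
theorem lo_886_887 : ∀ b, 886 ≤ b → b < 887 → ∃ J, chkPBlk P 5 31 18 31671 b J = true := fun b h1 h2 => by
  have hb : b = 886 := Nat.le_antisymm (Nat.le_of_lt_succ h2) h1
  subst hb; exact ⟨_, lblk_886⟩
theorem lo_887_888 : ∀ b, 887 ≤ b → b < 888 → ∃ J, chkPBlk P 5 31 18 31671 b J = true := fun b h1 h2 => by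
  have hb : b = 887 := Nat.le_antisymm (Nat.le_of_lt_succ h2) h1
  subst hb; exact ⟨_, lblk_887⟩
theorem lo_886_888 : ∀ b, 886 ≤ b → b < 888 → ∃ J, chkPBlk P 5 31 18 31671 b J = true := fun b h1 h2 =>
  if h : b < 887 then lo_886_887 b h1 h else lo_887_888 b (Nat.le_of_not_lt h) h2
theorem lo_888_889 : ∀ b, 888 ≤ b → b < 889 → ∃ J, chkPBlk P 5 31 18 31671 b J = true := fun b h1 h2 => by
  have hb : b = 888 := Nat.le_antisymm (Nat.le_of_lt_succ h2) h1
  subst hb; exact ⟨_, lblk_888⟩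
theorem lo_889_890 : ∀ b, 889 ≤ b → b < 890 → ∃ J, chkPBlk P 5 31 18 31671 b J = true := fun b h1 h2 => by
  have hb : b = 889 := Nat.le_antisymm (Nat.le_of_lt_succ h2) h1
  subst hb; exact ⟨_, lblk_889⟩
theorem lo_890_891 : ∀ b, 890 ≤ b → b < 891 → ∃ J, chkPBlk P 5 31 18 31671 b J = true := fun b h1 h2 => by
  have hb : b = 890 := Nat.le_antisymm (Nat.le_of_lt_succ h2) h1
  subst hb; exact ⟨_, lblk_890⟩
theorem lo_889_891 : ∀ b, 889 ≤ b → b < 891 → ∃ J, chkPBlk P 5 31 18 31671 b J = true := fun b h1 h2 =>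
  if h : b < 890 then lo_889_890 b h1 h else lo_890_891 b (Nat.le_of_not_lt h) h2
theorem lo_888_891 : ∀ b, 888 ≤ b → b < 891 → ∃ J, chkPBlk P 5 31 18 31671 b J = true := fun b h1 h2 =>
  if h : b < 889 then lo_888_889 b h1 h else lo_889_891 b (Nat.le_of_not_lt h) h2
theorem lo_886_891 : ∀ b, 886 ≤ b → b < 891 → ∃ J, chkPBlk P 5 31 18 31671 b J = true := fun b h1 h2 =>
  if h : b < 888 then lo_886_888 b h1 h else lo_888_891 b (Nat.le_of_not_lt h) h2
theorem lo_882_891 : ∀ b, 882 ≤ b → b < 891 → ∃ J, chkPBlk P 5 31 18 31671 b J = true := fun b h1 h2 =>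
  if h : b < 886 then lo_882_886 b h1 h else lo_886_891 b (Nat.le_of_not_lt h) h2
theorem lo_891_892 : ∀ b, 891 ≤ b → b < 892 → ∃ J, chkPBlk P 5 31 18 31671 b J = true := fun b h1 h2 => by
  have hb : b = 891 := Nat.le_antisymm (Nat.le_of_lt_succ h2) h1
  subst hb; exact ⟨_, lblk_891⟩
theorem lo_892_893 : ∀ b, 892 ≤ b → b < 893 → ∃ J, chkPBlk P 5 31 18 31671 b J = true := fun b h1 h2 => by
  have hb : b = 892 := Nat.le_antisymm (Nat.le_of_lt_succ h2) h1
  subst hb; exact ⟨_, lblk_892⟩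
theorem lo_891_893 : ∀ b, 891 ≤ b → b < 893 → ∃ J, chkPBlk P 5 31 18 31671 b J = true := fun b h1 h2 =>
  if h : b < 892 then lo_891_892 b h1 h else lo_892_893 b (Nat.le_of_not_lt h) h2
theorem lo_893_894 : ∀ b, 893 ≤ b → b < 894 → ∃ J, chkPBlk P 5 31 18 31671 b J = true := fun b h1 h2 => by
  have hb : b = 893 := Nat.le_antisymm (Nat.le_of_lt_succ h2) h1
  subst hb; exact ⟨_, lblk_893⟩
theorem lo_894_895 : ∀ b, 894 ≤ b → b < 895 → ∃ J, chkPBlk P 5 31 18 31671 b J = true := fun b h1 h2 => by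
  have hb : b = 894 := Nat.le_antisymm (Nat.le_of_lt_succ h2) h1
  subst hb; exact ⟨_, lblk_894⟩
theorem lo_893_895 : ∀ b, 893 ≤ b → b < 895 → ∃ J, chkPBlk P 5 31 18 31671 b J = true := fun b h1 h2 =>
  if h : b < 894 then lo_893_894 b h1 h else lo_894_895 b (Nat.le_of_not_lt h) h2
theorem lo_891_895 : ∀ b, 891 ≤ b → b < 895 → ∃ J, chkPBlk P 5 31 18 31671 b J = true := fun b h1 h2 =>
  if h : b < 893 then lo_891_893 b h1 h else lo_893_895 b (Nat.le_of_not_lt h) h2
theorem lo_895_896 : ∀ b, 895 ≤ b → b < 896 → ∃ J, chkPBlk P 5 31 18 31671 b J = true := fun b h1 h2 => by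
  have hb : b = 895 := Nat.le_antisymm (Nat.le_of_lt_succ h2) h1
  subst hb; exact ⟨_, lblk_895⟩
theorem lo_896_897 : ∀ b, 896 ≤ b → b < 897 → ∃ J, chkPBlk P 5 31 18 31671 b J = true := fun b h1 h2 => by
  have hb : b = 896 := Nat.le_antisymm (Nat.le_of_lt_succ h2) h1
  subst hb; exact ⟨_, lblk_896⟩
theorem lo_895_897 : ∀ b, 895 ≤ b → b < 897 → ∃ J, chkPBlk P 5 31 18 31671 b J = true := fun b h1 h2 =>
  if h : b < 896 then lo_895_896 b h1 h else lo_896_897 b (Nat.le_of_not_lt h) h2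
theorem lo_897_898 : ∀ b, 897 ≤ b → b < 898 → ∃ J, chkPBlk P 5 31 18 31671 b J = true := fun b h1 h2 => by
  have hb : b = 897 := Nat.le_antisymm (Nat.le_of_lt_succ h2) h1
  subst hb; exact ⟨_, lblk_897⟩
theorem lo_898_899 : ∀ b, 898 ≤ b → b < 899 → ∃ J, chkPBlk P 5 31 18 31671 b J = true := fun b h1 h2 => by
  have hb : b = 898 := Nat.le_antisymm (Nat.le_of_lt_succ h2) h1
  subst hb; exact ⟨_, lblk_898⟩
theorem lo_899_900 : ∀ b, 899 ≤ b → b < 900 → ∃ J, chkPBlk P 5 31 18 31671 b J = true := fun b h1 h2 => by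
  have hb : b = 899 := Nat.le_antisymm (Nat.le_of_lt_succ h2) h1
  subst hb; exact ⟨_, lblk_899⟩
theorem lo_898_900 : ∀ b, 898 ≤ b → b < 900 → ∃ J, chkPBlk P 5 31 18 31671 b J = true := fun b h1 h2 =>
  if h : b < 899 then lo_898_899 b h1 h else lo_899_900 b (Nat.le_of_not_lt h) h2
theorem lo_897_900 : ∀ b, 897 ≤ b → b < 900 → ∃ J, chkPBlk P 5 31 18 31671 b J = true := fun b h1 h2 =>
  if h : b < 898 then lo_897_898 b h1 h else lo_898_900 b (Nat.le_of_not_lt h) h2
theorem lo_895_900 : ∀ b, 895 ≤ b → b < 900 → ∃ J, chkPBlk P 5 31 18 31671 b J = true := fun b h1 h2 =>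
  if h : b < 897 then lo_895_897 b h1 h else lo_897_900 b (Nat.le_of_not_lt h) h2
theorem lo_891_900 : ∀ b, 891 ≤ b → b < 900 → ∃ J, chkPBlk P 5 31 18 31671 b J = true := fun b h1 h2 =>
  if h : b < 895 then lo_891_895 b h1 h else lo_895_900 b (Nat.le_of_not_lt h) h2
theorem lo_882_900 : ∀ b, 882 ≤ b → b < 900 → ∃ J, chkPBlk P 5 31 18 31671 b J = true := fun b h1 h2 =>
  if h : b < 891 then lo_882_891 b h1 h else lo_891_900 b (Nat.le_of_not_lt h) h2
theorem lo_900_901 : ∀ b, 900 ≤ b → b < 901 → ∃ J, chkPBlk P 5 31 18 31671 b J = true := fun b h1 h2 => by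
  have hb : b = 900 := Nat.le_antisymm (Nat.le_of_lt_succ h2) h1
  subst hb; exact ⟨_, lblk_900⟩
theorem lo_901_902 : ∀ b, 901 ≤ b → b < 902 → ∃ J, chkPBlk P 5 31 18 31671 b J = true := fun b h1 h2 => by
  have hb : b = 901 := Nat.le_antisymm (Nat.le_of_lt_succ h2) h1
  subst hb; exact ⟨_, lblk_901⟩
theorem lo_900_902 : ∀ b, 900 ≤ b → b < 902 → ∃ J, chkPBlk P 5 31 18 31671 b J = true := fun b h1 h2 =>
  if h : b < 901 then lo_900_901 b h1 h else lo_901_902 b (Nat.le_of_not_lt h) h2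
theorem lo_902_903 : ∀ b, 902 ≤ b → b < 903 → ∃ J, chkPBlk P 5 31 18 31671 b J = true := fun b h1 h2 => by
  have hb : b = 902 := Nat.le_antisymm (Nat.le_of_lt_succ h2) h1
  subst hb; exact ⟨_, lblk_902⟩
theorem lo_903_904 : ∀ b, 903 ≤ b → b < 904 → ∃ J, chkPBlk P 5 31 18 31671 b J = true := fun b h1 h2 => by
  have hb : b = 903 := Nat.le_antisymm (Nat.le_of_lt_succ h2) h1
  subst hb; exact ⟨_, lblk_903⟩
theorem lo_902_904 : ∀ b, 902 ≤ b → b < 904 → ∃ J, chkPBlk P 5 31 18 31671 b J = true := fun b h1 h2 =>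
  if h : b < 903 then lo_902_903 b h1 h else lo_903_904 b (Nat.le_of_not_lt h) h2
theorem lo_900_904 : ∀ b, 900 ≤ b → b < 904 → ∃ J, chkPBlk P 5 31 18 31671 b J = true := fun b h1 h2 =>
  if h : b < 902 then lo_900_902 b h1 h else lo_902_904 b (Nat.le_of_not_lt h) h2
theorem lo_904_905 : ∀ b, 904 ≤ b → b < 905 → ∃ J, chkPBlk P 5 31 18 31671 b J = true := fun b h1 h2 => by
  have hb : b = 904 := Nat.le_antisymm (Nat.le_of_lt_succ h2) h1
  subst hb; exact ⟨_, lblk_904⟩
theorem lo_905_906 : ∀ b, 905 ≤ b → b < 906 → ∃ J, chkPBlk P 5 31 18 31671 b J = true := fun b h1 h2 => by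
  have hb : b = 905 := Nat.le_antisymm (Nat.le_of_lt_succ h2) h1
  subst hb; exact ⟨_, lblk_905⟩
theorem lo_904_906 : ∀ b, 904 ≤ b → b < 906 → ∃ J, chkPBlk P 5 31 18 31671 b J = true := fun b h1 h2 =>
  if h : b < 905 then lo_904_905 b h1 h else lo_905_906 b (Nat.le_of_not_lt h) h2
theorem lo_906_907 : ∀ b, 906 ≤ b → b < 907 → ∃ J, chkPBlk P 5 31 18 31671 b J = true := fun b h1 h2 => by
  have hb : b = 906 := Nat.le_antisymm (Nat.le_of_lt_succ h2) h1
  subst hb; exact ⟨_, lblk_906⟩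
theorem lo_907_908 : ∀ b, 907 ≤ b → b < 908 → ∃ J, chkPBlk P 5 31 18 31671 b J = true := fun b h1 h2 => by
  have hb : b = 907 := Nat.le_antisymm (Nat.le_of_lt_succ h2) h1
  subst hb; exact ⟨_, lblk_907⟩
theorem lo_908_909 : ∀ b, 908 ≤ b → b < 909 → ∃ J, chkPBlk P 5 31 18 31671 b J = true := fun b h1 h2 => by
  have hb : b = 908 := Nat.le_antisymm (Nat.le_of_lt_succ h2) h1
  subst hb; exact ⟨_, lblk_908⟩
theorem lo_907_909 : ∀ b, 907 ≤ b → b < 909 → ∃ J, chkPBlk P 5 31 18 31671 b J = true := fun b h1 h2 =>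
  if h : b < 908 then lo_907_908 b h1 h else lo_908_909 b (Nat.le_of_not_lt h) h2
theorem lo_906_909 : ∀ b, 906 ≤ b → b < 909 → ∃ J, chkPBlk P 5 31 18 31671 b J = true := fun b h1 h2 =>
  if h : b < 907 then lo_906_907 b h1 h else lo_907_909 b (Nat.le_of_not_lt h) h2
theorem lo_904_909 : ∀ b, 904 ≤ b → b < 909 → ∃ J, chkPBlk P 5 31 18 31671 b J = true := fun b h1 h2 =>
  if h : b < 906 then lo_904_906 b h1 h else lo_906_909 b (Nat.le_of_not_lt h) h2
theorem lo_900_909 : ∀ b, 900 ≤ b → b < 909 → ∃ J, chkPBlk P 5 31 18 31671 b J = true := fun b h1 h2 =>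
  if h : b < 904 then lo_900_904 b h1 h else lo_904_909 b (Nat.le_of_not_lt h) h2
theorem lo_909_910 : ∀ b, 909 ≤ b → b < 910 → ∃ J, chkPBlk P 5 31 18 31671 b J = true := fun b h1 h2 => by
  have hb : b = 909 := Nat.le_antisymm (Nat.le_of_lt_succ h2) h1
  subst hb; exact ⟨_, lblk_909⟩
theorem lo_910_911 : ∀ b, 910 ≤ b → b < 911 → ∃ J, chkPBlk P 5 31 18 31671 b J = true := fun b h1 h2 => by
  have hb : b = 910 := Nat.le_antisymm (Nat.le_of_lt_succ h2) h1
  subst hb; exact ⟨_, lblk_910⟩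
theorem lo_909_911 : ∀ b, 909 ≤ b → b < 911 → ∃ J, chkPBlk P 5 31 18 31671 b J = true := fun b h1 h2 =>
  if h : b < 910 then lo_909_910 b h1 h else lo_910_911 b (Nat.le_of_not_lt h) h2
theorem lo_911_912 : ∀ b, 911 ≤ b → b < 912 → ∃ J, chkPBlk P 5 31 18 31671 b J = true := fun b h1 h2 => by
  have hb : b = 911 := Nat.le_antisymm (Nat.le_of_lt_succ h2) h1
  subst hb; exact ⟨_, lblk_911⟩
theorem lo_912_913 : ∀ b, 912 ≤ b → b < 913 → ∃ J, chkPBlk P 5 31 18 31671 b J = true := fun b h1 h2 => by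
  have hb : b = 912 := Nat.le_antisymm (Nat.le_of_lt_succ h2) h1
  subst hb; exact ⟨_, lblk_912⟩
theorem lo_911_913 : ∀ b, 911 ≤ b → b < 913 → ∃ J, chkPBlk P 5 31 18 31671 b J = true := fun b h1 h2 =>
  if h : b < 912 then lo_911_912 b h1 h else lo_912_913 b (Nat.le_of_not_lt h) h2
theorem lo_909_913 : ∀ b, 909 ≤ b → b < 913 → ∃ J, chkPBlk P 5 31 18 31671 b J = true := fun b h1 h2 =>
  if h : b < 911 then lo_909_911 b h1 h else lo_911_913 b (Nat.le_of_not_lt h) h2
theorem lo_913_914 : ∀ b, 913 ≤ b → b < 914 → ∃ J, chkPBlk P 5 31 18 31671 b J = true := fun b h1 h2 => by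
  have hb : b = 913 := Nat.le_antisymm (Nat.le_of_lt_succ h2) h1
  subst hb; exact ⟨_, lblk_913⟩
theorem lo_914_915 : ∀ b, 914 ≤ b → b < 915 → ∃ J, chkPBlk P 5 31 18 31671 b J = true := fun b h1 h2 => by
  have hb : b = 914 := Nat.le_antisymm (Nat.le_of_lt_succ h2) h1
  subst hb; exact ⟨_, lblk_914⟩
theorem lo_913_915 : ∀ b, 913 ≤ b → b < 915 → ∃ J, chkPBlk P 5 31 18 31671 b J = true := fun b h1 h2 =>
  if h : b < 914 then lo_913_914 b h1 h else lo_914_915 b (Nat.le_of_not_lt h) h2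
theorem lo_915_916 : ∀ b, 915 ≤ b → b < 916 → ∃ J, chkPBlk P 5 31 18 31671 b J = true := fun b h1 h2 => by
  have hb : b = 915 := Nat.le_antisymm (Nat.le_of_lt_succ h2) h1
  subst hb; exact ⟨_, lblk_915⟩
theorem lo_916_917 : ∀ b, 916 ≤ b → b < 917 → ∃ J, chkPBlk P 5 31 18 31671 b J = true := fun b h1 h2 => by
  have hb : b = 916 := Nat.le_antisymm (Nat.le_of_lt_succ h2) h1
  subst hb; exact ⟨_, lblk_916⟩
theorem lo_917_918 : ∀ b, 917 ≤ b → b < 918 → ∃ J, chkPBlk P 5 31 18 31671 b J = true := fun b h1 h2 => by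
  have hb : b = 917 := Nat.le_antisymm (Nat.le_of_lt_succ h2) h1
  subst hb; exact ⟨_, lblk_917⟩
theorem lo_916_918 : ∀ b, 916 ≤ b → b < 918 → ∃ J, chkPBlk P 5 31 18 31671 b J = true := fun b h1 h2 =>
  if h : b < 917 then lo_916_917 b h1 h else lo_917_918 b (Nat.le_of_not_lt h) h2
theorem lo_915_918 : ∀ b, 915 ≤ b → b < 918 → ∃ J, chkPBlk P 5 31 18 31671 b J = true := fun b h1 h2 =>
  if h : b < 916 then lo_915_916 b h1 h else lo_916_918 b (Nat.le_of_not_lt h) h2
theorem lo_913_918 : ∀ b, 913 ≤ b → b < 918 → ∃ J, chkPBlk P 5 31 18 31671 b J = true := fun b h1 h2 =>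
  if h : b < 915 then lo_913_915 b h1 h else lo_915_918 b (Nat.le_of_not_lt h) h2
theorem lo_909_918 : ∀ b, 909 ≤ b → b < 918 → ∃ J, chkPBlk P 5 31 18 31671 b J = true := fun b h1 h2 =>
  if h : b < 913 then lo_909_913 b h1 h else lo_913_918 b (Nat.le_of_not_lt h) h2
theorem lo_900_918 : ∀ b, 900 ≤ b → b < 918 → ∃ J, chkPBlk P 5 31 18 31671 b J = true := fun b h1 h2 =>
  if h : b < 909 then lo_900_909 b h1 h else lo_909_918 b (Nat.le_of_not_lt h) h2
theorem lo_882_918 : ∀ b, 882 ≤ b → b < 918 → ∃ J, chkPBlk P 5 31 18 31671 b J = true := fun b h1 h2 =>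
  if h : b < 900 then lo_882_900 b h1 h else lo_900_918 b (Nat.le_of_not_lt h) h2
theorem lo_918_919 : ∀ b, 918 ≤ b → b < 919 → ∃ J, chkPBlk P 5 31 18 31671 b J = true := fun b h1 h2 => by
  have hb : b = 918 := Nat.le_antisymm (Nat.le_of_lt_succ h2) h1
  subst hb; exact ⟨_, lblk_918⟩
theorem lo_919_920 : ∀ b, 919 ≤ b → b < 920 → ∃ J, chkPBlk P 5 31 18 31671 b J = true := fun b h1 h2 => by
  have hb : b = 919 := Nat.le_antisymm (Nat.le_of_lt_succ h2) h1
  subst hb; exact ⟨_, lblk_919⟩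
theorem lo_918_920 : ∀ b, 918 ≤ b → b < 920 → ∃ J, chkPBlk P 5 31 18 31671 b J = true := fun b h1 h2 =>
  if h : b < 919 then lo_918_919 b h1 h else lo_919_920 b (Nat.le_of_not_lt h) h2
theorem lo_920_921 : ∀ b, 920 ≤ b → b < 921 → ∃ J, chkPBlk P 5 31 18 31671 b J = true := fun b h1 h2 => by
  have hb : b = 920 := Nat.le_antisymm (Nat.le_of_lt_succ h2) h1
  subst hb; exact ⟨_, lblk_920⟩
theorem lo_921_922 : ∀ b, 921 ≤ b → b < 922 → ∃ J, chkPBlk P 5 31 18 31671 b J = true := fun b h1 h2 => by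
  have hb : b = 921 := Nat.le_antisymm (Nat.le_of_lt_succ h2) h1
  subst hb; exact ⟨_, lblk_921⟩
theorem lo_920_922 : ∀ b, 920 ≤ b → b < 922 → ∃ J, chkPBlk P 5 31 18 31671 b J = true := fun b h1 h2 =>
  if h : b < 921 then lo_920_921 b h1 h else lo_921_922 b (Nat.le_of_not_lt h) h2
theorem lo_918_922 : ∀ b, 918 ≤ b → b < 922 → ∃ J, chkPBlk P 5 31 18 31671 b J = true := fun b h1 h2 =>
  if h : b < 920 then lo_918_920 b h1 h else lo_920_922 b (Nat.le_of_not_lt h) h2
theorem lo_922_923 : ∀ b, 922 ≤ b → b < 923 → ∃ J, chkPBlk P 5 31 18 31671 b J = true := fun b h1 h2 => by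
  have hb : b = 922 := Nat.le_antisymm (Nat.le_of_lt_succ h2) h1
  subst hb; exact ⟨_, lblk_922⟩
theorem lo_923_924 : ∀ b, 923 ≤ b → b < 924 → ∃ J, chkPBlk P 5 31 18 31671 b J = true := fun b h1 h2 => by
  have hb : b = 923 := Nat.le_antisymm (Nat.le_of_lt_succ h2) h1
  subst hb; exact ⟨_, lblk_923⟩
theorem lo_922_924 : ∀ b, 922 ≤ b → b < 924 → ∃ J, chkPBlk P 5 31 18 31671 b J = true := fun b h1 h2 =>
  if h : b < 923 then lo_922_923 b h1 h else lo_923_924 b (Nat.le_of_not_lt h) h2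
theorem lo_924_925 : ∀ b, 924 ≤ b → b < 925 → ∃ J, chkPBlk P 5 31 18 31671 b J = true := fun b h1 h2 => by
  have hb : b = 924 := Nat.le_antisymm (Nat.le_of_lt_succ h2) h1
  subst hb; exact ⟨_, lblk_924⟩
theorem lo_925_926 : ∀ b, 925 ≤ b → b < 926 → ∃ J, chkPBlk P 5 31 18 31671 b J = true := fun b h1 h2 => by
  have hb : b = 925 := Nat.le_antisymm (Nat.le_of_lt_succ h2) h1
  subst hb; exact ⟨_, lblk_925⟩
theorem lo_926_927 : ∀ b, 926 ≤ b → b < 927 → ∃ J, chkPBlk P 5 31 18 31671 b J = true := fun b h1 h2 => by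
  have hb : b = 926 := Nat.le_antisymm (Nat.le_of_lt_succ h2) h1
  subst hb; exact ⟨_, lblk_926⟩
theorem lo_925_927 : ∀ b, 925 ≤ b → b < 927 → ∃ J, chkPBlk P 5 31 18 31671 b J = true := fun b h1 h2 =>
  if h : b < 926 then lo_925_926 b h1 h else lo_926_927 b (Nat.le_of_not_lt h) h2
theorem lo_924_927 : ∀ b, 924 ≤ b → b < 927 → ∃ J, chkPBlk P 5 31 18 31671 b J = true := fun b h1 h2 =>
  if h : b < 925 then lo_924_925 b h1 h else lo_925_927 b (Nat.le_of_not_lt h) h2
theorem lo_922_927 : ∀ b, 922 ≤ b → b < 927 → ∃ J, chkPBlk P 5 31 18 31671 b J = true := fun b h1 h2 =>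
  if h : b < 924 then lo_922_924 b h1 h else lo_924_927 b (Nat.le_of_not_lt h) h2
theorem lo_918_927 : ∀ b, 918 ≤ b → b < 927 → ∃ J, chkPBlk P 5 31 18 31671 b J = true := fun b h1 h2 =>
  if h : b < 922 then lo_918_922 b h1 h else lo_922_927 b (Nat.le_of_not_lt h) h2
theorem lo_927_928 : ∀ b, 927 ≤ b → b < 928 → ∃ J, chkPBlk P 5 31 18 31671 b J = true := fun b h1 h2 => by
  have hb : b = 927 := Nat.le_antisymm (Nat.le_of_lt_succ h2) h1
  subst hb; exact ⟨_, lblk_927⟩
theorem lo_928_929 : ∀ b, 928 ≤ b → b < 929 → ∃ J, chkPBlk P 5 31 18 31671 b J = true := fun b h1 h2 => by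
  have hb : b = 928 := Nat.le_antisymm (Nat.le_of_lt_succ h2) h1
  subst hb; exact ⟨_, lblk_928⟩
theorem lo_927_929 : ∀ b, 927 ≤ b → b < 929 → ∃ J, chkPBlk P 5 31 18 31671 b J = true := fun b h1 h2 =>
  if h : b < 928 then lo_927_928 b h1 h else lo_928_929 b (Nat.le_of_not_lt h) h2
theorem lo_929_930 : ∀ b, 929 ≤ b → b < 930 → ∃ J, chkPBlk P 5 31 18 31671 b J = true := fun b h1 h2 => by
  have hb : b = 929 := Nat.le_antisymm (Nat.le_of_lt_succ h2) h1
  subst hb; exact ⟨_, lblk_929⟩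
theorem lo_930_931 : ∀ b, 930 ≤ b → b < 931 → ∃ J, chkPBlk P 5 31 18 31671 b J = true := fun b h1 h2 => by
  have hb : b = 930 := Nat.le_antisymm (Nat.le_of_lt_succ h2) h1
  subst hb; exact ⟨_, lblk_930⟩
theorem lo_929_931 : ∀ b, 929 ≤ b → b < 931 → ∃ J, chkPBlk P 5 31 18 31671 b J = true := fun b h1 h2 =>
  if h : b < 930 then lo_929_930 b h1 h else lo_930_931 b (Nat.le_of_not_lt h) h2
theorem lo_927_931 : ∀ b, 927 ≤ b → b < 931 → ∃ J, chkPBlk P 5 31 18 31671 b J = true := fun b h1 h2 =>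
  if h : b < 929 then lo_927_929 b h1 h else lo_929_931 b (Nat.le_of_not_lt h) h2
theorem lo_931_932 : ∀ b, 931 ≤ b → b < 932 → ∃ J, chkPBlk P 5 31 18 31671 b J = true := fun b h1 h2 => by
  have hb : b = 931 := Nat.le_antisymm (Nat.le_of_lt_succ h2) h1
  subst hb; exact ⟨_, lblk_931⟩
theorem lo_932_933 : ∀ b, 932 ≤ b → b < 933 → ∃ J, chkPBlk P 5 31 18 31671 b J = true := fun b h1 h2 => by
  have hb : b = 932 := Nat.le_antisymm (Nat.le_of_lt_succ h2) h1
  subst hb; exact ⟨_, lblk_932⟩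
theorem lo_931_933 : ∀ b, 931 ≤ b → b < 933 → ∃ J, chkPBlk P 5 31 18 31671 b J = true := fun b h1 h2 =>
  if h : b < 932 then lo_931_932 b h1 h else lo_932_933 b (Nat.le_of_not_lt h) h2
theorem lo_933_934 : ∀ b, 933 ≤ b → b < 934 → ∃ J, chkPBlk P 5 31 18 31671 b J = true := fun b h1 h2 => by
  have hb : b = 933 := Nat.le_antisymm (Nat.le_of_lt_succ h2) h1
  subst hb; exact ⟨_, lblk_933⟩
theorem lo_934_935 : ∀ b, 934 ≤ b → b < 935 → ∃ J, chkPBlk P 5 31 18 31671 b J = true := fun b h1 h2 => by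
  have hb : b = 934 := Nat.le_antisymm (Nat.le_of_lt_succ h2) h1
  subst hb; exact ⟨_, lblk_934⟩
theorem lo_935_936 : ∀ b, 935 ≤ b → b < 936 → ∃ J, chkPBlk P 5 31 18 31671 b J = true := fun b h1 h2 => by
  have hb : b = 935 := Nat.le_antisymm (Nat.le_of_lt_succ h2) h1
  subst hb; exact ⟨_, lblk_935⟩
theorem lo_934_936 : ∀ b, 934 ≤ b → b < 936 → ∃ J, chkPBlk P 5 31 18 31671 b J = true := fun b h1 h2 =>
  if h : b < 935 then lo_934_935 b h1 h else lo_935_936 b (Nat.le_of_not_lt h) h2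
theorem lo_933_936 : ∀ b, 933 ≤ b → b < 936 → ∃ J, chkPBlk P 5 31 18 31671 b J = true := fun b h1 h2 =>
  if h : b < 934 then lo_933_934 b h1 h else lo_934_936 b (Nat.le_of_not_lt h) h2
theorem lo_931_936 : ∀ b, 931 ≤ b → b < 936 → ∃ J, chkPBlk P 5 31 18 31671 b J = true := fun b h1 h2 =>
  if h : b < 933 then lo_931_933 b h1 h else lo_933_936 b (Nat.le_of_not_lt h) h2
theorem lo_927_936 : ∀ b, 927 ≤ b → b < 936 → ∃ J, chkPBlk P 5 31 18 31671 b J = true := fun b h1 h2 =>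
  if h : b < 931 then lo_927_931 b h1 h else lo_931_936 b (Nat.le_of_not_lt h) h2
theorem lo_918_936 : ∀ b, 918 ≤ b → b < 936 → ∃ J, chkPBlk P 5 31 18 31671 b J = true := fun b h1 h2 =>
  if h : b < 927 then lo_918_927 b h1 h else lo_927_936 b (Nat.le_of_not_lt h) h2
theorem lo_936_937 : ∀ b, 936 ≤ b → b < 937 → ∃ J, chkPBlk P 5 31 18 31671 b J = true := fun b h1 h2 => by
  have hb : b = 936 := Nat.le_antisymm (Nat.le_of_lt_succ h2) h1
  subst hb; exact ⟨_, lblk_936⟩
theorem lo_937_938 : ∀ b, 937 ≤ b → b < 938 → ∃ J, chkPBlk P 5 31 18 31671 b J = true := fun b h1 h2 => by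
  have hb : b = 937 := Nat.le_antisymm (Nat.le_of_lt_succ h2) h1
  subst hb; exact ⟨_, lblk_937⟩
theorem lo_936_938 : ∀ b, 936 ≤ b → b < 938 → ∃ J, chkPBlk P 5 31 18 31671 b J = true := fun b h1 h2 =>
  if h : b < 937 then lo_936_937 b h1 h else lo_937_938 b (Nat.le_of_not_lt h) h2
theorem lo_938_939 : ∀ b, 938 ≤ b → b < 939 → ∃ J, chkPBlk P 5 31 18 31671 b J = true := fun b h1 h2 => by
  have hb : b = 938 := Nat.le_antisymm (Nat.le_of_lt_succ h2) h1
  subst hb; exact ⟨_, lblk_938⟩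
theorem lo_939_940 : ∀ b, 939 ≤ b → b < 940 → ∃ J, chkPBlk P 5 31 18 31671 b J = true := fun b h1 h2 => by
  have hb : b = 939 := Nat.le_antisymm (Nat.le_of_lt_succ h2) h1
  subst hb; exact ⟨_, lblk_939⟩
theorem lo_938_940 : ∀ b, 938 ≤ b → b < 940 → ∃ J, chkPBlk P 5 31 18 31671 b J = true := fun b h1 h2 =>
  if h : b < 939 then lo_938_939 b h1 h else lo_939_940 b (Nat.le_of_not_lt h) h2
theorem lo_936_940 : ∀ b, 936 ≤ b → b < 940 → ∃ J, chkPBlk P 5 31 18 31671 b J = true := fun b h1 h2 =>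
  if h : b < 938 then lo_936_938 b h1 h else lo_938_940 b (Nat.le_of_not_lt h) h2
theorem lo_940_941 : ∀ b, 940 ≤ b → b < 941 → ∃ J, chkPBlk P 5 31 18 31671 b J = true := fun b h1 h2 => by
  have hb : b = 940 := Nat.le_antisymm (Nat.le_of_lt_succ h2) h1
  subst hb; exact ⟨_, lblk_940⟩
theorem lo_941_942 : ∀ b, 941 ≤ b → b < 942 → ∃ J, chkPBlk P 5 31 18 31671 b J = true := fun b h1 h2 => by
  have hb : b = 941 := Nat.le_antisymm (Nat.le_of_lt_succ h2) h1
  subst hb; exact ⟨_, lblk_941⟩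
theorem lo_940_942 : ∀ b, 940 ≤ b → b < 942 → ∃ J, chkPBlk P 5 31 18 31671 b J = true := fun b h1 h2 =>
  if h : b < 941 then lo_940_941 b h1 h else lo_941_942 b (Nat.le_of_not_lt h) h2
theorem lo_942_943 : ∀ b, 942 ≤ b → b < 943 → ∃ J, chkPBlk P 5 31 18 31671 b J = true := fun b h1 h2 => by
  have hb : b = 942 := Nat.le_antisymm (Nat.le_of_lt_succ h2) h1
  subst hb; exact ⟨_, lblk_942⟩
theorem lo_943_944 : ∀ b, 943 ≤ b → b < 944 → ∃ J, chkPBlk P 5 31 18 31671 b J = true := fun b h1 h2 => by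
  have hb : b = 943 := Nat.le_antisymm (Nat.le_of_lt_succ h2) h1
  subst hb; exact ⟨_, lblk_943⟩
theorem lo_944_945 : ∀ b, 944 ≤ b → b < 945 → ∃ J, chkPBlk P 5 31 18 31671 b J = true := fun b h1 h2 => by
  have hb : b = 944 := Nat.le_antisymm (Nat.le_of_lt_succ h2) h1
  subst hb; exact ⟨_, lblk_944⟩
theorem lo_943_945 : ∀ b, 943 ≤ b → b < 945 → ∃ J, chkPBlk P 5 31 18 31671 b J = true := fun b h1 h2 =>
  if h : b < 944 then lo_943_944 b h1 h else lo_944_945 b (Nat.le_of_not_lt h) h2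
theorem lo_942_945 : ∀ b, 942 ≤ b → b < 945 → ∃ J, chkPBlk P 5 31 18 31671 b J = true := fun b h1 h2 =>
  if h : b < 943 then lo_942_943 b h1 h else lo_943_945 b (Nat.le_of_not_lt h) h2
theorem lo_940_945 : ∀ b, 940 ≤ b → b < 945 → ∃ J, chkPBlk P 5 31 18 31671 b J = true := fun b h1 h2 =>
  if h : b < 942 then lo_940_942 b h1 h else lo_942_945 b (Nat.le_of_not_lt h) h2
theorem lo_936_945 : ∀ b, 936 ≤ b → b < 945 → ∃ J, chkPBlk P 5 31 18 31671 b J = true := fun b h1 h2 =>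
  if h : b < 940 then lo_936_940 b h1 h else lo_940_945 b (Nat.le_of_not_lt h) h2
theorem lo_945_946 : ∀ b, 945 ≤ b → b < 946 → ∃ J, chkPBlk P 5 31 18 31671 b J = true := fun b h1 h2 => by
  have hb : b = 945 := Nat.le_antisymm (Nat.le_of_lt_succ h2) h1
  subst hb; exact ⟨_, lblk_945⟩
theorem lo_946_947 : ∀ b, 946 ≤ b → b < 947 → ∃ J, chkPBlk P 5 31 18 31671 b J = true := fun b h1 h2 => by
  have hb : b = 946 := Nat.le_antisymm (Nat.le_of_lt_succ h2) h1
  subst hb; exact ⟨_, lblk_946⟩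
theorem lo_945_947 : ∀ b, 945 ≤ b → b < 947 → ∃ J, chkPBlk P 5 31 18 31671 b J = true := fun b h1 h2 =>
  if h : b < 946 then lo_945_946 b h1 h else lo_946_947 b (Nat.le_of_not_lt h) h2
theorem lo_947_948 : ∀ b, 947 ≤ b → b < 948 → ∃ J, chkPBlk P 5 31 18 31671 b J = true := fun b h1 h2 => by
  have hb : b = 947 := Nat.le_antisymm (Nat.le_of_lt_succ h2) h1
  subst hb; exact ⟨_, lblk_947⟩
theorem lo_948_949 : ∀ b, 948 ≤ b → b < 949 → ∃ J, chkPBlk P 5 31 18 31671 b J = true := fun b h1 h2 => by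
  have hb : b = 948 := Nat.le_antisymm (Nat.le_of_lt_succ h2) h1
  subst hb; exact ⟨_, lblk_948⟩
theorem lo_949_950 : ∀ b, 949 ≤ b → b < 950 → ∃ J, chkPBlk P 5 31 18 31671 b J = true := fun b h1 h2 => by
  have hb : b = 949 := Nat.le_antisymm (Nat.le_of_lt_succ h2) h1
  subst hb; exact ⟨_, lblk_949⟩
theorem lo_948_950 : ∀ b, 948 ≤ b → b < 950 → ∃ J, chkPBlk P 5 31 18 31671 b J = true := fun b h1 h2 =>
  if h : b < 949 then lo_948_949 b h1 h else lo_949_950 b (Nat.le_of_not_lt h) h2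
theorem lo_947_950 : ∀ b, 947 ≤ b → b < 950 → ∃ J, chkPBlk P 5 31 18 31671 b J = true := fun b h1 h2 =>
  if h : b < 948 then lo_947_948 b h1 h else lo_948_950 b (Nat.le_of_not_lt h) h2
theorem lo_945_950 : ∀ b, 945 ≤ b → b < 950 → ∃ J, chkPBlk P 5 31 18 31671 b J = true := fun b h1 h2 =>
  if h : b < 947 then lo_945_947 b h1 h else lo_947_950 b (Nat.le_of_not_lt h) h2
theorem lo_950_951 : ∀ b, 950 ≤ b → b < 951 → ∃ J, chkPBlk P 5 31 18 31671 b J = true := fun b h1 h2 => by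
  have hb : b = 950 := Nat.le_antisymm (Nat.le_of_lt_succ h2) h1
  subst hb; exact ⟨_, lblk_950⟩
theorem lo_951_952 : ∀ b, 951 ≤ b → b < 952 → ∃ J, chkPBlk P 5 31 18 31671 b J = true := fun b h1 h2 => by
  have hb : b = 951 := Nat.le_antisymm (Nat.le_of_lt_succ h2) h1
  subst hb; exact ⟨_, lblk_951⟩
theorem lo_950_952 : ∀ b, 950 ≤ b → b < 952 → ∃ J, chkPBlk P 5 31 18 31671 b J = true := fun b h1 h2 =>
  if h : b < 951 then lo_950_951 b h1 h else lo_951_952 b (Nat.le_of_not_lt h) h2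
theorem lo_952_953 : ∀ b, 952 ≤ b → b < 953 → ∃ J, chkPBlk P 5 31 18 31671 b J = true := fun b h1 h2 => by
  have hb : b = 952 := Nat.le_antisymm (Nat.le_of_lt_succ h2) h1
  subst hb; exact ⟨_, lblk_952⟩
theorem lo_953_954 : ∀ b, 953 ≤ b → b < 954 → ∃ J, chkPBlk P 5 31 18 31671 b J = true := fun b h1 h2 => by
  have hb : b = 953 := Nat.le_antisymm (Nat.le_of_lt_succ h2) h1
  subst hb; exact ⟨_, lblk_953⟩
theorem lo_954_955 : ∀ b, 954 ≤ b → b < 955 → ∃ J, chkPBlk P 5 31 18 31671 b J = true := fun b h1 h2 => by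
  have hb : b = 954 := Nat.le_antisymm (Nat.le_of_lt_succ h2) h1
  subst hb; exact ⟨_, lblk_954⟩
theorem lo_953_955 : ∀ b, 953 ≤ b → b < 955 → ∃ J, chkPBlk P 5 31 18 31671 b J = true := fun b h1 h2 =>
  if h : b < 954 then lo_953_954 b h1 h else lo_954_955 b (Nat.le_of_not_lt h) h2
theorem lo_952_955 : ∀ b, 952 ≤ b → b < 955 → ∃ J, chkPBlk P 5 31 18 31671 b J = true := fun b h1 h2 =>
  if h : b < 953 then lo_952_953 b h1 h else lo_953_955 b (Nat.le_of_not_lt h) h2
theorem lo_950_955 : ∀ b, 950 ≤ b → b < 955 → ∃ J, chkPBlk P 5 31 18 31671 b J = true := fun b h1 h2 =>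
  if h : b < 952 then lo_950_952 b h1 h else lo_952_955 b (Nat.le_of_not_lt h) h2
theorem lo_945_955 : ∀ b, 945 ≤ b → b < 955 → ∃ J, chkPBlk P 5 31 18 31671 b J = true := fun b h1 h2 =>
  if h : b < 950 then lo_945_950 b h1 h else lo_950_955 b (Nat.le_of_not_lt h) h2
theorem lo_936_955 : ∀ b, 936 ≤ b → b < 955 → ∃ J, chkPBlk P 5 31 18 31671 b J = true := fun b h1 h2 =>
  if h : b < 945 then lo_936_945 b h1 h else lo_945_955 b (Nat.le_of_not_lt h) h2
theorem lo_918_955 : ∀ b, 918 ≤ b → b < 955 → ∃ J, chkPBlk P 5 31 18 31671 b J = true := fun b h1 h2 =>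
  if h : b < 936 then lo_918_936 b h1 h else lo_936_955 b (Nat.le_of_not_lt h) h2
theorem lo_882_955 : ∀ b, 882 ≤ b → b < 955 → ∃ J, chkPBlk P 5 31 18 31671 b J = true := fun b h1 h2 =>
  if h : b < 918 then lo_882_918 b h1 h else lo_918_955 b (Nat.le_of_not_lt h) h2
theorem lo_955_956 : ∀ b, 955 ≤ b → b < 956 → ∃ J, chkPBlk P 5 31 18 31671 b J = true := fun b h1 h2 => by
  have hb : b = 955 := Nat.le_antisymm (Nat.le_of_lt_succ h2) h1
  subst hb; exact ⟨_, lblk_955⟩
theorem lo_956_957 : ∀ b, 956 ≤ b → b < 957 → ∃ J, chkPBlk P 5 31 18 31671 b J = true := fun b h1 h2 => by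
  have hb : b = 956 := Nat.le_antisymm (Nat.le_of_lt_succ h2) h1
  subst hb; exact ⟨_, lblk_956⟩
theorem lo_955_957 : ∀ b, 955 ≤ b → b < 957 → ∃ J, chkPBlk P 5 31 18 31671 b J = true := fun b h1 h2 =>
  if h : b < 956 then lo_955_956 b h1 h else lo_956_957 b (Nat.le_of_not_lt h) h2
theorem lo_957_958 : ∀ b, 957 ≤ b → b < 958 → ∃ J, chkPBlk P 5 31 18 31671 b J = true := fun b h1 h2 => by
  have hb : b = 957 := Nat.le_antisymm (Nat.le_of_lt_succ h2) h1
  subst hb; exact ⟨_, lblk_957⟩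
theorem lo_958_959 : ∀ b, 958 ≤ b → b < 959 → ∃ J, chkPBlk P 5 31 18 31671 b J = true := fun b h1 h2 => by
  have hb : b = 958 := Nat.le_antisymm (Nat.le_of_lt_succ h2) h1
  subst hb; exact ⟨_, lblk_958⟩
theorem lo_957_959 : ∀ b, 957 ≤ b → b < 959 → ∃ J, chkPBlk P 5 31 18 31671 b J = true := fun b h1 h2 =>
  if h : b < 958 then lo_957_958 b h1 h else lo_958_959 b (Nat.le_of_not_lt h) h2
theorem lo_955_959 : ∀ b, 955 ≤ b → b < 959 → ∃ J, chkPBlk P 5 31 18 31671 b J = true := fun b h1 h2 =>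
  if h : b < 957 then lo_955_957 b h1 h else lo_957_959 b (Nat.le_of_not_lt h) h2
theorem lo_959_960 : ∀ b, 959 ≤ b → b < 960 → ∃ J, chkPBlk P 5 31 18 31671 b J = true := fun b h1 h2 => by
  have hb : b = 959 := Nat.le_antisymm (Nat.le_of_lt_succ h2) h1
  subst hb; exact ⟨_, lblk_959⟩
theorem lo_960_961 : ∀ b, 960 ≤ b → b < 961 → ∃ J, chkPBlk P 5 31 18 31671 b J = true := fun b h1 h2 => by
  have hb : b = 960 := Nat.le_antisymm (Nat.le_of_lt_succ h2) h1
  subst hb; exact ⟨_, lblk_960⟩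
theorem lo_959_961 : ∀ b, 959 ≤ b → b < 961 → ∃ J, chkPBlk P 5 31 18 31671 b J = true := fun b h1 h2 =>
  if h : b < 960 then lo_959_960 b h1 h else lo_960_961 b (Nat.le_of_not_lt h) h2
theorem lo_961_962 : ∀ b, 961 ≤ b → b < 962 → ∃ J, chkPBlk P 5 31 18 31671 b J = true := fun b h1 h2 => by
  have hb : b = 961 := Nat.le_antisymm (Nat.le_of_lt_succ h2) h1
  subst hb; exact ⟨_, lblk_961⟩
theorem lo_962_963 : ∀ b, 962 ≤ b → b < 963 → ∃ J, chkPBlk P 5 31 18 31671 b J = true := fun b h1 h2 => by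
  have hb : b = 962 := Nat.le_antisymm (Nat.le_of_lt_succ h2) h1
  subst hb; exact ⟨_, lblk_962⟩
theorem lo_963_964 : ∀ b, 963 ≤ b → b < 964 → ∃ J, chkPBlk P 5 31 18 31671 b J = true := fun b h1 h2 => by
  have hb : b = 963 := Nat.le_antisymm (Nat.le_of_lt_succ h2) h1
  subst hb; exact ⟨_, lblk_963⟩
theorem lo_962_964 : ∀ b, 962 ≤ b → b < 964 → ∃ J, chkPBlk P 5 31 18 31671 b J = true := fun b h1 h2 =>
  if h : b < 963 then lo_962_963 b h1 h else lo_963_964 b (Nat.le_of_not_lt h) h2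
theorem lo_961_964 : ∀ b, 961 ≤ b → b < 964 → ∃ J, chkPBlk P 5 31 18 31671 b J = true := fun b h1 h2 =>
  if h : b < 962 then lo_961_962 b h1 h else lo_962_964 b (Nat.le_of_not_lt h) h2
theorem lo_959_964 : ∀ b, 959 ≤ b → b < 964 → ∃ J, chkPBlk P 5 31 18 31671 b J = true := fun b h1 h2 =>
  if h : b < 961 then lo_959_961 b h1 h else lo_961_964 b (Nat.le_of_not_lt h) h2
theorem lo_955_964 : ∀ b, 955 ≤ b → b < 964 → ∃ J, chkPBlk P 5 31 18 31671 b J = true := fun b h1 h2 =>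
  if h : b < 959 then lo_955_959 b h1 h else lo_959_964 b (Nat.le_of_not_lt h) h2
theorem lo_964_965 : ∀ b, 964 ≤ b → b < 965 → ∃ J, chkPBlk P 5 31 18 31671 b J = true := fun b h1 h2 => by
  have hb : b = 964 := Nat.le_antisymm (Nat.le_of_lt_succ h2) h1
  subst hb; exact ⟨_, lblk_964⟩
theorem lo_965_966 : ∀ b, 965 ≤ b → b < 966 → ∃ J, chkPBlk P 5 31 18 31671 b J = true := fun b h1 h2 => by
  have hb : b = 965 := Nat.le_antisymm (Nat.le_of_lt_succ h2) h1
  subst hb; exact ⟨_, lblk_965⟩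
theorem lo_964_966 : ∀ b, 964 ≤ b → b < 966 → ∃ J, chkPBlk P 5 31 18 31671 b J = true := fun b h1 h2 =>
  if h : b < 965 then lo_964_965 b h1 h else lo_965_966 b (Nat.le_of_not_lt h) h2
theorem lo_966_967 : ∀ b, 966 ≤ b → b < 967 → ∃ J, chkPBlk P 5 31 18 31671 b J = true := fun b h1 h2 => by
  have hb : b = 966 := Nat.le_antisymm (Nat.le_of_lt_succ h2) h1
  subst hb; exact ⟨_, lblk_966⟩
theorem lo_967_968 : ∀ b, 967 ≤ b → b < 968 → ∃ J, chkPBlk P 5 31 18 31671 b J = true := fun b h1 h2 => by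
  have hb : b = 967 := Nat.le_antisymm (Nat.le_of_lt_succ h2) h1
  subst hb; exact ⟨_, lblk_967⟩
theorem lo_966_968 : ∀ b, 966 ≤ b → b < 968 → ∃ J, chkPBlk P 5 31 18 31671 b J = true := fun b h1 h2 =>
  if h : b < 967 then lo_966_967 b h1 h else lo_967_968 b (Nat.le_of_not_lt h) h2
theorem lo_964_968 : ∀ b, 964 ≤ b → b < 968 → ∃ J, chkPBlk P 5 31 18 31671 b J = true := fun b h1 h2 =>
  if h : b < 966 then lo_964_966 b h1 h else lo_966_968 b (Nat.le_of_not_lt h) h2
theorem lo_968_969 : ∀ b, 968 ≤ b → b < 969 → ∃ J, chkPBlk P 5 31 18 31671 b J = true := fun b h1 h2 => by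
  have hb : b = 968 := Nat.le_antisymm (Nat.le_of_lt_succ h2) h1
  subst hb; exact ⟨_, lblk_968⟩
theorem lo_969_970 : ∀ b, 969 ≤ b → b < 970 → ∃ J, chkPBlk P 5 31 18 31671 b J = true := fun b h1 h2 => by
  have hb : b = 969 := Nat.le_antisymm (Nat.le_of_lt_succ h2) h1
  subst hb; exact ⟨_, lblk_969⟩
theorem lo_968_970 : ∀ b, 968 ≤ b → b < 970 → ∃ J, chkPBlk P 5 31 18 31671 b J = true := fun b h1 h2 =>
  if h : b < 969 then lo_968_969 b h1 h else lo_969_970 b (Nat.le_of_not_lt h) h2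
theorem lo_970_971 : ∀ b, 970 ≤ b → b < 971 → ∃ J, chkPBlk P 5 31 18 31671 b J = true := fun b h1 h2 => by
  have hb : b = 970 := Nat.le_antisymm (Nat.le_of_lt_succ h2) h1
  subst hb; exact ⟨_, lblk_970⟩
theorem lo_971_972 : ∀ b, 971 ≤ b → b < 972 → ∃ J, chkPBlk P 5 31 18 31671 b J = true := fun b h1 h2 => by
  have hb : b = 971 := Nat.le_antisymm (Nat.le_of_lt_succ h2) h1
  subst hb; exact ⟨_, lblk_971⟩
theorem lo_972_973 : ∀ b, 972 ≤ b → b < 973 → ∃ J, chkPBlk P 5 31 18 31671 b J = true := fun b h1 h2 => by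
  have hb : b = 972 := Nat.le_antisymm (Nat.le_of_lt_succ h2) h1
  subst hb; exact ⟨_, lblk_972⟩
theorem lo_971_973 : ∀ b, 971 ≤ b → b < 973 → ∃ J, chkPBlk P 5 31 18 31671 b J = true := fun b h1 h2 =>
  if h : b < 972 then lo_971_972 b h1 h else lo_972_973 b (Nat.le_of_not_lt h) h2
theorem lo_970_973 : ∀ b, 970 ≤ b → b < 973 → ∃ J, chkPBlk P 5 31 18 31671 b J = true := fun b h1 h2 =>
  if h : b < 971 then lo_970_971 b h1 h else lo_971_973 b (Nat.le_of_not_lt h) h2
theorem lo_968_973 : ∀ b, 968 ≤ b → b < 973 → ∃ J, chkPBlk P 5 31 18 31671 b J = true := fun b h1 h2 =>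
  if h : b < 970 then lo_968_970 b h1 h else lo_970_973 b (Nat.le_of_not_lt h) h2
theorem lo_964_973 : ∀ b, 964 ≤ b → b < 973 → ∃ J, chkPBlk P 5 31 18 31671 b J = true := fun b h1 h2 =>
  if h : b < 968 then lo_964_968 b h1 h else lo_968_973 b (Nat.le_of_not_lt h) h2
theorem lo_955_973 : ∀ b, 955 ≤ b → b < 973 → ∃ J, chkPBlk P 5 31 18 31671 b J = true := fun b h1 h2 =>
  if h : b < 964 then lo_955_964 b h1 h else lo_964_973 b (Nat.le_of_not_lt h) h2
theorem lo_973_974 : ∀ b, 973 ≤ b → b < 974 → ∃ J, chkPBlk P 5 31 18 31671 b J = true := fun b h1 h2 => by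
  have hb : b = 973 := Nat.le_antisymm (Nat.le_of_lt_succ h2) h1
  subst hb; exact ⟨_, lblk_973⟩
theorem lo_974_975 : ∀ b, 974 ≤ b → b < 975 → ∃ J, chkPBlk P 5 31 18 31671 b J = true := fun b h1 h2 => by
  have hb : b = 974 := Nat.le_antisymm (Nat.le_of_lt_succ h2) h1
  subst hb; exact ⟨_, lblk_974⟩
theorem lo_973_975 : ∀ b, 973 ≤ b → b < 975 → ∃ J, chkPBlk P 5 31 18 31671 b J = true := fun b h1 h2 =>
  if h : b < 974 then lo_973_974 b h1 h else lo_974_975 b (Nat.le_of_not_lt h) h2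
theorem lo_975_976 : ∀ b, 975 ≤ b → b < 976 → ∃ J, chkPBlk P 5 31 18 31671 b J = true := fun b h1 h2 => by
  have hb : b = 975 := Nat.le_antisymm (Nat.le_of_lt_succ h2) h1
  subst hb; exact ⟨_, lblk_975⟩
theorem lo_976_977 : ∀ b, 976 ≤ b → b < 977 → ∃ J, chkPBlk P 5 31 18 31671 b J = true := fun b h1 h2 => by
  have hb : b = 976 := Nat.le_antisymm (Nat.le_of_lt_succ h2) h1
  subst hb; exact ⟨_, lblk_976⟩
theorem lo_975_977 : ∀ b, 975 ≤ b → b < 977 → ∃ J, chkPBlk P 5 31 18 31671 b J = true := fun b h1 h2 =>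
  if h : b < 976 then lo_975_976 b h1 h else lo_976_977 b (Nat.le_of_not_lt h) h2
theorem lo_973_977 : ∀ b, 973 ≤ b → b < 977 → ∃ J, chkPBlk P 5 31 18 31671 b J = true := fun b h1 h2 =>
  if h : b < 975 then lo_973_975 b h1 h else lo_975_977 b (Nat.le_of_not_lt h) h2
theorem lo_977_978 : ∀ b, 977 ≤ b → b < 978 → ∃ J, chkPBlk P 5 31 18 31671 b J = true := fun b h1 h2 => by
  have hb : b = 977 := Nat.le_antisymm (Nat.le_of_lt_succ h2) h1
  subst hb; exact ⟨_, lblk_977⟩
theorem lo_978_979 : ∀ b, 978 ≤ b → b < 979 → ∃ J, chkPBlk P 5 31 18 31671 b J = true := fun b h1 h2 => by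
  have hb : b = 978 := Nat.le_antisymm (Nat.le_of_lt_succ h2) h1
  subst hb; exact ⟨_, lblk_978⟩
theorem lo_977_979 : ∀ b, 977 ≤ b → b < 979 → ∃ J, chkPBlk P 5 31 18 31671 b J = true := fun b h1 h2 =>
  if h : b < 978 then lo_977_978 b h1 h else lo_978_979 b (Nat.le_of_not_lt h) h2
theorem lo_979_980 : ∀ b, 979 ≤ b → b < 980 → ∃ J, chkPBlk P 5 31 18 31671 b J = true := fun b h1 h2 => by
  have hb : b = 979 := Nat.le_antisymm (Nat.le_of_lt_succ h2) h1
  subst hb; exact ⟨_, lblk_979⟩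
theorem lo_980_981 : ∀ b, 980 ≤ b → b < 981 → ∃ J, chkPBlk P 5 31 18 31671 b J = true := fun b h1 h2 => by
  have hb : b = 980 := Nat.le_antisymm (Nat.le_of_lt_succ h2) h1
  subst hb; exact ⟨_, lblk_980⟩
theorem lo_981_982 : ∀ b, 981 ≤ b → b < 982 → ∃ J, chkPBlk P 5 31 18 31671 b J = true := fun b h1 h2 => by
  have hb : b = 981 := Nat.le_antisymm (Nat.le_of_lt_succ h2) h1
  subst hb; exact ⟨_, lblk_981⟩
theorem lo_980_982 : ∀ b, 980 ≤ b → b < 982 → ∃ J, chkPBlk P 5 31 18 31671 b J = true := fun b h1 h2 =>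
  if h : b < 981 then lo_980_981 b h1 h else lo_981_982 b (Nat.le_of_not_lt h) h2
theorem lo_979_982 : ∀ b, 979 ≤ b → b < 982 → ∃ J, chkPBlk P 5 31 18 31671 b J = true := fun b h1 h2 =>
  if h : b < 980 then lo_979_980 b h1 h else lo_980_982 b (Nat.le_of_not_lt h) h2
theorem lo_977_982 : ∀ b, 977 ≤ b → b < 982 → ∃ J, chkPBlk P 5 31 18 31671 b J = true := fun b h1 h2 =>
  if h : b < 979 then lo_977_979 b h1 h else lo_979_982 b (Nat.le_of_not_lt h) h2
theorem lo_973_982 : ∀ b, 973 ≤ b → b < 982 → ∃ J, chkPBlk P 5 31 18 31671 b J = true := fun b h1 h2 =>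
  if h : b < 977 then lo_973_977 b h1 h else lo_977_982 b (Nat.le_of_not_lt h) h2
theorem lo_982_983 : ∀ b, 982 ≤ b → b < 983 → ∃ J, chkPBlk P 5 31 18 31671 b J = true := fun b h1 h2 => by
  have hb : b = 982 := Nat.le_antisymm (Nat.le_of_lt_succ h2) h1
  subst hb; exact ⟨_, lblk_982⟩
theorem lo_983_984 : ∀ b, 983 ≤ b → b < 984 → ∃ J, chkPBlk P 5 31 18 31671 b J = true := fun b h1 h2 => by
  have hb : b = 983 := Nat.le_antisymm (Nat.le_of_lt_succ h2) h1
  subst hb; exact ⟨_, lblk_983⟩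
theorem lo_982_984 : ∀ b, 982 ≤ b → b < 984 → ∃ J, chkPBlk P 5 31 18 31671 b J = true := fun b h1 h2 =>
  if h : b < 983 then lo_982_983 b h1 h else lo_983_984 b (Nat.le_of_not_lt h) h2
theorem lo_984_985 : ∀ b, 984 ≤ b → b < 985 → ∃ J, chkPBlk P 5 31 18 31671 b J = true := fun b h1 h2 => by
  have hb : b = 984 := Nat.le_antisymm (Nat.le_of_lt_succ h2) h1
  subst hb; exact ⟨_, lblk_984⟩
theorem lo_985_986 : ∀ b, 985 ≤ b → b < 986 → ∃ J, chkPBlk P 5 31 18 31671 b J = true := fun b h1 h2 => by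
  have hb : b = 985 := Nat.le_antisymm (Nat.le_of_lt_succ h2) h1
  subst hb; exact ⟨_, lblk_985⟩
theorem lo_986_987 : ∀ b, 986 ≤ b → b < 987 → ∃ J, chkPBlk P 5 31 18 31671 b J = true := fun b h1 h2 => by
  have hb : b = 986 := Nat.le_antisymm (Nat.le_of_lt_succ h2) h1
  subst hb; exact ⟨_, lblk_986⟩
theorem lo_985_987 : ∀ b, 985 ≤ b → b < 987 → ∃ J, chkPBlk P 5 31 18 31671 b J = true := fun b h1 h2 =>
  if h : b < 986 then lo_985_986 b h1 h else lo_986_987 b (Nat.le_of_not_lt h) h2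
theorem lo_984_987 : ∀ b, 984 ≤ b → b < 987 → ∃ J, chkPBlk P 5 31 18 31671 b J = true := fun b h1 h2 =>
  if h : b < 985 then lo_984_985 b h1 h else lo_985_987 b (Nat.le_of_not_lt h) h2
theorem lo_982_987 : ∀ b, 982 ≤ b → b < 987 → ∃ J, chkPBlk P 5 31 18 31671 b J = true := fun b h1 h2 =>
  if h : b < 984 then lo_982_984 b h1 h else lo_984_987 b (Nat.le_of_not_lt h) h2
theorem lo_987_988 : ∀ b, 987 ≤ b → b < 988 → ∃ J, chkPBlk P 5 31 18 31671 b J = true := fun b h1 h2 => by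
  have hb : b = 987 := Nat.le_antisymm (Nat.le_of_lt_succ h2) h1
  subst hb; exact ⟨_, lblk_987⟩
theorem lo_988_989 : ∀ b, 988 ≤ b → b < 989 → ∃ J, chkPBlk P 5 31 18 31671 b J = true := fun b h1 h2 => by
  have hb : b = 988 := Nat.le_antisymm (Nat.le_of_lt_succ h2) h1
  subst hb; exact ⟨_, lblk_988⟩
theorem lo_987_989 : ∀ b, 987 ≤ b → b < 989 → ∃ J, chkPBlk P 5 31 18 31671 b J = true := fun b h1 h2 =>
  if h : b < 988 then lo_987_988 b h1 h else lo_988_989 b (Nat.le_of_not_lt h) h2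
theorem lo_989_990 : ∀ b, 989 ≤ b → b < 990 → ∃ J, chkPBlk P 5 31 18 31671 b J = true := fun b h1 h2 => by
  have hb : b = 989 := Nat.le_antisymm (Nat.le_of_lt_succ h2) h1
  subst hb; exact ⟨_, lblk_989⟩
theorem lo_990_991 : ∀ b, 990 ≤ b → b < 991 → ∃ J, chkPBlk P 5 31 18 31671 b J = true := fun b h1 h2 => by
  have hb : b = 990 := Nat.le_antisymm (Nat.le_of_lt_succ h2) h1
  subst hb; exact ⟨_, lblk_990⟩
theorem lo_991_992 : ∀ b, 991 ≤ b → b < 992 → ∃ J, chkPBlk P 5 31 18 31671 b J = true := fun b h1 h2 => by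
  have hb : b = 991 := Nat.le_antisymm (Nat.le_of_lt_succ h2) h1
  subst hb; exact ⟨_, lblk_991⟩
theorem lo_990_992 : ∀ b, 990 ≤ b → b < 992 → ∃ J, chkPBlk P 5 31 18 31671 b J = true := fun b h1 h2 =>
  if h : b < 991 then lo_990_991 b h1 h else lo_991_992 b (Nat.le_of_not_lt h) h2
theorem lo_989_992 : ∀ b, 989 ≤ b → b < 992 → ∃ J, chkPBlk P 5 31 18 31671 b J = true := fun b h1 h2 =>
  if h : b < 990 then lo_989_990 b h1 h else lo_990_992 b (Nat.le_of_not_lt h) h2
theorem lo_987_992 : ∀ b, 987 ≤ b → b < 992 → ∃ J, chkPBlk P 5 31 18 31671 b J = true := fun b h1 h2 =>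
  if h : b < 989 then lo_987_989 b h1 h else lo_989_992 b (Nat.le_of_not_lt h) h2
theorem lo_982_992 : ∀ b, 982 ≤ b → b < 992 → ∃ J, chkPBlk P 5 31 18 31671 b J = true := fun b h1 h2 =>
  if h : b < 987 then lo_982_987 b h1 h else lo_987_992 b (Nat.le_of_not_lt h) h2
theorem lo_973_992 : ∀ b, 973 ≤ b → b < 992 → ∃ J, chkPBlk P 5 31 18 31671 b J = true := fun b h1 h2 =>
  if h : b < 982 then lo_973_982 b h1 h else lo_982_992 b (Nat.le_of_not_lt h) h2
theorem lo_955_992 : ∀ b, 955 ≤ b → b < 992 → ∃ J, chkPBlk P 5 31 18 31671 b J = true := fun b h1 h2 =>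
  if h : b < 973 then lo_955_973 b h1 h else lo_973_992 b (Nat.le_of_not_lt h) h2
theorem lo_992_993 : ∀ b, 992 ≤ b → b < 993 → ∃ J, chkPBlk P 5 31 18 31671 b J = true := fun b h1 h2 => by
  have hb : b = 992 := Nat.le_antisymm (Nat.le_of_lt_succ h2) h1
  subst hb; exact ⟨_, lblk_992⟩
theorem lo_993_994 : ∀ b, 993 ≤ b → b < 994 → ∃ J, chkPBlk P 5 31 18 31671 b J = true := fun b h1 h2 => by
  have hb : b = 993 := Nat.le_antisymm (Nat.le_of_lt_succ h2) h1
  subst hb; exact ⟨_, lblk_993⟩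
theorem lo_992_994 : ∀ b, 992 ≤ b → b < 994 → ∃ J, chkPBlk P 5 31 18 31671 b J = true := fun b h1 h2 =>
  if h : b < 993 then lo_992_993 b h1 h else lo_993_994 b (Nat.le_of_not_lt h) h2
theorem lo_994_995 : ∀ b, 994 ≤ b → b < 995 → ∃ J, chkPBlk P 5 31 18 31671 b J = true := fun b h1 h2 => by
  have hb : b = 994 := Nat.le_antisymm (Nat.le_of_lt_succ h2) h1
  subst hb; exact ⟨_, lblk_994⟩
theorem lo_995_996 : ∀ b, 995 ≤ b → b < 996 → ∃ J, chkPBlk P 5 31 18 31671 b J = true := fun b h1 h2 => by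
  have hb : b = 995 := Nat.le_antisymm (Nat.le_of_lt_succ h2) h1
  subst hb; exact ⟨_, lblk_995⟩
theorem lo_994_996 : ∀ b, 994 ≤ b → b < 996 → ∃ J, chkPBlk P 5 31 18 31671 b J = true := fun b h1 h2 =>
  if h : b < 995 then lo_994_995 b h1 h else lo_995_996 b (Nat.le_of_not_lt h) h2
theorem lo_992_996 : ∀ b, 992 ≤ b → b < 996 → ∃ J, chkPBlk P 5 31 18 31671 b J = true := fun b h1 h2 =>
  if h : b < 994 then lo_992_994 b h1 h else lo_994_996 b (Nat.le_of_not_lt h) h2
theorem lo_996_997 : ∀ b, 996 ≤ b → b < 997 → ∃ J, chkPBlk P 5 31 18 31671 b J = true := fun b h1 h2 => by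
  have hb : b = 996 := Nat.le_antisymm (Nat.le_of_lt_succ h2) h1
  subst hb; exact ⟨_, lblk_996⟩
theorem lo_997_998 : ∀ b, 997 ≤ b → b < 998 → ∃ J, chkPBlk P 5 31 18 31671 b J = true := fun b h1 h2 => by
  have hb : b = 997 := Nat.le_antisymm (Nat.le_of_lt_succ h2) h1
  subst hb; exact ⟨_, lblk_997⟩
theorem lo_996_998 : ∀ b, 996 ≤ b → b < 998 → ∃ J, chkPBlk P 5 31 18 31671 b J = true := fun b h1 h2 =>
  if h : b < 997 then lo_996_997 b h1 h else lo_997_998 b (Nat.le_of_not_lt h) h2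
theorem lo_998_999 : ∀ b, 998 ≤ b → b < 999 → ∃ J, chkPBlk P 5 31 18 31671 b J = true := fun b h1 h2 => by
  have hb : b = 998 := Nat.le_antisymm (Nat.le_of_lt_succ h2) h1
  subst hb; exact ⟨_, lblk_998⟩
theorem lo_999_1000 : ∀ b, 999 ≤ b → b < 1000 → ∃ J, chkPBlk P 5 31 18 31671 b J = true := fun b h1 h2 => by
  have hb : b = 999 := Nat.le_antisymm (Nat.le_of_lt_succ h2) h1
  subst hb; exact ⟨_, lblk_999⟩
theorem lo_1000_1001 : ∀ b, 1000 ≤ b → b < 1001 → ∃ J, chkPBlk P 5 31 18 31671 b J = true := fun b h1 h2 => by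
  have hb : b = 1000 := Nat.le_antisymm (Nat.le_of_lt_succ h2) h1
  subst hb; exact ⟨_, lblk_1000⟩
theorem lo_999_1001 : ∀ b, 999 ≤ b → b < 1001 → ∃ J, chkPBlk P 5 31 18 31671 b J = true := fun b h1 h2 =>
  if h : b < 1000 then lo_999_1000 b h1 h else lo_1000_1001 b (Nat.le_of_not_lt h) h2
theorem lo_998_1001 : ∀ b, 998 ≤ b → b < 1001 → ∃ J, chkPBlk P 5 31 18 31671 b J = true := fun b h1 h2 =>
  if h : b < 999 then lo_998_999 b h1 h else lo_999_1001 b (Nat.le_of_not_lt h) h2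
theorem lo_996_1001 : ∀ b, 996 ≤ b → b < 1001 → ∃ J, chkPBlk P 5 31 18 31671 b J = true := fun b h1 h2 =>
  if h : b < 998 then lo_996_998 b h1 h else lo_998_1001 b (Nat.le_of_not_lt h) h2
theorem lo_992_1001 : ∀ b, 992 ≤ b → b < 1001 → ∃ J, chkPBlk P 5 31 18 31671 b J = true := fun b h1 h2 =>
  if h : b < 996 then lo_992_996 b h1 h else lo_996_1001 b (Nat.le_of_not_lt h) h2
theorem lo_1001_1002 : ∀ b, 1001 ≤ b → b < 1002 → ∃ J, chkPBlk P 5 31 18 31671 b J = true := fun b h1 h2 => by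
  have hb : b = 1001 := Nat.le_antisymm (Nat.le_of_lt_succ h2) h1
  subst hb; exact ⟨_, lblk_1001⟩
theorem lo_1002_1003 : ∀ b, 1002 ≤ b → b < 1003 → ∃ J, chkPBlk P 5 31 18 31671 b J = true := fun b h1 h2 => by
  have hb : b = 1002 := Nat.le_antisymm (Nat.le_of_lt_succ h2) h1
  subst hb; exact ⟨_, lblk_1002⟩
theorem lo_1001_1003 : ∀ b, 1001 ≤ b → b < 1003 → ∃ J, chkPBlk P 5 31 18 31671 b J = true := fun b h1 h2 =>
  if h : b < 1002 then lo_1001_1002 b h1 h else lo_1002_1003 b (Nat.le_of_not_lt h) h2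
theorem lo_1003_1004 : ∀ b, 1003 ≤ b → b < 1004 → ∃ J, chkPBlk P 5 31 18 31671 b J = true := fun b h1 h2 => by
  have hb : b = 1003 := Nat.le_antisymm (Nat.le_of_lt_succ h2) h1
  subst hb; exact ⟨_, lblk_1003⟩
theorem lo_1004_1005 : ∀ b, 1004 ≤ b → b < 1005 → ∃ J, chkPBlk P 5 31 18 31671 b J = true := fun b h1 h2 => by
  have hb : b = 1004 := Nat.le_antisymm (Nat.le_of_lt_succ h2) h1
  subst hb; exact ⟨_, lblk_1004⟩
theorem lo_1003_1005 : ∀ b, 1003 ≤ b → b < 1005 → ∃ J, chkPBlk P 5 31 18 31671 b J = true := fun b h1 h2 =>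
  if h : b < 1004 then lo_1003_1004 b h1 h else lo_1004_1005 b (Nat.le_of_not_lt h) h2
theorem lo_1001_1005 : ∀ b, 1001 ≤ b → b < 1005 → ∃ J, chkPBlk P 5 31 18 31671 b J = true := fun b h1 h2 =>
  if h : b < 1003 then lo_1001_1003 b h1 h else lo_1003_1005 b (Nat.le_of_not_lt h) h2
theorem lo_1005_1006 : ∀ b, 1005 ≤ b → b < 1006 → ∃ J, chkPBlk P 5 31 18 31671 b J = true := fun b h1 h2 => by
  have hb : b = 1005 := Nat.le_antisymm (Nat.le_of_lt_succ h2) h1
  subst hb; exact ⟨_, lblk_1005⟩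
theorem lo_1006_1007 : ∀ b, 1006 ≤ b → b < 1007 → ∃ J, chkPBlk P 5 31 18 31671 b J = true := fun b h1 h2 => by
  have hb : b = 1006 := Nat.le_antisymm (Nat.le_of_lt_succ h2) h1
  subst hb; exact ⟨_, lblk_1006⟩
theorem lo_1005_1007 : ∀ b, 1005 ≤ b → b < 1007 → ∃ J, chkPBlk P 5 31 18 31671 b J = true := fun b h1 h2 =>
  if h : b < 1006 then lo_1005_1006 b h1 h else lo_1006_1007 b (Nat.le_of_not_lt h) h2
theorem lo_1007_1008 : ∀ b, 1007 ≤ b → b < 1008 → ∃ J, chkPBlk P 5 31 18 31671 b J = true := fun b h1 h2 => by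
  have hb : b = 1007 := Nat.le_antisymm (Nat.le_of_lt_succ h2) h1
  subst hb; exact ⟨_, lblk_1007⟩
theorem lo_1008_1009 : ∀ b, 1008 ≤ b → b < 1009 → ∃ J, chkPBlk P 5 31 18 31671 b J = true := fun b h1 h2 => by
  have hb : b = 1008 := Nat.le_antisymm (Nat.le_of_lt_succ h2) h1
  subst hb; exact ⟨_, lblk_1008⟩
theorem lo_1009_1010 : ∀ b, 1009 ≤ b → b < 1010 → ∃ J, chkPBlk P 5 31 18 31671 b J = true := fun b h1 h2 => by
  have hb : b = 1009 := Nat.le_antisymm (Nat.le_of_lt_succ h2) h1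
  subst hb; exact ⟨_, lblk_1009⟩
theorem lo_1008_1010 : ∀ b, 1008 ≤ b → b < 1010 → ∃ J, chkPBlk P 5 31 18 31671 b J = true := fun b h1 h2 =>
  if h : b < 1009 then lo_1008_1009 b h1 h else lo_1009_1010 b (Nat.le_of_not_lt h) h2
theorem lo_1007_1010 : ∀ b, 1007 ≤ b → b < 1010 → ∃ J, chkPBlk P 5 31 18 31671 b J = true := fun b h1 h2 =>
  if h : b < 1008 then lo_1007_1008 b h1 h else lo_1008_1010 b (Nat.le_of_not_lt h) h2
theorem lo_1005_1010 : ∀ b, 1005 ≤ b → b < 1010 → ∃ J, chkPBlk P 5 31 18 31671 b J = true := fun b h1 h2 =>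
  if h : b < 1007 then lo_1005_1007 b h1 h else lo_1007_1010 b (Nat.le_of_not_lt h) h2
theorem lo_1001_1010 : ∀ b, 1001 ≤ b → b < 1010 → ∃ J, chkPBlk P 5 31 18 31671 b J = true := fun b h1 h2 =>
  if h : b < 1005 then lo_1001_1005 b h1 h else lo_1005_1010 b (Nat.le_of_not_lt h) h2
theorem lo_992_1010 : ∀ b, 992 ≤ b → b < 1010 → ∃ J, chkPBlk P 5 31 18 31671 b J = true := fun b h1 h2 =>
  if h : b < 1001 then lo_992_1001 b h1 h else lo_1001_1010 b (Nat.le_of_not_lt h) h2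
theorem lo_1010_1011 : ∀ b, 1010 ≤ b → b < 1011 → ∃ J, chkPBlk P 5 31 18 31671 b J = true := fun b h1 h2 => by
  have hb : b = 1010 := Nat.le_antisymm (Nat.le_of_lt_succ h2) h1
  subst hb; exact ⟨_, lblk_1010⟩
theorem lo_1011_1012 : ∀ b, 1011 ≤ b → b < 1012 → ∃ J, chkPBlk P 5 31 18 31671 b J = true := fun b h1 h2 => by
  have hb : b = 1011 := Nat.le_antisymm (Nat.le_of_lt_succ h2) h1
  subst hb; exact ⟨_, lblk_1011⟩
theorem lo_1010_1012 : ∀ b, 1010 ≤ b → b < 1012 → ∃ J, chkPBlk P 5 31 18 31671 b J = true := fun b h1 h2 =>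
  if h : b < 1011 then lo_1010_1011 b h1 h else lo_1011_1012 b (Nat.le_of_not_lt h) h2
theorem lo_1012_1013 : ∀ b, 1012 ≤ b → b < 1013 → ∃ J, chkPBlk P 5 31 18 31671 b J = true := fun b h1 h2 => by
  have hb : b = 1012 := Nat.le_antisymm (Nat.le_of_lt_succ h2) h1
  subst hb; exact ⟨_, lblk_1012⟩
theorem lo_1013_1014 : ∀ b, 1013 ≤ b → b < 1014 → ∃ J, chkPBlk P 5 31 18 31671 b J = true := fun b h1 h2 => by
  have hb : b = 1013 := Nat.le_antisymm (Nat.le_of_lt_succ h2) h1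
  subst hb; exact ⟨_, lblk_1013⟩
theorem lo_1012_1014 : ∀ b, 1012 ≤ b → b < 1014 → ∃ J, chkPBlk P 5 31 18 31671 b J = true := fun b h1 h2 =>
  if h : b < 1013 then lo_1012_1013 b h1 h else lo_1013_1014 b (Nat.le_of_not_lt h) h2
theorem lo_1010_1014 : ∀ b, 1010 ≤ b → b < 1014 → ∃ J, chkPBlk P 5 31 18 31671 b J = true := fun b h1 h2 =>
  if h : b < 1012 then lo_1010_1012 b h1 h else lo_1012_1014 b (Nat.le_of_not_lt h) h2
theorem lo_1014_1015 : ∀ b, 1014 ≤ b → b < 1015 → ∃ J, chkPBlk P 5 31 18 31671 b J = true := fun b h1 h2 => by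
  have hb : b = 1014 := Nat.le_antisymm (Nat.le_of_lt_succ h2) h1
  subst hb; exact ⟨_, lblk_1014⟩
theorem lo_1015_1016 : ∀ b, 1015 ≤ b → b < 1016 → ∃ J, chkPBlk P 5 31 18 31671 b J = true := fun b h1 h2 => by
  have hb : b = 1015 := Nat.le_antisymm (Nat.le_of_lt_succ h2) h1
  subst hb; exact ⟨_, lblk_1015⟩
theorem lo_1014_1016 : ∀ b, 1014 ≤ b → b < 1016 → ∃ J, chkPBlk P 5 31 18 31671 b J = true := fun b h1 h2 =>
  if h : b < 1015 then lo_1014_1015 b h1 h else lo_1015_1016 b (Nat.le_of_not_lt h) h2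
theorem lo_1016_1017 : ∀ b, 1016 ≤ b → b < 1017 → ∃ J, chkPBlk P 5 31 18 31671 b J = true := fun b h1 h2 => by
  have hb : b = 1016 := Nat.le_antisymm (Nat.le_of_lt_succ h2) h1
  subst hb; exact ⟨_, lblk_1016⟩
theorem lo_1017_1018 : ∀ b, 1017 ≤ b → b < 1018 → ∃ J, chkPBlk P 5 31 18 31671 b J = true := fun b h1 h2 => by
  have hb : b = 1017 := Nat.le_antisymm (Nat.le_of_lt_succ h2) h1
  subst hb; exact ⟨_, lblk_1017⟩
theorem lo_1018_1019 : ∀ b, 1018 ≤ b → b < 1019 → ∃ J, chkPBlk P 5 31 18 31671 b J = true := fun b h1 h2 => by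
  have hb : b = 1018 := Nat.le_antisymm (Nat.le_of_lt_succ h2) h1
  subst hb; exact ⟨_, lblk_1018⟩
theorem lo_1017_1019 : ∀ b, 1017 ≤ b → b < 1019 → ∃ J, chkPBlk P 5 31 18 31671 b J = true := fun b h1 h2 =>
  if h : b < 1018 then lo_1017_1018 b h1 h else lo_1018_1019 b (Nat.le_of_not_lt h) h2
theorem lo_1016_1019 : ∀ b, 1016 ≤ b → b < 1019 → ∃ J, chkPBlk P 5 31 18 31671 b J = true := fun b h1 h2 =>
  if h : b < 1017 then lo_1016_1017 b h1 h else lo_1017_1019 b (Nat.le_of_not_lt h) h2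
theorem lo_1014_1019 : ∀ b, 1014 ≤ b → b < 1019 → ∃ J, chkPBlk P 5 31 18 31671 b J = true := fun b h1 h2 =>
  if h : b < 1016 then lo_1014_1016 b h1 h else lo_1016_1019 b (Nat.le_of_not_lt h) h2
theorem lo_1010_1019 : ∀ b, 1010 ≤ b → b < 1019 → ∃ J, chkPBlk P 5 31 18 31671 b J = true := fun b h1 h2 =>
  if h : b < 1014 then lo_1010_1014 b h1 h else lo_1014_1019 b (Nat.le_of_not_lt h) h2
theorem lo_1019_1020 : ∀ b, 1019 ≤ b → b < 1020 → ∃ J, chkPBlk P 5 31 18 31671 b J = true := fun b h1 h2 => by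
  have hb : b = 1019 := Nat.le_antisymm (Nat.le_of_lt_succ h2) h1
  subst hb; exact ⟨_, lblk_1019⟩
theorem lo_1020_1021 : ∀ b, 1020 ≤ b → b < 1021 → ∃ J, chkPBlk P 5 31 18 31671 b J = true := fun b h1 h2 => by
  have hb : b = 1020 := Nat.le_antisymm (Nat.le_of_lt_succ h2) h1
  subst hb; exact ⟨_, lblk_1020⟩
theorem lo_1019_1021 : ∀ b, 1019 ≤ b → b < 1021 → ∃ J, chkPBlk P 5 31 18 31671 b J = true := fun b h1 h2 =>
  if h : b < 1020 then lo_1019_1020 b h1 h else lo_1020_1021 b (Nat.le_of_not_lt h) h2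
theorem lo_1021_1022 : ∀ b, 1021 ≤ b → b < 1022 → ∃ J, chkPBlk P 5 31 18 31671 b J = true := fun b h1 h2 => by
  have hb : b = 1021 := Nat.le_antisymm (Nat.le_of_lt_succ h2) h1
  subst hb; exact ⟨_, lblk_1021⟩
theorem lo_1022_1023 : ∀ b, 1022 ≤ b → b < 1023 → ∃ J, chkPBlk P 5 31 18 31671 b J = true := fun b h1 h2 => by
  have hb : b = 1022 := Nat.le_antisymm (Nat.le_of_lt_succ h2) h1
  subst hb; exact ⟨_, lblk_1022⟩
theorem lo_1023_1024 : ∀ b, 1023 ≤ b → b < 1024 → ∃ J, chkPBlk P 5 31 18 31671 b J = true := fun b h1 h2 => by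
  have hb : b = 1023 := Nat.le_antisymm (Nat.le_of_lt_succ h2) h1
  subst hb; exact ⟨_, lblk_1023⟩
theorem lo_1022_1024 : ∀ b, 1022 ≤ b → b < 1024 → ∃ J, chkPBlk P 5 31 18 31671 b J = true := fun b h1 h2 =>
  if h : b < 1023 then lo_1022_1023 b h1 h else lo_1023_1024 b (Nat.le_of_not_lt h) h2
theorem lo_1021_1024 : ∀ b, 1021 ≤ b → b < 1024 → ∃ J, chkPBlk P 5 31 18 31671 b J = true := fun b h1 h2 =>
  if h : b < 1022 then lo_1021_1022 b h1 h else lo_1022_1024 b (Nat.le_of_not_lt h) h2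
theorem lo_1019_1024 : ∀ b, 1019 ≤ b → b < 1024 → ∃ J, chkPBlk P 5 31 18 31671 b J = true := fun b h1 h2 =>
  if h : b < 1021 then lo_1019_1021 b h1 h else lo_1021_1024 b (Nat.le_of_not_lt h) h2
theorem lo_1024_1025 : ∀ b, 1024 ≤ b → b < 1025 → ∃ J, chkPBlk P 5 31 18 31671 b J = true := fun b h1 h2 => by
  have hb : b = 1024 := Nat.le_antisymm (Nat.le_of_lt_succ h2) h1
  subst hb; exact ⟨_, lblk_1024⟩
theorem lo_1025_1026 : ∀ b, 1025 ≤ b → b < 1026 → ∃ J, chkPBlk P 5 31 18 31671 b J = true := fun b h1 h2 => by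
  have hb : b = 1025 := Nat.le_antisymm (Nat.le_of_lt_succ h2) h1
  subst hb; exact ⟨_, lblk_1025⟩
theorem lo_1024_1026 : ∀ b, 1024 ≤ b → b < 1026 → ∃ J, chkPBlk P 5 31 18 31671 b J = true := fun b h1 h2 =>
  if h : b < 1025 then lo_1024_1025 b h1 h else lo_1025_1026 b (Nat.le_of_not_lt h) h2
theorem lo_1026_1027 : ∀ b, 1026 ≤ b → b < 1027 → ∃ J, chkPBlk P 5 31 18 31671 b J = true := fun b h1 h2 => by
  have hb : b = 1026 := Nat.le_antisymm (Nat.le_of_lt_succ h2) h1
  subst hb; exact ⟨_, lblk_1026⟩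
theorem lo_1027_1028 : ∀ b, 1027 ≤ b → b < 1028 → ∃ J, chkPBlk P 5 31 18 31671 b J = true := fun b h1 h2 => by
  have hb : b = 1027 := Nat.le_antisymm (Nat.le_of_lt_succ h2) h1
  subst hb; exact ⟨_, lblk_1027⟩
theorem lo_1028_1029 : ∀ b, 1028 ≤ b → b < 1029 → ∃ J, chkPBlk P 5 31 18 31671 b J = true := fun b h1 h2 => by
  have hb : b = 1028 := Nat.le_antisymm (Nat.le_of_lt_succ h2) h1
  subst hb; exact ⟨_, lblk_1028⟩
theorem lo_1027_1029 : ∀ b, 1027 ≤ b → b < 1029 → ∃ J, chkPBlk P 5 31 18 31671 b J = true := fun b h1 h2 =>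
  if h : b < 1028 then lo_1027_1028 b h1 h else lo_1028_1029 b (Nat.le_of_not_lt h) h2
theorem lo_1026_1029 : ∀ b, 1026 ≤ b → b < 1029 → ∃ J, chkPBlk P 5 31 18 31671 b J = true := fun b h1 h2 =>
  if h : b < 1027 then lo_1026_1027 b h1 h else lo_1027_1029 b (Nat.le_of_not_lt h) h2
theorem lo_1024_1029 : ∀ b, 1024 ≤ b → b < 1029 → ∃ J, chkPBlk P 5 31 18 31671 b J = true := fun b h1 h2 =>
  if h : b < 1026 then lo_1024_1026 b h1 h else lo_1026_1029 b (Nat.le_of_not_lt h) h2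
theorem lo_1019_1029 : ∀ b, 1019 ≤ b → b < 1029 → ∃ J, chkPBlk P 5 31 18 31671 b J = true := fun b h1 h2 =>
  if h : b < 1024 then lo_1019_1024 b h1 h else lo_1024_1029 b (Nat.le_of_not_lt h) h2
theorem lo_1010_1029 : ∀ b, 1010 ≤ b → b < 1029 → ∃ J, chkPBlk P 5 31 18 31671 b J = true := fun b h1 h2 =>
  if h : b < 1019 then lo_1010_1019 b h1 h else lo_1019_1029 b (Nat.le_of_not_lt h) h2
theorem lo_992_1029 : ∀ b, 992 ≤ b → b < 1029 → ∃ J, chkPBlk P 5 31 18 31671 b J = true := fun b h1 h2 =>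
  if h : b < 1010 then lo_992_1010 b h1 h else lo_1010_1029 b (Nat.le_of_not_lt h) h2
theorem lo_955_1029 : ∀ b, 955 ≤ b → b < 1029 → ∃ J, chkPBlk P 5 31 18 31671 b J = true := fun b h1 h2 =>
  if h : b < 992 then lo_955_992 b h1 h else lo_992_1029 b (Nat.le_of_not_lt h) h2
theorem lo_882_1029 : ∀ b, 882 ≤ b → b < 1029 → ∃ J, chkPBlk P 5 31 18 31671 b J = true := fun b h1 h2 =>
  if h : b < 955 then lo_882_955 b h1 h else lo_955_1029 b (Nat.le_of_not_lt h) h2

end Cfsg.Agent.Lib.Helper29.S1689
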