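import Cfsg.Agent.Lib.Helper29.S1689.Data

set_option autoImplicit false
set_option Elab.async false

namespace Cfsg.Agent.Lib.Helper29.S1689

open Cfsg.Agent.Lib.Helper29.TcTrace Cfsg.Agent.Lib.Helper29.TcCert Cfsg.Agent.Lib.Helper29.TcPerm

theorem lblk_1029 : chkPBlk P 5 31 18 31671 1029 0x104424c5191052212942465 = true := by decide +kernel
theorem lblk_1030 : chkPBlk P 5 31 18 31671 1030 0x12621464291084910921109 = true := by decide +kernel
theorem lblk_1031 : chkPBlk P 5 31 18 31671 1031 0x124425284a4c23146429108 = true := by decide +kernel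
theorem lblk_1032 : chkPBlk P 5 31 18 31671 1032 0x6441488425244252830c88 = true := by decide +kernel
theorem lblk_1033 : chkPBlk P 5 31 18 31671 1033 0x884a12941d283212941868 = true := by decide +kernel
theorem lblk_1034 : chkPBlk P 5 31 18 31671 1034 0x1044086431464411084a505 = true := by decide +kernel
theorem lblk_1035 : chkPBlk P 5 31 18 31671 1035 0xa321488424844252811484 = true := by decide +kernel
theorem lblk_1036 : chkPBlk P 5 31 18 31671 1036 0x12849889298a429088424c5 = true := by decide +kernel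
theorem lblk_1037 : chkPBlk P 5 31 18 31671 1037 0x1061a124290882212842488 = true := by decide +kernel
theorem lblk_1038 : chkPBlk P 5 31 18 31671 1038 0xc521103214884252822129 = true := by decide +kernel
theorem lblk_1039 : chkPBlk P 5 31 18 31671 1039 0xa14244731488291094a127 = true := by decide +kernel
theorem lblk_1040 : chkPBlk P 5 31 18 31671 1040 0x6849084221284248842489 = true := by decide +kernel
theorem lblk_1041 : chkPBlk P 5 31 18 31671 1041 0x10522129424c32910922128 = true := by decide +kernel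
theorem lblk_1042 : chkPBlk P 5 31 18 31671 1042 0x884a504411094a109498a4 = true := by decide +kernel
theorem lblk_1043 : chkPBlk P 5 31 18 31671 1043 0x129418662a064291084a507 = true := by decide +kernel
theorem lblk_1044 : chkPBlk P 5 31 18 31671 1044 0x884252828c884a1293a488 = true := by decide +kernel
theorem lblk_1045 : chkPBlk P 5 31 18 31671 1045 0x10949cc53110810c8628c88 = true := by decide +kernel
theorem lblk_1046 : chkPBlk P 5 31 18 31671 1046 0xa349cc528c8629488424a4 = true := by decide +kernel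
theorem lblk_1047 : chkPBlk P 5 31 18 31671 1047 0x109221094a464220884a129 = true := by decide +kernel
theorem lblk_1048 : chkPBlk P 5 31 18 31671 1048 0x109495011a1082904319088 = true := by decide +kernel
theorem lblk_1049 : chkPBlk P 5 31 18 31671 1049 0x8842043220884a50919088 = true := by decide +kernel
theorem lblk_1050 : chkPBlk P 5 31 18 31671 1050 0xa4425094a0e44252830d09 = true := by decide +kernel
theorem lblk_1051 : chkPBlk P 5 31 18 31671 1051 0x1084a50442129424c848c88 = true := by decide +kernel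
theorem lblk_1052 : chkPBlk P 5 31 18 31671 1052 0xe442129494832086419104 = true := by decide +kernel
theorem lblk_1053 : chkPBlk P 5 31 18 31671 1053 0x8442125191044212942129 = true := by decide +kernel
theorem lblk_1054 : chkPBlk P 5 31 18 31671 1054 0x108314a32044331445190a3 = true := by decide +kernel
theorem lblk_1055 : chkPBlk P 5 31 18 31671 1055 0x8929485418a228ca321104 = true := by decide +kernel
theorem lblk_1056 : chkPBlk P 5 31 18 31671 1056 0x10442108420c5220a322129 = true := by decide +kernel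
theorem lblk_1057 : chkPBlk P 5 31 18 31671 1057 0x884a088220251146422104 = true := by decide +kernel
theorem lblk_1058 : chkPBlk P 5 31 18 31671 1058 0xa428c84421251910442128 = true := by decide +kernel
theorem lblk_1059 : chkPBlk P 5 31 18 31671 1059 0xc511466294642146431505 = true := by decide +kernel
theorem lblk_1060 : chkPBlk P 5 31 18 31671 1060 0x84218a519088420a4398a1 = true := by decide +kernel
theorem lblk_1061 : chkPBlk P 5 31 18 31671 1061 0x8849104424a131445188a3 = true := by decide +kernel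
theorem lblk_1062 : chkPBlk P 5 31 18 31671 1062 0xa328c84408a32146422109 = true := by decide +kernel
theorem lblk_1063 : chkPBlk P 5 31 18 31671 1063 0x2519064214a6298a5198a2 = true := by decide +kernel
theorem lblk_1064 : chkPBlk P 5 31 18 31671 1064 0x10519488291044110441084 = true := by decide +kernel
theorem lblk_1065 : chkPBlk P 5 31 18 31671 1065 0x109310a849925220e6318a4 = true := by decide +kernel
theorem lblk_1066 : chkPBlk P 5 31 18 31671 1066 0x109411084a506424c449488 = true := by decide +kernel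
theorem lblk_1067 : chkPBlk P 5 31 18 31671 1067 0x10921108491094a12518c88 = true := by decide +kernel
theorem lblk_1068 : chkPBlk P 5 31 18 31671 1068 0x10942464220884a12729104 = true := by decide +kernel
theorem lblk_1069 : chkPBlk P 5 31 18 31671 1069 0x125120a2288a32206441109 = true := by decide +kernel
theorem lblk_1070 : chkPBlk P 5 31 18 31671 1070 0x12818c85220884a109424c4 = true := by decide +kernel
theorem lblk_1071 : chkPBlk P 5 31 18 31671 1071 0x45198a320c85221094a088 = true := by decide +kernel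
theorem lblk_1072 : chkPBlk P 5 31 18 31671 1072 0x109494c51910522129424a2 = true := by decide +kernel
theorem lblk_1073 : chkPBlk P 5 31 18 31671 1073 0x104220884a1252110442508 = true := by decide +kernel
theorem lblk_1074 : chkPBlk P 5 31 18 31671 1074 0xe9425251146429483220a4 = true := by decide +kernel
theorem lblk_1075 : chkPBlk P 5 31 18 31671 1075 0x105221094910940c8849109 = true := by decide +kernel
theorem lblk_1076 : chkPBlk P 5 31 18 31671 1076 0x1094a1283110940ca321864 = true := by decide +kernel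
theorem lblk_1077 : chkPBlk P 5 31 18 31671 1077 0xc228c8628c882210949488 = true := by decide +kernel
theorem lblk_1078 : chkPBlk P 5 31 18 31671 1078 0x884248442528110a5288a7 = true := by decide +kernel
theorem lblk_1079 : chkPBlk P 5 31 18 31671 1079 0x884a12441d29398a5190c5 = true := by decide +kernel
theorem lblk_1080 : chkPBlk P 5 31 18 31671 1080 0x126224a5291044110942488 = true := by decide +kernel
theorem lblk_1081 : chkPBlk P 5 31 18 31671 1081 0x8821109221294190922128 = true := by decide +kernel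
theorem lblk_1082 : chkPBlk P 5 31 18 31671 1082 0x10942524424e94248419105 = true := by decide +kernel
theorem lblk_1083 : chkPBlk P 5 31 18 31671 1083 0x129494a5190c442123220a4 = true := by decide +kernel
theorem lblk_1084 : chkPBlk P 5 31 18 31671 1084 0x1284248842525118a441488 = true := by decide +kernel
theorem lblk_1085 : chkPBlk P 5 31 18 31671 1085 0x12832124425093112509088 = true := by decide +kernel
theorem lblk_1086 : chkPBlk P 5 31 18 31671 1086 0x12941868490642a08441109 = true := by decide +kernel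
theorem lblk_1087 : chkPBlk P 5 31 18 31671 1087 0xc5190a340c85221094a088 = true := by decide +kernel
theorem lblk_1088 : chkPBlk P 5 31 18 31671 1088 0x125318a44146442528494a3 = true := by decide +kernel
theorem lblk_1089 : chkPBlk P 5 31 18 31671 1089 0x1084a48849109221274a109 = true := by decide +kernel
theorem lblk_1090 : chkPBlk P 5 31 18 31671 1090 0x1294a12819464310a3220a4 = true := by decide +kernel
theorem lblk_1091 : chkPBlk P 5 31 18 31671 1091 0xa3218a3220884252829108 = true := by decide +kernel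
theorem lblk_1092 : chkPBlk P 5 31 18 31671 1092 0x884a485294a73146431482 = true := by decide +kernel
theorem lblk_1093 : chkPBlk P 5 31 18 31671 1093 0xa3210884a4c528c8522109 = true := by decide +kernel
theorem lblk_1094 : chkPBlk P 5 31 18 31671 1094 0x6419088411051908822109 = true := by decide +kernel
theorem lblk_1095 : chkPBlk P 5 31 18 31671 1095 0xa329109221090a10429445 = true := by decide +kernel
theorem lblk_1096 : chkPBlk P 5 31 18 31671 1096 0x1092212928c64220884a129 = true := by decide +kernel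
theorem lblk_1097 : chkPBlk P 5 31 18 31671 1097 0x10931108410a5188a319088 = true := by decide +kernel
theorem lblk_1098 : chkPBlk P 5 31 18 31671 1098 0x64414884a129221274a0c3 = true := by decide +kernel
theorem lblk_1099 : chkPBlk P 5 31 18 31671 1099 0x6511464191044212922129 = true := by decide +kernel
theorem lblk_1100 : chkPBlk P 5 31 18 31671 1100 0x10442129421293910949445 = true := by decide +kernel
theorem lblk_1101 : chkPBlk P 5 31 18 31671 1101 0xa331445190a32110849464 = true := by decide +kernel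
theorem lblk_1102 : chkPBlk P 5 31 18 31671 1102 0x108410a4310a1298a5284a2 = true := by decide +kernel
theorem lblk_1103 : chkPBlk P 5 31 18 31671 1103 0xa42a0c531445194a321104 = true := by decide +kernel
theorem lblk_1104 : chkPBlk P 5 31 18 31671 1104 0xa542106291051910949125 = true := by decide +kernel
theorem lblk_1105 : chkPBlk P 5 31 18 31671 1105 0x10942524425084910849486 = true := by decide +kernel
theorem lblk_1106 : chkPBlk P 5 31 18 31671 1106 0x8840c88220642148840ca4 = true := by decide +kernel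
theorem lblk_1107 : chkPBlk P 5 31 18 31671 1107 0x88424a5210432146441109 = true := by decide +kernel
theorem lblk_1108 : chkPBlk P 5 31 18 31671 1108 0x10822045191052212942464 = true := by decide +kernel
theorem lblk_1109 : chkPBlk P 5 31 18 31671 1109 0x1052206522083418a5190a4 = true := by decide +kernel
theorem lblk_1110 : chkPBlk P 5 31 18 31671 1110 0x45198a3211053086628c84 = true := by decide +kernel
theorem lblk_1111 : chkPBlk P 5 31 18 31671 1111 0x88425291910522104420c5 = true := by decide +kernel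
theorem lblk_1112 : chkPBlk P 5 31 18 31671 1112 0x8842528498432146422105 = true := by decide +kernel
theorem lblk_1113 : chkPBlk P 5 31 18 31671 1113 0x88424a3220884252842527 = true := by decide +kernel
theorem lblk_1114 : chkPBlk P 5 31 18 31671 1114 0x109494a408866288a321464 = true := by decide +kernel
theorem lblk_1115 : chkPBlk P 5 31 18 31671 1115 0xc530ca4218c528ca442488 = true := by decide +kernel
theorem lblk_1116 : chkPBlk P 5 31 18 31671 1116 0x642910922124411094a126 = true := by decide +kernel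
theorem lblk_1117 : chkPBlk P 5 31 18 31671 1117 0xc519088424a4421294a126 = true := by decide +kernel
theorem lblk_1118 : chkPBlk P 5 31 18 31671 1118 0x109398a429108220e629043 = true := by decide +kernel
theorem lblk_1119 : chkPBlk P 5 31 18 31671 1119 0x12848ca442488490884a129 = true := by decide +kernel
theorem lblk_1120 : chkPBlk P 5 31 18 31671 1120 0xa4291082204628c8829109 = true := by decide +kernel
theorem lblk_1121 : chkPBlk P 5 31 18 31671 1121 0x1092910848c852210922106 = true := by decide +kernel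
theorem lblk_1122 : chkPBlk P 5 31 18 31671 1122 0x128291084a52610cc519088 = true := by decide +kernel
theorem lblk_1123 : chkPBlk P 5 31 18 31671 1123 0x6428c84421262946441108 = true := by decide +kernel
theorem lblk_1124 : chkPBlk P 5 31 18 31671 1124 0xc5220a4420c50886731445 = true := by decide +kernel
theorem lblk_1125 : chkPBlk P 5 31 18 31671 1125 0x43190a441108488e6314a3 = true := by decide +kernel
theorem lblk_1126 : chkPBlk P 5 31 18 31671 1126 0x1092844228c642206422108 = true := by decide +kernel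
theorem lblk_1127 : chkPBlk P 5 31 18 31671 1127 0x1092044320c884110219488 = true := by decide +kernel
theorem lblk_1128 : chkPBlk P 5 31 18 31671 1128 0xa32208842525191084a524 = true := by decide +kernel
theorem lblk_1129 : chkPBlk P 5 31 18 31671 1129 0x8842464221094248810c86 = true := by decide +kernel
theorem lblk_1130 : chkPBlk P 5 31 18 31671 1130 0x64221082946110c4519064 = true := by decide +kernel
theorem lblk_1131 : chkPBlk P 5 31 18 31671 1131 0x88288a3214642210922109 = true := by decide +kernel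
theorem lblk_1132 : chkPBlk P 5 31 18 31671 1132 0x2231426288a33144519464 = true := by decide +kernel
theorem lblk_1133 : chkPBlk P 5 31 18 31671 1133 0xa4314a3221051a0c3214a5 = true := by decide +kernel
theorem lblk_1134 : chkPBlk P 5 31 18 31671 1134 0x84410840944519084210e6 = true := by decide +kernel
theorem lblk_1135 : chkPBlk P 5 31 18 31671 1135 0xa62946528ca519484414a3 = true := by decide +kernel
theorem lblk_1136 : chkPBlk P 5 31 18 31671 1136 0x104098c528c84398e621426 = true := by decide +kernel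
theorem lblk_1137 : chkPBlk P 5 31 18 31671 1137 0x642946219464220a322084 = true := by decide +kernel
theorem lblk_1138 : chkPBlk P 5 31 18 31671 1138 0xa631886318a6214a629465 = true := by decide +kernel
theorem lblk_1139 : chkPBlk P 5 31 18 31671 1139 0x12932124221044250931ce6 = true := by decide +kernel
theorem lblk_1140 : chkPBlk P 5 31 18 31671 1140 0x882210528d03211084a508 = true := by decide +kernel
theorem lblk_1141 : chkPBlk P 5 31 18 31671 1141 0x88220a419104424a3220a4 = true := by decide +kernel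
theorem lblk_1142 : chkPBlk P 5 31 18 31671 1142 0x884a509214a2288a320c88 = true := by decide +kernel
theorem lblk_1143 : chkPBlk P 5 31 18 31671 1143 0x1092910949466190a442488 = true := by decide +kernel
theorem lblk_1144 : chkPBlk P 5 31 18 31671 1144 0x88214a73146228cc519088 = true := by decide +kernel
theorem lblk_1145 : chkPBlk P 5 31 18 31671 1145 0x8522124421262946429108 = true := by decide +kernel
theorem lblk_1146 : chkPBlk P 5 31 18 31671 1146 0xa228c85190a321488220a3 = true := by decide +kernel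
theorem lblk_1147 : chkPBlk P 5 31 18 31671 1147 0x129191052212822109288a3 = true := by decide +kernel
theorem lblk_1148 : chkPBlk P 5 31 18 31671 1148 0x12929445190c51908841488 = true := by decide +kernel
theorem lblk_1149 : chkPBlk P 5 31 18 31671 1149 0x84420c5190884250949488 = true := by decide +kernel
theorem lblk_1150 : chkPBlk P 5 31 18 31671 1150 0x104210a1288a3398a2190a3 = true := by decide +kernel
theorem lblk_1151 : chkPBlk P 5 31 18 31671 1151 0x10442487318a53148822109 = true := by decide +kernel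
theorem lblk_1152 : chkPBlk P 5 31 18 31671 1152 0x124411094a125190a442084 = true := by decide +kernel
theorem lblk_1153 : chkPBlk P 5 31 18 31671 1153 0x10928c8620c88291084a488 = true := by decide +kernel
theorem lblk_1154 : chkPBlk P 5 31 18 31671 1154 0xa228c8628c882210522128 = true := by decide +kernel
theorem lblk_1155 : chkPBlk P 5 31 18 31671 1155 0x10922109498a429108410a5 = true := by decide +kernel
theorem lblk_1156 : chkPBlk P 5 31 18 31671 1156 0x8849104425284a4a329109 = true := by decide +kernel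
theorem lblk_1157 : chkPBlk P 5 31 18 31671 1157 0x1084a52849466190a442129 = true := by decide +kernel
theorem lblk_1158 : chkPBlk P 5 31 18 31671 1158 0xc519845198a32110849464 = true := by decide +kernel
theorem lblk_1159 : chkPBlk P 5 31 18 31671 1159 0x12442126290c52910822085 = true := by decide +kernel
theorem lblk_1160 : chkPBlk P 5 31 18 31671 1160 0xc519088414881910522128 = true := by decide +kernel
theorem lblk_1161 : chkPBlk P 5 31 18 31671 1161 0x642210822129294a611464 = true := by decide +kernel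
theorem lblk_1162 : chkPBlk P 5 31 18 31671 1162 0xa3398a228c8519088424c5 = true := by decide +kernel
theorem lblk_1163 : chkPBlk P 5 31 18 31671 1163 0xa44110841084314a6284a2 = true := by decide +kernel
theorem lblk_1164 : chkPBlk P 5 31 18 31671 1164 0x64290881146329106314a3 = true := by decide +kernel
theorem lblk_1165 : chkPBlk P 5 31 18 31671 1165 0x108204a228c4319083208a3 = true := by decide +kernel
theorem lblk_1166 : chkPBlk P 5 31 18 31671 1166 0x4518c8522108488a322064 = true := by decide +kernel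
theorem lblk_1167 : chkPBlk P 5 31 18 31671 1167 0x104284a2114632110322105 = true := by decide +kernel
theorem lblk_1168 : chkPBlk P 5 31 18 31671 1168 0x104420a3221284a52442524 = true := by decide +kernel
theorem lblk_1169 : chkPBlk P 5 31 18 31671 1169 0x8321108191081146431464 = true := by decide +kernel
theorem lblk_1170 : chkPBlk P 5 31 18 31671 1170 0x10848c88410a509445188a3 = true := by decide +kernel
theorem lblk_1171 : chkPBlk P 5 31 18 31671 1171 0xa3211051146428c8442124 = true := by decide +kernel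
theorem lblk_1172 : chkPBlk P 5 31 18 31671 1172 0x8509446284c511466288a3 = true := by decide +kernel
theorem lblk_1173 : chkPBlk P 5 31 18 31671 1173 0x85314a52a5032210429086 = true := by decide +kernel
theorem lblk_1174 : chkPBlk P 5 31 18 31671 1174 0xe6290c52910828d0631466 = true := by decide +kernel
theorem lblk_1175 : chkPBlk P 5 31 18 31671 1175 0x8228c88220644250922084 = true := by decide +kernel
theorem lo_1029_1030 : ∀ b, 1029 ≤ b → b < 1030 → ∃ J, chkPBlk P 5 31 18 31671 b J = true := fun b h1 h2 => by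
  have hb : b = 1029 := Nat.le_antisymm (Nat.le_of_lt_succ h2) h1
  subst hb; exact ⟨_, lblk_1029⟩
theorem lo_1030_1031 : ∀ b, 1030 ≤ b → b < 1031 → ∃ J, chkPBlk P 5 31 18 31671 b J = true := fun b h1 h2 => by
  have hb : b = 1030 := Nat.le_antisymm (Nat.le_of_lt_succ h2) h1
  subst hb; exact ⟨_, lblk_1030⟩
theorem lo_1029_1031 : ∀ b, 1029 ≤ b → b < 1031 → ∃ J, chkPBlk P 5 31 18 31671 b J = true := fun b h1 h2 =>
  if h : b < 1030 then lo_1029_1030 b h1 h else lo_1030_1031 b (Nat.le_of_not_lt h) h2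
theorem lo_1031_1032 : ∀ b, 1031 ≤ b → b < 1032 → ∃ J, chkPBlk P 5 31 18 31671 b J = true := fun b h1 h2 => by
  have hb : b = 1031 := Nat.le_antisymm (Nat.le_of_lt_succ h2) h1
  subst hb; exact ⟨_, lblk_1031⟩
theorem lo_1032_1033 : ∀ b, 1032 ≤ b → b < 1033 → ∃ J, chkPBlk P 5 31 18 31671 b J = true := fun b h1 h2 => by
  have hb : b = 1032 := Nat.le_antisymm (Nat.le_of_lt_succ h2) h1
  subst hb; exact ⟨_, lblk_1032⟩
theorem lo_1031_1033 : ∀ b, 1031 ≤ b → b < 1033 → ∃ J, chkPBlk P 5 31 18 31671 b J = true := fun b h1 h2 =>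
  if h : b < 1032 then lo_1031_1032 b h1 h else lo_1032_1033 b (Nat.le_of_not_lt h) h2
theorem lo_1029_1033 : ∀ b, 1029 ≤ b → b < 1033 → ∃ J, chkPBlk P 5 31 18 31671 b J = true := fun b h1 h2 =>
  if h : b < 1031 then lo_1029_1031 b h1 h else lo_1031_1033 b (Nat.le_of_not_lt h) h2
theorem lo_1033_1034 : ∀ b, 1033 ≤ b → b < 1034 → ∃ J, chkPBlk P 5 31 18 31671 b J = true := fun b h1 h2 => by
  have hb : b = 1033 := Nat.le_antisymm (Nat.le_of_lt_succ h2) h1
  subst hb; exact ⟨_, lblk_1033⟩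
theorem lo_1034_1035 : ∀ b, 1034 ≤ b → b < 1035 → ∃ J, chkPBlk P 5 31 18 31671 b J = true := fun b h1 h2 => by
  have hb : b = 1034 := Nat.le_antisymm (Nat.le_of_lt_succ h2) h1
  subst hb; exact ⟨_, lblk_1034⟩
theorem lo_1033_1035 : ∀ b, 1033 ≤ b → b < 1035 → ∃ J, chkPBlk P 5 31 18 31671 b J = true := fun b h1 h2 =>
  if h : b < 1034 then lo_1033_1034 b h1 h else lo_1034_1035 b (Nat.le_of_not_lt h) h2
theorem lo_1035_1036 : ∀ b, 1035 ≤ b → b < 1036 → ∃ J, chkPBlk P 5 31 18 31671 b J = true := fun b h1 h2 => by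
  have hb : b = 1035 := Nat.le_antisymm (Nat.le_of_lt_succ h2) h1
  subst hb; exact ⟨_, lblk_1035⟩
theorem lo_1036_1037 : ∀ b, 1036 ≤ b → b < 1037 → ∃ J, chkPBlk P 5 31 18 31671 b J = true := fun b h1 h2 => by
  have hb : b = 1036 := Nat.le_antisymm (Nat.le_of_lt_succ h2) h1
  subst hb; exact ⟨_, lblk_1036⟩
theorem lo_1037_1038 : ∀ b, 1037 ≤ b → b < 1038 → ∃ J, chkPBlk P 5 31 18 31671 b J = true := fun b h1 h2 => by
  have hb : b = 1037 := Nat.le_antisymm (Nat.le_of_lt_succ h2) h1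
  subst hb; exact ⟨_, lblk_1037⟩
theorem lo_1036_1038 : ∀ b, 1036 ≤ b → b < 1038 → ∃ J, chkPBlk P 5 31 18 31671 b J = true := fun b h1 h2 =>
  if h : b < 1037 then lo_1036_1037 b h1 h else lo_1037_1038 b (Nat.le_of_not_lt h) h2
theorem lo_1035_1038 : ∀ b, 1035 ≤ b → b < 1038 → ∃ J, chkPBlk P 5 31 18 31671 b J = true := fun b h1 h2 =>
  if h : b < 1036 then lo_1035_1036 b h1 h else lo_1036_1038 b (Nat.le_of_not_lt h) h2
theorem lo_1033_1038 : ∀ b, 1033 ≤ b → b < 1038 → ∃ J, chkPBlk P 5 31 18 31671 b J = true := fun b h1 h2 =>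
  if h : b < 1035 then lo_1033_1035 b h1 h else lo_1035_1038 b (Nat.le_of_not_lt h) h2
theorem lo_1029_1038 : ∀ b, 1029 ≤ b → b < 1038 → ∃ J, chkPBlk P 5 31 18 31671 b J = true := fun b h1 h2 =>
  if h : b < 1033 then lo_1029_1033 b h1 h else lo_1033_1038 b (Nat.le_of_not_lt h) h2
theorem lo_1038_1039 : ∀ b, 1038 ≤ b → b < 1039 → ∃ J, chkPBlk P 5 31 18 31671 b J = true := fun b h1 h2 => by
  have hb : b = 1038 := Nat.le_antisymm (Nat.le_of_lt_succ h2) h1
  subst hb; exact ⟨_, lblk_1038⟩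
theorem lo_1039_1040 : ∀ b, 1039 ≤ b → b < 1040 → ∃ J, chkPBlk P 5 31 18 31671 b J = true := fun b h1 h2 => by
  have hb : b = 1039 := Nat.le_antisymm (Nat.le_of_lt_succ h2) h1
  subst hb; exact ⟨_, lblk_1039⟩
theorem lo_1038_1040 : ∀ b, 1038 ≤ b → b < 1040 → ∃ J, chkPBlk P 5 31 18 31671 b J = true := fun b h1 h2 =>
  if h : b < 1039 then lo_1038_1039 b h1 h else lo_1039_1040 b (Nat.le_of_not_lt h) h2
theorem lo_1040_1041 : ∀ b, 1040 ≤ b → b < 1041 → ∃ J, chkPBlk P 5 31 18 31671 b J = true := fun b h1 h2 => by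
  have hb : b = 1040 := Nat.le_antisymm (Nat.le_of_lt_succ h2) h1
  subst hb; exact ⟨_, lblk_1040⟩
theorem lo_1041_1042 : ∀ b, 1041 ≤ b → b < 1042 → ∃ J, chkPBlk P 5 31 18 31671 b J = true := fun b h1 h2 => by
  have hb : b = 1041 := Nat.le_antisymm (Nat.le_of_lt_succ h2) h1
  subst hb; exact ⟨_, lblk_1041⟩
theorem lo_1040_1042 : ∀ b, 1040 ≤ b → b < 1042 → ∃ J, chkPBlk P 5 31 18 31671 b J = true := fun b h1 h2 =>
  if h : b < 1041 then lo_1040_1041 b h1 h else lo_1041_1042 b (Nat.le_of_not_lt h) h2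
theorem lo_1038_1042 : ∀ b, 1038 ≤ b → b < 1042 → ∃ J, chkPBlk P 5 31 18 31671 b J = true := fun b h1 h2 =>
  if h : b < 1040 then lo_1038_1040 b h1 h else lo_1040_1042 b (Nat.le_of_not_lt h) h2
theorem lo_1042_1043 : ∀ b, 1042 ≤ b → b < 1043 → ∃ J, chkPBlk P 5 31 18 31671 b J = true := fun b h1 h2 => by
  have hb : b = 1042 := Nat.le_antisymm (Nat.le_of_lt_succ h2) h1
  subst hb; exact ⟨_, lblk_1042⟩
theorem lo_1043_1044 : ∀ b, 1043 ≤ b → b < 1044 → ∃ J, chkPBlk P 5 31 18 31671 b J = true := fun b h1 h2 => by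
  have hb : b = 1043 := Nat.le_antisymm (Nat.le_of_lt_succ h2) h1
  subst hb; exact ⟨_, lblk_1043⟩
theorem lo_1042_1044 : ∀ b, 1042 ≤ b → b < 1044 → ∃ J, chkPBlk P 5 31 18 31671 b J = true := fun b h1 h2 =>
  if h : b < 1043 then lo_1042_1043 b h1 h else lo_1043_1044 b (Nat.le_of_not_lt h) h2
theorem lo_1044_1045 : ∀ b, 1044 ≤ b → b < 1045 → ∃ J, chkPBlk P 5 31 18 31671 b J = true := fun b h1 h2 => by
  have hb : b = 1044 := Nat.le_antisymm (Nat.le_of_lt_succ h2) h1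
  subst hb; exact ⟨_, lblk_1044⟩
theorem lo_1045_1046 : ∀ b, 1045 ≤ b → b < 1046 → ∃ J, chkPBlk P 5 31 18 31671 b J = true := fun b h1 h2 => by
  have hb : b = 1045 := Nat.le_antisymm (Nat.le_of_lt_succ h2) h1
  subst hb; exact ⟨_, lblk_1045⟩
theorem lo_1046_1047 : ∀ b, 1046 ≤ b → b < 1047 → ∃ J, chkPBlk P 5 31 18 31671 b J = true := fun b h1 h2 => by
  have hb : b = 1046 := Nat.le_antisymm (Nat.le_of_lt_succ h2) h1
  subst hb; exact ⟨_, lblk_1046⟩
theorem lo_1045_1047 : ∀ b, 1045 ≤ b → b < 1047 → ∃ J, chkPBlk P 5 31 18 31671 b J = true := fun b h1 h2 =>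
  if h : b < 1046 then lo_1045_1046 b h1 h else lo_1046_1047 b (Nat.le_of_not_lt h) h2
theorem lo_1044_1047 : ∀ b, 1044 ≤ b → b < 1047 → ∃ J, chkPBlk P 5 31 18 31671 b J = true := fun b h1 h2 =>
  if h : b < 1045 then lo_1044_1045 b h1 h else lo_1045_1047 b (Nat.le_of_not_lt h) h2
theorem lo_1042_1047 : ∀ b, 1042 ≤ b → b < 1047 → ∃ J, chkPBlk P 5 31 18 31671 b J = true := fun b h1 h2 =>
  if h : b < 1044 then lo_1042_1044 b h1 h else lo_1044_1047 b (Nat.le_of_not_lt h) h2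
theorem lo_1038_1047 : ∀ b, 1038 ≤ b → b < 1047 → ∃ J, chkPBlk P 5 31 18 31671 b J = true := fun b h1 h2 =>
  if h : b < 1042 then lo_1038_1042 b h1 h else lo_1042_1047 b (Nat.le_of_not_lt h) h2
theorem lo_1029_1047 : ∀ b, 1029 ≤ b → b < 1047 → ∃ J, chkPBlk P 5 31 18 31671 b J = true := fun b h1 h2 =>
  if h : b < 1038 then lo_1029_1038 b h1 h else lo_1038_1047 b (Nat.le_of_not_lt h) h2
theorem lo_1047_1048 : ∀ b, 1047 ≤ b → b < 1048 → ∃ J, chkPBlk P 5 31 18 31671 b J = true := fun b h1 h2 => by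
  have hb : b = 1047 := Nat.le_antisymm (Nat.le_of_lt_succ h2) h1
  subst hb; exact ⟨_, lblk_1047⟩
theorem lo_1048_1049 : ∀ b, 1048 ≤ b → b < 1049 → ∃ J, chkPBlk P 5 31 18 31671 b J = true := fun b h1 h2 => by
  have hb : b = 1048 := Nat.le_antisymm (Nat.le_of_lt_succ h2) h1
  subst hb; exact ⟨_, lblk_1048⟩
theorem lo_1047_1049 : ∀ b, 1047 ≤ b → b < 1049 → ∃ J, chkPBlk P 5 31 18 31671 b J = true := fun b h1 h2 =>
  if h : b < 1048 then lo_1047_1048 b h1 h else lo_1048_1049 b (Nat.le_of_not_lt h) h2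
theorem lo_1049_1050 : ∀ b, 1049 ≤ b → b < 1050 → ∃ J, chkPBlk P 5 31 18 31671 b J = true := fun b h1 h2 => by
  have hb : b = 1049 := Nat.le_antisymm (Nat.le_of_lt_succ h2) h1
  subst hb; exact ⟨_, lblk_1049⟩
theorem lo_1050_1051 : ∀ b, 1050 ≤ b → b < 1051 → ∃ J, chkPBlk P 5 31 18 31671 b J = true := fun b h1 h2 => by
  have hb : b = 1050 := Nat.le_antisymm (Nat.le_of_lt_succ h2) h1
  subst hb; exact ⟨_, lblk_1050⟩
theorem lo_1049_1051 : ∀ b, 1049 ≤ b → b < 1051 → ∃ J, chkPBlk P 5 31 18 31671 b J = true := fun b h1 h2 =>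
  if h : b < 1050 then lo_1049_1050 b h1 h else lo_1050_1051 b (Nat.le_of_not_lt h) h2
theorem lo_1047_1051 : ∀ b, 1047 ≤ b → b < 1051 → ∃ J, chkPBlk P 5 31 18 31671 b J = true := fun b h1 h2 =>
  if h : b < 1049 then lo_1047_1049 b h1 h else lo_1049_1051 b (Nat.le_of_not_lt h) h2
theorem lo_1051_1052 : ∀ b, 1051 ≤ b → b < 1052 → ∃ J, chkPBlk P 5 31 18 31671 b J = true := fun b h1 h2 => by
  have hb : b = 1051 := Nat.le_antisymm (Nat.le_of_lt_succ h2) h1
  subst hb; exact ⟨_, lblk_1051⟩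
theorem lo_1052_1053 : ∀ b, 1052 ≤ b → b < 1053 → ∃ J, chkPBlk P 5 31 18 31671 b J = true := fun b h1 h2 => by
  have hb : b = 1052 := Nat.le_antisymm (Nat.le_of_lt_succ h2) h1
  subst hb; exact ⟨_, lblk_1052⟩
theorem lo_1051_1053 : ∀ b, 1051 ≤ b → b < 1053 → ∃ J, chkPBlk P 5 31 18 31671 b J = true := fun b h1 h2 =>
  if h : b < 1052 then lo_1051_1052 b h1 h else lo_1052_1053 b (Nat.le_of_not_lt h) h2
theorem lo_1053_1054 : ∀ b, 1053 ≤ b → b < 1054 → ∃ J, chkPBlk P 5 31 18 31671 b J = true := fun b h1 h2 => by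
  have hb : b = 1053 := Nat.le_antisymm (Nat.le_of_lt_succ h2) h1
  subst hb; exact ⟨_, lblk_1053⟩
theorem lo_1054_1055 : ∀ b, 1054 ≤ b → b < 1055 → ∃ J, chkPBlk P 5 31 18 31671 b J = true := fun b h1 h2 => by
  have hb : b = 1054 := Nat.le_antisymm (Nat.le_of_lt_succ h2) h1
  subst hb; exact ⟨_, lblk_1054⟩
theorem lo_1055_1056 : ∀ b, 1055 ≤ b → b < 1056 → ∃ J, chkPBlk P 5 31 18 31671 b J = true := fun b h1 h2 => by
  have hb : b = 1055 := Nat.le_antisymm (Nat.le_of_lt_succ h2) h1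
  subst hb; exact ⟨_, lblk_1055⟩
theorem lo_1054_1056 : ∀ b, 1054 ≤ b → b < 1056 → ∃ J, chkPBlk P 5 31 18 31671 b J = true := fun b h1 h2 =>
  if h : b < 1055 then lo_1054_1055 b h1 h else lo_1055_1056 b (Nat.le_of_not_lt h) h2
theorem lo_1053_1056 : ∀ b, 1053 ≤ b → b < 1056 → ∃ J, chkPBlk P 5 31 18 31671 b J = true := fun b h1 h2 =>
  if h : b < 1054 then lo_1053_1054 b h1 h else lo_1054_1056 b (Nat.le_of_not_lt h) h2
theorem lo_1051_1056 : ∀ b, 1051 ≤ b → b < 1056 → ∃ J, chkPBlk P 5 31 18 31671 b J = true := fun b h1 h2 =>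
  if h : b < 1053 then lo_1051_1053 b h1 h else lo_1053_1056 b (Nat.le_of_not_lt h) h2
theorem lo_1047_1056 : ∀ b, 1047 ≤ b → b < 1056 → ∃ J, chkPBlk P 5 31 18 31671 b J = true := fun b h1 h2 =>
  if h : b < 1051 then lo_1047_1051 b h1 h else lo_1051_1056 b (Nat.le_of_not_lt h) h2
theorem lo_1056_1057 : ∀ b, 1056 ≤ b → b < 1057 → ∃ J, chkPBlk P 5 31 18 31671 b J = true := fun b h1 h2 => by
  have hb : b = 1056 := Nat.le_antisymm (Nat.le_of_lt_succ h2) h1
  subst hb; exact ⟨_, lblk_1056⟩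
theorem lo_1057_1058 : ∀ b, 1057 ≤ b → b < 1058 → ∃ J, chkPBlk P 5 31 18 31671 b J = true := fun b h1 h2 => by
  have hb : b = 1057 := Nat.le_antisymm (Nat.le_of_lt_succ h2) h1
  subst hb; exact ⟨_, lblk_1057⟩
theorem lo_1056_1058 : ∀ b, 1056 ≤ b → b < 1058 → ∃ J, chkPBlk P 5 31 18 31671 b J = true := fun b h1 h2 =>
  if h : b < 1057 then lo_1056_1057 b h1 h else lo_1057_1058 b (Nat.le_of_not_lt h) h2
theorem lo_1058_1059 : ∀ b, 1058 ≤ b → b < 1059 → ∃ J, chkPBlk P 5 31 18 31671 b J = true := fun b h1 h2 => by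
  have hb : b = 1058 := Nat.le_antisymm (Nat.le_of_lt_succ h2) h1
  subst hb; exact ⟨_, lblk_1058⟩
theorem lo_1059_1060 : ∀ b, 1059 ≤ b → b < 1060 → ∃ J, chkPBlk P 5 31 18 31671 b J = true := fun b h1 h2 => by
  have hb : b = 1059 := Nat.le_antisymm (Nat.le_of_lt_succ h2) h1
  subst hb; exact ⟨_, lblk_1059⟩
theorem lo_1058_1060 : ∀ b, 1058 ≤ b → b < 1060 → ∃ J, chkPBlk P 5 31 18 31671 b J = true := fun b h1 h2 =>
  if h : b < 1059 then lo_1058_1059 b h1 h else lo_1059_1060 b (Nat.le_of_not_lt h) h2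
theorem lo_1056_1060 : ∀ b, 1056 ≤ b → b < 1060 → ∃ J, chkPBlk P 5 31 18 31671 b J = true := fun b h1 h2 =>
  if h : b < 1058 then lo_1056_1058 b h1 h else lo_1058_1060 b (Nat.le_of_not_lt h) h2
theorem lo_1060_1061 : ∀ b, 1060 ≤ b → b < 1061 → ∃ J, chkPBlk P 5 31 18 31671 b J = true := fun b h1 h2 => by
  have hb : b = 1060 := Nat.le_antisymm (Nat.le_of_lt_succ h2) h1
  subst hb; exact ⟨_, lblk_1060⟩
theorem lo_1061_1062 : ∀ b, 1061 ≤ b → b < 1062 → ∃ J, chkPBlk P 5 31 18 31671 b J = true := fun b h1 h2 => by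
  have hb : b = 1061 := Nat.le_antisymm (Nat.le_of_lt_succ h2) h1
  subst hb; exact ⟨_, lblk_1061⟩
theorem lo_1060_1062 : ∀ b, 1060 ≤ b → b < 1062 → ∃ J, chkPBlk P 5 31 18 31671 b J = true := fun b h1 h2 =>
  if h : b < 1061 then lo_1060_1061 b h1 h else lo_1061_1062 b (Nat.le_of_not_lt h) h2
theorem lo_1062_1063 : ∀ b, 1062 ≤ b → b < 1063 → ∃ J, chkPBlk P 5 31 18 31671 b J = true := fun b h1 h2 => by
  have hb : b = 1062 := Nat.le_antisymm (Nat.le_of_lt_succ h2) h1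
  subst hb; exact ⟨_, lblk_1062⟩
theorem lo_1063_1064 : ∀ b, 1063 ≤ b → b < 1064 → ∃ J, chkPBlk P 5 31 18 31671 b J = true := fun b h1 h2 => by
  have hb : b = 1063 := Nat.le_antisymm (Nat.le_of_lt_succ h2) h1
  subst hb; exact ⟨_, lblk_1063⟩
theorem lo_1064_1065 : ∀ b, 1064 ≤ b → b < 1065 → ∃ J, chkPBlk P 5 31 18 31671 b J = true := fun b h1 h2 => by
  have hb : b = 1064 := Nat.le_antisymm (Nat.le_of_lt_succ h2) h1
  subst hb; exact ⟨_, lblk_1064⟩
theorem lo_1063_1065 : ∀ b, 1063 ≤ b → b < 1065 → ∃ J, chkPBlk P 5 31 18 31671 b J = true := fun b h1 h2 =>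
  if h : b < 1064 then lo_1063_1064 b h1 h else lo_1064_1065 b (Nat.le_of_not_lt h) h2
theorem lo_1062_1065 : ∀ b, 1062 ≤ b → b < 1065 → ∃ J, chkPBlk P 5 31 18 31671 b J = true := fun b h1 h2 =>
  if h : b < 1063 then lo_1062_1063 b h1 h else lo_1063_1065 b (Nat.le_of_not_lt h) h2
theorem lo_1060_1065 : ∀ b, 1060 ≤ b → b < 1065 → ∃ J, chkPBlk P 5 31 18 31671 b J = true := fun b h1 h2 =>
  if h : b < 1062 then lo_1060_1062 b h1 h else lo_1062_1065 b (Nat.le_of_not_lt h) h2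
theorem lo_1056_1065 : ∀ b, 1056 ≤ b → b < 1065 → ∃ J, chkPBlk P 5 31 18 31671 b J = true := fun b h1 h2 =>
  if h : b < 1060 then lo_1056_1060 b h1 h else lo_1060_1065 b (Nat.le_of_not_lt h) h2
theorem lo_1047_1065 : ∀ b, 1047 ≤ b → b < 1065 → ∃ J, chkPBlk P 5 31 18 31671 b J = true := fun b h1 h2 =>
  if h : b < 1056 then lo_1047_1056 b h1 h else lo_1056_1065 b (Nat.le_of_not_lt h) h2
theorem lo_1029_1065 : ∀ b, 1029 ≤ b → b < 1065 → ∃ J, chkPBlk P 5 31 18 31671 b J = true := fun b h1 h2 =>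
  if h : b < 1047 then lo_1029_1047 b h1 h else lo_1047_1065 b (Nat.le_of_not_lt h) h2
theorem lo_1065_1066 : ∀ b, 1065 ≤ b → b < 1066 → ∃ J, chkPBlk P 5 31 18 31671 b J = true := fun b h1 h2 => by
  have hb : b = 1065 := Nat.le_antisymm (Nat.le_of_lt_succ h2) h1
  subst hb; exact ⟨_, lblk_1065⟩
theorem lo_1066_1067 : ∀ b, 1066 ≤ b → b < 1067 → ∃ J, chkPBlk P 5 31 18 31671 b J = true := fun b h1 h2 => by
  have hb : b = 1066 := Nat.le_antisymm (Nat.le_of_lt_succ h2) h1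
  subst hb; exact ⟨_, lblk_1066⟩
theorem lo_1065_1067 : ∀ b, 1065 ≤ b → b < 1067 → ∃ J, chkPBlk P 5 31 18 31671 b J = true := fun b h1 h2 =>
  if h : b < 1066 then lo_1065_1066 b h1 h else lo_1066_1067 b (Nat.le_of_not_lt h) h2
theorem lo_1067_1068 : ∀ b, 1067 ≤ b → b < 1068 → ∃ J, chkPBlk P 5 31 18 31671 b J = true := fun b h1 h2 => by
  have hb : b = 1067 := Nat.le_antisymm (Nat.le_of_lt_succ h2) h1
  subst hb; exact ⟨_, lblk_1067⟩
theorem lo_1068_1069 : ∀ b, 1068 ≤ b → b < 1069 → ∃ J, chkPBlk P 5 31 18 31671 b J = true := fun b h1 h2 => by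
  have hb : b = 1068 := Nat.le_antisymm (Nat.le_of_lt_succ h2) h1
  subst hb; exact ⟨_, lblk_1068⟩
theorem lo_1067_1069 : ∀ b, 1067 ≤ b → b < 1069 → ∃ J, chkPBlk P 5 31 18 31671 b J = true := fun b h1 h2 =>
  if h : b < 1068 then lo_1067_1068 b h1 h else lo_1068_1069 b (Nat.le_of_not_lt h) h2
theorem lo_1065_1069 : ∀ b, 1065 ≤ b → b < 1069 → ∃ J, chkPBlk P 5 31 18 31671 b J = true := fun b h1 h2 =>
  if h : b < 1067 then lo_1065_1067 b h1 h else lo_1067_1069 b (Nat.le_of_not_lt h) h2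
theorem lo_1069_1070 : ∀ b, 1069 ≤ b → b < 1070 → ∃ J, chkPBlk P 5 31 18 31671 b J = true := fun b h1 h2 => by
  have hb : b = 1069 := Nat.le_antisymm (Nat.le_of_lt_succ h2) h1
  subst hb; exact ⟨_, lblk_1069⟩
theorem lo_1070_1071 : ∀ b, 1070 ≤ b → b < 1071 → ∃ J, chkPBlk P 5 31 18 31671 b J = true := fun b h1 h2 => by
  have hb : b = 1070 := Nat.le_antisymm (Nat.le_of_lt_succ h2) h1
  subst hb; exact ⟨_, lblk_1070⟩
theorem lo_1069_1071 : ∀ b, 1069 ≤ b → b < 1071 → ∃ J, chkPBlk P 5 31 18 31671 b J = true := fun b h1 h2 =>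
  if h : b < 1070 then lo_1069_1070 b h1 h else lo_1070_1071 b (Nat.le_of_not_lt h) h2
theorem lo_1071_1072 : ∀ b, 1071 ≤ b → b < 1072 → ∃ J, chkPBlk P 5 31 18 31671 b J = true := fun b h1 h2 => by
  have hb : b = 1071 := Nat.le_antisymm (Nat.le_of_lt_succ h2) h1
  subst hb; exact ⟨_, lblk_1071⟩
theorem lo_1072_1073 : ∀ b, 1072 ≤ b → b < 1073 → ∃ J, chkPBlk P 5 31 18 31671 b J = true := fun b h1 h2 => by
  have hb : b = 1072 := Nat.le_antisymm (Nat.le_of_lt_succ h2) h1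
  subst hb; exact ⟨_, lblk_1072⟩
theorem lo_1073_1074 : ∀ b, 1073 ≤ b → b < 1074 → ∃ J, chkPBlk P 5 31 18 31671 b J = true := fun b h1 h2 => by
  have hb : b = 1073 := Nat.le_antisymm (Nat.le_of_lt_succ h2) h1
  subst hb; exact ⟨_, lblk_1073⟩
theorem lo_1072_1074 : ∀ b, 1072 ≤ b → b < 1074 → ∃ J, chkPBlk P 5 31 18 31671 b J = true := fun b h1 h2 =>
  if h : b < 1073 then lo_1072_1073 b h1 h else lo_1073_1074 b (Nat.le_of_not_lt h) h2
theorem lo_1071_1074 : ∀ b, 1071 ≤ b → b < 1074 → ∃ J, chkPBlk P 5 31 18 31671 b J = true := fun b h1 h2 =>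
  if h : b < 1072 then lo_1071_1072 b h1 h else lo_1072_1074 b (Nat.le_of_not_lt h) h2
theorem lo_1069_1074 : ∀ b, 1069 ≤ b → b < 1074 → ∃ J, chkPBlk P 5 31 18 31671 b J = true := fun b h1 h2 =>
  if h : b < 1071 then lo_1069_1071 b h1 h else lo_1071_1074 b (Nat.le_of_not_lt h) h2
theorem lo_1065_1074 : ∀ b, 1065 ≤ b → b < 1074 → ∃ J, chkPBlk P 5 31 18 31671 b J = true := fun b h1 h2 =>
  if h : b < 1069 then lo_1065_1069 b h1 h else lo_1069_1074 b (Nat.le_of_not_lt h) h2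
theorem lo_1074_1075 : ∀ b, 1074 ≤ b → b < 1075 → ∃ J, chkPBlk P 5 31 18 31671 b J = true := fun b h1 h2 => by
  have hb : b = 1074 := Nat.le_antisymm (Nat.le_of_lt_succ h2) h1
  subst hb; exact ⟨_, lblk_1074⟩
theorem lo_1075_1076 : ∀ b, 1075 ≤ b → b < 1076 → ∃ J, chkPBlk P 5 31 18 31671 b J = true := fun b h1 h2 => by
  have hb : b = 1075 := Nat.le_antisymm (Nat.le_of_lt_succ h2) h1
  subst hb; exact ⟨_, lblk_1075⟩
theorem lo_1074_1076 : ∀ b, 1074 ≤ b → b < 1076 → ∃ J, chkPBlk P 5 31 18 31671 b J = true := fun b h1 h2 =>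
  if h : b < 1075 then lo_1074_1075 b h1 h else lo_1075_1076 b (Nat.le_of_not_lt h) h2
theorem lo_1076_1077 : ∀ b, 1076 ≤ b → b < 1077 → ∃ J, chkPBlk P 5 31 18 31671 b J = true := fun b h1 h2 => by
  have hb : b = 1076 := Nat.le_antisymm (Nat.le_of_lt_succ h2) h1
  subst hb; exact ⟨_, lblk_1076⟩
theorem lo_1077_1078 : ∀ b, 1077 ≤ b → b < 1078 → ∃ J, chkPBlk P 5 31 18 31671 b J = true := fun b h1 h2 => by
  have hb : b = 1077 := Nat.le_antisymm (Nat.le_of_lt_succ h2) h1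
  subst hb; exact ⟨_, lblk_1077⟩
theorem lo_1076_1078 : ∀ b, 1076 ≤ b → b < 1078 → ∃ J, chkPBlk P 5 31 18 31671 b J = true := fun b h1 h2 =>
  if h : b < 1077 then lo_1076_1077 b h1 h else lo_1077_1078 b (Nat.le_of_not_lt h) h2
theorem lo_1074_1078 : ∀ b, 1074 ≤ b → b < 1078 → ∃ J, chkPBlk P 5 31 18 31671 b J = true := fun b h1 h2 =>
  if h : b < 1076 then lo_1074_1076 b h1 h else lo_1076_1078 b (Nat.le_of_not_lt h) h2
theorem lo_1078_1079 : ∀ b, 1078 ≤ b → b < 1079 → ∃ J, chkPBlk P 5 31 18 31671 b J = true := fun b h1 h2 => by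
  have hb : b = 1078 := Nat.le_antisymm (Nat.le_of_lt_succ h2) h1
  subst hb; exact ⟨_, lblk_1078⟩
theorem lo_1079_1080 : ∀ b, 1079 ≤ b → b < 1080 → ∃ J, chkPBlk P 5 31 18 31671 b J = true := fun b h1 h2 => by
  have hb : b = 1079 := Nat.le_antisymm (Nat.le_of_lt_succ h2) h1
  subst hb; exact ⟨_, lblk_1079⟩
theorem lo_1078_1080 : ∀ b, 1078 ≤ b → b < 1080 → ∃ J, chkPBlk P 5 31 18 31671 b J = true := fun b h1 h2 =>
  if h : b < 1079 then lo_1078_1079 b h1 h else lo_1079_1080 b (Nat.le_of_not_lt h) h2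
theorem lo_1080_1081 : ∀ b, 1080 ≤ b → b < 1081 → ∃ J, chkPBlk P 5 31 18 31671 b J = true := fun b h1 h2 => by
  have hb : b = 1080 := Nat.le_antisymm (Nat.le_of_lt_succ h2) h1
  subst hb; exact ⟨_, lblk_1080⟩
theorem lo_1081_1082 : ∀ b, 1081 ≤ b → b < 1082 → ∃ J, chkPBlk P 5 31 18 31671 b J = true := fun b h1 h2 => by
  have hb : b = 1081 := Nat.le_antisymm (Nat.le_of_lt_succ h2) h1
  subst hb; exact ⟨_, lblk_1081⟩
theorem lo_1082_1083 : ∀ b, 1082 ≤ b → b < 1083 → ∃ J, chkPBlk P 5 31 18 31671 b J = true := fun b h1 h2 => by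
  have hb : b = 1082 := Nat.le_antisymm (Nat.le_of_lt_succ h2) h1
  subst hb; exact ⟨_, lblk_1082⟩
theorem lo_1081_1083 : ∀ b, 1081 ≤ b → b < 1083 → ∃ J, chkPBlk P 5 31 18 31671 b J = true := fun b h1 h2 =>
  if h : b < 1082 then lo_1081_1082 b h1 h else lo_1082_1083 b (Nat.le_of_not_lt h) h2
theorem lo_1080_1083 : ∀ b, 1080 ≤ b → b < 1083 → ∃ J, chkPBlk P 5 31 18 31671 b J = true := fun b h1 h2 =>
  if h : b < 1081 then lo_1080_1081 b h1 h else lo_1081_1083 b (Nat.le_of_not_lt h) h2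
theorem lo_1078_1083 : ∀ b, 1078 ≤ b → b < 1083 → ∃ J, chkPBlk P 5 31 18 31671 b J = true := fun b h1 h2 =>
  if h : b < 1080 then lo_1078_1080 b h1 h else lo_1080_1083 b (Nat.le_of_not_lt h) h2
theorem lo_1074_1083 : ∀ b, 1074 ≤ b → b < 1083 → ∃ J, chkPBlk P 5 31 18 31671 b J = true := fun b h1 h2 =>
  if h : b < 1078 then lo_1074_1078 b h1 h else lo_1078_1083 b (Nat.le_of_not_lt h) h2
theorem lo_1065_1083 : ∀ b, 1065 ≤ b → b < 1083 → ∃ J, chkPBlk P 5 31 18 31671 b J = true := fun b h1 h2 =>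
  if h : b < 1074 then lo_1065_1074 b h1 h else lo_1074_1083 b (Nat.le_of_not_lt h) h2
theorem lo_1083_1084 : ∀ b, 1083 ≤ b → b < 1084 → ∃ J, chkPBlk P 5 31 18 31671 b J = true := fun b h1 h2 => by
  have hb : b = 1083 := Nat.le_antisymm (Nat.le_of_lt_succ h2) h1
  subst hb; exact ⟨_, lblk_1083⟩
theorem lo_1084_1085 : ∀ b, 1084 ≤ b → b < 1085 → ∃ J, chkPBlk P 5 31 18 31671 b J = true := fun b h1 h2 => by
  have hb : b = 1084 := Nat.le_antisymm (Nat.le_of_lt_succ h2) h1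
  subst hb; exact ⟨_, lblk_1084⟩
theorem lo_1083_1085 : ∀ b, 1083 ≤ b → b < 1085 → ∃ J, chkPBlk P 5 31 18 31671 b J = true := fun b h1 h2 =>
  if h : b < 1084 then lo_1083_1084 b h1 h else lo_1084_1085 b (Nat.le_of_not_lt h) h2
theorem lo_1085_1086 : ∀ b, 1085 ≤ b → b < 1086 → ∃ J, chkPBlk P 5 31 18 31671 b J = true := fun b h1 h2 => by
  have hb : b = 1085 := Nat.le_antisymm (Nat.le_of_lt_succ h2) h1
  subst hb; exact ⟨_, lblk_1085⟩
theorem lo_1086_1087 : ∀ b, 1086 ≤ b → b < 1087 → ∃ J, chkPBlk P 5 31 18 31671 b J = true := fun b h1 h2 => by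
  have hb : b = 1086 := Nat.le_antisymm (Nat.le_of_lt_succ h2) h1
  subst hb; exact ⟨_, lblk_1086⟩
theorem lo_1085_1087 : ∀ b, 1085 ≤ b → b < 1087 → ∃ J, chkPBlk P 5 31 18 31671 b J = true := fun b h1 h2 =>
  if h : b < 1086 then lo_1085_1086 b h1 h else lo_1086_1087 b (Nat.le_of_not_lt h) h2
theorem lo_1083_1087 : ∀ b, 1083 ≤ b → b < 1087 → ∃ J, chkPBlk P 5 31 18 31671 b J = true := fun b h1 h2 =>
  if h : b < 1085 then lo_1083_1085 b h1 h else lo_1085_1087 b (Nat.le_of_not_lt h) h2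
theorem lo_1087_1088 : ∀ b, 1087 ≤ b → b < 1088 → ∃ J, chkPBlk P 5 31 18 31671 b J = true := fun b h1 h2 => by
  have hb : b = 1087 := Nat.le_antisymm (Nat.le_of_lt_succ h2) h1
  subst hb; exact ⟨_, lblk_1087⟩
theorem lo_1088_1089 : ∀ b, 1088 ≤ b → b < 1089 → ∃ J, chkPBlk P 5 31 18 31671 b J = true := fun b h1 h2 => by
  have hb : b = 1088 := Nat.le_antisymm (Nat.le_of_lt_succ h2) h1
  subst hb; exact ⟨_, lblk_1088⟩
theorem lo_1087_1089 : ∀ b, 1087 ≤ b → b < 1089 → ∃ J, chkPBlk P 5 31 18 31671 b J = true := fun b h1 h2 =>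
  if h : b < 1088 then lo_1087_1088 b h1 h else lo_1088_1089 b (Nat.le_of_not_lt h) h2
theorem lo_1089_1090 : ∀ b, 1089 ≤ b → b < 1090 → ∃ J, chkPBlk P 5 31 18 31671 b J = true := fun b h1 h2 => by
  have hb : b = 1089 := Nat.le_antisymm (Nat.le_of_lt_succ h2) h1
  subst hb; exact ⟨_, lblk_1089⟩
theorem lo_1090_1091 : ∀ b, 1090 ≤ b → b < 1091 → ∃ J, chkPBlk P 5 31 18 31671 b J = true := fun b h1 h2 => by
  have hb : b = 1090 := Nat.le_antisymm (Nat.le_of_lt_succ h2) h1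
  subst hb; exact ⟨_, lblk_1090⟩
theorem lo_1091_1092 : ∀ b, 1091 ≤ b → b < 1092 → ∃ J, chkPBlk P 5 31 18 31671 b J = true := fun b h1 h2 => by
  have hb : b = 1091 := Nat.le_antisymm (Nat.le_of_lt_succ h2) h1
  subst hb; exact ⟨_, lblk_1091⟩
theorem lo_1090_1092 : ∀ b, 1090 ≤ b → b < 1092 → ∃ J, chkPBlk P 5 31 18 31671 b J = true := fun b h1 h2 =>
  if h : b < 1091 then lo_1090_1091 b h1 h else lo_1091_1092 b (Nat.le_of_not_lt h) h2
theorem lo_1089_1092 : ∀ b, 1089 ≤ b → b < 1092 → ∃ J, chkPBlk P 5 31 18 31671 b J = true := fun b h1 h2 =>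
  if h : b < 1090 then lo_1089_1090 b h1 h else lo_1090_1092 b (Nat.le_of_not_lt h) h2
theorem lo_1087_1092 : ∀ b, 1087 ≤ b → b < 1092 → ∃ J, chkPBlk P 5 31 18 31671 b J = true := fun b h1 h2 =>
  if h : b < 1089 then lo_1087_1089 b h1 h else lo_1089_1092 b (Nat.le_of_not_lt h) h2
theorem lo_1083_1092 : ∀ b, 1083 ≤ b → b < 1092 → ∃ J, chkPBlk P 5 31 18 31671 b J = true := fun b h1 h2 =>
  if h : b < 1087 then lo_1083_1087 b h1 h else lo_1087_1092 b (Nat.le_of_not_lt h) h2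
theorem lo_1092_1093 : ∀ b, 1092 ≤ b → b < 1093 → ∃ J, chkPBlk P 5 31 18 31671 b J = true := fun b h1 h2 => by
  have hb : b = 1092 := Nat.le_antisymm (Nat.le_of_lt_succ h2) h1
  subst hb; exact ⟨_, lblk_1092⟩
theorem lo_1093_1094 : ∀ b, 1093 ≤ b → b < 1094 → ∃ J, chkPBlk P 5 31 18 31671 b J = true := fun b h1 h2 => by
  have hb : b = 1093 := Nat.le_antisymm (Nat.le_of_lt_succ h2) h1
  subst hb; exact ⟨_, lblk_1093⟩
theorem lo_1092_1094 : ∀ b, 1092 ≤ b → b < 1094 → ∃ J, chkPBlk P 5 31 18 31671 b J = true := fun b h1 h2 =>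
  if h : b < 1093 then lo_1092_1093 b h1 h else lo_1093_1094 b (Nat.le_of_not_lt h) h2
theorem lo_1094_1095 : ∀ b, 1094 ≤ b → b < 1095 → ∃ J, chkPBlk P 5 31 18 31671 b J = true := fun b h1 h2 => by
  have hb : b = 1094 := Nat.le_antisymm (Nat.le_of_lt_succ h2) h1
  subst hb; exact ⟨_, lblk_1094⟩
theorem lo_1095_1096 : ∀ b, 1095 ≤ b → b < 1096 → ∃ J, chkPBlk P 5 31 18 31671 b J = true := fun b h1 h2 => by
  have hb : b = 1095 := Nat.le_antisymm (Nat.le_of_lt_succ h2) h1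
  subst hb; exact ⟨_, lblk_1095⟩
theorem lo_1096_1097 : ∀ b, 1096 ≤ b → b < 1097 → ∃ J, chkPBlk P 5 31 18 31671 b J = true := fun b h1 h2 => by
  have hb : b = 1096 := Nat.le_antisymm (Nat.le_of_lt_succ h2) h1
  subst hb; exact ⟨_, lblk_1096⟩
theorem lo_1095_1097 : ∀ b, 1095 ≤ b → b < 1097 → ∃ J, chkPBlk P 5 31 18 31671 b J = true := fun b h1 h2 =>
  if h : b < 1096 then lo_1095_1096 b h1 h else lo_1096_1097 b (Nat.le_of_not_lt h) h2
theorem lo_1094_1097 : ∀ b, 1094 ≤ b → b < 1097 → ∃ J, chkPBlk P 5 31 18 31671 b J = true := fun b h1 h2 =>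
  if h : b < 1095 then lo_1094_1095 b h1 h else lo_1095_1097 b (Nat.le_of_not_lt h) h2
theorem lo_1092_1097 : ∀ b, 1092 ≤ b → b < 1097 → ∃ J, chkPBlk P 5 31 18 31671 b J = true := fun b h1 h2 =>
  if h : b < 1094 then lo_1092_1094 b h1 h else lo_1094_1097 b (Nat.le_of_not_lt h) h2
theorem lo_1097_1098 : ∀ b, 1097 ≤ b → b < 1098 → ∃ J, chkPBlk P 5 31 18 31671 b J = true := fun b h1 h2 => by
  have hb : b = 1097 := Nat.le_antisymm (Nat.le_of_lt_succ h2) h1
  subst hb; exact ⟨_, lblk_1097⟩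
theorem lo_1098_1099 : ∀ b, 1098 ≤ b → b < 1099 → ∃ J, chkPBlk P 5 31 18 31671 b J = true := fun b h1 h2 => by
  have hb : b = 1098 := Nat.le_antisymm (Nat.le_of_lt_succ h2) h1
  subst hb; exact ⟨_, lblk_1098⟩
theorem lo_1097_1099 : ∀ b, 1097 ≤ b → b < 1099 → ∃ J, chkPBlk P 5 31 18 31671 b J = true := fun b h1 h2 =>
  if h : b < 1098 then lo_1097_1098 b h1 h else lo_1098_1099 b (Nat.le_of_not_lt h) h2
theorem lo_1099_1100 : ∀ b, 1099 ≤ b → b < 1100 → ∃ J, chkPBlk P 5 31 18 31671 b J = true := fun b h1 h2 => by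
  have hb : b = 1099 := Nat.le_antisymm (Nat.le_of_lt_succ h2) h1
  subst hb; exact ⟨_, lblk_1099⟩
theorem lo_1100_1101 : ∀ b, 1100 ≤ b → b < 1101 → ∃ J, chkPBlk P 5 31 18 31671 b J = true := fun b h1 h2 => by
  have hb : b = 1100 := Nat.le_antisymm (Nat.le_of_lt_succ h2) h1
  subst hb; exact ⟨_, lblk_1100⟩
theorem lo_1101_1102 : ∀ b, 1101 ≤ b → b < 1102 → ∃ J, chkPBlk P 5 31 18 31671 b J = true := fun b h1 h2 => by
  have hb : b = 1101 := Nat.le_antisymm (Nat.le_of_lt_succ h2) h1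
  subst hb; exact ⟨_, lblk_1101⟩
theorem lo_1100_1102 : ∀ b, 1100 ≤ b → b < 1102 → ∃ J, chkPBlk P 5 31 18 31671 b J = true := fun b h1 h2 =>
  if h : b < 1101 then lo_1100_1101 b h1 h else lo_1101_1102 b (Nat.le_of_not_lt h) h2
theorem lo_1099_1102 : ∀ b, 1099 ≤ b → b < 1102 → ∃ J, chkPBlk P 5 31 18 31671 b J = true := fun b h1 h2 =>
  if h : b < 1100 then lo_1099_1100 b h1 h else lo_1100_1102 b (Nat.le_of_not_lt h) h2
theorem lo_1097_1102 : ∀ b, 1097 ≤ b → b < 1102 → ∃ J, chkPBlk P 5 31 18 31671 b J = true := fun b h1 h2 =>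
  if h : b < 1099 then lo_1097_1099 b h1 h else lo_1099_1102 b (Nat.le_of_not_lt h) h2
theorem lo_1092_1102 : ∀ b, 1092 ≤ b → b < 1102 → ∃ J, chkPBlk P 5 31 18 31671 b J = true := fun b h1 h2 =>
  if h : b < 1097 then lo_1092_1097 b h1 h else lo_1097_1102 b (Nat.le_of_not_lt h) h2
theorem lo_1083_1102 : ∀ b, 1083 ≤ b → b < 1102 → ∃ J, chkPBlk P 5 31 18 31671 b J = true := fun b h1 h2 =>
  if h : b < 1092 then lo_1083_1092 b h1 h else lo_1092_1102 b (Nat.le_of_not_lt h) h2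
theorem lo_1065_1102 : ∀ b, 1065 ≤ b → b < 1102 → ∃ J, chkPBlk P 5 31 18 31671 b J = true := fun b h1 h2 =>
  if h : b < 1083 then lo_1065_1083 b h1 h else lo_1083_1102 b (Nat.le_of_not_lt h) h2
theorem lo_1029_1102 : ∀ b, 1029 ≤ b → b < 1102 → ∃ J, chkPBlk P 5 31 18 31671 b J = true := fun b h1 h2 =>
  if h : b < 1065 then lo_1029_1065 b h1 h else lo_1065_1102 b (Nat.le_of_not_lt h) h2
theorem lo_1102_1103 : ∀ b, 1102 ≤ b → b < 1103 → ∃ J, chkPBlk P 5 31 18 31671 b J = true := fun b h1 h2 => by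
  have hb : b = 1102 := Nat.le_antisymm (Nat.le_of_lt_succ h2) h1
  subst hb; exact ⟨_, lblk_1102⟩
theorem lo_1103_1104 : ∀ b, 1103 ≤ b → b < 1104 → ∃ J, chkPBlk P 5 31 18 31671 b J = true := fun b h1 h2 => by
  have hb : b = 1103 := Nat.le_antisymm (Nat.le_of_lt_succ h2) h1
  subst hb; exact ⟨_, lblk_1103⟩
theorem lo_1102_1104 : ∀ b, 1102 ≤ b → b < 1104 → ∃ J, chkPBlk P 5 31 18 31671 b J = true := fun b h1 h2 =>
  if h : b < 1103 then lo_1102_1103 b h1 h else lo_1103_1104 b (Nat.le_of_not_lt h) h2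
theorem lo_1104_1105 : ∀ b, 1104 ≤ b → b < 1105 → ∃ J, chkPBlk P 5 31 18 31671 b J = true := fun b h1 h2 => by
  have hb : b = 1104 := Nat.le_antisymm (Nat.le_of_lt_succ h2) h1
  subst hb; exact ⟨_, lblk_1104⟩
theorem lo_1105_1106 : ∀ b, 1105 ≤ b → b < 1106 → ∃ J, chkPBlk P 5 31 18 31671 b J = true := fun b h1 h2 => by
  have hb : b = 1105 := Nat.le_antisymm (Nat.le_of_lt_succ h2) h1
  subst hb; exact ⟨_, lblk_1105⟩
theorem lo_1104_1106 : ∀ b, 1104 ≤ b → b < 1106 → ∃ J, chkPBlk P 5 31 18 31671 b J = true := fun b h1 h2 =>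
  if h : b < 1105 then lo_1104_1105 b h1 h else lo_1105_1106 b (Nat.le_of_not_lt h) h2
theorem lo_1102_1106 : ∀ b, 1102 ≤ b → b < 1106 → ∃ J, chkPBlk P 5 31 18 31671 b J = true := fun b h1 h2 =>
  if h : b < 1104 then lo_1102_1104 b h1 h else lo_1104_1106 b (Nat.le_of_not_lt h) h2
theorem lo_1106_1107 : ∀ b, 1106 ≤ b → b < 1107 → ∃ J, chkPBlk P 5 31 18 31671 b J = true := fun b h1 h2 => by
  have hb : b = 1106 := Nat.le_antisymm (Nat.le_of_lt_succ h2) h1
  subst hb; exact ⟨_, lblk_1106⟩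
theorem lo_1107_1108 : ∀ b, 1107 ≤ b → b < 1108 → ∃ J, chkPBlk P 5 31 18 31671 b J = true := fun b h1 h2 => by
  have hb : b = 1107 := Nat.le_antisymm (Nat.le_of_lt_succ h2) h1
  subst hb; exact ⟨_, lblk_1107⟩
theorem lo_1106_1108 : ∀ b, 1106 ≤ b → b < 1108 → ∃ J, chkPBlk P 5 31 18 31671 b J = true := fun b h1 h2 =>
  if h : b < 1107 then lo_1106_1107 b h1 h else lo_1107_1108 b (Nat.le_of_not_lt h) h2
theorem lo_1108_1109 : ∀ b, 1108 ≤ b → b < 1109 → ∃ J, chkPBlk P 5 31 18 31671 b J = true := fun b h1 h2 => by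
  have hb : b = 1108 := Nat.le_antisymm (Nat.le_of_lt_succ h2) h1
  subst hb; exact ⟨_, lblk_1108⟩
theorem lo_1109_1110 : ∀ b, 1109 ≤ b → b < 1110 → ∃ J, chkPBlk P 5 31 18 31671 b J = true := fun b h1 h2 => by
  have hb : b = 1109 := Nat.le_antisymm (Nat.le_of_lt_succ h2) h1
  subst hb; exact ⟨_, lblk_1109⟩
theorem lo_1110_1111 : ∀ b, 1110 ≤ b → b < 1111 → ∃ J, chkPBlk P 5 31 18 31671 b J = true := fun b h1 h2 => by
  have hb : b = 1110 := Nat.le_antisymm (Nat.le_of_lt_succ h2) h1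
  subst hb; exact ⟨_, lblk_1110⟩
theorem lo_1109_1111 : ∀ b, 1109 ≤ b → b < 1111 → ∃ J, chkPBlk P 5 31 18 31671 b J = true := fun b h1 h2 =>
  if h : b < 1110 then lo_1109_1110 b h1 h else lo_1110_1111 b (Nat.le_of_not_lt h) h2
theorem lo_1108_1111 : ∀ b, 1108 ≤ b → b < 1111 → ∃ J, chkPBlk P 5 31 18 31671 b J = true := fun b h1 h2 =>
  if h : b < 1109 then lo_1108_1109 b h1 h else lo_1109_1111 b (Nat.le_of_not_lt h) h2
theorem lo_1106_1111 : ∀ b, 1106 ≤ b → b < 1111 → ∃ J, chkPBlk P 5 31 18 31671 b J = true := fun b h1 h2 =>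
  if h : b < 1108 then lo_1106_1108 b h1 h else lo_1108_1111 b (Nat.le_of_not_lt h) h2
theorem lo_1102_1111 : ∀ b, 1102 ≤ b → b < 1111 → ∃ J, chkPBlk P 5 31 18 31671 b J = true := fun b h1 h2 =>
  if h : b < 1106 then lo_1102_1106 b h1 h else lo_1106_1111 b (Nat.le_of_not_lt h) h2
theorem lo_1111_1112 : ∀ b, 1111 ≤ b → b < 1112 → ∃ J, chkPBlk P 5 31 18 31671 b J = true := fun b h1 h2 => by
  have hb : b = 1111 := Nat.le_antisymm (Nat.le_of_lt_succ h2) h1
  subst hb; exact ⟨_, lblk_1111⟩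
theorem lo_1112_1113 : ∀ b, 1112 ≤ b → b < 1113 → ∃ J, chkPBlk P 5 31 18 31671 b J = true := fun b h1 h2 => by
  have hb : b = 1112 := Nat.le_antisymm (Nat.le_of_lt_succ h2) h1
  subst hb; exact ⟨_, lblk_1112⟩
theorem lo_1111_1113 : ∀ b, 1111 ≤ b → b < 1113 → ∃ J, chkPBlk P 5 31 18 31671 b J = true := fun b h1 h2 =>
  if h : b < 1112 then lo_1111_1112 b h1 h else lo_1112_1113 b (Nat.le_of_not_lt h) h2
theorem lo_1113_1114 : ∀ b, 1113 ≤ b → b < 1114 → ∃ J, chkPBlk P 5 31 18 31671 b J = true := fun b h1 h2 => by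
  have hb : b = 1113 := Nat.le_antisymm (Nat.le_of_lt_succ h2) h1
  subst hb; exact ⟨_, lblk_1113⟩
theorem lo_1114_1115 : ∀ b, 1114 ≤ b → b < 1115 → ∃ J, chkPBlk P 5 31 18 31671 b J = true := fun b h1 h2 => by
  have hb : b = 1114 := Nat.le_antisymm (Nat.le_of_lt_succ h2) h1
  subst hb; exact ⟨_, lblk_1114⟩
theorem lo_1113_1115 : ∀ b, 1113 ≤ b → b < 1115 → ∃ J, chkPBlk P 5 31 18 31671 b J = true := fun b h1 h2 =>
  if h : b < 1114 then lo_1113_1114 b h1 h else lo_1114_1115 b (Nat.le_of_not_lt h) h2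
theorem lo_1111_1115 : ∀ b, 1111 ≤ b → b < 1115 → ∃ J, chkPBlk P 5 31 18 31671 b J = true := fun b h1 h2 =>
  if h : b < 1113 then lo_1111_1113 b h1 h else lo_1113_1115 b (Nat.le_of_not_lt h) h2
theorem lo_1115_1116 : ∀ b, 1115 ≤ b → b < 1116 → ∃ J, chkPBlk P 5 31 18 31671 b J = true := fun b h1 h2 => by
  have hb : b = 1115 := Nat.le_antisymm (Nat.le_of_lt_succ h2) h1
  subst hb; exact ⟨_, lblk_1115⟩
theorem lo_1116_1117 : ∀ b, 1116 ≤ b → b < 1117 → ∃ J, chkPBlk P 5 31 18 31671 b J = true := fun b h1 h2 => by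
  have hb : b = 1116 := Nat.le_antisymm (Nat.le_of_lt_succ h2) h1
  subst hb; exact ⟨_, lblk_1116⟩
theorem lo_1115_1117 : ∀ b, 1115 ≤ b → b < 1117 → ∃ J, chkPBlk P 5 31 18 31671 b J = true := fun b h1 h2 =>
  if h : b < 1116 then lo_1115_1116 b h1 h else lo_1116_1117 b (Nat.le_of_not_lt h) h2
theorem lo_1117_1118 : ∀ b, 1117 ≤ b → b < 1118 → ∃ J, chkPBlk P 5 31 18 31671 b J = true := fun b h1 h2 => by
  have hb : b = 1117 := Nat.le_antisymm (Nat.le_of_lt_succ h2) h1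
  subst hb; exact ⟨_, lblk_1117⟩
theorem lo_1118_1119 : ∀ b, 1118 ≤ b → b < 1119 → ∃ J, chkPBlk P 5 31 18 31671 b J = true := fun b h1 h2 => by
  have hb : b = 1118 := Nat.le_antisymm (Nat.le_of_lt_succ h2) h1
  subst hb; exact ⟨_, lblk_1118⟩
theorem lo_1119_1120 : ∀ b, 1119 ≤ b → b < 1120 → ∃ J, chkPBlk P 5 31 18 31671 b J = true := fun b h1 h2 => by
  have hb : b = 1119 := Nat.le_antisymm (Nat.le_of_lt_succ h2) h1
  subst hb; exact ⟨_, lblk_1119⟩
theorem lo_1118_1120 : ∀ b, 1118 ≤ b → b < 1120 → ∃ J, chkPBlk P 5 31 18 31671 b J = true := fun b h1 h2 =>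
  if h : b < 1119 then lo_1118_1119 b h1 h else lo_1119_1120 b (Nat.le_of_not_lt h) h2
theorem lo_1117_1120 : ∀ b, 1117 ≤ b → b < 1120 → ∃ J, chkPBlk P 5 31 18 31671 b J = true := fun b h1 h2 =>
  if h : b < 1118 then lo_1117_1118 b h1 h else lo_1118_1120 b (Nat.le_of_not_lt h) h2
theorem lo_1115_1120 : ∀ b, 1115 ≤ b → b < 1120 → ∃ J, chkPBlk P 5 31 18 31671 b J = true := fun b h1 h2 =>
  if h : b < 1117 then lo_1115_1117 b h1 h else lo_1117_1120 b (Nat.le_of_not_lt h) h2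
theorem lo_1111_1120 : ∀ b, 1111 ≤ b → b < 1120 → ∃ J, chkPBlk P 5 31 18 31671 b J = true := fun b h1 h2 =>
  if h : b < 1115 then lo_1111_1115 b h1 h else lo_1115_1120 b (Nat.le_of_not_lt h) h2
theorem lo_1102_1120 : ∀ b, 1102 ≤ b → b < 1120 → ∃ J, chkPBlk P 5 31 18 31671 b J = true := fun b h1 h2 =>
  if h : b < 1111 then lo_1102_1111 b h1 h else lo_1111_1120 b (Nat.le_of_not_lt h) h2
theorem lo_1120_1121 : ∀ b, 1120 ≤ b → b < 1121 → ∃ J, chkPBlk P 5 31 18 31671 b J = true := fun b h1 h2 => by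
  have hb : b = 1120 := Nat.le_antisymm (Nat.le_of_lt_succ h2) h1
  subst hb; exact ⟨_, lblk_1120⟩
theorem lo_1121_1122 : ∀ b, 1121 ≤ b → b < 1122 → ∃ J, chkPBlk P 5 31 18 31671 b J = true := fun b h1 h2 => by
  have hb : b = 1121 := Nat.le_antisymm (Nat.le_of_lt_succ h2) h1
  subst hb; exact ⟨_, lblk_1121⟩
theorem lo_1120_1122 : ∀ b, 1120 ≤ b → b < 1122 → ∃ J, chkPBlk P 5 31 18 31671 b J = true := fun b h1 h2 =>
  if h : b < 1121 then lo_1120_1121 b h1 h else lo_1121_1122 b (Nat.le_of_not_lt h) h2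
theorem lo_1122_1123 : ∀ b, 1122 ≤ b → b < 1123 → ∃ J, chkPBlk P 5 31 18 31671 b J = true := fun b h1 h2 => by
  have hb : b = 1122 := Nat.le_antisymm (Nat.le_of_lt_succ h2) h1
  subst hb; exact ⟨_, lblk_1122⟩
theorem lo_1123_1124 : ∀ b, 1123 ≤ b → b < 1124 → ∃ J, chkPBlk P 5 31 18 31671 b J = true := fun b h1 h2 => by
  have hb : b = 1123 := Nat.le_antisymm (Nat.le_of_lt_succ h2) h1
  subst hb; exact ⟨_, lblk_1123⟩
theorem lo_1122_1124 : ∀ b, 1122 ≤ b → b < 1124 → ∃ J, chkPBlk P 5 31 18 31671 b J = true := fun b h1 h2 =>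
  if h : b < 1123 then lo_1122_1123 b h1 h else lo_1123_1124 b (Nat.le_of_not_lt h) h2
theorem lo_1120_1124 : ∀ b, 1120 ≤ b → b < 1124 → ∃ J, chkPBlk P 5 31 18 31671 b J = true := fun b h1 h2 =>
  if h : b < 1122 then lo_1120_1122 b h1 h else lo_1122_1124 b (Nat.le_of_not_lt h) h2
theorem lo_1124_1125 : ∀ b, 1124 ≤ b → b < 1125 → ∃ J, chkPBlk P 5 31 18 31671 b J = true := fun b h1 h2 => by
  have hb : b = 1124 := Nat.le_antisymm (Nat.le_of_lt_succ h2) h1
  subst hb; exact ⟨_, lblk_1124⟩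
theorem lo_1125_1126 : ∀ b, 1125 ≤ b → b < 1126 → ∃ J, chkPBlk P 5 31 18 31671 b J = true := fun b h1 h2 => by
  have hb : b = 1125 := Nat.le_antisymm (Nat.le_of_lt_succ h2) h1
  subst hb; exact ⟨_, lblk_1125⟩
theorem lo_1124_1126 : ∀ b, 1124 ≤ b → b < 1126 → ∃ J, chkPBlk P 5 31 18 31671 b J = true := fun b h1 h2 =>
  if h : b < 1125 then lo_1124_1125 b h1 h else lo_1125_1126 b (Nat.le_of_not_lt h) h2
theorem lo_1126_1127 : ∀ b, 1126 ≤ b → b < 1127 → ∃ J, chkPBlk P 5 31 18 31671 b J = true := fun b h1 h2 => by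
  have hb : b = 1126 := Nat.le_antisymm (Nat.le_of_lt_succ h2) h1
  subst hb; exact ⟨_, lblk_1126⟩
theorem lo_1127_1128 : ∀ b, 1127 ≤ b → b < 1128 → ∃ J, chkPBlk P 5 31 18 31671 b J = true := fun b h1 h2 => by
  have hb : b = 1127 := Nat.le_antisymm (Nat.le_of_lt_succ h2) h1
  subst hb; exact ⟨_, lblk_1127⟩
theorem lo_1128_1129 : ∀ b, 1128 ≤ b → b < 1129 → ∃ J, chkPBlk P 5 31 18 31671 b J = true := fun b h1 h2 => by
  have hb : b = 1128 := Nat.le_antisymm (Nat.le_of_lt_succ h2) h1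
  subst hb; exact ⟨_, lblk_1128⟩
theorem lo_1127_1129 : ∀ b, 1127 ≤ b → b < 1129 → ∃ J, chkPBlk P 5 31 18 31671 b J = true := fun b h1 h2 =>
  if h : b < 1128 then lo_1127_1128 b h1 h else lo_1128_1129 b (Nat.le_of_not_lt h) h2
theorem lo_1126_1129 : ∀ b, 1126 ≤ b → b < 1129 → ∃ J, chkPBlk P 5 31 18 31671 b J = true := fun b h1 h2 =>
  if h : b < 1127 then lo_1126_1127 b h1 h else lo_1127_1129 b (Nat.le_of_not_lt h) h2
theorem lo_1124_1129 : ∀ b, 1124 ≤ b → b < 1129 → ∃ J, chkPBlk P 5 31 18 31671 b J = true := fun b h1 h2 =>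
  if h : b < 1126 then lo_1124_1126 b h1 h else lo_1126_1129 b (Nat.le_of_not_lt h) h2
theorem lo_1120_1129 : ∀ b, 1120 ≤ b → b < 1129 → ∃ J, chkPBlk P 5 31 18 31671 b J = true := fun b h1 h2 =>
  if h : b < 1124 then lo_1120_1124 b h1 h else lo_1124_1129 b (Nat.le_of_not_lt h) h2
theorem lo_1129_1130 : ∀ b, 1129 ≤ b → b < 1130 → ∃ J, chkPBlk P 5 31 18 31671 b J = true := fun b h1 h2 => by
  have hb : b = 1129 := Nat.le_antisymm (Nat.le_of_lt_succ h2) h1
  subst hb; exact ⟨_, lblk_1129⟩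
theorem lo_1130_1131 : ∀ b, 1130 ≤ b → b < 1131 → ∃ J, chkPBlk P 5 31 18 31671 b J = true := fun b h1 h2 => by
  have hb : b = 1130 := Nat.le_antisymm (Nat.le_of_lt_succ h2) h1
  subst hb; exact ⟨_, lblk_1130⟩
theorem lo_1129_1131 : ∀ b, 1129 ≤ b → b < 1131 → ∃ J, chkPBlk P 5 31 18 31671 b J = true := fun b h1 h2 =>
  if h : b < 1130 then lo_1129_1130 b h1 h else lo_1130_1131 b (Nat.le_of_not_lt h) h2
theorem lo_1131_1132 : ∀ b, 1131 ≤ b → b < 1132 → ∃ J, chkPBlk P 5 31 18 31671 b J = true := fun b h1 h2 => by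
  have hb : b = 1131 := Nat.le_antisymm (Nat.le_of_lt_succ h2) h1
  subst hb; exact ⟨_, lblk_1131⟩
theorem lo_1132_1133 : ∀ b, 1132 ≤ b → b < 1133 → ∃ J, chkPBlk P 5 31 18 31671 b J = true := fun b h1 h2 => by
  have hb : b = 1132 := Nat.le_antisymm (Nat.le_of_lt_succ h2) h1
  subst hb; exact ⟨_, lblk_1132⟩
theorem lo_1133_1134 : ∀ b, 1133 ≤ b → b < 1134 → ∃ J, chkPBlk P 5 31 18 31671 b J = true := fun b h1 h2 => by
  have hb : b = 1133 := Nat.le_antisymm (Nat.le_of_lt_succ h2) h1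
  subst hb; exact ⟨_, lblk_1133⟩
theorem lo_1132_1134 : ∀ b, 1132 ≤ b → b < 1134 → ∃ J, chkPBlk P 5 31 18 31671 b J = true := fun b h1 h2 =>
  if h : b < 1133 then lo_1132_1133 b h1 h else lo_1133_1134 b (Nat.le_of_not_lt h) h2
theorem lo_1131_1134 : ∀ b, 1131 ≤ b → b < 1134 → ∃ J, chkPBlk P 5 31 18 31671 b J = true := fun b h1 h2 =>
  if h : b < 1132 then lo_1131_1132 b h1 h else lo_1132_1134 b (Nat.le_of_not_lt h) h2
theorem lo_1129_1134 : ∀ b, 1129 ≤ b → b < 1134 → ∃ J, chkPBlk P 5 31 18 31671 b J = true := fun b h1 h2 =>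
  if h : b < 1131 then lo_1129_1131 b h1 h else lo_1131_1134 b (Nat.le_of_not_lt h) h2
theorem lo_1134_1135 : ∀ b, 1134 ≤ b → b < 1135 → ∃ J, chkPBlk P 5 31 18 31671 b J = true := fun b h1 h2 => by
  have hb : b = 1134 := Nat.le_antisymm (Nat.le_of_lt_succ h2) h1
  subst hb; exact ⟨_, lblk_1134⟩
theorem lo_1135_1136 : ∀ b, 1135 ≤ b → b < 1136 → ∃ J, chkPBlk P 5 31 18 31671 b J = true := fun b h1 h2 => by
  have hb : b = 1135 := Nat.le_antisymm (Nat.le_of_lt_succ h2) h1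
  subst hb; exact ⟨_, lblk_1135⟩
theorem lo_1134_1136 : ∀ b, 1134 ≤ b → b < 1136 → ∃ J, chkPBlk P 5 31 18 31671 b J = true := fun b h1 h2 =>
  if h : b < 1135 then lo_1134_1135 b h1 h else lo_1135_1136 b (Nat.le_of_not_lt h) h2
theorem lo_1136_1137 : ∀ b, 1136 ≤ b → b < 1137 → ∃ J, chkPBlk P 5 31 18 31671 b J = true := fun b h1 h2 => by
  have hb : b = 1136 := Nat.le_antisymm (Nat.le_of_lt_succ h2) h1
  subst hb; exact ⟨_, lblk_1136⟩
theorem lo_1137_1138 : ∀ b, 1137 ≤ b → b < 1138 → ∃ J, chkPBlk P 5 31 18 31671 b J = true := fun b h1 h2 => by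
  have hb : b = 1137 := Nat.le_antisymm (Nat.le_of_lt_succ h2) h1
  subst hb; exact ⟨_, lblk_1137⟩
theorem lo_1138_1139 : ∀ b, 1138 ≤ b → b < 1139 → ∃ J, chkPBlk P 5 31 18 31671 b J = true := fun b h1 h2 => by
  have hb : b = 1138 := Nat.le_antisymm (Nat.le_of_lt_succ h2) h1
  subst hb; exact ⟨_, lblk_1138⟩
theorem lo_1137_1139 : ∀ b, 1137 ≤ b → b < 1139 → ∃ J, chkPBlk P 5 31 18 31671 b J = true := fun b h1 h2 =>
  if h : b < 1138 then lo_1137_1138 b h1 h else lo_1138_1139 b (Nat.le_of_not_lt h) h2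
theorem lo_1136_1139 : ∀ b, 1136 ≤ b → b < 1139 → ∃ J, chkPBlk P 5 31 18 31671 b J = true := fun b h1 h2 =>
  if h : b < 1137 then lo_1136_1137 b h1 h else lo_1137_1139 b (Nat.le_of_not_lt h) h2
theorem lo_1134_1139 : ∀ b, 1134 ≤ b → b < 1139 → ∃ J, chkPBlk P 5 31 18 31671 b J = true := fun b h1 h2 =>
  if h : b < 1136 then lo_1134_1136 b h1 h else lo_1136_1139 b (Nat.le_of_not_lt h) h2
theorem lo_1129_1139 : ∀ b, 1129 ≤ b → b < 1139 → ∃ J, chkPBlk P 5 31 18 31671 b J = true := fun b h1 h2 =>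
  if h : b < 1134 then lo_1129_1134 b h1 h else lo_1134_1139 b (Nat.le_of_not_lt h) h2
theorem lo_1120_1139 : ∀ b, 1120 ≤ b → b < 1139 → ∃ J, chkPBlk P 5 31 18 31671 b J = true := fun b h1 h2 =>
  if h : b < 1129 then lo_1120_1129 b h1 h else lo_1129_1139 b (Nat.le_of_not_lt h) h2
theorem lo_1102_1139 : ∀ b, 1102 ≤ b → b < 1139 → ∃ J, chkPBlk P 5 31 18 31671 b J = true := fun b h1 h2 =>
  if h : b < 1120 then lo_1102_1120 b h1 h else lo_1120_1139 b (Nat.le_of_not_lt h) h2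
theorem lo_1139_1140 : ∀ b, 1139 ≤ b → b < 1140 → ∃ J, chkPBlk P 5 31 18 31671 b J = true := fun b h1 h2 => by
  have hb : b = 1139 := Nat.le_antisymm (Nat.le_of_lt_succ h2) h1
  subst hb; exact ⟨_, lblk_1139⟩
theorem lo_1140_1141 : ∀ b, 1140 ≤ b → b < 1141 → ∃ J, chkPBlk P 5 31 18 31671 b J = true := fun b h1 h2 => by
  have hb : b = 1140 := Nat.le_antisymm (Nat.le_of_lt_succ h2) h1
  subst hb; exact ⟨_, lblk_1140⟩
theorem lo_1139_1141 : ∀ b, 1139 ≤ b → b < 1141 → ∃ J, chkPBlk P 5 31 18 31671 b J = true := fun b h1 h2 =>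
  if h : b < 1140 then lo_1139_1140 b h1 h else lo_1140_1141 b (Nat.le_of_not_lt h) h2
theorem lo_1141_1142 : ∀ b, 1141 ≤ b → b < 1142 → ∃ J, chkPBlk P 5 31 18 31671 b J = true := fun b h1 h2 => by
  have hb : b = 1141 := Nat.le_antisymm (Nat.le_of_lt_succ h2) h1
  subst hb; exact ⟨_, lblk_1141⟩
theorem lo_1142_1143 : ∀ b, 1142 ≤ b → b < 1143 → ∃ J, chkPBlk P 5 31 18 31671 b J = true := fun b h1 h2 => by
  have hb : b = 1142 := Nat.le_antisymm (Nat.le_of_lt_succ h2) h1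
  subst hb; exact ⟨_, lblk_1142⟩
theorem lo_1141_1143 : ∀ b, 1141 ≤ b → b < 1143 → ∃ J, chkPBlk P 5 31 18 31671 b J = true := fun b h1 h2 =>
  if h : b < 1142 then lo_1141_1142 b h1 h else lo_1142_1143 b (Nat.le_of_not_lt h) h2
theorem lo_1139_1143 : ∀ b, 1139 ≤ b → b < 1143 → ∃ J, chkPBlk P 5 31 18 31671 b J = true := fun b h1 h2 =>
  if h : b < 1141 then lo_1139_1141 b h1 h else lo_1141_1143 b (Nat.le_of_not_lt h) h2
theorem lo_1143_1144 : ∀ b, 1143 ≤ b → b < 1144 → ∃ J, chkPBlk P 5 31 18 31671 b J = true := fun b h1 h2 => by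
  have hb : b = 1143 := Nat.le_antisymm (Nat.le_of_lt_succ h2) h1
  subst hb; exact ⟨_, lblk_1143⟩
theorem lo_1144_1145 : ∀ b, 1144 ≤ b → b < 1145 → ∃ J, chkPBlk P 5 31 18 31671 b J = true := fun b h1 h2 => by
  have hb : b = 1144 := Nat.le_antisymm (Nat.le_of_lt_succ h2) h1
  subst hb; exact ⟨_, lblk_1144⟩
theorem lo_1143_1145 : ∀ b, 1143 ≤ b → b < 1145 → ∃ J, chkPBlk P 5 31 18 31671 b J = true := fun b h1 h2 =>
  if h : b < 1144 then lo_1143_1144 b h1 h else lo_1144_1145 b (Nat.le_of_not_lt h) h2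
theorem lo_1145_1146 : ∀ b, 1145 ≤ b → b < 1146 → ∃ J, chkPBlk P 5 31 18 31671 b J = true := fun b h1 h2 => by
  have hb : b = 1145 := Nat.le_antisymm (Nat.le_of_lt_succ h2) h1
  subst hb; exact ⟨_, lblk_1145⟩
theorem lo_1146_1147 : ∀ b, 1146 ≤ b → b < 1147 → ∃ J, chkPBlk P 5 31 18 31671 b J = true := fun b h1 h2 => by
  have hb : b = 1146 := Nat.le_antisymm (Nat.le_of_lt_succ h2) h1
  subst hb; exact ⟨_, lblk_1146⟩
theorem lo_1147_1148 : ∀ b, 1147 ≤ b → b < 1148 → ∃ J, chkPBlk P 5 31 18 31671 b J = true := fun b h1 h2 => by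
  have hb : b = 1147 := Nat.le_antisymm (Nat.le_of_lt_succ h2) h1
  subst hb; exact ⟨_, lblk_1147⟩
theorem lo_1146_1148 : ∀ b, 1146 ≤ b → b < 1148 → ∃ J, chkPBlk P 5 31 18 31671 b J = true := fun b h1 h2 =>
  if h : b < 1147 then lo_1146_1147 b h1 h else lo_1147_1148 b (Nat.le_of_not_lt h) h2
theorem lo_1145_1148 : ∀ b, 1145 ≤ b → b < 1148 → ∃ J, chkPBlk P 5 31 18 31671 b J = true := fun b h1 h2 =>
  if h : b < 1146 then lo_1145_1146 b h1 h else lo_1146_1148 b (Nat.le_of_not_lt h) h2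
theorem lo_1143_1148 : ∀ b, 1143 ≤ b → b < 1148 → ∃ J, chkPBlk P 5 31 18 31671 b J = true := fun b h1 h2 =>
  if h : b < 1145 then lo_1143_1145 b h1 h else lo_1145_1148 b (Nat.le_of_not_lt h) h2
theorem lo_1139_1148 : ∀ b, 1139 ≤ b → b < 1148 → ∃ J, chkPBlk P 5 31 18 31671 b J = true := fun b h1 h2 =>
  if h : b < 1143 then lo_1139_1143 b h1 h else lo_1143_1148 b (Nat.le_of_not_lt h) h2
theorem lo_1148_1149 : ∀ b, 1148 ≤ b → b < 1149 → ∃ J, chkPBlk P 5 31 18 31671 b J = true := fun b h1 h2 => by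
  have hb : b = 1148 := Nat.le_antisymm (Nat.le_of_lt_succ h2) h1
  subst hb; exact ⟨_, lblk_1148⟩
theorem lo_1149_1150 : ∀ b, 1149 ≤ b → b < 1150 → ∃ J, chkPBlk P 5 31 18 31671 b J = true := fun b h1 h2 => by
  have hb : b = 1149 := Nat.le_antisymm (Nat.le_of_lt_succ h2) h1
  subst hb; exact ⟨_, lblk_1149⟩
theorem lo_1148_1150 : ∀ b, 1148 ≤ b → b < 1150 → ∃ J, chkPBlk P 5 31 18 31671 b J = true := fun b h1 h2 =>
  if h : b < 1149 then lo_1148_1149 b h1 h else lo_1149_1150 b (Nat.le_of_not_lt h) h2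
theorem lo_1150_1151 : ∀ b, 1150 ≤ b → b < 1151 → ∃ J, chkPBlk P 5 31 18 31671 b J = true := fun b h1 h2 => by
  have hb : b = 1150 := Nat.le_antisymm (Nat.le_of_lt_succ h2) h1
  subst hb; exact ⟨_, lblk_1150⟩
theorem lo_1151_1152 : ∀ b, 1151 ≤ b → b < 1152 → ∃ J, chkPBlk P 5 31 18 31671 b J = true := fun b h1 h2 => by
  have hb : b = 1151 := Nat.le_antisymm (Nat.le_of_lt_succ h2) h1
  subst hb; exact ⟨_, lblk_1151⟩
theorem lo_1150_1152 : ∀ b, 1150 ≤ b → b < 1152 → ∃ J, chkPBlk P 5 31 18 31671 b J = true := fun b h1 h2 =>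
  if h : b < 1151 then lo_1150_1151 b h1 h else lo_1151_1152 b (Nat.le_of_not_lt h) h2
theorem lo_1148_1152 : ∀ b, 1148 ≤ b → b < 1152 → ∃ J, chkPBlk P 5 31 18 31671 b J = true := fun b h1 h2 =>
  if h : b < 1150 then lo_1148_1150 b h1 h else lo_1150_1152 b (Nat.le_of_not_lt h) h2
theorem lo_1152_1153 : ∀ b, 1152 ≤ b → b < 1153 → ∃ J, chkPBlk P 5 31 18 31671 b J = true := fun b h1 h2 => by
  have hb : b = 1152 := Nat.le_antisymm (Nat.le_of_lt_succ h2) h1
  subst hb; exact ⟨_, lblk_1152⟩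
theorem lo_1153_1154 : ∀ b, 1153 ≤ b → b < 1154 → ∃ J, chkPBlk P 5 31 18 31671 b J = true := fun b h1 h2 => by
  have hb : b = 1153 := Nat.le_antisymm (Nat.le_of_lt_succ h2) h1
  subst hb; exact ⟨_, lblk_1153⟩
theorem lo_1152_1154 : ∀ b, 1152 ≤ b → b < 1154 → ∃ J, chkPBlk P 5 31 18 31671 b J = true := fun b h1 h2 =>
  if h : b < 1153 then lo_1152_1153 b h1 h else lo_1153_1154 b (Nat.le_of_not_lt h) h2
theorem lo_1154_1155 : ∀ b, 1154 ≤ b → b < 1155 → ∃ J, chkPBlk P 5 31 18 31671 b J = true := fun b h1 h2 => by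
  have hb : b = 1154 := Nat.le_antisymm (Nat.le_of_lt_succ h2) h1
  subst hb; exact ⟨_, lblk_1154⟩
theorem lo_1155_1156 : ∀ b, 1155 ≤ b → b < 1156 → ∃ J, chkPBlk P 5 31 18 31671 b J = true := fun b h1 h2 => by
  have hb : b = 1155 := Nat.le_antisymm (Nat.le_of_lt_succ h2) h1
  subst hb; exact ⟨_, lblk_1155⟩
theorem lo_1156_1157 : ∀ b, 1156 ≤ b → b < 1157 → ∃ J, chkPBlk P 5 31 18 31671 b J = true := fun b h1 h2 => by
  have hb : b = 1156 := Nat.le_antisymm (Nat.le_of_lt_succ h2) h1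
  subst hb; exact ⟨_, lblk_1156⟩
theorem lo_1155_1157 : ∀ b, 1155 ≤ b → b < 1157 → ∃ J, chkPBlk P 5 31 18 31671 b J = true := fun b h1 h2 =>
  if h : b < 1156 then lo_1155_1156 b h1 h else lo_1156_1157 b (Nat.le_of_not_lt h) h2
theorem lo_1154_1157 : ∀ b, 1154 ≤ b → b < 1157 → ∃ J, chkPBlk P 5 31 18 31671 b J = true := fun b h1 h2 =>
  if h : b < 1155 then lo_1154_1155 b h1 h else lo_1155_1157 b (Nat.le_of_not_lt h) h2
theorem lo_1152_1157 : ∀ b, 1152 ≤ b → b < 1157 → ∃ J, chkPBlk P 5 31 18 31671 b J = true := fun b h1 h2 =>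
  if h : b < 1154 then lo_1152_1154 b h1 h else lo_1154_1157 b (Nat.le_of_not_lt h) h2
theorem lo_1148_1157 : ∀ b, 1148 ≤ b → b < 1157 → ∃ J, chkPBlk P 5 31 18 31671 b J = true := fun b h1 h2 =>
  if h : b < 1152 then lo_1148_1152 b h1 h else lo_1152_1157 b (Nat.le_of_not_lt h) h2
theorem lo_1139_1157 : ∀ b, 1139 ≤ b → b < 1157 → ∃ J, chkPBlk P 5 31 18 31671 b J = true := fun b h1 h2 =>
  if h : b < 1148 then lo_1139_1148 b h1 h else lo_1148_1157 b (Nat.le_of_not_lt h) h2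
theorem lo_1157_1158 : ∀ b, 1157 ≤ b → b < 1158 → ∃ J, chkPBlk P 5 31 18 31671 b J = true := fun b h1 h2 => by
  have hb : b = 1157 := Nat.le_antisymm (Nat.le_of_lt_succ h2) h1
  subst hb; exact ⟨_, lblk_1157⟩
theorem lo_1158_1159 : ∀ b, 1158 ≤ b → b < 1159 → ∃ J, chkPBlk P 5 31 18 31671 b J = true := fun b h1 h2 => by
  have hb : b = 1158 := Nat.le_antisymm (Nat.le_of_lt_succ h2) h1
  subst hb; exact ⟨_, lblk_1158⟩
theorem lo_1157_1159 : ∀ b, 1157 ≤ b → b < 1159 → ∃ J, chkPBlk P 5 31 18 31671 b J = true := fun b h1 h2 =>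
  if h : b < 1158 then lo_1157_1158 b h1 h else lo_1158_1159 b (Nat.le_of_not_lt h) h2
theorem lo_1159_1160 : ∀ b, 1159 ≤ b → b < 1160 → ∃ J, chkPBlk P 5 31 18 31671 b J = true := fun b h1 h2 => by
  have hb : b = 1159 := Nat.le_antisymm (Nat.le_of_lt_succ h2) h1
  subst hb; exact ⟨_, lblk_1159⟩
theorem lo_1160_1161 : ∀ b, 1160 ≤ b → b < 1161 → ∃ J, chkPBlk P 5 31 18 31671 b J = true := fun b h1 h2 => by
  have hb : b = 1160 := Nat.le_antisymm (Nat.le_of_lt_succ h2) h1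
  subst hb; exact ⟨_, lblk_1160⟩
theorem lo_1159_1161 : ∀ b, 1159 ≤ b → b < 1161 → ∃ J, chkPBlk P 5 31 18 31671 b J = true := fun b h1 h2 =>
  if h : b < 1160 then lo_1159_1160 b h1 h else lo_1160_1161 b (Nat.le_of_not_lt h) h2
theorem lo_1157_1161 : ∀ b, 1157 ≤ b → b < 1161 → ∃ J, chkPBlk P 5 31 18 31671 b J = true := fun b h1 h2 =>
  if h : b < 1159 then lo_1157_1159 b h1 h else lo_1159_1161 b (Nat.le_of_not_lt h) h2
theorem lo_1161_1162 : ∀ b, 1161 ≤ b → b < 1162 → ∃ J, chkPBlk P 5 31 18 31671 b J = true := fun b h1 h2 => by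
  have hb : b = 1161 := Nat.le_antisymm (Nat.le_of_lt_succ h2) h1
  subst hb; exact ⟨_, lblk_1161⟩
theorem lo_1162_1163 : ∀ b, 1162 ≤ b → b < 1163 → ∃ J, chkPBlk P 5 31 18 31671 b J = true := fun b h1 h2 => by
  have hb : b = 1162 := Nat.le_antisymm (Nat.le_of_lt_succ h2) h1
  subst hb; exact ⟨_, lblk_1162⟩
theorem lo_1161_1163 : ∀ b, 1161 ≤ b → b < 1163 → ∃ J, chkPBlk P 5 31 18 31671 b J = true := fun b h1 h2 =>
  if h : b < 1162 then lo_1161_1162 b h1 h else lo_1162_1163 b (Nat.le_of_not_lt h) h2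
theorem lo_1163_1164 : ∀ b, 1163 ≤ b → b < 1164 → ∃ J, chkPBlk P 5 31 18 31671 b J = true := fun b h1 h2 => by
  have hb : b = 1163 := Nat.le_antisymm (Nat.le_of_lt_succ h2) h1
  subst hb; exact ⟨_, lblk_1163⟩
theorem lo_1164_1165 : ∀ b, 1164 ≤ b → b < 1165 → ∃ J, chkPBlk P 5 31 18 31671 b J = true := fun b h1 h2 => by
  have hb : b = 1164 := Nat.le_antisymm (Nat.le_of_lt_succ h2) h1
  subst hb; exact ⟨_, lblk_1164⟩
theorem lo_1165_1166 : ∀ b, 1165 ≤ b → b < 1166 → ∃ J, chkPBlk P 5 31 18 31671 b J = true := fun b h1 h2 => by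
  have hb : b = 1165 := Nat.le_antisymm (Nat.le_of_lt_succ h2) h1
  subst hb; exact ⟨_, lblk_1165⟩
theorem lo_1164_1166 : ∀ b, 1164 ≤ b → b < 1166 → ∃ J, chkPBlk P 5 31 18 31671 b J = true := fun b h1 h2 =>
  if h : b < 1165 then lo_1164_1165 b h1 h else lo_1165_1166 b (Nat.le_of_not_lt h) h2
theorem lo_1163_1166 : ∀ b, 1163 ≤ b → b < 1166 → ∃ J, chkPBlk P 5 31 18 31671 b J = true := fun b h1 h2 =>
  if h : b < 1164 then lo_1163_1164 b h1 h else lo_1164_1166 b (Nat.le_of_not_lt h) h2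
theorem lo_1161_1166 : ∀ b, 1161 ≤ b → b < 1166 → ∃ J, chkPBlk P 5 31 18 31671 b J = true := fun b h1 h2 =>
  if h : b < 1163 then lo_1161_1163 b h1 h else lo_1163_1166 b (Nat.le_of_not_lt h) h2
theorem lo_1157_1166 : ∀ b, 1157 ≤ b → b < 1166 → ∃ J, chkPBlk P 5 31 18 31671 b J = true := fun b h1 h2 =>
  if h : b < 1161 then lo_1157_1161 b h1 h else lo_1161_1166 b (Nat.le_of_not_lt h) h2
theorem lo_1166_1167 : ∀ b, 1166 ≤ b → b < 1167 → ∃ J, chkPBlk P 5 31 18 31671 b J = true := fun b h1 h2 => by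
  have hb : b = 1166 := Nat.le_antisymm (Nat.le_of_lt_succ h2) h1
  subst hb; exact ⟨_, lblk_1166⟩
theorem lo_1167_1168 : ∀ b, 1167 ≤ b → b < 1168 → ∃ J, chkPBlk P 5 31 18 31671 b J = true := fun b h1 h2 => by
  have hb : b = 1167 := Nat.le_antisymm (Nat.le_of_lt_succ h2) h1
  subst hb; exact ⟨_, lblk_1167⟩
theorem lo_1166_1168 : ∀ b, 1166 ≤ b → b < 1168 → ∃ J, chkPBlk P 5 31 18 31671 b J = true := fun b h1 h2 =>
  if h : b < 1167 then lo_1166_1167 b h1 h else lo_1167_1168 b (Nat.le_of_not_lt h) h2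
theorem lo_1168_1169 : ∀ b, 1168 ≤ b → b < 1169 → ∃ J, chkPBlk P 5 31 18 31671 b J = true := fun b h1 h2 => by
  have hb : b = 1168 := Nat.le_antisymm (Nat.le_of_lt_succ h2) h1
  subst hb; exact ⟨_, lblk_1168⟩
theorem lo_1169_1170 : ∀ b, 1169 ≤ b → b < 1170 → ∃ J, chkPBlk P 5 31 18 31671 b J = true := fun b h1 h2 => by
  have hb : b = 1169 := Nat.le_antisymm (Nat.le_of_lt_succ h2) h1
  subst hb; exact ⟨_, lblk_1169⟩
theorem lo_1170_1171 : ∀ b, 1170 ≤ b → b < 1171 → ∃ J, chkPBlk P 5 31 18 31671 b J = true := fun b h1 h2 => by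
  have hb : b = 1170 := Nat.le_antisymm (Nat.le_of_lt_succ h2) h1
  subst hb; exact ⟨_, lblk_1170⟩
theorem lo_1169_1171 : ∀ b, 1169 ≤ b → b < 1171 → ∃ J, chkPBlk P 5 31 18 31671 b J = true := fun b h1 h2 =>
  if h : b < 1170 then lo_1169_1170 b h1 h else lo_1170_1171 b (Nat.le_of_not_lt h) h2
theorem lo_1168_1171 : ∀ b, 1168 ≤ b → b < 1171 → ∃ J, chkPBlk P 5 31 18 31671 b J = true := fun b h1 h2 =>
  if h : b < 1169 then lo_1168_1169 b h1 h else lo_1169_1171 b (Nat.le_of_not_lt h) h2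
theorem lo_1166_1171 : ∀ b, 1166 ≤ b → b < 1171 → ∃ J, chkPBlk P 5 31 18 31671 b J = true := fun b h1 h2 =>
  if h : b < 1168 then lo_1166_1168 b h1 h else lo_1168_1171 b (Nat.le_of_not_lt h) h2
theorem lo_1171_1172 : ∀ b, 1171 ≤ b → b < 1172 → ∃ J, chkPBlk P 5 31 18 31671 b J = true := fun b h1 h2 => by
  have hb : b = 1171 := Nat.le_antisymm (Nat.le_of_lt_succ h2) h1
  subst hb; exact ⟨_, lblk_1171⟩
theorem lo_1172_1173 : ∀ b, 1172 ≤ b → b < 1173 → ∃ J, chkPBlk P 5 31 18 31671 b J = true := fun b h1 h2 => by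
  have hb : b = 1172 := Nat.le_antisymm (Nat.le_of_lt_succ h2) h1
  subst hb; exact ⟨_, lblk_1172⟩
theorem lo_1171_1173 : ∀ b, 1171 ≤ b → b < 1173 → ∃ J, chkPBlk P 5 31 18 31671 b J = true := fun b h1 h2 =>
  if h : b < 1172 then lo_1171_1172 b h1 h else lo_1172_1173 b (Nat.le_of_not_lt h) h2
theorem lo_1173_1174 : ∀ b, 1173 ≤ b → b < 1174 → ∃ J, chkPBlk P 5 31 18 31671 b J = true := fun b h1 h2 => by
  have hb : b = 1173 := Nat.le_antisymm (Nat.le_of_lt_succ h2) h1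
  subst hb; exact ⟨_, lblk_1173⟩
theorem lo_1174_1175 : ∀ b, 1174 ≤ b → b < 1175 → ∃ J, chkPBlk P 5 31 18 31671 b J = true := fun b h1 h2 => by
  have hb : b = 1174 := Nat.le_antisymm (Nat.le_of_lt_succ h2) h1
  subst hb; exact ⟨_, lblk_1174⟩
theorem lo_1175_1176 : ∀ b, 1175 ≤ b → b < 1176 → ∃ J, chkPBlk P 5 31 18 31671 b J = true := fun b h1 h2 => by
  have hb : b = 1175 := Nat.le_antisymm (Nat.le_of_lt_succ h2) h1
  subst hb; exact ⟨_, lblk_1175⟩
theorem lo_1174_1176 : ∀ b, 1174 ≤ b → b < 1176 → ∃ J, chkPBlk P 5 31 18 31671 b J = true := fun b h1 h2 =>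
  if h : b < 1175 then lo_1174_1175 b h1 h else lo_1175_1176 b (Nat.le_of_not_lt h) h2
theorem lo_1173_1176 : ∀ b, 1173 ≤ b → b < 1176 → ∃ J, chkPBlk P 5 31 18 31671 b J = true := fun b h1 h2 =>
  if h : b < 1174 then lo_1173_1174 b h1 h else lo_1174_1176 b (Nat.le_of_not_lt h) h2
theorem lo_1171_1176 : ∀ b, 1171 ≤ b → b < 1176 → ∃ J, chkPBlk P 5 31 18 31671 b J = true := fun b h1 h2 =>
  if h : b < 1173 then lo_1171_1173 b h1 h else lo_1173_1176 b (Nat.le_of_not_lt h) h2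
theorem lo_1166_1176 : ∀ b, 1166 ≤ b → b < 1176 → ∃ J, chkPBlk P 5 31 18 31671 b J = true := fun b h1 h2 =>
  if h : b < 1171 then lo_1166_1171 b h1 h else lo_1171_1176 b (Nat.le_of_not_lt h) h2
theorem lo_1157_1176 : ∀ b, 1157 ≤ b → b < 1176 → ∃ J, chkPBlk P 5 31 18 31671 b J = true := fun b h1 h2 =>
  if h : b < 1166 then lo_1157_1166 b h1 h else lo_1166_1176 b (Nat.le_of_not_lt h) h2
theorem lo_1139_1176 : ∀ b, 1139 ≤ b → b < 1176 → ∃ J, chkPBlk P 5 31 18 31671 b J = true := fun b h1 h2 =>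
  if h : b < 1157 then lo_1139_1157 b h1 h else lo_1157_1176 b (Nat.le_of_not_lt h) h2
theorem lo_1102_1176 : ∀ b, 1102 ≤ b → b < 1176 → ∃ J, chkPBlk P 5 31 18 31671 b J = true := fun b h1 h2 =>
  if h : b < 1139 then lo_1102_1139 b h1 h else lo_1139_1176 b (Nat.le_of_not_lt h) h2
theorem lo_1029_1176 : ∀ b, 1029 ≤ b → b < 1176 → ∃ J, chkPBlk P 5 31 18 31671 b J = true := fun b h1 h2 =>
  if h : b < 1102 then lo_1029_1102 b h1 h else lo_1102_1176 b (Nat.le_of_not_lt h) h2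

end Cfsg.Agent.Lib.Helper29.S1689
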