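import Cfsg.Agent.Lib.Helper29.S1689.Data

set_option autoImplicit false
set_option Elab.async false

namespace Cfsg.Agent.Lib.Helper29.S1689

open Cfsg.Agent.Lib.Helper29.TcTrace Cfsg.Agent.Lib.Helper29.TcCert Cfsg.Agent.Lib.Helper29.TcPerm

theorem lblk_1176 : chkPBlk P 5 31 18 31671 1176 0x6428c88190821906410c65 = true := by decide +kernel
theorem lblk_1177 : chkPBlk P 5 31 18 31671 1177 0x10822043290882942219445 = true := by decide +kernel
theorem lblk_1178 : chkPBlk P 5 31 18 31671 1178 0x46314a329081288a321464 = true := by decide +kernel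
theorem lblk_1179 : chkPBlk P 5 31 18 31671 1179 0x46288a328c8628c8228c83 = true := by decide +kernel
theorem lblk_1180 : chkPBlk P 5 31 18 31671 1180 0x8519086298a23144518c81 = true := by decide +kernel
theorem lblk_1181 : chkPBlk P 5 31 18 31671 1181 0xa3210a3211084086431464 = true := by decide +kernel
theorem lblk_1182 : chkPBlk P 5 31 18 31671 1182 0x8842464221094242219443 = true := by decide +kernel
theorem lblk_1183 : chkPBlk P 5 31 18 31671 1183 0x6519088288a32146422109 = true := by decide +kernel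
theorem lblk_1184 : chkPBlk P 5 31 18 31671 1184 0xa4420a1118a1288a331445 = true := by decide +kernel
theorem lblk_1185 : chkPBlk P 5 31 18 31671 1185 0x64291082212231463310c5 = true := by decide +kernel
theorem lblk_1186 : chkPBlk P 5 31 18 31671 1186 0x6422108220433146441488 = true := by decide +kernel
theorem lblk_1187 : chkPBlk P 5 31 18 31671 1187 0x8431422398a228ca321105 = true := by decide +kernel
theorem lblk_1188 : chkPBlk P 5 31 18 31671 1188 0x45191052206522108398a5 = true := by decide +kernel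
theorem lblk_1189 : chkPBlk P 5 31 18 31671 1189 0xa421026288a32146442088 = true := by decide +kernel
theorem lblk_1190 : chkPBlk P 5 31 18 31671 1190 0x642204331464220a3210c5 = true := by decide +kernel
theorem lblk_1191 : chkPBlk P 5 31 18 31671 1191 0x8442101118a219464220c5 = true := by decide +kernel
theorem lblk_1192 : chkPBlk P 5 31 18 31671 1192 0x84410c51146428c84410a3 = true := by decide +kernel
theorem lblk_1193 : chkPBlk P 5 31 18 31671 1193 0x8111cc5098a2198a228ca3 = true := by decide +kernel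
theorem lblk_1194 : chkPBlk P 5 31 18 31671 1194 0x4328c832202739886298a5 = true := by decide +kernel
theorem lblk_1195 : chkPBlk P 5 31 18 31671 1195 0x212884328c8228c6421022 = true := by decide +kernel
theorem lblk_1196 : chkPBlk P 5 31 18 31671 1196 0x10508862190832044628c88 = true := by decide +kernel
theorem lblk_1197 : chkPBlk P 5 31 18 31671 1197 0xa321108314a32110841464 = true := by decide +kernel
theorem lblk_1198 : chkPBlk P 5 31 18 31671 1198 0x64220881902219cc511464 = true := by decide +kernel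
theorem lblk_1199 : chkPBlk P 5 31 18 31671 1199 0xa1104a228c4328c84408a3 = true := by decide +kernel
theorem lblk_1200 : chkPBlk P 5 31 18 31671 1200 0x4328c84414642204319084 = true := by decide +kernel
theorem lblk_1201 : chkPBlk P 5 31 18 31671 1201 0x25118a228ca32142511465 = true := by decide +kernel
theorem lblk_1202 : chkPBlk P 5 31 18 31671 1202 0x64218a7098a6284c511885 = true := by decide +kernel
theorem lblk_1203 : chkPBlk P 5 31 18 31671 1203 0xc6314a519025114e6298a5 = true := by decide +kernel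
theorem lblk_1204 : chkPBlk P 5 31 18 31671 1204 0xa3214a328c8519086214e7 = true := by decide +kernel
theorem lblk_1205 : chkPBlk P 5 31 18 31671 1205 0xa322488424e639cc6214c5 = true := by decide +kernel
theorem lblk_1206 : chkPBlk P 5 31 18 31671 1206 0x842144518c844212442128 = true := by decide +kernel
theorem lblk_1207 : chkPBlk P 5 31 18 31671 1207 0x64190a228c8322045190a3 = true := by decide +kernel
theorem lblk_1208 : chkPBlk P 5 31 18 31671 1208 0xa442088410850944518864 = true := by decide +kernel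
theorem lblk_1209 : chkPBlk P 5 31 18 31671 1209 0x8828c8841445198a322064 = true := by decide +kernel
theorem lblk_1210 : chkPBlk P 5 31 18 31671 1210 0x88210c5094473144519464 = true := by decide +kernel
theorem lblk_1211 : chkPBlk P 5 31 18 31671 1211 0x8228ca322064418c528ca4 = true := by decide +kernel
theorem lblk_1212 : chkPBlk P 5 31 18 31671 1212 0xa20944519445188a328c83 = true := by decide +kernel
theorem lblk_1213 : chkPBlk P 5 31 18 31671 1213 0x1081146431464410a321105 = true := by decide +kernel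
theorem lblk_1214 : chkPBlk P 5 31 18 31671 1214 0x10409445198a21946421464 = true := by decide +kernel
theorem lblk_1215 : chkPBlk P 5 31 18 31671 1215 0x843144328c844110828c88 = true := by decide +kernel
theorem lblk_1216 : chkPBlk P 5 31 18 31671 1216 0x84284a2398a110cc511463 = true := by decide +kernel
theorem lblk_1217 : chkPBlk P 5 31 18 31671 1217 0x8522067398863148940d08 = true := by decide +kernel
theorem lblk_1218 : chkPBlk P 5 31 18 31671 1218 0x103214884110228ca3210a3 = true := by decide +kernel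
theorem lblk_1219 : chkPBlk P 5 31 18 31671 1219 0x88294a228c8628c84420a4 = true := by decide +kernel
theorem lblk_1220 : chkPBlk P 5 31 18 31671 1220 0xa228cc51146428c8428c84 = true := by decide +kernel
theorem lblk_1221 : chkPBlk P 5 31 18 31671 1221 0x12228c8822064418a522081 = true := by decide +kernel
theorem lblk_1222 : chkPBlk P 5 31 18 31671 1222 0xc51908841488190a442108 = true := by decide +kernel
theorem lblk_1223 : chkPBlk P 5 31 18 31671 1223 0x84418a51908842088288a3 = true := by decide +kernel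
theorem lblk_1224 : chkPBlk P 5 31 18 31671 1224 0xa42110431425118a228ca3 = true := by decide +kernel
theorem lblk_1225 : chkPBlk P 5 31 18 31671 1225 0x6431464411051908831486 = true := by decide +kernel
theorem lblk_1226 : chkPBlk P 5 31 18 31671 1226 0x45198a228ca3210c519045 = true := by decide +kernel
theorem lblk_1227 : chkPBlk P 5 31 18 31671 1227 0x106288a328c8420c8841025 = true := by decide +kernel
theorem lblk_1228 : chkPBlk P 5 31 18 31671 1228 0xe6284c511466288a328c84 = true := by decide +kernel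
theorem lblk_1229 : chkPBlk P 5 31 18 31671 1229 0xc4314a44a068410c4284a2 = true := by decide +kernel
theorem lblk_1230 : chkPBlk P 5 31 18 31671 1230 0x25108a331465184a211464 = true := by decide +kernel
theorem lblk_1231 : chkPBlk P 5 31 18 31671 1231 0x8219128214251044218c43 = true := by decide +kernel
theorem lblk_1232 : chkPBlk P 5 31 18 31671 1232 0x8128845198a321101288a3 = true := by decide +kernel
theorem lblk_1233 : chkPBlk P 5 31 18 31671 1233 0x128210a1094421946410c84 = true := by decide +kernel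
theorem lblk_1234 : chkPBlk P 5 31 18 31671 1234 0x64218a5191044210519108 = true := by decide +kernel
theorem lblk_1235 : chkPBlk P 5 31 18 31671 1235 0x8219081288a3398a228c85 = true := by decide +kernel
theorem lblk_1236 : chkPBlk P 5 31 18 31671 1236 0x8821085094412886219464 = true := by decide +kernel
theorem lblk_1237 : chkPBlk P 5 31 18 31671 1237 0x65114651908828c8440864 = true := by decide +kernel
theorem lblk_1238 : chkPBlk P 5 31 18 31671 1238 0x85098a23144519464284a2 = true := by decide +kernel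
theorem lblk_1239 : chkPBlk P 5 31 18 31671 1239 0x108410a4284c5310a131446 = true := by decide +kernel
theorem lblk_1240 : chkPBlk P 5 31 18 31671 1240 0x8629ca621089420694a064 = true := by decide +kernel
theorem lblk_1241 : chkPBlk P 5 31 18 31671 1241 0x832086441103220a629885 = true := by decide +kernel
theorem lblk_1242 : chkPBlk P 5 31 18 31671 1242 0x4518c2218861108a1288a3 = true := by decide +kernel
theorem lblk_1243 : chkPBlk P 5 31 18 31671 1243 0xa328c81114251146511464 = true := by decide +kernel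
theorem lblk_1244 : chkPBlk P 5 31 18 31671 1244 0xa509445194451908320446 = true := by decide +kernel
theorem lblk_1245 : chkPBlk P 5 31 18 31671 1245 0xa331445184a228c41310c5 = true := by decide +kernel
theorem lblk_1246 : chkPBlk P 5 31 18 31671 1246 0xc4298a62886131425118a2 = true := by decide +kernel
theorem lblk_1247 : chkPBlk P 5 31 18 31671 1247 0x8420443398a21946528c66 = true := by decide +kernel
theorem lblk_1248 : chkPBlk P 5 31 18 31671 1248 0x10440445088a228c6510ca3 = true := by decide +kernel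
theorem lblk_1249 : chkPBlk P 5 31 18 31671 1249 0x4519464220642204518c84 = true := by decide +kernel
theorem lblk_1250 : chkPBlk P 5 31 18 31671 1250 0xa13144511465190a128865 = true := by decide +kernel
theorem lblk_1251 : chkPBlk P 5 31 18 31671 1251 0x813144231881314a1288c4 = true := by decide +kernel
theorem lblk_1252 : chkPBlk P 5 31 18 31671 1252 0xc51146428c82198a3210a3 = true := by decide +kernel
theorem lblk_1253 : chkPBlk P 5 31 18 31671 1253 0xa328c85114651908419022 = true := by decide +kernel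
theorem lblk_1254 : chkPBlk P 5 31 18 31671 1254 0xa3210e6284e6284c5118a2 = true := by decide +kernel
theorem lblk_1255 : chkPBlk P 5 31 18 31671 1255 0x4519083204a228c8519046 = true := by decide +kernel
theorem lblk_1256 : chkPBlk P 5 31 18 31671 1256 0xa3218a519466284c511465 = true := by decide +kernel
theorem lblk_1257 : chkPBlk P 5 31 18 31671 1257 0xa3190c510ca32044731443 = true := by decide +kernel
theorem lblk_1258 : chkPBlk P 5 31 18 31671 1258 0x832886519084098a1118a2 = true := by decide +kernel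
theorem lblk_1259 : chkPBlk P 5 31 18 31671 1259 0xa3190c4284a2198a228ca3 = true := by decide +kernel
theorem lblk_1260 : chkPBlk P 5 31 18 31671 1260 0xe6298a111cc4284c5118a2 = true := by decide +kernel
theorem lblk_1261 : chkPBlk P 5 31 18 31671 1261 0x6518c211144319cc7310a1 = true := by decide +kernel
theorem lblk_1262 : chkPBlk P 5 31 18 31671 1262 0xe62886428422288a309442 = true := by decide +kernel
theorem lblk_1263 : chkPBlk P 5 31 18 31671 1263 0x84218a5190220886518861 = true := by decide +kernel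
theorem lblk_1264 : chkPBlk P 5 31 18 31671 1264 0x66288a328c84390c510ca3 = true := by decide +kernel
theorem lblk_1265 : chkPBlk P 5 31 18 31671 1265 0x65190a32086111cc5098a2 = true := by decide +kernel
theorem lblk_1266 : chkPBlk P 5 31 18 31671 1266 0xa131441114451946409442 = true := by decide +kernel
theorem lblk_1267 : chkPBlk P 5 31 18 31671 1267 0x4328c8510ca32044218c61 = true := by decide +kernel
theorem lblk_1268 : chkPBlk P 5 31 18 31671 1268 0x25118a228ca4284a228445 = true := by decide +kernel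
theorem lblk_1269 : chkPBlk P 5 31 18 31671 1269 0xc628c66314a1310a509885 = true := by decide +kernel
theorem lblk_1270 : chkPBlk P 5 31 18 31671 1270 0x64220e6210c5410a328ce7 = true := by decide +kernel
theorem lblk_1271 : chkPBlk P 5 31 18 31671 1271 0x81288431908819088208a3 = true := by decide +kernel
theorem lblk_1272 : chkPBlk P 5 31 18 31671 1272 0x61288a3114640944311468 = true := by decide +kernel
theorem lblk_1273 : chkPBlk P 5 31 18 31671 1273 0xa322508210a12882218862 = true := by decide +kernel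
theorem lblk_1274 : chkPBlk P 5 31 18 31671 1274 0x81288c5114641146628c84 = true := by decide +kernel
theorem lblk_1275 : chkPBlk P 5 31 18 31671 1275 0x26288c511465190a228c84 = true := by decide +kernel
theorem lblk_1276 : chkPBlk P 5 31 18 31671 1276 0x64310c52a5034108509cc5 = true := by decide +kernel
theorem lblk_1277 : chkPBlk P 5 31 18 31671 1277 0xa2288a311461288a228c82 = true := by decide +kernel
theorem lblk_1278 : chkPBlk P 5 31 18 31671 1278 0xc528ca3210a50944509441 = true := by decide +kernel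
theorem lblk_1279 : chkPBlk P 5 31 18 31671 1279 0xa3210251146731445190a3 = true := by decide +kernel
theorem lblk_1280 : chkPBlk P 5 31 18 31671 1280 0x104284a2314223144518ca2 = true := by decide +kernel
theorem lblk_1281 : chkPBlk P 5 31 18 31671 1281 0x223144518c83210a228c84 = true := by decide +kernel
theorem lblk_1282 : chkPBlk P 5 31 18 31671 1282 0xe628447310a13144218cc5 = true := by decide +kernel
theorem lblk_1283 : chkPBlk P 5 31 18 31671 1283 0x651904731d094a068214a1 = true := by decide +kernel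
theorem lblk_1284 : chkPBlk P 5 31 18 31671 1284 0x6628c8428c81288a218c45 = true := by decide +kernel
theorem lblk_1285 : chkPBlk P 5 31 18 31671 1285 0xa228cc5114651908519045 = true := by decide +kernel
theorem lblk_1286 : chkPBlk P 5 31 18 31671 1286 0xa2198a228c6510ca319081 = true := by decide +kernel
theorem lblk_1287 : chkPBlk P 5 31 18 31671 1287 0xa320c82190a821425118a1 = true := by decide +kernel
theorem lblk_1288 : chkPBlk P 5 31 18 31671 1288 0x8428c8228cc519084404a2 = true := by decide +kernel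
theorem lblk_1289 : chkPBlk P 5 31 18 31671 1289 0x651908419081288c510ca3 = true := by decide +kernel
theorem lblk_1290 : chkPBlk P 5 31 18 31671 1290 0xc5098a23144519464218a2 = true := by decide +kernel
theorem lblk_1291 : chkPBlk P 5 31 18 31671 1291 0x8629465190c831528210a1 = true := by decide +kernel
theorem lblk_1292 : chkPBlk P 5 31 18 31671 1292 0xa228c251146731445190a3 = true := by decide +kernel
theorem lblk_1293 : chkPBlk P 5 31 18 31671 1293 0x8509446284a23144519466 = true := by decide +kernel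
theorem lblk_1294 : chkPBlk P 5 31 18 31671 1294 0xa131446288a328c6219088 = true := by decide +kernel
theorem lblk_1295 : chkPBlk P 5 31 18 31671 1295 0x47310a131446288a328c86 = true := by decide +kernel
theorem lblk_1296 : chkPBlk P 5 31 18 31671 1296 0x1284a508214a1398a621425 = true := by decide +kernel
theorem lblk_1297 : chkPBlk P 5 31 18 31671 1297 0x21288c5114a109445198c4 = true := by decide +kernel
theorem lblk_1298 : chkPBlk P 5 31 18 31671 1298 0xa308869410a50842210445 = true := by decide +kernel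
theorem lblk_1299 : chkPBlk P 5 31 18 31671 1299 0x85084a2398a228c64284a2 = true := by decide +kernel
theorem lblk_1300 : chkPBlk P 5 31 18 31671 1300 0x10821485084451146110c68 = true := by decide +kernel
theorem lblk_1301 : chkPBlk P 5 31 18 31671 1301 0xc51146428c84218a519089 = true := by decide +kernel
theorem lblk_1302 : chkPBlk P 5 31 18 31671 1302 0xc5098a228cc51146519cc4 = true := by decide +kernel
theorem lblk_1303 : chkPBlk P 5 31 18 31671 1303 0x22288a31844328c8509447 = true := by decide +kernel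
theorem lblk_1304 : chkPBlk P 5 31 18 31671 1304 0x8110c6940d082148509422 = true := by decide +kernel
theorem lblk_1305 : chkPBlk P 5 31 18 31671 1305 0x22214251144518c8510ca3 = true := by decide +kernel
theorem lblk_1306 : chkPBlk P 5 31 18 31671 1306 0xc4284c4284c5118a228ca5 = true := by decide +kernel
theorem lblk_1307 : chkPBlk P 5 31 18 31671 1307 0x10322085320c4298a131885 = true := by decide +kernel
theorem lblk_1308 : chkPBlk P 5 31 18 31671 1308 0x66290a342488125081a529 = true := by decide +kernel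
theorem lblk_1309 : chkPBlk P 5 31 18 31671 1309 0x4109425114621844320c82 = true := by decide +kernel
theorem lblk_1310 : chkPBlk P 5 31 18 31671 1310 0xa50944509445184a210441 = true := by decide +kernel
theorem lblk_1311 : chkPBlk P 5 31 18 31671 1311 0x251146310c273144629461 = true := by decide +kernel
theorem lblk_1312 : chkPBlk P 5 31 18 31671 1312 0xc511425104c62148509445 = true := by decide +kernel
theorem lblk_1313 : chkPBlk P 5 31 18 31671 1313 0xc4310a62942621425118a1 = true := by decide +kernel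
theorem lblk_1314 : chkPBlk P 5 31 18 31671 1314 0x6328c22398a1118a221446 = true := by decide +kernel
theorem lblk_1315 : chkPBlk P 5 31 18 31671 1315 0x83204a121425108a111445 = true := by decide +kernel
theorem lblk_1316 : chkPBlk P 5 31 18 31671 1316 0xa228c6410ca3204a210ca3 = true := by decide +kernel
theorem lblk_1317 : chkPBlk P 5 31 18 31671 1317 0x24284a2288a329422284a2 = true := by decide +kernel
theorem lblk_1318 : chkPBlk P 5 31 18 31671 1318 0xc5084a8318a5098c429885 = true := by decide +kernel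
theorem lblk_1319 : chkPBlk P 5 31 18 31671 1319 0xa228ca228c223144328ca3 = true := by decide +kernel
theorem lblk_1320 : chkPBlk P 5 31 18 31671 1320 0xa1288a228ca31886131426 = true := by decide +kernel
theorem lblk_1321 : chkPBlk P 5 31 18 31671 1321 0xe6298a1398a131446288a3 = true := by decide +kernel
theorem lblk_1322 : chkPBlk P 5 31 18 31671 1322 0x251146511461398a228c67 = true := by decide +kernel
theorem lo_1176_1177 : ∀ b, 1176 ≤ b → b < 1177 → ∃ J, chkPBlk P 5 31 18 31671 b J = true := fun b h1 h2 => by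
  have hb : b = 1176 := Nat.le_antisymm (Nat.le_of_lt_succ h2) h1
  subst hb; exact ⟨_, lblk_1176⟩
theorem lo_1177_1178 : ∀ b, 1177 ≤ b → b < 1178 → ∃ J, chkPBlk P 5 31 18 31671 b J = true := fun b h1 h2 => by
  have hb : b = 1177 := Nat.le_antisymm (Nat.le_of_lt_succ h2) h1
  subst hb; exact ⟨_, lblk_1177⟩
theorem lo_1176_1178 : ∀ b, 1176 ≤ b → b < 1178 → ∃ J, chkPBlk P 5 31 18 31671 b J = true := fun b h1 h2 =>
  if h : b < 1177 then lo_1176_1177 b h1 h else lo_1177_1178 b (Nat.le_of_not_lt h) h2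
theorem lo_1178_1179 : ∀ b, 1178 ≤ b → b < 1179 → ∃ J, chkPBlk P 5 31 18 31671 b J = true := fun b h1 h2 => by
  have hb : b = 1178 := Nat.le_antisymm (Nat.le_of_lt_succ h2) h1
  subst hb; exact ⟨_, lblk_1178⟩
theorem lo_1179_1180 : ∀ b, 1179 ≤ b → b < 1180 → ∃ J, chkPBlk P 5 31 18 31671 b J = true := fun b h1 h2 => by
  have hb : b = 1179 := Nat.le_antisymm (Nat.le_of_lt_succ h2) h1
  subst hb; exact ⟨_, lblk_1179⟩
theorem lo_1178_1180 : ∀ b, 1178 ≤ b → b < 1180 → ∃ J, chkPBlk P 5 31 18 31671 b J = true := fun b h1 h2 =>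
  if h : b < 1179 then lo_1178_1179 b h1 h else lo_1179_1180 b (Nat.le_of_not_lt h) h2
theorem lo_1176_1180 : ∀ b, 1176 ≤ b → b < 1180 → ∃ J, chkPBlk P 5 31 18 31671 b J = true := fun b h1 h2 =>
  if h : b < 1178 then lo_1176_1178 b h1 h else lo_1178_1180 b (Nat.le_of_not_lt h) h2
theorem lo_1180_1181 : ∀ b, 1180 ≤ b → b < 1181 → ∃ J, chkPBlk P 5 31 18 31671 b J = true := fun b h1 h2 => by
  have hb : b = 1180 := Nat.le_antisymm (Nat.le_of_lt_succ h2) h1
  subst hb; exact ⟨_, lblk_1180⟩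
theorem lo_1181_1182 : ∀ b, 1181 ≤ b → b < 1182 → ∃ J, chkPBlk P 5 31 18 31671 b J = true := fun b h1 h2 => by
  have hb : b = 1181 := Nat.le_antisymm (Nat.le_of_lt_succ h2) h1
  subst hb; exact ⟨_, lblk_1181⟩
theorem lo_1180_1182 : ∀ b, 1180 ≤ b → b < 1182 → ∃ J, chkPBlk P 5 31 18 31671 b J = true := fun b h1 h2 =>
  if h : b < 1181 then lo_1180_1181 b h1 h else lo_1181_1182 b (Nat.le_of_not_lt h) h2
theorem lo_1182_1183 : ∀ b, 1182 ≤ b → b < 1183 → ∃ J, chkPBlk P 5 31 18 31671 b J = true := fun b h1 h2 => by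
  have hb : b = 1182 := Nat.le_antisymm (Nat.le_of_lt_succ h2) h1
  subst hb; exact ⟨_, lblk_1182⟩
theorem lo_1183_1184 : ∀ b, 1183 ≤ b → b < 1184 → ∃ J, chkPBlk P 5 31 18 31671 b J = true := fun b h1 h2 => by
  have hb : b = 1183 := Nat.le_antisymm (Nat.le_of_lt_succ h2) h1
  subst hb; exact ⟨_, lblk_1183⟩
theorem lo_1184_1185 : ∀ b, 1184 ≤ b → b < 1185 → ∃ J, chkPBlk P 5 31 18 31671 b J = true := fun b h1 h2 => by
  have hb : b = 1184 := Nat.le_antisymm (Nat.le_of_lt_succ h2) h1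
  subst hb; exact ⟨_, lblk_1184⟩
theorem lo_1183_1185 : ∀ b, 1183 ≤ b → b < 1185 → ∃ J, chkPBlk P 5 31 18 31671 b J = true := fun b h1 h2 =>
  if h : b < 1184 then lo_1183_1184 b h1 h else lo_1184_1185 b (Nat.le_of_not_lt h) h2
theorem lo_1182_1185 : ∀ b, 1182 ≤ b → b < 1185 → ∃ J, chkPBlk P 5 31 18 31671 b J = true := fun b h1 h2 =>
  if h : b < 1183 then lo_1182_1183 b h1 h else lo_1183_1185 b (Nat.le_of_not_lt h) h2
theorem lo_1180_1185 : ∀ b, 1180 ≤ b → b < 1185 → ∃ J, chkPBlk P 5 31 18 31671 b J = true := fun b h1 h2 =>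
  if h : b < 1182 then lo_1180_1182 b h1 h else lo_1182_1185 b (Nat.le_of_not_lt h) h2
theorem lo_1176_1185 : ∀ b, 1176 ≤ b → b < 1185 → ∃ J, chkPBlk P 5 31 18 31671 b J = true := fun b h1 h2 =>
  if h : b < 1180 then lo_1176_1180 b h1 h else lo_1180_1185 b (Nat.le_of_not_lt h) h2
theorem lo_1185_1186 : ∀ b, 1185 ≤ b → b < 1186 → ∃ J, chkPBlk P 5 31 18 31671 b J = true := fun b h1 h2 => by
  have hb : b = 1185 := Nat.le_antisymm (Nat.le_of_lt_succ h2) h1
  subst hb; exact ⟨_, lblk_1185⟩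
theorem lo_1186_1187 : ∀ b, 1186 ≤ b → b < 1187 → ∃ J, chkPBlk P 5 31 18 31671 b J = true := fun b h1 h2 => by
  have hb : b = 1186 := Nat.le_antisymm (Nat.le_of_lt_succ h2) h1
  subst hb; exact ⟨_, lblk_1186⟩
theorem lo_1185_1187 : ∀ b, 1185 ≤ b → b < 1187 → ∃ J, chkPBlk P 5 31 18 31671 b J = true := fun b h1 h2 =>
  if h : b < 1186 then lo_1185_1186 b h1 h else lo_1186_1187 b (Nat.le_of_not_lt h) h2
theorem lo_1187_1188 : ∀ b, 1187 ≤ b → b < 1188 → ∃ J, chkPBlk P 5 31 18 31671 b J = true := fun b h1 h2 => by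
  have hb : b = 1187 := Nat.le_antisymm (Nat.le_of_lt_succ h2) h1
  subst hb; exact ⟨_, lblk_1187⟩
theorem lo_1188_1189 : ∀ b, 1188 ≤ b → b < 1189 → ∃ J, chkPBlk P 5 31 18 31671 b J = true := fun b h1 h2 => by
  have hb : b = 1188 := Nat.le_antisymm (Nat.le_of_lt_succ h2) h1
  subst hb; exact ⟨_, lblk_1188⟩
theorem lo_1187_1189 : ∀ b, 1187 ≤ b → b < 1189 → ∃ J, chkPBlk P 5 31 18 31671 b J = true := fun b h1 h2 =>
  if h : b < 1188 then lo_1187_1188 b h1 h else lo_1188_1189 b (Nat.le_of_not_lt h) h2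
theorem lo_1185_1189 : ∀ b, 1185 ≤ b → b < 1189 → ∃ J, chkPBlk P 5 31 18 31671 b J = true := fun b h1 h2 =>
  if h : b < 1187 then lo_1185_1187 b h1 h else lo_1187_1189 b (Nat.le_of_not_lt h) h2
theorem lo_1189_1190 : ∀ b, 1189 ≤ b → b < 1190 → ∃ J, chkPBlk P 5 31 18 31671 b J = true := fun b h1 h2 => by
  have hb : b = 1189 := Nat.le_antisymm (Nat.le_of_lt_succ h2) h1
  subst hb; exact ⟨_, lblk_1189⟩
theorem lo_1190_1191 : ∀ b, 1190 ≤ b → b < 1191 → ∃ J, chkPBlk P 5 31 18 31671 b J = true := fun b h1 h2 => by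
  have hb : b = 1190 := Nat.le_antisymm (Nat.le_of_lt_succ h2) h1
  subst hb; exact ⟨_, lblk_1190⟩
theorem lo_1189_1191 : ∀ b, 1189 ≤ b → b < 1191 → ∃ J, chkPBlk P 5 31 18 31671 b J = true := fun b h1 h2 =>
  if h : b < 1190 then lo_1189_1190 b h1 h else lo_1190_1191 b (Nat.le_of_not_lt h) h2
theorem lo_1191_1192 : ∀ b, 1191 ≤ b → b < 1192 → ∃ J, chkPBlk P 5 31 18 31671 b J = true := fun b h1 h2 => by
  have hb : b = 1191 := Nat.le_antisymm (Nat.le_of_lt_succ h2) h1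
  subst hb; exact ⟨_, lblk_1191⟩
theorem lo_1192_1193 : ∀ b, 1192 ≤ b → b < 1193 → ∃ J, chkPBlk P 5 31 18 31671 b J = true := fun b h1 h2 => by
  have hb : b = 1192 := Nat.le_antisymm (Nat.le_of_lt_succ h2) h1
  subst hb; exact ⟨_, lblk_1192⟩
theorem lo_1193_1194 : ∀ b, 1193 ≤ b → b < 1194 → ∃ J, chkPBlk P 5 31 18 31671 b J = true := fun b h1 h2 => by
  have hb : b = 1193 := Nat.le_antisymm (Nat.le_of_lt_succ h2) h1
  subst hb; exact ⟨_, lblk_1193⟩
theorem lo_1192_1194 : ∀ b, 1192 ≤ b → b < 1194 → ∃ J, chkPBlk P 5 31 18 31671 b J = true := fun b h1 h2 =>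
  if h : b < 1193 then lo_1192_1193 b h1 h else lo_1193_1194 b (Nat.le_of_not_lt h) h2
theorem lo_1191_1194 : ∀ b, 1191 ≤ b → b < 1194 → ∃ J, chkPBlk P 5 31 18 31671 b J = true := fun b h1 h2 =>
  if h : b < 1192 then lo_1191_1192 b h1 h else lo_1192_1194 b (Nat.le_of_not_lt h) h2
theorem lo_1189_1194 : ∀ b, 1189 ≤ b → b < 1194 → ∃ J, chkPBlk P 5 31 18 31671 b J = true := fun b h1 h2 =>
  if h : b < 1191 then lo_1189_1191 b h1 h else lo_1191_1194 b (Nat.le_of_not_lt h) h2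
theorem lo_1185_1194 : ∀ b, 1185 ≤ b → b < 1194 → ∃ J, chkPBlk P 5 31 18 31671 b J = true := fun b h1 h2 =>
  if h : b < 1189 then lo_1185_1189 b h1 h else lo_1189_1194 b (Nat.le_of_not_lt h) h2
theorem lo_1176_1194 : ∀ b, 1176 ≤ b → b < 1194 → ∃ J, chkPBlk P 5 31 18 31671 b J = true := fun b h1 h2 =>
  if h : b < 1185 then lo_1176_1185 b h1 h else lo_1185_1194 b (Nat.le_of_not_lt h) h2
theorem lo_1194_1195 : ∀ b, 1194 ≤ b → b < 1195 → ∃ J, chkPBlk P 5 31 18 31671 b J = true := fun b h1 h2 => by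
  have hb : b = 1194 := Nat.le_antisymm (Nat.le_of_lt_succ h2) h1
  subst hb; exact ⟨_, lblk_1194⟩
theorem lo_1195_1196 : ∀ b, 1195 ≤ b → b < 1196 → ∃ J, chkPBlk P 5 31 18 31671 b J = true := fun b h1 h2 => by
  have hb : b = 1195 := Nat.le_antisymm (Nat.le_of_lt_succ h2) h1
  subst hb; exact ⟨_, lblk_1195⟩
theorem lo_1194_1196 : ∀ b, 1194 ≤ b → b < 1196 → ∃ J, chkPBlk P 5 31 18 31671 b J = true := fun b h1 h2 =>
  if h : b < 1195 then lo_1194_1195 b h1 h else lo_1195_1196 b (Nat.le_of_not_lt h) h2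
theorem lo_1196_1197 : ∀ b, 1196 ≤ b → b < 1197 → ∃ J, chkPBlk P 5 31 18 31671 b J = true := fun b h1 h2 => by
  have hb : b = 1196 := Nat.le_antisymm (Nat.le_of_lt_succ h2) h1
  subst hb; exact ⟨_, lblk_1196⟩
theorem lo_1197_1198 : ∀ b, 1197 ≤ b → b < 1198 → ∃ J, chkPBlk P 5 31 18 31671 b J = true := fun b h1 h2 => by
  have hb : b = 1197 := Nat.le_antisymm (Nat.le_of_lt_succ h2) h1
  subst hb; exact ⟨_, lblk_1197⟩
theorem lo_1196_1198 : ∀ b, 1196 ≤ b → b < 1198 → ∃ J, chkPBlk P 5 31 18 31671 b J = true := fun b h1 h2 =>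
  if h : b < 1197 then lo_1196_1197 b h1 h else lo_1197_1198 b (Nat.le_of_not_lt h) h2
theorem lo_1194_1198 : ∀ b, 1194 ≤ b → b < 1198 → ∃ J, chkPBlk P 5 31 18 31671 b J = true := fun b h1 h2 =>
  if h : b < 1196 then lo_1194_1196 b h1 h else lo_1196_1198 b (Nat.le_of_not_lt h) h2
theorem lo_1198_1199 : ∀ b, 1198 ≤ b → b < 1199 → ∃ J, chkPBlk P 5 31 18 31671 b J = true := fun b h1 h2 => by
  have hb : b = 1198 := Nat.le_antisymm (Nat.le_of_lt_succ h2) h1
  subst hb; exact ⟨_, lblk_1198⟩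
theorem lo_1199_1200 : ∀ b, 1199 ≤ b → b < 1200 → ∃ J, chkPBlk P 5 31 18 31671 b J = true := fun b h1 h2 => by
  have hb : b = 1199 := Nat.le_antisymm (Nat.le_of_lt_succ h2) h1
  subst hb; exact ⟨_, lblk_1199⟩
theorem lo_1198_1200 : ∀ b, 1198 ≤ b → b < 1200 → ∃ J, chkPBlk P 5 31 18 31671 b J = true := fun b h1 h2 =>
  if h : b < 1199 then lo_1198_1199 b h1 h else lo_1199_1200 b (Nat.le_of_not_lt h) h2
theorem lo_1200_1201 : ∀ b, 1200 ≤ b → b < 1201 → ∃ J, chkPBlk P 5 31 18 31671 b J = true := fun b h1 h2 => by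
  have hb : b = 1200 := Nat.le_antisymm (Nat.le_of_lt_succ h2) h1
  subst hb; exact ⟨_, lblk_1200⟩
theorem lo_1201_1202 : ∀ b, 1201 ≤ b → b < 1202 → ∃ J, chkPBlk P 5 31 18 31671 b J = true := fun b h1 h2 => by
  have hb : b = 1201 := Nat.le_antisymm (Nat.le_of_lt_succ h2) h1
  subst hb; exact ⟨_, lblk_1201⟩
theorem lo_1202_1203 : ∀ b, 1202 ≤ b → b < 1203 → ∃ J, chkPBlk P 5 31 18 31671 b J = true := fun b h1 h2 => by
  have hb : b = 1202 := Nat.le_antisymm (Nat.le_of_lt_succ h2) h1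
  subst hb; exact ⟨_, lblk_1202⟩
theorem lo_1201_1203 : ∀ b, 1201 ≤ b → b < 1203 → ∃ J, chkPBlk P 5 31 18 31671 b J = true := fun b h1 h2 =>
  if h : b < 1202 then lo_1201_1202 b h1 h else lo_1202_1203 b (Nat.le_of_not_lt h) h2
theorem lo_1200_1203 : ∀ b, 1200 ≤ b → b < 1203 → ∃ J, chkPBlk P 5 31 18 31671 b J = true := fun b h1 h2 =>
  if h : b < 1201 then lo_1200_1201 b h1 h else lo_1201_1203 b (Nat.le_of_not_lt h) h2
theorem lo_1198_1203 : ∀ b, 1198 ≤ b → b < 1203 → ∃ J, chkPBlk P 5 31 18 31671 b J = true := fun b h1 h2 =>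
  if h : b < 1200 then lo_1198_1200 b h1 h else lo_1200_1203 b (Nat.le_of_not_lt h) h2
theorem lo_1194_1203 : ∀ b, 1194 ≤ b → b < 1203 → ∃ J, chkPBlk P 5 31 18 31671 b J = true := fun b h1 h2 =>
  if h : b < 1198 then lo_1194_1198 b h1 h else lo_1198_1203 b (Nat.le_of_not_lt h) h2
theorem lo_1203_1204 : ∀ b, 1203 ≤ b → b < 1204 → ∃ J, chkPBlk P 5 31 18 31671 b J = true := fun b h1 h2 => by
  have hb : b = 1203 := Nat.le_antisymm (Nat.le_of_lt_succ h2) h1
  subst hb; exact ⟨_, lblk_1203⟩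
theorem lo_1204_1205 : ∀ b, 1204 ≤ b → b < 1205 → ∃ J, chkPBlk P 5 31 18 31671 b J = true := fun b h1 h2 => by
  have hb : b = 1204 := Nat.le_antisymm (Nat.le_of_lt_succ h2) h1
  subst hb; exact ⟨_, lblk_1204⟩
theorem lo_1203_1205 : ∀ b, 1203 ≤ b → b < 1205 → ∃ J, chkPBlk P 5 31 18 31671 b J = true := fun b h1 h2 =>
  if h : b < 1204 then lo_1203_1204 b h1 h else lo_1204_1205 b (Nat.le_of_not_lt h) h2
theorem lo_1205_1206 : ∀ b, 1205 ≤ b → b < 1206 → ∃ J, chkPBlk P 5 31 18 31671 b J = true := fun b h1 h2 => by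
  have hb : b = 1205 := Nat.le_antisymm (Nat.le_of_lt_succ h2) h1
  subst hb; exact ⟨_, lblk_1205⟩
theorem lo_1206_1207 : ∀ b, 1206 ≤ b → b < 1207 → ∃ J, chkPBlk P 5 31 18 31671 b J = true := fun b h1 h2 => by
  have hb : b = 1206 := Nat.le_antisymm (Nat.le_of_lt_succ h2) h1
  subst hb; exact ⟨_, lblk_1206⟩
theorem lo_1205_1207 : ∀ b, 1205 ≤ b → b < 1207 → ∃ J, chkPBlk P 5 31 18 31671 b J = true := fun b h1 h2 =>
  if h : b < 1206 then lo_1205_1206 b h1 h else lo_1206_1207 b (Nat.le_of_not_lt h) h2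
theorem lo_1203_1207 : ∀ b, 1203 ≤ b → b < 1207 → ∃ J, chkPBlk P 5 31 18 31671 b J = true := fun b h1 h2 =>
  if h : b < 1205 then lo_1203_1205 b h1 h else lo_1205_1207 b (Nat.le_of_not_lt h) h2
theorem lo_1207_1208 : ∀ b, 1207 ≤ b → b < 1208 → ∃ J, chkPBlk P 5 31 18 31671 b J = true := fun b h1 h2 => by
  have hb : b = 1207 := Nat.le_antisymm (Nat.le_of_lt_succ h2) h1
  subst hb; exact ⟨_, lblk_1207⟩
theorem lo_1208_1209 : ∀ b, 1208 ≤ b → b < 1209 → ∃ J, chkPBlk P 5 31 18 31671 b J = true := fun b h1 h2 => by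
  have hb : b = 1208 := Nat.le_antisymm (Nat.le_of_lt_succ h2) h1
  subst hb; exact ⟨_, lblk_1208⟩
theorem lo_1207_1209 : ∀ b, 1207 ≤ b → b < 1209 → ∃ J, chkPBlk P 5 31 18 31671 b J = true := fun b h1 h2 =>
  if h : b < 1208 then lo_1207_1208 b h1 h else lo_1208_1209 b (Nat.le_of_not_lt h) h2
theorem lo_1209_1210 : ∀ b, 1209 ≤ b → b < 1210 → ∃ J, chkPBlk P 5 31 18 31671 b J = true := fun b h1 h2 => by
  have hb : b = 1209 := Nat.le_antisymm (Nat.le_of_lt_succ h2) h1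
  subst hb; exact ⟨_, lblk_1209⟩
theorem lo_1210_1211 : ∀ b, 1210 ≤ b → b < 1211 → ∃ J, chkPBlk P 5 31 18 31671 b J = true := fun b h1 h2 => by
  have hb : b = 1210 := Nat.le_antisymm (Nat.le_of_lt_succ h2) h1
  subst hb; exact ⟨_, lblk_1210⟩
theorem lo_1211_1212 : ∀ b, 1211 ≤ b → b < 1212 → ∃ J, chkPBlk P 5 31 18 31671 b J = true := fun b h1 h2 => by
  have hb : b = 1211 := Nat.le_antisymm (Nat.le_of_lt_succ h2) h1
  subst hb; exact ⟨_, lblk_1211⟩
theorem lo_1210_1212 : ∀ b, 1210 ≤ b → b < 1212 → ∃ J, chkPBlk P 5 31 18 31671 b J = true := fun b h1 h2 =>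
  if h : b < 1211 then lo_1210_1211 b h1 h else lo_1211_1212 b (Nat.le_of_not_lt h) h2
theorem lo_1209_1212 : ∀ b, 1209 ≤ b → b < 1212 → ∃ J, chkPBlk P 5 31 18 31671 b J = true := fun b h1 h2 =>
  if h : b < 1210 then lo_1209_1210 b h1 h else lo_1210_1212 b (Nat.le_of_not_lt h) h2
theorem lo_1207_1212 : ∀ b, 1207 ≤ b → b < 1212 → ∃ J, chkPBlk P 5 31 18 31671 b J = true := fun b h1 h2 =>
  if h : b < 1209 then lo_1207_1209 b h1 h else lo_1209_1212 b (Nat.le_of_not_lt h) h2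
theorem lo_1203_1212 : ∀ b, 1203 ≤ b → b < 1212 → ∃ J, chkPBlk P 5 31 18 31671 b J = true := fun b h1 h2 =>
  if h : b < 1207 then lo_1203_1207 b h1 h else lo_1207_1212 b (Nat.le_of_not_lt h) h2
theorem lo_1194_1212 : ∀ b, 1194 ≤ b → b < 1212 → ∃ J, chkPBlk P 5 31 18 31671 b J = true := fun b h1 h2 =>
  if h : b < 1203 then lo_1194_1203 b h1 h else lo_1203_1212 b (Nat.le_of_not_lt h) h2
theorem lo_1176_1212 : ∀ b, 1176 ≤ b → b < 1212 → ∃ J, chkPBlk P 5 31 18 31671 b J = true := fun b h1 h2 =>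
  if h : b < 1194 then lo_1176_1194 b h1 h else lo_1194_1212 b (Nat.le_of_not_lt h) h2
theorem lo_1212_1213 : ∀ b, 1212 ≤ b → b < 1213 → ∃ J, chkPBlk P 5 31 18 31671 b J = true := fun b h1 h2 => by
  have hb : b = 1212 := Nat.le_antisymm (Nat.le_of_lt_succ h2) h1
  subst hb; exact ⟨_, lblk_1212⟩
theorem lo_1213_1214 : ∀ b, 1213 ≤ b → b < 1214 → ∃ J, chkPBlk P 5 31 18 31671 b J = true := fun b h1 h2 => by
  have hb : b = 1213 := Nat.le_antisymm (Nat.le_of_lt_succ h2) h1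
  subst hb; exact ⟨_, lblk_1213⟩
theorem lo_1212_1214 : ∀ b, 1212 ≤ b → b < 1214 → ∃ J, chkPBlk P 5 31 18 31671 b J = true := fun b h1 h2 =>
  if h : b < 1213 then lo_1212_1213 b h1 h else lo_1213_1214 b (Nat.le_of_not_lt h) h2
theorem lo_1214_1215 : ∀ b, 1214 ≤ b → b < 1215 → ∃ J, chkPBlk P 5 31 18 31671 b J = true := fun b h1 h2 => by
  have hb : b = 1214 := Nat.le_antisymm (Nat.le_of_lt_succ h2) h1
  subst hb; exact ⟨_, lblk_1214⟩
theorem lo_1215_1216 : ∀ b, 1215 ≤ b → b < 1216 → ∃ J, chkPBlk P 5 31 18 31671 b J = true := fun b h1 h2 => by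
  have hb : b = 1215 := Nat.le_antisymm (Nat.le_of_lt_succ h2) h1
  subst hb; exact ⟨_, lblk_1215⟩
theorem lo_1214_1216 : ∀ b, 1214 ≤ b → b < 1216 → ∃ J, chkPBlk P 5 31 18 31671 b J = true := fun b h1 h2 =>
  if h : b < 1215 then lo_1214_1215 b h1 h else lo_1215_1216 b (Nat.le_of_not_lt h) h2
theorem lo_1212_1216 : ∀ b, 1212 ≤ b → b < 1216 → ∃ J, chkPBlk P 5 31 18 31671 b J = true := fun b h1 h2 =>
  if h : b < 1214 then lo_1212_1214 b h1 h else lo_1214_1216 b (Nat.le_of_not_lt h) h2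
theorem lo_1216_1217 : ∀ b, 1216 ≤ b → b < 1217 → ∃ J, chkPBlk P 5 31 18 31671 b J = true := fun b h1 h2 => by
  have hb : b = 1216 := Nat.le_antisymm (Nat.le_of_lt_succ h2) h1
  subst hb; exact ⟨_, lblk_1216⟩
theorem lo_1217_1218 : ∀ b, 1217 ≤ b → b < 1218 → ∃ J, chkPBlk P 5 31 18 31671 b J = true := fun b h1 h2 => by
  have hb : b = 1217 := Nat.le_antisymm (Nat.le_of_lt_succ h2) h1
  subst hb; exact ⟨_, lblk_1217⟩
theorem lo_1216_1218 : ∀ b, 1216 ≤ b → b < 1218 → ∃ J, chkPBlk P 5 31 18 31671 b J = true := fun b h1 h2 =>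
  if h : b < 1217 then lo_1216_1217 b h1 h else lo_1217_1218 b (Nat.le_of_not_lt h) h2
theorem lo_1218_1219 : ∀ b, 1218 ≤ b → b < 1219 → ∃ J, chkPBlk P 5 31 18 31671 b J = true := fun b h1 h2 => by
  have hb : b = 1218 := Nat.le_antisymm (Nat.le_of_lt_succ h2) h1
  subst hb; exact ⟨_, lblk_1218⟩
theorem lo_1219_1220 : ∀ b, 1219 ≤ b → b < 1220 → ∃ J, chkPBlk P 5 31 18 31671 b J = true := fun b h1 h2 => by
  have hb : b = 1219 := Nat.le_antisymm (Nat.le_of_lt_succ h2) h1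
  subst hb; exact ⟨_, lblk_1219⟩
theorem lo_1220_1221 : ∀ b, 1220 ≤ b → b < 1221 → ∃ J, chkPBlk P 5 31 18 31671 b J = true := fun b h1 h2 => by
  have hb : b = 1220 := Nat.le_antisymm (Nat.le_of_lt_succ h2) h1
  subst hb; exact ⟨_, lblk_1220⟩
theorem lo_1219_1221 : ∀ b, 1219 ≤ b → b < 1221 → ∃ J, chkPBlk P 5 31 18 31671 b J = true := fun b h1 h2 =>
  if h : b < 1220 then lo_1219_1220 b h1 h else lo_1220_1221 b (Nat.le_of_not_lt h) h2
theorem lo_1218_1221 : ∀ b, 1218 ≤ b → b < 1221 → ∃ J, chkPBlk P 5 31 18 31671 b J = true := fun b h1 h2 =>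
  if h : b < 1219 then lo_1218_1219 b h1 h else lo_1219_1221 b (Nat.le_of_not_lt h) h2
theorem lo_1216_1221 : ∀ b, 1216 ≤ b → b < 1221 → ∃ J, chkPBlk P 5 31 18 31671 b J = true := fun b h1 h2 =>
  if h : b < 1218 then lo_1216_1218 b h1 h else lo_1218_1221 b (Nat.le_of_not_lt h) h2
theorem lo_1212_1221 : ∀ b, 1212 ≤ b → b < 1221 → ∃ J, chkPBlk P 5 31 18 31671 b J = true := fun b h1 h2 =>
  if h : b < 1216 then lo_1212_1216 b h1 h else lo_1216_1221 b (Nat.le_of_not_lt h) h2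
theorem lo_1221_1222 : ∀ b, 1221 ≤ b → b < 1222 → ∃ J, chkPBlk P 5 31 18 31671 b J = true := fun b h1 h2 => by
  have hb : b = 1221 := Nat.le_antisymm (Nat.le_of_lt_succ h2) h1
  subst hb; exact ⟨_, lblk_1221⟩
theorem lo_1222_1223 : ∀ b, 1222 ≤ b → b < 1223 → ∃ J, chkPBlk P 5 31 18 31671 b J = true := fun b h1 h2 => by
  have hb : b = 1222 := Nat.le_antisymm (Nat.le_of_lt_succ h2) h1
  subst hb; exact ⟨_, lblk_1222⟩
theorem lo_1221_1223 : ∀ b, 1221 ≤ b → b < 1223 → ∃ J, chkPBlk P 5 31 18 31671 b J = true := fun b h1 h2 =>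
  if h : b < 1222 then lo_1221_1222 b h1 h else lo_1222_1223 b (Nat.le_of_not_lt h) h2
theorem lo_1223_1224 : ∀ b, 1223 ≤ b → b < 1224 → ∃ J, chkPBlk P 5 31 18 31671 b J = true := fun b h1 h2 => by
  have hb : b = 1223 := Nat.le_antisymm (Nat.le_of_lt_succ h2) h1
  subst hb; exact ⟨_, lblk_1223⟩
theorem lo_1224_1225 : ∀ b, 1224 ≤ b → b < 1225 → ∃ J, chkPBlk P 5 31 18 31671 b J = true := fun b h1 h2 => by
  have hb : b = 1224 := Nat.le_antisymm (Nat.le_of_lt_succ h2) h1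
  subst hb; exact ⟨_, lblk_1224⟩
theorem lo_1223_1225 : ∀ b, 1223 ≤ b → b < 1225 → ∃ J, chkPBlk P 5 31 18 31671 b J = true := fun b h1 h2 =>
  if h : b < 1224 then lo_1223_1224 b h1 h else lo_1224_1225 b (Nat.le_of_not_lt h) h2
theorem lo_1221_1225 : ∀ b, 1221 ≤ b → b < 1225 → ∃ J, chkPBlk P 5 31 18 31671 b J = true := fun b h1 h2 =>
  if h : b < 1223 then lo_1221_1223 b h1 h else lo_1223_1225 b (Nat.le_of_not_lt h) h2
theorem lo_1225_1226 : ∀ b, 1225 ≤ b → b < 1226 → ∃ J, chkPBlk P 5 31 18 31671 b J = true := fun b h1 h2 => by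
  have hb : b = 1225 := Nat.le_antisymm (Nat.le_of_lt_succ h2) h1
  subst hb; exact ⟨_, lblk_1225⟩
theorem lo_1226_1227 : ∀ b, 1226 ≤ b → b < 1227 → ∃ J, chkPBlk P 5 31 18 31671 b J = true := fun b h1 h2 => by
  have hb : b = 1226 := Nat.le_antisymm (Nat.le_of_lt_succ h2) h1
  subst hb; exact ⟨_, lblk_1226⟩
theorem lo_1225_1227 : ∀ b, 1225 ≤ b → b < 1227 → ∃ J, chkPBlk P 5 31 18 31671 b J = true := fun b h1 h2 =>
  if h : b < 1226 then lo_1225_1226 b h1 h else lo_1226_1227 b (Nat.le_of_not_lt h) h2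
theorem lo_1227_1228 : ∀ b, 1227 ≤ b → b < 1228 → ∃ J, chkPBlk P 5 31 18 31671 b J = true := fun b h1 h2 => by
  have hb : b = 1227 := Nat.le_antisymm (Nat.le_of_lt_succ h2) h1
  subst hb; exact ⟨_, lblk_1227⟩
theorem lo_1228_1229 : ∀ b, 1228 ≤ b → b < 1229 → ∃ J, chkPBlk P 5 31 18 31671 b J = true := fun b h1 h2 => by
  have hb : b = 1228 := Nat.le_antisymm (Nat.le_of_lt_succ h2) h1
  subst hb; exact ⟨_, lblk_1228⟩
theorem lo_1229_1230 : ∀ b, 1229 ≤ b → b < 1230 → ∃ J, chkPBlk P 5 31 18 31671 b J = true := fun b h1 h2 => by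
  have hb : b = 1229 := Nat.le_antisymm (Nat.le_of_lt_succ h2) h1
  subst hb; exact ⟨_, lblk_1229⟩
theorem lo_1228_1230 : ∀ b, 1228 ≤ b → b < 1230 → ∃ J, chkPBlk P 5 31 18 31671 b J = true := fun b h1 h2 =>
  if h : b < 1229 then lo_1228_1229 b h1 h else lo_1229_1230 b (Nat.le_of_not_lt h) h2
theorem lo_1227_1230 : ∀ b, 1227 ≤ b → b < 1230 → ∃ J, chkPBlk P 5 31 18 31671 b J = true := fun b h1 h2 =>
  if h : b < 1228 then lo_1227_1228 b h1 h else lo_1228_1230 b (Nat.le_of_not_lt h) h2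
theorem lo_1225_1230 : ∀ b, 1225 ≤ b → b < 1230 → ∃ J, chkPBlk P 5 31 18 31671 b J = true := fun b h1 h2 =>
  if h : b < 1227 then lo_1225_1227 b h1 h else lo_1227_1230 b (Nat.le_of_not_lt h) h2
theorem lo_1221_1230 : ∀ b, 1221 ≤ b → b < 1230 → ∃ J, chkPBlk P 5 31 18 31671 b J = true := fun b h1 h2 =>
  if h : b < 1225 then lo_1221_1225 b h1 h else lo_1225_1230 b (Nat.le_of_not_lt h) h2
theorem lo_1212_1230 : ∀ b, 1212 ≤ b → b < 1230 → ∃ J, chkPBlk P 5 31 18 31671 b J = true := fun b h1 h2 =>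
  if h : b < 1221 then lo_1212_1221 b h1 h else lo_1221_1230 b (Nat.le_of_not_lt h) h2
theorem lo_1230_1231 : ∀ b, 1230 ≤ b → b < 1231 → ∃ J, chkPBlk P 5 31 18 31671 b J = true := fun b h1 h2 => by
  have hb : b = 1230 := Nat.le_antisymm (Nat.le_of_lt_succ h2) h1
  subst hb; exact ⟨_, lblk_1230⟩
theorem lo_1231_1232 : ∀ b, 1231 ≤ b → b < 1232 → ∃ J, chkPBlk P 5 31 18 31671 b J = true := fun b h1 h2 => by
  have hb : b = 1231 := Nat.le_antisymm (Nat.le_of_lt_succ h2) h1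
  subst hb; exact ⟨_, lblk_1231⟩
theorem lo_1230_1232 : ∀ b, 1230 ≤ b → b < 1232 → ∃ J, chkPBlk P 5 31 18 31671 b J = true := fun b h1 h2 =>
  if h : b < 1231 then lo_1230_1231 b h1 h else lo_1231_1232 b (Nat.le_of_not_lt h) h2
theorem lo_1232_1233 : ∀ b, 1232 ≤ b → b < 1233 → ∃ J, chkPBlk P 5 31 18 31671 b J = true := fun b h1 h2 => by
  have hb : b = 1232 := Nat.le_antisymm (Nat.le_of_lt_succ h2) h1
  subst hb; exact ⟨_, lblk_1232⟩
theorem lo_1233_1234 : ∀ b, 1233 ≤ b → b < 1234 → ∃ J, chkPBlk P 5 31 18 31671 b J = true := fun b h1 h2 => by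
  have hb : b = 1233 := Nat.le_antisymm (Nat.le_of_lt_succ h2) h1
  subst hb; exact ⟨_, lblk_1233⟩
theorem lo_1232_1234 : ∀ b, 1232 ≤ b → b < 1234 → ∃ J, chkPBlk P 5 31 18 31671 b J = true := fun b h1 h2 =>
  if h : b < 1233 then lo_1232_1233 b h1 h else lo_1233_1234 b (Nat.le_of_not_lt h) h2
theorem lo_1230_1234 : ∀ b, 1230 ≤ b → b < 1234 → ∃ J, chkPBlk P 5 31 18 31671 b J = true := fun b h1 h2 =>
  if h : b < 1232 then lo_1230_1232 b h1 h else lo_1232_1234 b (Nat.le_of_not_lt h) h2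
theorem lo_1234_1235 : ∀ b, 1234 ≤ b → b < 1235 → ∃ J, chkPBlk P 5 31 18 31671 b J = true := fun b h1 h2 => by
  have hb : b = 1234 := Nat.le_antisymm (Nat.le_of_lt_succ h2) h1
  subst hb; exact ⟨_, lblk_1234⟩
theorem lo_1235_1236 : ∀ b, 1235 ≤ b → b < 1236 → ∃ J, chkPBlk P 5 31 18 31671 b J = true := fun b h1 h2 => by
  have hb : b = 1235 := Nat.le_antisymm (Nat.le_of_lt_succ h2) h1
  subst hb; exact ⟨_, lblk_1235⟩
theorem lo_1234_1236 : ∀ b, 1234 ≤ b → b < 1236 → ∃ J, chkPBlk P 5 31 18 31671 b J = true := fun b h1 h2 =>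
  if h : b < 1235 then lo_1234_1235 b h1 h else lo_1235_1236 b (Nat.le_of_not_lt h) h2
theorem lo_1236_1237 : ∀ b, 1236 ≤ b → b < 1237 → ∃ J, chkPBlk P 5 31 18 31671 b J = true := fun b h1 h2 => by
  have hb : b = 1236 := Nat.le_antisymm (Nat.le_of_lt_succ h2) h1
  subst hb; exact ⟨_, lblk_1236⟩
theorem lo_1237_1238 : ∀ b, 1237 ≤ b → b < 1238 → ∃ J, chkPBlk P 5 31 18 31671 b J = true := fun b h1 h2 => by
  have hb : b = 1237 := Nat.le_antisymm (Nat.le_of_lt_succ h2) h1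
  subst hb; exact ⟨_, lblk_1237⟩
theorem lo_1238_1239 : ∀ b, 1238 ≤ b → b < 1239 → ∃ J, chkPBlk P 5 31 18 31671 b J = true := fun b h1 h2 => by
  have hb : b = 1238 := Nat.le_antisymm (Nat.le_of_lt_succ h2) h1
  subst hb; exact ⟨_, lblk_1238⟩
theorem lo_1237_1239 : ∀ b, 1237 ≤ b → b < 1239 → ∃ J, chkPBlk P 5 31 18 31671 b J = true := fun b h1 h2 =>
  if h : b < 1238 then lo_1237_1238 b h1 h else lo_1238_1239 b (Nat.le_of_not_lt h) h2
theorem lo_1236_1239 : ∀ b, 1236 ≤ b → b < 1239 → ∃ J, chkPBlk P 5 31 18 31671 b J = true := fun b h1 h2 =>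
  if h : b < 1237 then lo_1236_1237 b h1 h else lo_1237_1239 b (Nat.le_of_not_lt h) h2
theorem lo_1234_1239 : ∀ b, 1234 ≤ b → b < 1239 → ∃ J, chkPBlk P 5 31 18 31671 b J = true := fun b h1 h2 =>
  if h : b < 1236 then lo_1234_1236 b h1 h else lo_1236_1239 b (Nat.le_of_not_lt h) h2
theorem lo_1230_1239 : ∀ b, 1230 ≤ b → b < 1239 → ∃ J, chkPBlk P 5 31 18 31671 b J = true := fun b h1 h2 =>
  if h : b < 1234 then lo_1230_1234 b h1 h else lo_1234_1239 b (Nat.le_of_not_lt h) h2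
theorem lo_1239_1240 : ∀ b, 1239 ≤ b → b < 1240 → ∃ J, chkPBlk P 5 31 18 31671 b J = true := fun b h1 h2 => by
  have hb : b = 1239 := Nat.le_antisymm (Nat.le_of_lt_succ h2) h1
  subst hb; exact ⟨_, lblk_1239⟩
theorem lo_1240_1241 : ∀ b, 1240 ≤ b → b < 1241 → ∃ J, chkPBlk P 5 31 18 31671 b J = true := fun b h1 h2 => by
  have hb : b = 1240 := Nat.le_antisymm (Nat.le_of_lt_succ h2) h1
  subst hb; exact ⟨_, lblk_1240⟩
theorem lo_1239_1241 : ∀ b, 1239 ≤ b → b < 1241 → ∃ J, chkPBlk P 5 31 18 31671 b J = true := fun b h1 h2 =>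
  if h : b < 1240 then lo_1239_1240 b h1 h else lo_1240_1241 b (Nat.le_of_not_lt h) h2
theorem lo_1241_1242 : ∀ b, 1241 ≤ b → b < 1242 → ∃ J, chkPBlk P 5 31 18 31671 b J = true := fun b h1 h2 => by
  have hb : b = 1241 := Nat.le_antisymm (Nat.le_of_lt_succ h2) h1
  subst hb; exact ⟨_, lblk_1241⟩
theorem lo_1242_1243 : ∀ b, 1242 ≤ b → b < 1243 → ∃ J, chkPBlk P 5 31 18 31671 b J = true := fun b h1 h2 => by
  have hb : b = 1242 := Nat.le_antisymm (Nat.le_of_lt_succ h2) h1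
  subst hb; exact ⟨_, lblk_1242⟩
theorem lo_1243_1244 : ∀ b, 1243 ≤ b → b < 1244 → ∃ J, chkPBlk P 5 31 18 31671 b J = true := fun b h1 h2 => by
  have hb : b = 1243 := Nat.le_antisymm (Nat.le_of_lt_succ h2) h1
  subst hb; exact ⟨_, lblk_1243⟩
theorem lo_1242_1244 : ∀ b, 1242 ≤ b → b < 1244 → ∃ J, chkPBlk P 5 31 18 31671 b J = true := fun b h1 h2 =>
  if h : b < 1243 then lo_1242_1243 b h1 h else lo_1243_1244 b (Nat.le_of_not_lt h) h2
theorem lo_1241_1244 : ∀ b, 1241 ≤ b → b < 1244 → ∃ J, chkPBlk P 5 31 18 31671 b J = true := fun b h1 h2 =>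
  if h : b < 1242 then lo_1241_1242 b h1 h else lo_1242_1244 b (Nat.le_of_not_lt h) h2
theorem lo_1239_1244 : ∀ b, 1239 ≤ b → b < 1244 → ∃ J, chkPBlk P 5 31 18 31671 b J = true := fun b h1 h2 =>
  if h : b < 1241 then lo_1239_1241 b h1 h else lo_1241_1244 b (Nat.le_of_not_lt h) h2
theorem lo_1244_1245 : ∀ b, 1244 ≤ b → b < 1245 → ∃ J, chkPBlk P 5 31 18 31671 b J = true := fun b h1 h2 => by
  have hb : b = 1244 := Nat.le_antisymm (Nat.le_of_lt_succ h2) h1
  subst hb; exact ⟨_, lblk_1244⟩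
theorem lo_1245_1246 : ∀ b, 1245 ≤ b → b < 1246 → ∃ J, chkPBlk P 5 31 18 31671 b J = true := fun b h1 h2 => by
  have hb : b = 1245 := Nat.le_antisymm (Nat.le_of_lt_succ h2) h1
  subst hb; exact ⟨_, lblk_1245⟩
theorem lo_1244_1246 : ∀ b, 1244 ≤ b → b < 1246 → ∃ J, chkPBlk P 5 31 18 31671 b J = true := fun b h1 h2 =>
  if h : b < 1245 then lo_1244_1245 b h1 h else lo_1245_1246 b (Nat.le_of_not_lt h) h2
theorem lo_1246_1247 : ∀ b, 1246 ≤ b → b < 1247 → ∃ J, chkPBlk P 5 31 18 31671 b J = true := fun b h1 h2 => by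
  have hb : b = 1246 := Nat.le_antisymm (Nat.le_of_lt_succ h2) h1
  subst hb; exact ⟨_, lblk_1246⟩
theorem lo_1247_1248 : ∀ b, 1247 ≤ b → b < 1248 → ∃ J, chkPBlk P 5 31 18 31671 b J = true := fun b h1 h2 => by
  have hb : b = 1247 := Nat.le_antisymm (Nat.le_of_lt_succ h2) h1
  subst hb; exact ⟨_, lblk_1247⟩
theorem lo_1248_1249 : ∀ b, 1248 ≤ b → b < 1249 → ∃ J, chkPBlk P 5 31 18 31671 b J = true := fun b h1 h2 => by
  have hb : b = 1248 := Nat.le_antisymm (Nat.le_of_lt_succ h2) h1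
  subst hb; exact ⟨_, lblk_1248⟩
theorem lo_1247_1249 : ∀ b, 1247 ≤ b → b < 1249 → ∃ J, chkPBlk P 5 31 18 31671 b J = true := fun b h1 h2 =>
  if h : b < 1248 then lo_1247_1248 b h1 h else lo_1248_1249 b (Nat.le_of_not_lt h) h2
theorem lo_1246_1249 : ∀ b, 1246 ≤ b → b < 1249 → ∃ J, chkPBlk P 5 31 18 31671 b J = true := fun b h1 h2 =>
  if h : b < 1247 then lo_1246_1247 b h1 h else lo_1247_1249 b (Nat.le_of_not_lt h) h2
theorem lo_1244_1249 : ∀ b, 1244 ≤ b → b < 1249 → ∃ J, chkPBlk P 5 31 18 31671 b J = true := fun b h1 h2 =>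
  if h : b < 1246 then lo_1244_1246 b h1 h else lo_1246_1249 b (Nat.le_of_not_lt h) h2
theorem lo_1239_1249 : ∀ b, 1239 ≤ b → b < 1249 → ∃ J, chkPBlk P 5 31 18 31671 b J = true := fun b h1 h2 =>
  if h : b < 1244 then lo_1239_1244 b h1 h else lo_1244_1249 b (Nat.le_of_not_lt h) h2
theorem lo_1230_1249 : ∀ b, 1230 ≤ b → b < 1249 → ∃ J, chkPBlk P 5 31 18 31671 b J = true := fun b h1 h2 =>
  if h : b < 1239 then lo_1230_1239 b h1 h else lo_1239_1249 b (Nat.le_of_not_lt h) h2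
theorem lo_1212_1249 : ∀ b, 1212 ≤ b → b < 1249 → ∃ J, chkPBlk P 5 31 18 31671 b J = true := fun b h1 h2 =>
  if h : b < 1230 then lo_1212_1230 b h1 h else lo_1230_1249 b (Nat.le_of_not_lt h) h2
theorem lo_1176_1249 : ∀ b, 1176 ≤ b → b < 1249 → ∃ J, chkPBlk P 5 31 18 31671 b J = true := fun b h1 h2 =>
  if h : b < 1212 then lo_1176_1212 b h1 h else lo_1212_1249 b (Nat.le_of_not_lt h) h2
theorem lo_1249_1250 : ∀ b, 1249 ≤ b → b < 1250 → ∃ J, chkPBlk P 5 31 18 31671 b J = true := fun b h1 h2 => by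
  have hb : b = 1249 := Nat.le_antisymm (Nat.le_of_lt_succ h2) h1
  subst hb; exact ⟨_, lblk_1249⟩
theorem lo_1250_1251 : ∀ b, 1250 ≤ b → b < 1251 → ∃ J, chkPBlk P 5 31 18 31671 b J = true := fun b h1 h2 => by
  have hb : b = 1250 := Nat.le_antisymm (Nat.le_of_lt_succ h2) h1
  subst hb; exact ⟨_, lblk_1250⟩
theorem lo_1249_1251 : ∀ b, 1249 ≤ b → b < 1251 → ∃ J, chkPBlk P 5 31 18 31671 b J = true := fun b h1 h2 =>
  if h : b < 1250 then lo_1249_1250 b h1 h else lo_1250_1251 b (Nat.le_of_not_lt h) h2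
theorem lo_1251_1252 : ∀ b, 1251 ≤ b → b < 1252 → ∃ J, chkPBlk P 5 31 18 31671 b J = true := fun b h1 h2 => by
  have hb : b = 1251 := Nat.le_antisymm (Nat.le_of_lt_succ h2) h1
  subst hb; exact ⟨_, lblk_1251⟩
theorem lo_1252_1253 : ∀ b, 1252 ≤ b → b < 1253 → ∃ J, chkPBlk P 5 31 18 31671 b J = true := fun b h1 h2 => by
  have hb : b = 1252 := Nat.le_antisymm (Nat.le_of_lt_succ h2) h1
  subst hb; exact ⟨_, lblk_1252⟩
theorem lo_1251_1253 : ∀ b, 1251 ≤ b → b < 1253 → ∃ J, chkPBlk P 5 31 18 31671 b J = true := fun b h1 h2 =>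
  if h : b < 1252 then lo_1251_1252 b h1 h else lo_1252_1253 b (Nat.le_of_not_lt h) h2
theorem lo_1249_1253 : ∀ b, 1249 ≤ b → b < 1253 → ∃ J, chkPBlk P 5 31 18 31671 b J = true := fun b h1 h2 =>
  if h : b < 1251 then lo_1249_1251 b h1 h else lo_1251_1253 b (Nat.le_of_not_lt h) h2
theorem lo_1253_1254 : ∀ b, 1253 ≤ b → b < 1254 → ∃ J, chkPBlk P 5 31 18 31671 b J = true := fun b h1 h2 => by
  have hb : b = 1253 := Nat.le_antisymm (Nat.le_of_lt_succ h2) h1
  subst hb; exact ⟨_, lblk_1253⟩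
theorem lo_1254_1255 : ∀ b, 1254 ≤ b → b < 1255 → ∃ J, chkPBlk P 5 31 18 31671 b J = true := fun b h1 h2 => by
  have hb : b = 1254 := Nat.le_antisymm (Nat.le_of_lt_succ h2) h1
  subst hb; exact ⟨_, lblk_1254⟩
theorem lo_1253_1255 : ∀ b, 1253 ≤ b → b < 1255 → ∃ J, chkPBlk P 5 31 18 31671 b J = true := fun b h1 h2 =>
  if h : b < 1254 then lo_1253_1254 b h1 h else lo_1254_1255 b (Nat.le_of_not_lt h) h2
theorem lo_1255_1256 : ∀ b, 1255 ≤ b → b < 1256 → ∃ J, chkPBlk P 5 31 18 31671 b J = true := fun b h1 h2 => by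
  have hb : b = 1255 := Nat.le_antisymm (Nat.le_of_lt_succ h2) h1
  subst hb; exact ⟨_, lblk_1255⟩
theorem lo_1256_1257 : ∀ b, 1256 ≤ b → b < 1257 → ∃ J, chkPBlk P 5 31 18 31671 b J = true := fun b h1 h2 => by
  have hb : b = 1256 := Nat.le_antisymm (Nat.le_of_lt_succ h2) h1
  subst hb; exact ⟨_, lblk_1256⟩
theorem lo_1257_1258 : ∀ b, 1257 ≤ b → b < 1258 → ∃ J, chkPBlk P 5 31 18 31671 b J = true := fun b h1 h2 => by
  have hb : b = 1257 := Nat.le_antisymm (Nat.le_of_lt_succ h2) h1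
  subst hb; exact ⟨_, lblk_1257⟩
theorem lo_1256_1258 : ∀ b, 1256 ≤ b → b < 1258 → ∃ J, chkPBlk P 5 31 18 31671 b J = true := fun b h1 h2 =>
  if h : b < 1257 then lo_1256_1257 b h1 h else lo_1257_1258 b (Nat.le_of_not_lt h) h2
theorem lo_1255_1258 : ∀ b, 1255 ≤ b → b < 1258 → ∃ J, chkPBlk P 5 31 18 31671 b J = true := fun b h1 h2 =>
  if h : b < 1256 then lo_1255_1256 b h1 h else lo_1256_1258 b (Nat.le_of_not_lt h) h2
theorem lo_1253_1258 : ∀ b, 1253 ≤ b → b < 1258 → ∃ J, chkPBlk P 5 31 18 31671 b J = true := fun b h1 h2 =>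
  if h : b < 1255 then lo_1253_1255 b h1 h else lo_1255_1258 b (Nat.le_of_not_lt h) h2
theorem lo_1249_1258 : ∀ b, 1249 ≤ b → b < 1258 → ∃ J, chkPBlk P 5 31 18 31671 b J = true := fun b h1 h2 =>
  if h : b < 1253 then lo_1249_1253 b h1 h else lo_1253_1258 b (Nat.le_of_not_lt h) h2
theorem lo_1258_1259 : ∀ b, 1258 ≤ b → b < 1259 → ∃ J, chkPBlk P 5 31 18 31671 b J = true := fun b h1 h2 => by
  have hb : b = 1258 := Nat.le_antisymm (Nat.le_of_lt_succ h2) h1
  subst hb; exact ⟨_, lblk_1258⟩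
theorem lo_1259_1260 : ∀ b, 1259 ≤ b → b < 1260 → ∃ J, chkPBlk P 5 31 18 31671 b J = true := fun b h1 h2 => by
  have hb : b = 1259 := Nat.le_antisymm (Nat.le_of_lt_succ h2) h1
  subst hb; exact ⟨_, lblk_1259⟩
theorem lo_1258_1260 : ∀ b, 1258 ≤ b → b < 1260 → ∃ J, chkPBlk P 5 31 18 31671 b J = true := fun b h1 h2 =>
  if h : b < 1259 then lo_1258_1259 b h1 h else lo_1259_1260 b (Nat.le_of_not_lt h) h2
theorem lo_1260_1261 : ∀ b, 1260 ≤ b → b < 1261 → ∃ J, chkPBlk P 5 31 18 31671 b J = true := fun b h1 h2 => by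
  have hb : b = 1260 := Nat.le_antisymm (Nat.le_of_lt_succ h2) h1
  subst hb; exact ⟨_, lblk_1260⟩
theorem lo_1261_1262 : ∀ b, 1261 ≤ b → b < 1262 → ∃ J, chkPBlk P 5 31 18 31671 b J = true := fun b h1 h2 => by
  have hb : b = 1261 := Nat.le_antisymm (Nat.le_of_lt_succ h2) h1
  subst hb; exact ⟨_, lblk_1261⟩
theorem lo_1260_1262 : ∀ b, 1260 ≤ b → b < 1262 → ∃ J, chkPBlk P 5 31 18 31671 b J = true := fun b h1 h2 =>
  if h : b < 1261 then lo_1260_1261 b h1 h else lo_1261_1262 b (Nat.le_of_not_lt h) h2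
theorem lo_1258_1262 : ∀ b, 1258 ≤ b → b < 1262 → ∃ J, chkPBlk P 5 31 18 31671 b J = true := fun b h1 h2 =>
  if h : b < 1260 then lo_1258_1260 b h1 h else lo_1260_1262 b (Nat.le_of_not_lt h) h2
theorem lo_1262_1263 : ∀ b, 1262 ≤ b → b < 1263 → ∃ J, chkPBlk P 5 31 18 31671 b J = true := fun b h1 h2 => by
  have hb : b = 1262 := Nat.le_antisymm (Nat.le_of_lt_succ h2) h1
  subst hb; exact ⟨_, lblk_1262⟩
theorem lo_1263_1264 : ∀ b, 1263 ≤ b → b < 1264 → ∃ J, chkPBlk P 5 31 18 31671 b J = true := fun b h1 h2 => by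
  have hb : b = 1263 := Nat.le_antisymm (Nat.le_of_lt_succ h2) h1
  subst hb; exact ⟨_, lblk_1263⟩
theorem lo_1262_1264 : ∀ b, 1262 ≤ b → b < 1264 → ∃ J, chkPBlk P 5 31 18 31671 b J = true := fun b h1 h2 =>
  if h : b < 1263 then lo_1262_1263 b h1 h else lo_1263_1264 b (Nat.le_of_not_lt h) h2
theorem lo_1264_1265 : ∀ b, 1264 ≤ b → b < 1265 → ∃ J, chkPBlk P 5 31 18 31671 b J = true := fun b h1 h2 => by
  have hb : b = 1264 := Nat.le_antisymm (Nat.le_of_lt_succ h2) h1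
  subst hb; exact ⟨_, lblk_1264⟩
theorem lo_1265_1266 : ∀ b, 1265 ≤ b → b < 1266 → ∃ J, chkPBlk P 5 31 18 31671 b J = true := fun b h1 h2 => by
  have hb : b = 1265 := Nat.le_antisymm (Nat.le_of_lt_succ h2) h1
  subst hb; exact ⟨_, lblk_1265⟩
theorem lo_1266_1267 : ∀ b, 1266 ≤ b → b < 1267 → ∃ J, chkPBlk P 5 31 18 31671 b J = true := fun b h1 h2 => by
  have hb : b = 1266 := Nat.le_antisymm (Nat.le_of_lt_succ h2) h1
  subst hb; exact ⟨_, lblk_1266⟩
theorem lo_1265_1267 : ∀ b, 1265 ≤ b → b < 1267 → ∃ J, chkPBlk P 5 31 18 31671 b J = true := fun b h1 h2 =>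
  if h : b < 1266 then lo_1265_1266 b h1 h else lo_1266_1267 b (Nat.le_of_not_lt h) h2
theorem lo_1264_1267 : ∀ b, 1264 ≤ b → b < 1267 → ∃ J, chkPBlk P 5 31 18 31671 b J = true := fun b h1 h2 =>
  if h : b < 1265 then lo_1264_1265 b h1 h else lo_1265_1267 b (Nat.le_of_not_lt h) h2
theorem lo_1262_1267 : ∀ b, 1262 ≤ b → b < 1267 → ∃ J, chkPBlk P 5 31 18 31671 b J = true := fun b h1 h2 =>
  if h : b < 1264 then lo_1262_1264 b h1 h else lo_1264_1267 b (Nat.le_of_not_lt h) h2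
theorem lo_1258_1267 : ∀ b, 1258 ≤ b → b < 1267 → ∃ J, chkPBlk P 5 31 18 31671 b J = true := fun b h1 h2 =>
  if h : b < 1262 then lo_1258_1262 b h1 h else lo_1262_1267 b (Nat.le_of_not_lt h) h2
theorem lo_1249_1267 : ∀ b, 1249 ≤ b → b < 1267 → ∃ J, chkPBlk P 5 31 18 31671 b J = true := fun b h1 h2 =>
  if h : b < 1258 then lo_1249_1258 b h1 h else lo_1258_1267 b (Nat.le_of_not_lt h) h2
theorem lo_1267_1268 : ∀ b, 1267 ≤ b → b < 1268 → ∃ J, chkPBlk P 5 31 18 31671 b J = true := fun b h1 h2 => by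
  have hb : b = 1267 := Nat.le_antisymm (Nat.le_of_lt_succ h2) h1
  subst hb; exact ⟨_, lblk_1267⟩
theorem lo_1268_1269 : ∀ b, 1268 ≤ b → b < 1269 → ∃ J, chkPBlk P 5 31 18 31671 b J = true := fun b h1 h2 => by
  have hb : b = 1268 := Nat.le_antisymm (Nat.le_of_lt_succ h2) h1
  subst hb; exact ⟨_, lblk_1268⟩
theorem lo_1267_1269 : ∀ b, 1267 ≤ b → b < 1269 → ∃ J, chkPBlk P 5 31 18 31671 b J = true := fun b h1 h2 =>
  if h : b < 1268 then lo_1267_1268 b h1 h else lo_1268_1269 b (Nat.le_of_not_lt h) h2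
theorem lo_1269_1270 : ∀ b, 1269 ≤ b → b < 1270 → ∃ J, chkPBlk P 5 31 18 31671 b J = true := fun b h1 h2 => by
  have hb : b = 1269 := Nat.le_antisymm (Nat.le_of_lt_succ h2) h1
  subst hb; exact ⟨_, lblk_1269⟩
theorem lo_1270_1271 : ∀ b, 1270 ≤ b → b < 1271 → ∃ J, chkPBlk P 5 31 18 31671 b J = true := fun b h1 h2 => by
  have hb : b = 1270 := Nat.le_antisymm (Nat.le_of_lt_succ h2) h1
  subst hb; exact ⟨_, lblk_1270⟩
theorem lo_1269_1271 : ∀ b, 1269 ≤ b → b < 1271 → ∃ J, chkPBlk P 5 31 18 31671 b J = true := fun b h1 h2 =>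
  if h : b < 1270 then lo_1269_1270 b h1 h else lo_1270_1271 b (Nat.le_of_not_lt h) h2
theorem lo_1267_1271 : ∀ b, 1267 ≤ b → b < 1271 → ∃ J, chkPBlk P 5 31 18 31671 b J = true := fun b h1 h2 =>
  if h : b < 1269 then lo_1267_1269 b h1 h else lo_1269_1271 b (Nat.le_of_not_lt h) h2
theorem lo_1271_1272 : ∀ b, 1271 ≤ b → b < 1272 → ∃ J, chkPBlk P 5 31 18 31671 b J = true := fun b h1 h2 => by
  have hb : b = 1271 := Nat.le_antisymm (Nat.le_of_lt_succ h2) h1
  subst hb; exact ⟨_, lblk_1271⟩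
theorem lo_1272_1273 : ∀ b, 1272 ≤ b → b < 1273 → ∃ J, chkPBlk P 5 31 18 31671 b J = true := fun b h1 h2 => by
  have hb : b = 1272 := Nat.le_antisymm (Nat.le_of_lt_succ h2) h1
  subst hb; exact ⟨_, lblk_1272⟩
theorem lo_1271_1273 : ∀ b, 1271 ≤ b → b < 1273 → ∃ J, chkPBlk P 5 31 18 31671 b J = true := fun b h1 h2 =>
  if h : b < 1272 then lo_1271_1272 b h1 h else lo_1272_1273 b (Nat.le_of_not_lt h) h2
theorem lo_1273_1274 : ∀ b, 1273 ≤ b → b < 1274 → ∃ J, chkPBlk P 5 31 18 31671 b J = true := fun b h1 h2 => by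
  have hb : b = 1273 := Nat.le_antisymm (Nat.le_of_lt_succ h2) h1
  subst hb; exact ⟨_, lblk_1273⟩
theorem lo_1274_1275 : ∀ b, 1274 ≤ b → b < 1275 → ∃ J, chkPBlk P 5 31 18 31671 b J = true := fun b h1 h2 => by
  have hb : b = 1274 := Nat.le_antisymm (Nat.le_of_lt_succ h2) h1
  subst hb; exact ⟨_, lblk_1274⟩
theorem lo_1275_1276 : ∀ b, 1275 ≤ b → b < 1276 → ∃ J, chkPBlk P 5 31 18 31671 b J = true := fun b h1 h2 => by
  have hb : b = 1275 := Nat.le_antisymm (Nat.le_of_lt_succ h2) h1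
  subst hb; exact ⟨_, lblk_1275⟩
theorem lo_1274_1276 : ∀ b, 1274 ≤ b → b < 1276 → ∃ J, chkPBlk P 5 31 18 31671 b J = true := fun b h1 h2 =>
  if h : b < 1275 then lo_1274_1275 b h1 h else lo_1275_1276 b (Nat.le_of_not_lt h) h2
theorem lo_1273_1276 : ∀ b, 1273 ≤ b → b < 1276 → ∃ J, chkPBlk P 5 31 18 31671 b J = true := fun b h1 h2 =>
  if h : b < 1274 then lo_1273_1274 b h1 h else lo_1274_1276 b (Nat.le_of_not_lt h) h2
theorem lo_1271_1276 : ∀ b, 1271 ≤ b → b < 1276 → ∃ J, chkPBlk P 5 31 18 31671 b J = true := fun b h1 h2 =>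
  if h : b < 1273 then lo_1271_1273 b h1 h else lo_1273_1276 b (Nat.le_of_not_lt h) h2
theorem lo_1267_1276 : ∀ b, 1267 ≤ b → b < 1276 → ∃ J, chkPBlk P 5 31 18 31671 b J = true := fun b h1 h2 =>
  if h : b < 1271 then lo_1267_1271 b h1 h else lo_1271_1276 b (Nat.le_of_not_lt h) h2
theorem lo_1276_1277 : ∀ b, 1276 ≤ b → b < 1277 → ∃ J, chkPBlk P 5 31 18 31671 b J = true := fun b h1 h2 => by
  have hb : b = 1276 := Nat.le_antisymm (Nat.le_of_lt_succ h2) h1
  subst hb; exact ⟨_, lblk_1276⟩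
theorem lo_1277_1278 : ∀ b, 1277 ≤ b → b < 1278 → ∃ J, chkPBlk P 5 31 18 31671 b J = true := fun b h1 h2 => by
  have hb : b = 1277 := Nat.le_antisymm (Nat.le_of_lt_succ h2) h1
  subst hb; exact ⟨_, lblk_1277⟩
theorem lo_1276_1278 : ∀ b, 1276 ≤ b → b < 1278 → ∃ J, chkPBlk P 5 31 18 31671 b J = true := fun b h1 h2 =>
  if h : b < 1277 then lo_1276_1277 b h1 h else lo_1277_1278 b (Nat.le_of_not_lt h) h2
theorem lo_1278_1279 : ∀ b, 1278 ≤ b → b < 1279 → ∃ J, chkPBlk P 5 31 18 31671 b J = true := fun b h1 h2 => by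
  have hb : b = 1278 := Nat.le_antisymm (Nat.le_of_lt_succ h2) h1
  subst hb; exact ⟨_, lblk_1278⟩
theorem lo_1279_1280 : ∀ b, 1279 ≤ b → b < 1280 → ∃ J, chkPBlk P 5 31 18 31671 b J = true := fun b h1 h2 => by
  have hb : b = 1279 := Nat.le_antisymm (Nat.le_of_lt_succ h2) h1
  subst hb; exact ⟨_, lblk_1279⟩
theorem lo_1280_1281 : ∀ b, 1280 ≤ b → b < 1281 → ∃ J, chkPBlk P 5 31 18 31671 b J = true := fun b h1 h2 => by
  have hb : b = 1280 := Nat.le_antisymm (Nat.le_of_lt_succ h2) h1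
  subst hb; exact ⟨_, lblk_1280⟩
theorem lo_1279_1281 : ∀ b, 1279 ≤ b → b < 1281 → ∃ J, chkPBlk P 5 31 18 31671 b J = true := fun b h1 h2 =>
  if h : b < 1280 then lo_1279_1280 b h1 h else lo_1280_1281 b (Nat.le_of_not_lt h) h2
theorem lo_1278_1281 : ∀ b, 1278 ≤ b → b < 1281 → ∃ J, chkPBlk P 5 31 18 31671 b J = true := fun b h1 h2 =>
  if h : b < 1279 then lo_1278_1279 b h1 h else lo_1279_1281 b (Nat.le_of_not_lt h) h2
theorem lo_1276_1281 : ∀ b, 1276 ≤ b → b < 1281 → ∃ J, chkPBlk P 5 31 18 31671 b J = true := fun b h1 h2 =>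
  if h : b < 1278 then lo_1276_1278 b h1 h else lo_1278_1281 b (Nat.le_of_not_lt h) h2
theorem lo_1281_1282 : ∀ b, 1281 ≤ b → b < 1282 → ∃ J, chkPBlk P 5 31 18 31671 b J = true := fun b h1 h2 => by
  have hb : b = 1281 := Nat.le_antisymm (Nat.le_of_lt_succ h2) h1
  subst hb; exact ⟨_, lblk_1281⟩
theorem lo_1282_1283 : ∀ b, 1282 ≤ b → b < 1283 → ∃ J, chkPBlk P 5 31 18 31671 b J = true := fun b h1 h2 => by
  have hb : b = 1282 := Nat.le_antisymm (Nat.le_of_lt_succ h2) h1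
  subst hb; exact ⟨_, lblk_1282⟩
theorem lo_1281_1283 : ∀ b, 1281 ≤ b → b < 1283 → ∃ J, chkPBlk P 5 31 18 31671 b J = true := fun b h1 h2 =>
  if h : b < 1282 then lo_1281_1282 b h1 h else lo_1282_1283 b (Nat.le_of_not_lt h) h2
theorem lo_1283_1284 : ∀ b, 1283 ≤ b → b < 1284 → ∃ J, chkPBlk P 5 31 18 31671 b J = true := fun b h1 h2 => by
  have hb : b = 1283 := Nat.le_antisymm (Nat.le_of_lt_succ h2) h1
  subst hb; exact ⟨_, lblk_1283⟩
theorem lo_1284_1285 : ∀ b, 1284 ≤ b → b < 1285 → ∃ J, chkPBlk P 5 31 18 31671 b J = true := fun b h1 h2 => by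
  have hb : b = 1284 := Nat.le_antisymm (Nat.le_of_lt_succ h2) h1
  subst hb; exact ⟨_, lblk_1284⟩
theorem lo_1285_1286 : ∀ b, 1285 ≤ b → b < 1286 → ∃ J, chkPBlk P 5 31 18 31671 b J = true := fun b h1 h2 => by
  have hb : b = 1285 := Nat.le_antisymm (Nat.le_of_lt_succ h2) h1
  subst hb; exact ⟨_, lblk_1285⟩
theorem lo_1284_1286 : ∀ b, 1284 ≤ b → b < 1286 → ∃ J, chkPBlk P 5 31 18 31671 b J = true := fun b h1 h2 =>
  if h : b < 1285 then lo_1284_1285 b h1 h else lo_1285_1286 b (Nat.le_of_not_lt h) h2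
theorem lo_1283_1286 : ∀ b, 1283 ≤ b → b < 1286 → ∃ J, chkPBlk P 5 31 18 31671 b J = true := fun b h1 h2 =>
  if h : b < 1284 then lo_1283_1284 b h1 h else lo_1284_1286 b (Nat.le_of_not_lt h) h2
theorem lo_1281_1286 : ∀ b, 1281 ≤ b → b < 1286 → ∃ J, chkPBlk P 5 31 18 31671 b J = true := fun b h1 h2 =>
  if h : b < 1283 then lo_1281_1283 b h1 h else lo_1283_1286 b (Nat.le_of_not_lt h) h2
theorem lo_1276_1286 : ∀ b, 1276 ≤ b → b < 1286 → ∃ J, chkPBlk P 5 31 18 31671 b J = true := fun b h1 h2 =>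
  if h : b < 1281 then lo_1276_1281 b h1 h else lo_1281_1286 b (Nat.le_of_not_lt h) h2
theorem lo_1267_1286 : ∀ b, 1267 ≤ b → b < 1286 → ∃ J, chkPBlk P 5 31 18 31671 b J = true := fun b h1 h2 =>
  if h : b < 1276 then lo_1267_1276 b h1 h else lo_1276_1286 b (Nat.le_of_not_lt h) h2
theorem lo_1249_1286 : ∀ b, 1249 ≤ b → b < 1286 → ∃ J, chkPBlk P 5 31 18 31671 b J = true := fun b h1 h2 =>
  if h : b < 1267 then lo_1249_1267 b h1 h else lo_1267_1286 b (Nat.le_of_not_lt h) h2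
theorem lo_1286_1287 : ∀ b, 1286 ≤ b → b < 1287 → ∃ J, chkPBlk P 5 31 18 31671 b J = true := fun b h1 h2 => by
  have hb : b = 1286 := Nat.le_antisymm (Nat.le_of_lt_succ h2) h1
  subst hb; exact ⟨_, lblk_1286⟩
theorem lo_1287_1288 : ∀ b, 1287 ≤ b → b < 1288 → ∃ J, chkPBlk P 5 31 18 31671 b J = true := fun b h1 h2 => by
  have hb : b = 1287 := Nat.le_antisymm (Nat.le_of_lt_succ h2) h1
  subst hb; exact ⟨_, lblk_1287⟩
theorem lo_1286_1288 : ∀ b, 1286 ≤ b → b < 1288 → ∃ J, chkPBlk P 5 31 18 31671 b J = true := fun b h1 h2 =>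
  if h : b < 1287 then lo_1286_1287 b h1 h else lo_1287_1288 b (Nat.le_of_not_lt h) h2
theorem lo_1288_1289 : ∀ b, 1288 ≤ b → b < 1289 → ∃ J, chkPBlk P 5 31 18 31671 b J = true := fun b h1 h2 => by
  have hb : b = 1288 := Nat.le_antisymm (Nat.le_of_lt_succ h2) h1
  subst hb; exact ⟨_, lblk_1288⟩
theorem lo_1289_1290 : ∀ b, 1289 ≤ b → b < 1290 → ∃ J, chkPBlk P 5 31 18 31671 b J = true := fun b h1 h2 => by
  have hb : b = 1289 := Nat.le_antisymm (Nat.le_of_lt_succ h2) h1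
  subst hb; exact ⟨_, lblk_1289⟩
theorem lo_1288_1290 : ∀ b, 1288 ≤ b → b < 1290 → ∃ J, chkPBlk P 5 31 18 31671 b J = true := fun b h1 h2 =>
  if h : b < 1289 then lo_1288_1289 b h1 h else lo_1289_1290 b (Nat.le_of_not_lt h) h2
theorem lo_1286_1290 : ∀ b, 1286 ≤ b → b < 1290 → ∃ J, chkPBlk P 5 31 18 31671 b J = true := fun b h1 h2 =>
  if h : b < 1288 then lo_1286_1288 b h1 h else lo_1288_1290 b (Nat.le_of_not_lt h) h2
theorem lo_1290_1291 : ∀ b, 1290 ≤ b → b < 1291 → ∃ J, chkPBlk P 5 31 18 31671 b J = true := fun b h1 h2 => by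
  have hb : b = 1290 := Nat.le_antisymm (Nat.le_of_lt_succ h2) h1
  subst hb; exact ⟨_, lblk_1290⟩
theorem lo_1291_1292 : ∀ b, 1291 ≤ b → b < 1292 → ∃ J, chkPBlk P 5 31 18 31671 b J = true := fun b h1 h2 => by
  have hb : b = 1291 := Nat.le_antisymm (Nat.le_of_lt_succ h2) h1
  subst hb; exact ⟨_, lblk_1291⟩
theorem lo_1290_1292 : ∀ b, 1290 ≤ b → b < 1292 → ∃ J, chkPBlk P 5 31 18 31671 b J = true := fun b h1 h2 =>
  if h : b < 1291 then lo_1290_1291 b h1 h else lo_1291_1292 b (Nat.le_of_not_lt h) h2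
theorem lo_1292_1293 : ∀ b, 1292 ≤ b → b < 1293 → ∃ J, chkPBlk P 5 31 18 31671 b J = true := fun b h1 h2 => by
  have hb : b = 1292 := Nat.le_antisymm (Nat.le_of_lt_succ h2) h1
  subst hb; exact ⟨_, lblk_1292⟩
theorem lo_1293_1294 : ∀ b, 1293 ≤ b → b < 1294 → ∃ J, chkPBlk P 5 31 18 31671 b J = true := fun b h1 h2 => by
  have hb : b = 1293 := Nat.le_antisymm (Nat.le_of_lt_succ h2) h1
  subst hb; exact ⟨_, lblk_1293⟩
theorem lo_1294_1295 : ∀ b, 1294 ≤ b → b < 1295 → ∃ J, chkPBlk P 5 31 18 31671 b J = true := fun b h1 h2 => by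
  have hb : b = 1294 := Nat.le_antisymm (Nat.le_of_lt_succ h2) h1
  subst hb; exact ⟨_, lblk_1294⟩
theorem lo_1293_1295 : ∀ b, 1293 ≤ b → b < 1295 → ∃ J, chkPBlk P 5 31 18 31671 b J = true := fun b h1 h2 =>
  if h : b < 1294 then lo_1293_1294 b h1 h else lo_1294_1295 b (Nat.le_of_not_lt h) h2
theorem lo_1292_1295 : ∀ b, 1292 ≤ b → b < 1295 → ∃ J, chkPBlk P 5 31 18 31671 b J = true := fun b h1 h2 =>
  if h : b < 1293 then lo_1292_1293 b h1 h else lo_1293_1295 b (Nat.le_of_not_lt h) h2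
theorem lo_1290_1295 : ∀ b, 1290 ≤ b → b < 1295 → ∃ J, chkPBlk P 5 31 18 31671 b J = true := fun b h1 h2 =>
  if h : b < 1292 then lo_1290_1292 b h1 h else lo_1292_1295 b (Nat.le_of_not_lt h) h2
theorem lo_1286_1295 : ∀ b, 1286 ≤ b → b < 1295 → ∃ J, chkPBlk P 5 31 18 31671 b J = true := fun b h1 h2 =>
  if h : b < 1290 then lo_1286_1290 b h1 h else lo_1290_1295 b (Nat.le_of_not_lt h) h2
theorem lo_1295_1296 : ∀ b, 1295 ≤ b → b < 1296 → ∃ J, chkPBlk P 5 31 18 31671 b J = true := fun b h1 h2 => by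
  have hb : b = 1295 := Nat.le_antisymm (Nat.le_of_lt_succ h2) h1
  subst hb; exact ⟨_, lblk_1295⟩
theorem lo_1296_1297 : ∀ b, 1296 ≤ b → b < 1297 → ∃ J, chkPBlk P 5 31 18 31671 b J = true := fun b h1 h2 => by
  have hb : b = 1296 := Nat.le_antisymm (Nat.le_of_lt_succ h2) h1
  subst hb; exact ⟨_, lblk_1296⟩
theorem lo_1295_1297 : ∀ b, 1295 ≤ b → b < 1297 → ∃ J, chkPBlk P 5 31 18 31671 b J = true := fun b h1 h2 =>
  if h : b < 1296 then lo_1295_1296 b h1 h else lo_1296_1297 b (Nat.le_of_not_lt h) h2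
theorem lo_1297_1298 : ∀ b, 1297 ≤ b → b < 1298 → ∃ J, chkPBlk P 5 31 18 31671 b J = true := fun b h1 h2 => by
  have hb : b = 1297 := Nat.le_antisymm (Nat.le_of_lt_succ h2) h1
  subst hb; exact ⟨_, lblk_1297⟩
theorem lo_1298_1299 : ∀ b, 1298 ≤ b → b < 1299 → ∃ J, chkPBlk P 5 31 18 31671 b J = true := fun b h1 h2 => by
  have hb : b = 1298 := Nat.le_antisymm (Nat.le_of_lt_succ h2) h1
  subst hb; exact ⟨_, lblk_1298⟩
theorem lo_1297_1299 : ∀ b, 1297 ≤ b → b < 1299 → ∃ J, chkPBlk P 5 31 18 31671 b J = true := fun b h1 h2 =>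
  if h : b < 1298 then lo_1297_1298 b h1 h else lo_1298_1299 b (Nat.le_of_not_lt h) h2
theorem lo_1295_1299 : ∀ b, 1295 ≤ b → b < 1299 → ∃ J, chkPBlk P 5 31 18 31671 b J = true := fun b h1 h2 =>
  if h : b < 1297 then lo_1295_1297 b h1 h else lo_1297_1299 b (Nat.le_of_not_lt h) h2
theorem lo_1299_1300 : ∀ b, 1299 ≤ b → b < 1300 → ∃ J, chkPBlk P 5 31 18 31671 b J = true := fun b h1 h2 => by
  have hb : b = 1299 := Nat.le_antisymm (Nat.le_of_lt_succ h2) h1
  subst hb; exact ⟨_, lblk_1299⟩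
theorem lo_1300_1301 : ∀ b, 1300 ≤ b → b < 1301 → ∃ J, chkPBlk P 5 31 18 31671 b J = true := fun b h1 h2 => by
  have hb : b = 1300 := Nat.le_antisymm (Nat.le_of_lt_succ h2) h1
  subst hb; exact ⟨_, lblk_1300⟩
theorem lo_1299_1301 : ∀ b, 1299 ≤ b → b < 1301 → ∃ J, chkPBlk P 5 31 18 31671 b J = true := fun b h1 h2 =>
  if h : b < 1300 then lo_1299_1300 b h1 h else lo_1300_1301 b (Nat.le_of_not_lt h) h2
theorem lo_1301_1302 : ∀ b, 1301 ≤ b → b < 1302 → ∃ J, chkPBlk P 5 31 18 31671 b J = true := fun b h1 h2 => by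
  have hb : b = 1301 := Nat.le_antisymm (Nat.le_of_lt_succ h2) h1
  subst hb; exact ⟨_, lblk_1301⟩
theorem lo_1302_1303 : ∀ b, 1302 ≤ b → b < 1303 → ∃ J, chkPBlk P 5 31 18 31671 b J = true := fun b h1 h2 => by
  have hb : b = 1302 := Nat.le_antisymm (Nat.le_of_lt_succ h2) h1
  subst hb; exact ⟨_, lblk_1302⟩
theorem lo_1303_1304 : ∀ b, 1303 ≤ b → b < 1304 → ∃ J, chkPBlk P 5 31 18 31671 b J = true := fun b h1 h2 => by
  have hb : b = 1303 := Nat.le_antisymm (Nat.le_of_lt_succ h2) h1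
  subst hb; exact ⟨_, lblk_1303⟩
theorem lo_1302_1304 : ∀ b, 1302 ≤ b → b < 1304 → ∃ J, chkPBlk P 5 31 18 31671 b J = true := fun b h1 h2 =>
  if h : b < 1303 then lo_1302_1303 b h1 h else lo_1303_1304 b (Nat.le_of_not_lt h) h2
theorem lo_1301_1304 : ∀ b, 1301 ≤ b → b < 1304 → ∃ J, chkPBlk P 5 31 18 31671 b J = true := fun b h1 h2 =>
  if h : b < 1302 then lo_1301_1302 b h1 h else lo_1302_1304 b (Nat.le_of_not_lt h) h2
theorem lo_1299_1304 : ∀ b, 1299 ≤ b → b < 1304 → ∃ J, chkPBlk P 5 31 18 31671 b J = true := fun b h1 h2 =>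
  if h : b < 1301 then lo_1299_1301 b h1 h else lo_1301_1304 b (Nat.le_of_not_lt h) h2
theorem lo_1295_1304 : ∀ b, 1295 ≤ b → b < 1304 → ∃ J, chkPBlk P 5 31 18 31671 b J = true := fun b h1 h2 =>
  if h : b < 1299 then lo_1295_1299 b h1 h else lo_1299_1304 b (Nat.le_of_not_lt h) h2
theorem lo_1286_1304 : ∀ b, 1286 ≤ b → b < 1304 → ∃ J, chkPBlk P 5 31 18 31671 b J = true := fun b h1 h2 =>
  if h : b < 1295 then lo_1286_1295 b h1 h else lo_1295_1304 b (Nat.le_of_not_lt h) h2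
theorem lo_1304_1305 : ∀ b, 1304 ≤ b → b < 1305 → ∃ J, chkPBlk P 5 31 18 31671 b J = true := fun b h1 h2 => by
  have hb : b = 1304 := Nat.le_antisymm (Nat.le_of_lt_succ h2) h1
  subst hb; exact ⟨_, lblk_1304⟩
theorem lo_1305_1306 : ∀ b, 1305 ≤ b → b < 1306 → ∃ J, chkPBlk P 5 31 18 31671 b J = true := fun b h1 h2 => by
  have hb : b = 1305 := Nat.le_antisymm (Nat.le_of_lt_succ h2) h1
  subst hb; exact ⟨_, lblk_1305⟩
theorem lo_1304_1306 : ∀ b, 1304 ≤ b → b < 1306 → ∃ J, chkPBlk P 5 31 18 31671 b J = true := fun b h1 h2 =>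
  if h : b < 1305 then lo_1304_1305 b h1 h else lo_1305_1306 b (Nat.le_of_not_lt h) h2
theorem lo_1306_1307 : ∀ b, 1306 ≤ b → b < 1307 → ∃ J, chkPBlk P 5 31 18 31671 b J = true := fun b h1 h2 => by
  have hb : b = 1306 := Nat.le_antisymm (Nat.le_of_lt_succ h2) h1
  subst hb; exact ⟨_, lblk_1306⟩
theorem lo_1307_1308 : ∀ b, 1307 ≤ b → b < 1308 → ∃ J, chkPBlk P 5 31 18 31671 b J = true := fun b h1 h2 => by
  have hb : b = 1307 := Nat.le_antisymm (Nat.le_of_lt_succ h2) h1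
  subst hb; exact ⟨_, lblk_1307⟩
theorem lo_1306_1308 : ∀ b, 1306 ≤ b → b < 1308 → ∃ J, chkPBlk P 5 31 18 31671 b J = true := fun b h1 h2 =>
  if h : b < 1307 then lo_1306_1307 b h1 h else lo_1307_1308 b (Nat.le_of_not_lt h) h2
theorem lo_1304_1308 : ∀ b, 1304 ≤ b → b < 1308 → ∃ J, chkPBlk P 5 31 18 31671 b J = true := fun b h1 h2 =>
  if h : b < 1306 then lo_1304_1306 b h1 h else lo_1306_1308 b (Nat.le_of_not_lt h) h2
theorem lo_1308_1309 : ∀ b, 1308 ≤ b → b < 1309 → ∃ J, chkPBlk P 5 31 18 31671 b J = true := fun b h1 h2 => by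
  have hb : b = 1308 := Nat.le_antisymm (Nat.le_of_lt_succ h2) h1
  subst hb; exact ⟨_, lblk_1308⟩
theorem lo_1309_1310 : ∀ b, 1309 ≤ b → b < 1310 → ∃ J, chkPBlk P 5 31 18 31671 b J = true := fun b h1 h2 => by
  have hb : b = 1309 := Nat.le_antisymm (Nat.le_of_lt_succ h2) h1
  subst hb; exact ⟨_, lblk_1309⟩
theorem lo_1308_1310 : ∀ b, 1308 ≤ b → b < 1310 → ∃ J, chkPBlk P 5 31 18 31671 b J = true := fun b h1 h2 =>
  if h : b < 1309 then lo_1308_1309 b h1 h else lo_1309_1310 b (Nat.le_of_not_lt h) h2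
theorem lo_1310_1311 : ∀ b, 1310 ≤ b → b < 1311 → ∃ J, chkPBlk P 5 31 18 31671 b J = true := fun b h1 h2 => by
  have hb : b = 1310 := Nat.le_antisymm (Nat.le_of_lt_succ h2) h1
  subst hb; exact ⟨_, lblk_1310⟩
theorem lo_1311_1312 : ∀ b, 1311 ≤ b → b < 1312 → ∃ J, chkPBlk P 5 31 18 31671 b J = true := fun b h1 h2 => by
  have hb : b = 1311 := Nat.le_antisymm (Nat.le_of_lt_succ h2) h1
  subst hb; exact ⟨_, lblk_1311⟩
theorem lo_1312_1313 : ∀ b, 1312 ≤ b → b < 1313 → ∃ J, chkPBlk P 5 31 18 31671 b J = true := fun b h1 h2 => by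
  have hb : b = 1312 := Nat.le_antisymm (Nat.le_of_lt_succ h2) h1
  subst hb; exact ⟨_, lblk_1312⟩
theorem lo_1311_1313 : ∀ b, 1311 ≤ b → b < 1313 → ∃ J, chkPBlk P 5 31 18 31671 b J = true := fun b h1 h2 =>
  if h : b < 1312 then lo_1311_1312 b h1 h else lo_1312_1313 b (Nat.le_of_not_lt h) h2
theorem lo_1310_1313 : ∀ b, 1310 ≤ b → b < 1313 → ∃ J, chkPBlk P 5 31 18 31671 b J = true := fun b h1 h2 =>
  if h : b < 1311 then lo_1310_1311 b h1 h else lo_1311_1313 b (Nat.le_of_not_lt h) h2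
theorem lo_1308_1313 : ∀ b, 1308 ≤ b → b < 1313 → ∃ J, chkPBlk P 5 31 18 31671 b J = true := fun b h1 h2 =>
  if h : b < 1310 then lo_1308_1310 b h1 h else lo_1310_1313 b (Nat.le_of_not_lt h) h2
theorem lo_1304_1313 : ∀ b, 1304 ≤ b → b < 1313 → ∃ J, chkPBlk P 5 31 18 31671 b J = true := fun b h1 h2 =>
  if h : b < 1308 then lo_1304_1308 b h1 h else lo_1308_1313 b (Nat.le_of_not_lt h) h2
theorem lo_1313_1314 : ∀ b, 1313 ≤ b → b < 1314 → ∃ J, chkPBlk P 5 31 18 31671 b J = true := fun b h1 h2 => by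
  have hb : b = 1313 := Nat.le_antisymm (Nat.le_of_lt_succ h2) h1
  subst hb; exact ⟨_, lblk_1313⟩
theorem lo_1314_1315 : ∀ b, 1314 ≤ b → b < 1315 → ∃ J, chkPBlk P 5 31 18 31671 b J = true := fun b h1 h2 => by
  have hb : b = 1314 := Nat.le_antisymm (Nat.le_of_lt_succ h2) h1
  subst hb; exact ⟨_, lblk_1314⟩
theorem lo_1313_1315 : ∀ b, 1313 ≤ b → b < 1315 → ∃ J, chkPBlk P 5 31 18 31671 b J = true := fun b h1 h2 =>
  if h : b < 1314 then lo_1313_1314 b h1 h else lo_1314_1315 b (Nat.le_of_not_lt h) h2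
theorem lo_1315_1316 : ∀ b, 1315 ≤ b → b < 1316 → ∃ J, chkPBlk P 5 31 18 31671 b J = true := fun b h1 h2 => by
  have hb : b = 1315 := Nat.le_antisymm (Nat.le_of_lt_succ h2) h1
  subst hb; exact ⟨_, lblk_1315⟩
theorem lo_1316_1317 : ∀ b, 1316 ≤ b → b < 1317 → ∃ J, chkPBlk P 5 31 18 31671 b J = true := fun b h1 h2 => by
  have hb : b = 1316 := Nat.le_antisymm (Nat.le_of_lt_succ h2) h1
  subst hb; exact ⟨_, lblk_1316⟩
theorem lo_1317_1318 : ∀ b, 1317 ≤ b → b < 1318 → ∃ J, chkPBlk P 5 31 18 31671 b J = true := fun b h1 h2 => by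
  have hb : b = 1317 := Nat.le_antisymm (Nat.le_of_lt_succ h2) h1
  subst hb; exact ⟨_, lblk_1317⟩
theorem lo_1316_1318 : ∀ b, 1316 ≤ b → b < 1318 → ∃ J, chkPBlk P 5 31 18 31671 b J = true := fun b h1 h2 =>
  if h : b < 1317 then lo_1316_1317 b h1 h else lo_1317_1318 b (Nat.le_of_not_lt h) h2
theorem lo_1315_1318 : ∀ b, 1315 ≤ b → b < 1318 → ∃ J, chkPBlk P 5 31 18 31671 b J = true := fun b h1 h2 =>
  if h : b < 1316 then lo_1315_1316 b h1 h else lo_1316_1318 b (Nat.le_of_not_lt h) h2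
theorem lo_1313_1318 : ∀ b, 1313 ≤ b → b < 1318 → ∃ J, chkPBlk P 5 31 18 31671 b J = true := fun b h1 h2 =>
  if h : b < 1315 then lo_1313_1315 b h1 h else lo_1315_1318 b (Nat.le_of_not_lt h) h2
theorem lo_1318_1319 : ∀ b, 1318 ≤ b → b < 1319 → ∃ J, chkPBlk P 5 31 18 31671 b J = true := fun b h1 h2 => by
  have hb : b = 1318 := Nat.le_antisymm (Nat.le_of_lt_succ h2) h1
  subst hb; exact ⟨_, lblk_1318⟩
theorem lo_1319_1320 : ∀ b, 1319 ≤ b → b < 1320 → ∃ J, chkPBlk P 5 31 18 31671 b J = true := fun b h1 h2 => by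
  have hb : b = 1319 := Nat.le_antisymm (Nat.le_of_lt_succ h2) h1
  subst hb; exact ⟨_, lblk_1319⟩
theorem lo_1318_1320 : ∀ b, 1318 ≤ b → b < 1320 → ∃ J, chkPBlk P 5 31 18 31671 b J = true := fun b h1 h2 =>
  if h : b < 1319 then lo_1318_1319 b h1 h else lo_1319_1320 b (Nat.le_of_not_lt h) h2
theorem lo_1320_1321 : ∀ b, 1320 ≤ b → b < 1321 → ∃ J, chkPBlk P 5 31 18 31671 b J = true := fun b h1 h2 => by
  have hb : b = 1320 := Nat.le_antisymm (Nat.le_of_lt_succ h2) h1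
  subst hb; exact ⟨_, lblk_1320⟩
theorem lo_1321_1322 : ∀ b, 1321 ≤ b → b < 1322 → ∃ J, chkPBlk P 5 31 18 31671 b J = true := fun b h1 h2 => by
  have hb : b = 1321 := Nat.le_antisymm (Nat.le_of_lt_succ h2) h1
  subst hb; exact ⟨_, lblk_1321⟩
theorem lo_1322_1323 : ∀ b, 1322 ≤ b → b < 1323 → ∃ J, chkPBlk P 5 31 18 31671 b J = true := fun b h1 h2 => by
  have hb : b = 1322 := Nat.le_antisymm (Nat.le_of_lt_succ h2) h1
  subst hb; exact ⟨_, lblk_1322⟩
theorem lo_1321_1323 : ∀ b, 1321 ≤ b → b < 1323 → ∃ J, chkPBlk P 5 31 18 31671 b J = true := fun b h1 h2 =>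
  if h : b < 1322 then lo_1321_1322 b h1 h else lo_1322_1323 b (Nat.le_of_not_lt h) h2
theorem lo_1320_1323 : ∀ b, 1320 ≤ b → b < 1323 → ∃ J, chkPBlk P 5 31 18 31671 b J = true := fun b h1 h2 =>
  if h : b < 1321 then lo_1320_1321 b h1 h else lo_1321_1323 b (Nat.le_of_not_lt h) h2
theorem lo_1318_1323 : ∀ b, 1318 ≤ b → b < 1323 → ∃ J, chkPBlk P 5 31 18 31671 b J = true := fun b h1 h2 =>
  if h : b < 1320 then lo_1318_1320 b h1 h else lo_1320_1323 b (Nat.le_of_not_lt h) h2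
theorem lo_1313_1323 : ∀ b, 1313 ≤ b → b < 1323 → ∃ J, chkPBlk P 5 31 18 31671 b J = true := fun b h1 h2 =>
  if h : b < 1318 then lo_1313_1318 b h1 h else lo_1318_1323 b (Nat.le_of_not_lt h) h2
theorem lo_1304_1323 : ∀ b, 1304 ≤ b → b < 1323 → ∃ J, chkPBlk P 5 31 18 31671 b J = true := fun b h1 h2 =>
  if h : b < 1313 then lo_1304_1313 b h1 h else lo_1313_1323 b (Nat.le_of_not_lt h) h2
theorem lo_1286_1323 : ∀ b, 1286 ≤ b → b < 1323 → ∃ J, chkPBlk P 5 31 18 31671 b J = true := fun b h1 h2 =>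
  if h : b < 1304 then lo_1286_1304 b h1 h else lo_1304_1323 b (Nat.le_of_not_lt h) h2
theorem lo_1249_1323 : ∀ b, 1249 ≤ b → b < 1323 → ∃ J, chkPBlk P 5 31 18 31671 b J = true := fun b h1 h2 =>
  if h : b < 1286 then lo_1249_1286 b h1 h else lo_1286_1323 b (Nat.le_of_not_lt h) h2
theorem lo_1176_1323 : ∀ b, 1176 ≤ b → b < 1323 → ∃ J, chkPBlk P 5 31 18 31671 b J = true := fun b h1 h2 =>
  if h : b < 1249 then lo_1176_1249 b h1 h else lo_1249_1323 b (Nat.le_of_not_lt h) h2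

end Cfsg.Agent.Lib.Helper29.S1689
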