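import Cfsg.Agent.Lib.Helper29.S1689.Data

set_option autoImplicit false
set_option Elab.async false

namespace Cfsg.Agent.Lib.Helper29.S1689

open Cfsg.Agent.Lib.Helper29.TcTrace Cfsg.Agent.Lib.Helper29.TcCert Cfsg.Agent.Lib.Helper29.TcPerm

theorem lblk_1323 : chkPBlk P 5 31 18 31671 1323 0xa2314c5094450944318865 = true := by decide +kernel
theorem lblk_1324 : chkPBlk P 5 31 18 31671 1324 0xa228c27314223144519c86 = true := by decide +kernel
theorem lblk_1325 : chkPBlk P 5 31 18 31671 1325 0x66284c4284c51086628446 = true := by decide +kernel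
theorem lblk_1326 : chkPBlk P 5 31 18 31671 1326 0x46284a2288622844511463 = true := by decide +kernel
theorem lblk_1327 : chkPBlk P 5 31 18 31671 1327 0xe6214262142510866214a1 = true := by decide +kernel
theorem lblk_1328 : chkPBlk P 5 31 18 31671 1328 0xa1108e7418e63142731885 = true := by decide +kernel
theorem lblk_1329 : chkPBlk P 5 31 18 31671 1329 0xa111424284a22842228841 = true := by decide +kernel
theorem lblk_1330 : chkPBlk P 5 31 18 31671 1330 0xa318c8628861088a2088e6 = true := by decide +kernel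
theorem lblk_1331 : chkPBlk P 5 31 18 31671 1331 0xc5118a228c67310a1118a2 = true := by decide +kernel
theorem lblk_1332 : chkPBlk P 5 31 18 31671 1332 0x4518441398a731422398a1 = true := by decide +kernel
theorem lblk_1333 : chkPBlk P 5 31 18 31671 1333 0xa1288c5114642842228865 = true := by decide +kernel
theorem lblk_1334 : chkPBlk P 5 31 18 31671 1334 0x65088a228c211084528424 = true := by decide +kernel
theorem lblk_1335 : chkPBlk P 5 31 18 31671 1335 0xa131448214a128485088a2 = true := by decide +kernel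
theorem lblk_1336 : chkPBlk P 5 31 18 31671 1336 0x12821cc6298853188521424 = true := by decide +kernel
theorem lblk_1337 : chkPBlk P 5 31 18 31671 1337 0x4319043190612884518c84 = true := by decide +kernel
theorem lblk_1338 : chkPBlk P 5 31 18 31671 1338 0x2511465088251250428422 = true := by decide +kernel
theorem lblk_1339 : chkPBlk P 5 31 18 31671 1339 0x1281a0852842208822284a2 = true := by decide +kernel
theorem lblk_1340 : chkPBlk P 5 31 18 31671 1340 0x45184a2398a228ca3314a3 = true := by decide +kernel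
theorem lblk_1341 : chkPBlk P 5 31 18 31671 1341 0xa3284a228c6821426284c5 = true := by decide +kernel
theorem lblk_1342 : chkPBlk P 5 31 18 31671 1342 0xe62988509cc4284c5118a2 = true := by decide +kernel
theorem lblk_1343 : chkPBlk P 5 31 18 31671 1343 0x251146110cc62250942085 = true := by decide +kernel
theorem lblk_1344 : chkPBlk P 5 31 18 31671 1344 0xa1290a1284a12882511425 = true := by decide +kernel
theorem lblk_1345 : chkPBlk P 5 31 18 31671 1345 0xc511466288c43144528c85 = true := by decide +kernel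
theorem lblk_1346 : chkPBlk P 5 31 18 31671 1346 0x450944519464284a2398a1 = true := by decide +kernel
theorem lblk_1347 : chkPBlk P 5 31 18 31671 1347 0x634a085284c509885098a2 = true := by decide +kernel
theorem lblk_1348 : chkPBlk P 5 31 18 31671 1348 0xa131425108621946509445 = true := by decide +kernel
theorem lblk_1349 : chkPBlk P 5 31 18 31671 1349 0x853982731885398a108846 = true := by decide +kernel
theorem lblk_1350 : chkPBlk P 5 31 18 31671 1350 0xa11082511445184e442503 = true := by decide +kernel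
theorem lblk_1351 : chkPBlk P 5 31 18 31671 1351 0x61288e6288a328cc528ca1 = true := by decide +kernel
theorem lblk_1352 : chkPBlk P 5 31 18 31671 1352 0xa1288c509446288a319445 = true := by decide +kernel
theorem lblk_1353 : chkPBlk P 5 31 18 31671 1353 0xa1118a128845088a210d04 = true := by decide +kernel
theorem lblk_1354 : chkPBlk P 5 31 18 31671 1354 0xa1288a310c221a085284c5 = true := by decide +kernel
theorem lblk_1355 : chkPBlk P 5 31 18 31671 1355 0x6511461288e6288a328c64 = true := by decide +kernel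
theorem lblk_1356 : chkPBlk P 5 31 18 31671 1356 0x63188682142628446288a3 = true := by decide +kernel
theorem lblk_1357 : chkPBlk P 5 31 18 31671 1357 0xc5118a228d062142231445 = true := by decide +kernel
theorem lblk_1358 : chkPBlk P 5 31 18 31671 1358 0xc528d28410a629885098a1 = true := by decide +kernel
theorem lblk_1359 : chkPBlk P 5 31 18 31671 1359 0xa131445198a228ce6218a2 = true := by decide +kernel
theorem lblk_1360 : chkPBlk P 5 31 18 31671 1360 0xc511446284c5110a1288e6 = true := by decide +kernel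
theorem lblk_1361 : chkPBlk P 5 31 18 31671 1361 0x2218d28214a1314a1310a1 = true := by decide +kernel
theorem lblk_1362 : chkPBlk P 5 31 18 31671 1362 0x45198a6284c5098a231442 = true := by decide +kernel
theorem lblk_1363 : chkPBlk P 5 31 18 31671 1363 0xe6310a7310a1310a131445 = true := by decide +kernel
theorem lblk_1364 : chkPBlk P 5 31 18 31671 1364 0xa8324894a08539906214a1 = true := by decide +kernel
theorem lblk_1365 : chkPBlk P 5 31 18 31671 1365 0x85084252142628485284a2 = true := by decide +kernel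
theorem lblk_1366 : chkPBlk P 5 31 18 31671 1366 0xc5098a210ca4284a208928 = true := by decide +kernel
theorem lblk_1367 : chkPBlk P 5 31 18 31671 1367 0x85090a1288221208521427 = true := by decide +kernel
theorem lblk_1368 : chkPBlk P 5 31 18 31671 1368 0x4518c67310c5114634a088 = true := by decide +kernel
theorem lblk_1369 : chkPBlk P 5 31 18 31671 1369 0xc5118a231cc4284c511465 = true := by decide +kernel
theorem lblk_1370 : chkPBlk P 5 31 18 31671 1370 0xa4284e629cc4284c5118a1 = true := by decide +kernel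
theorem lblk_1371 : chkPBlk P 5 31 18 31671 1371 0x10429421214251082228904 = true := by decide +kernel
theorem lblk_1372 : chkPBlk P 5 31 18 31671 1372 0x65088a228c22125094a064 = true := by decide +kernel
theorem lblk_1373 : chkPBlk P 5 31 18 31671 1373 0x85098a2284852848509442 = true := by decide +kernel
theorem lblk_1374 : chkPBlk P 5 31 18 31671 1374 0xc33110621506310a621426 = true := by decide +kernel
theorem lblk_1375 : chkPBlk P 5 31 18 31671 1375 0x1244092840d2822506218a5 = true := by decide +kernel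
theorem lblk_1376 : chkPBlk P 5 31 18 31671 1376 0x25284a20882218861124a4 = true := by decide +kernel
theorem lblk_1377 : chkPBlk P 5 31 18 31671 1377 0xa131445284a4284a228421 = true := by decide +kernel
theorem lblk_1378 : chkPBlk P 5 31 18 31671 1378 0xa1310a4284a509442088e6 = true := by decide +kernel
theorem lblk_1379 : chkPBlk P 5 31 18 31671 1379 0x86298c4290a1314c4284a4 = true := by decide +kernel
theorem lblk_1380 : chkPBlk P 5 31 18 31671 1380 0x41398a139885090a129866 = true := by decide +kernel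
theorem lblk_1381 : chkPBlk P 5 31 18 31671 1381 0x45190a428425090a128845 = true := by decide +kernel
theorem lblk_1382 : chkPBlk P 5 31 18 31671 1382 0x2510861114451942111443 = true := by decide +kernel
theorem lblk_1383 : chkPBlk P 5 31 18 31671 1383 0xa4290a1214251142528485 = true := by decide +kernel
theorem lblk_1384 : chkPBlk P 5 31 18 31671 1384 0x22288a231505298c4418c4 = true := by decide +kernel
theorem lblk_1385 : chkPBlk P 5 31 18 31671 1385 0x22314c4284c511425104c5 = true := by decide +kernel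
theorem lblk_1386 : chkPBlk P 5 31 18 31671 1386 0x2621426288a50942511442 = true := by decide +kernel
theorem lblk_1387 : chkPBlk P 5 31 18 31671 1387 0xe6284c5108e6314e629cc5 = true := by decide +kernel
theorem lblk_1388 : chkPBlk P 5 31 18 31671 1388 0x2528442088a4284a2284a2 = true := by decide +kernel
theorem lblk_1389 : chkPBlk P 5 31 18 31671 1389 0x27310a131447310a1318a5 = true := by decide +kernel
theorem lblk_1390 : chkPBlk P 5 31 18 31671 1390 0xc428422314262142511cc5 = true := by decide +kernel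
theorem lblk_1391 : chkPBlk P 5 31 18 31671 1391 0x2508825094251084631885 = true := by decide +kernel
theorem lblk_1392 : chkPBlk P 5 31 18 31671 1392 0xc6214c42942111885098a5 = true := by decide +kernel
theorem lblk_1393 : chkPBlk P 5 31 18 31671 1393 0x85084a10a0e731ce6310e8 = true := by decide +kernel
theorem lblk_1394 : chkPBlk P 5 31 18 31671 1394 0xa1104a109cc5090a4284a1 = true := by decide +kernel
theorem lblk_1395 : chkPBlk P 5 31 18 31671 1395 0xa21188509885098a2108c4 = true := by decide +kernel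
theorem lblk_1396 : chkPBlk P 5 31 18 31671 1396 0xc731427314e6284e621426 = true := by decide +kernel
theorem lblk_1397 : chkPBlk P 5 31 18 31671 1397 0x262890428485088a128827 = true := by decide +kernel
theorem lblk_1398 : chkPBlk P 5 31 18 31671 1398 0x450942510421290a428485 = true := by decide +kernel
theorem lblk_1399 : chkPBlk P 5 31 18 31671 1399 0x85214850a5042a085090a1 = true := by decide +kernel
theorem lblk_1400 : chkPBlk P 5 31 18 31671 1400 0x611086228425108a3498c4 = true := by decide +kernel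
theorem lblk_1401 : chkPBlk P 5 31 18 31671 1401 0x24284a2284a14a08508442 = true := by decide +kernel
theorem lblk_1402 : chkPBlk P 5 31 18 31671 1402 0x47310c512128190a1084a5 = true := by decide +kernel
theorem lblk_1403 : chkPBlk P 5 31 18 31671 1403 0x85098a22142731426288c5 = true := by decide +kernel
theorem lblk_1404 : chkPBlk P 5 31 18 31671 1404 0xa131445284a212504298a6 = true := by decide +kernel
theorem lblk_1405 : chkPBlk P 5 31 18 31671 1405 0xe641885398c429cc4284c4 = true := by decide +kernel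
theorem lblk_1406 : chkPBlk P 5 31 18 31671 1406 0xa12948509441119244a504 = true := by decide +kernel
theorem lblk_1407 : chkPBlk P 5 31 18 31671 1407 0xc62142428865214a521424 = true := by decide +kernel
theorem lblk_1408 : chkPBlk P 5 31 18 31671 1408 0xa4284e6298850944621428 = true := by decide +kernel
theorem lblk_1409 : chkPBlk P 5 31 18 31671 1409 0xc429885084a4284a228904 = true := by decide +kernel
theorem lblk_1410 : chkPBlk P 5 31 18 31671 1410 0x22088a22942510928214c6 = true := by decide +kernel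
theorem lblk_1411 : chkPBlk P 5 31 18 31671 1411 0x10339ce6310e628426314a1 = true := by decide +kernel
theorem lblk_1412 : chkPBlk P 5 31 18 31671 1412 0x86288a5084a1284a229128 = true := by decide +kernel
theorem lblk_1413 : chkPBlk P 5 31 18 31671 1413 0x4509444284e6284c5118a2 = true := by decide +kernel
theorem lblk_1414 : chkPBlk P 5 31 18 31671 1414 0x2112085284c5284c4284a2 = true := by decide +kernel
theorem lblk_1415 : chkPBlk P 5 31 18 31671 1415 0x2208904298a1314a109425 = true := by decide +kernel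
theorem lblk_1416 : chkPBlk P 5 31 18 31671 1416 0xe6284c5118a210ca4284a2 = true := by decide +kernel
theorem lblk_1417 : chkPBlk P 5 31 18 31671 1417 0xc509885098a211425110a1 = true := by decide +kernel
theorem lblk_1418 : chkPBlk P 5 31 18 31671 1418 0x10621426284a2108224a085 = true := by decide +kernel
theorem lblk_1419 : chkPBlk P 5 31 18 31671 1419 0x8641885314c509885098a2 = true := by decide +kernel
theorem lblk_1420 : chkPBlk P 5 31 18 31671 1420 0xa13144831cc4284c512528 = true := by decide +kernel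
theorem lblk_1421 : chkPBlk P 5 31 18 31671 1421 0x8521427314e62142511cc4 = true := by decide +kernel
theorem lblk_1422 : chkPBlk P 5 31 18 31671 1422 0xc6214c428485098a621428 = true := by decide +kernel
theorem lblk_1423 : chkPBlk P 5 31 18 31671 1423 0xa6284c42842110928214c5 = true := by decide +kernel
theorem lblk_1424 : chkPBlk P 5 31 18 31671 1424 0x106310a621424284a2318a6 = true := by decide +kernel
theorem lblk_1425 : chkPBlk P 5 31 18 31671 1425 0xe941885394e6310e831885 = true := by decide +kernel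
theorem lblk_1426 : chkPBlk P 5 31 18 31671 1426 0x214a085314a42850549528 = true := by decide +kernel
theorem lblk_1427 : chkPBlk P 5 31 18 31671 1427 0x88214e629cc42842221485 = true := by decide +kernel
theorem lblk_1428 : chkPBlk P 5 31 18 31671 1428 0x2628849420882148508428 = true := by decide +kernel
theorem lblk_1429 : chkPBlk P 5 31 18 31671 1429 0xa621425114251084639885 = true := by decide +kernel
theorem lblk_1430 : chkPBlk P 5 31 18 31671 1430 0xc4284c53142621425418c4 = true := by decide +kernel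
theorem lblk_1431 : chkPBlk P 5 31 18 31671 1431 0xa14a064410a731d06310a7 = true := by decide +kernel
theorem lblk_1432 : chkPBlk P 5 31 18 31671 1432 0x214912840d28210a428421 = true := by decide +kernel
theorem lblk_1433 : chkPBlk P 5 31 18 31671 1433 0xa1214852142111424284a2 = true := by decide +kernel
theorem lblk_1434 : chkPBlk P 5 31 18 31671 1434 0x12541866220c6214c6214c4 = true := by decide +kernel
theorem lblk_1435 : chkPBlk P 5 31 18 31671 1435 0x884912812509418a61a0c4 = true := by decide +kernel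
theorem lblk_1436 : chkPBlk P 5 31 18 31671 1436 0x852142529421088220a125 = true := by decide +kernel
theorem lblk_1437 : chkPBlk P 5 31 18 31671 1437 0x8521484294a1084e629425 = true := by decide +kernel
theorem lblk_1438 : chkPBlk P 5 31 18 31671 1438 0xc4290a628ca619884298c6 = true := by decide +kernel
theorem lblk_1439 : chkPBlk P 5 31 18 31671 1439 0x64410a4290a1090a1398e6 = true := by decide +kernel
theorem lblk_1440 : chkPBlk P 5 31 18 31671 1440 0x211048509445090a1104a2 = true := by decide +kernel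
theorem lblk_1441 : chkPBlk P 5 31 18 31671 1441 0x10631064214852142521485 = true := by decide +kernel
theorem lblk_1442 : chkPBlk P 5 31 18 31671 1442 0xa1290a131424284a1314c8 = true := by decide +kernel
theorem lblk_1443 : chkPBlk P 5 31 18 31671 1443 0xa1294a121421098c6214c4 = true := by decide +kernel
theorem lblk_1444 : chkPBlk P 5 31 18 31671 1444 0xc42842731cc7314c6214c4 = true := by decide +kernel
theorem lblk_1445 : chkPBlk P 5 31 18 31671 1445 0xc528421214850948509cc5 = true := by decide +kernel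
theorem lblk_1446 : chkPBlk P 5 31 18 31671 1446 0xa1398e6310a7310a139885 = true := by decide +kernel
theorem lblk_1447 : chkPBlk P 5 31 18 31671 1447 0x2130cc4418c4284c6310a4 = true := by decide +kernel
theorem lblk_1448 : chkPBlk P 5 31 18 31671 1448 0x1073a0c621885098a5094a1 = true := by decide +kernel
theorem lblk_1449 : chkPBlk P 5 31 18 31671 1449 0x21310a129cc3210a429ce6 = true := by decide +kernel
theorem lblk_1450 : chkPBlk P 5 31 18 31671 1450 0xc6214e621421310c4298a1 = true := by decide +kernel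
theorem lblk_1451 : chkPBlk P 5 31 18 31671 1451 0x882142521427398e6398a7 = true := by decide +kernel
theorem lblk_1452 : chkPBlk P 5 31 18 31671 1452 0x84284a508c84290a428528 = true := by decide +kernel
theorem lblk_1453 : chkPBlk P 5 31 18 31671 1453 0x41290a109446210854a128 = true := by decide +kernel
theorem lblk_1454 : chkPBlk P 5 31 18 31671 1454 0x10819485214254a08108821 = true := by decide +kernel
theorem lblk_1455 : chkPBlk P 5 31 18 31671 1455 0xa7310a139885098e621429 = true := by decide +kernel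
theorem lblk_1456 : chkPBlk P 5 31 18 31671 1456 0x29410c6310a621428214e6 = true := by decide +kernel
theorem lblk_1457 : chkPBlk P 5 31 18 31671 1457 0x8731885418c429885094a1 = true := by decide +kernel
theorem lblk_1458 : chkPBlk P 5 31 18 31671 1458 0x85214214a5074a0c439cc6 = true := by decide +kernel
theorem lblk_1459 : chkPBlk P 5 31 18 31671 1459 0xa82a0c6215042846421485 = true := by decide +kernel
theorem lblk_1460 : chkPBlk P 5 31 18 31671 1460 0x103210a7320c621485098c4 = true := by decide +kernel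
theorem lblk_1461 : chkPBlk P 5 31 18 31671 1461 0xa619886310a4290a121429 = true := by decide +kernel
theorem lblk_1462 : chkPBlk P 5 31 18 31671 1462 0x107398e631421284a508528 = true := by decide +kernel
theorem lblk_1463 : chkPBlk P 5 31 18 31671 1463 0x2621428310a12948509489 = true := by decide +kernel
theorem lblk_1464 : chkPBlk P 5 31 18 31671 1464 0xa42842521428214e629885 = true := by decide +kernel
theorem lblk_1465 : chkPBlk P 5 31 18 31671 1465 0x8508428314a1410a6298c4 = true := by decide +kernel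
theorem lblk_1466 : chkPBlk P 5 31 18 31671 1466 0xa7314e621427310a108885 = true := by decide +kernel
theorem lblk_1467 : chkPBlk P 5 31 18 31671 1467 0x104318c429885084a428504 = true := by decide +kernel
theorem lblk_1468 : chkPBlk P 5 31 18 31671 1468 0xc4298850a0c4314a108429 = true := by decide +kernel
theorem lblk_1469 : chkPBlk P 5 31 18 31671 1469 0xc6214c50a5094188631506 = true := by decide +kernel
theorem lo_1323_1324 : ∀ b, 1323 ≤ b → b < 1324 → ∃ J, chkPBlk P 5 31 18 31671 b J = true := fun b h1 h2 => by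
  have hb : b = 1323 := Nat.le_antisymm (Nat.le_of_lt_succ h2) h1
  subst hb; exact ⟨_, lblk_1323⟩
theorem lo_1324_1325 : ∀ b, 1324 ≤ b → b < 1325 → ∃ J, chkPBlk P 5 31 18 31671 b J = true := fun b h1 h2 => by
  have hb : b = 1324 := Nat.le_antisymm (Nat.le_of_lt_succ h2) h1
  subst hb; exact ⟨_, lblk_1324⟩
theorem lo_1323_1325 : ∀ b, 1323 ≤ b → b < 1325 → ∃ J, chkPBlk P 5 31 18 31671 b J = true := fun b h1 h2 =>
  if h : b < 1324 then lo_1323_1324 b h1 h else lo_1324_1325 b (Nat.le_of_not_lt h) h2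
theorem lo_1325_1326 : ∀ b, 1325 ≤ b → b < 1326 → ∃ J, chkPBlk P 5 31 18 31671 b J = true := fun b h1 h2 => by
  have hb : b = 1325 := Nat.le_antisymm (Nat.le_of_lt_succ h2) h1
  subst hb; exact ⟨_, lblk_1325⟩
theorem lo_1326_1327 : ∀ b, 1326 ≤ b → b < 1327 → ∃ J, chkPBlk P 5 31 18 31671 b J = true := fun b h1 h2 => by
  have hb : b = 1326 := Nat.le_antisymm (Nat.le_of_lt_succ h2) h1
  subst hb; exact ⟨_, lblk_1326⟩
theorem lo_1325_1327 : ∀ b, 1325 ≤ b → b < 1327 → ∃ J, chkPBlk P 5 31 18 31671 b J = true := fun b h1 h2 =>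
  if h : b < 1326 then lo_1325_1326 b h1 h else lo_1326_1327 b (Nat.le_of_not_lt h) h2
theorem lo_1323_1327 : ∀ b, 1323 ≤ b → b < 1327 → ∃ J, chkPBlk P 5 31 18 31671 b J = true := fun b h1 h2 =>
  if h : b < 1325 then lo_1323_1325 b h1 h else lo_1325_1327 b (Nat.le_of_not_lt h) h2
theorem lo_1327_1328 : ∀ b, 1327 ≤ b → b < 1328 → ∃ J, chkPBlk P 5 31 18 31671 b J = true := fun b h1 h2 => by
  have hb : b = 1327 := Nat.le_antisymm (Nat.le_of_lt_succ h2) h1
  subst hb; exact ⟨_, lblk_1327⟩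
theorem lo_1328_1329 : ∀ b, 1328 ≤ b → b < 1329 → ∃ J, chkPBlk P 5 31 18 31671 b J = true := fun b h1 h2 => by
  have hb : b = 1328 := Nat.le_antisymm (Nat.le_of_lt_succ h2) h1
  subst hb; exact ⟨_, lblk_1328⟩
theorem lo_1327_1329 : ∀ b, 1327 ≤ b → b < 1329 → ∃ J, chkPBlk P 5 31 18 31671 b J = true := fun b h1 h2 =>
  if h : b < 1328 then lo_1327_1328 b h1 h else lo_1328_1329 b (Nat.le_of_not_lt h) h2
theorem lo_1329_1330 : ∀ b, 1329 ≤ b → b < 1330 → ∃ J, chkPBlk P 5 31 18 31671 b J = true := fun b h1 h2 => by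
  have hb : b = 1329 := Nat.le_antisymm (Nat.le_of_lt_succ h2) h1
  subst hb; exact ⟨_, lblk_1329⟩
theorem lo_1330_1331 : ∀ b, 1330 ≤ b → b < 1331 → ∃ J, chkPBlk P 5 31 18 31671 b J = true := fun b h1 h2 => by
  have hb : b = 1330 := Nat.le_antisymm (Nat.le_of_lt_succ h2) h1
  subst hb; exact ⟨_, lblk_1330⟩
theorem lo_1331_1332 : ∀ b, 1331 ≤ b → b < 1332 → ∃ J, chkPBlk P 5 31 18 31671 b J = true := fun b h1 h2 => by
  have hb : b = 1331 := Nat.le_antisymm (Nat.le_of_lt_succ h2) h1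
  subst hb; exact ⟨_, lblk_1331⟩
theorem lo_1330_1332 : ∀ b, 1330 ≤ b → b < 1332 → ∃ J, chkPBlk P 5 31 18 31671 b J = true := fun b h1 h2 =>
  if h : b < 1331 then lo_1330_1331 b h1 h else lo_1331_1332 b (Nat.le_of_not_lt h) h2
theorem lo_1329_1332 : ∀ b, 1329 ≤ b → b < 1332 → ∃ J, chkPBlk P 5 31 18 31671 b J = true := fun b h1 h2 =>
  if h : b < 1330 then lo_1329_1330 b h1 h else lo_1330_1332 b (Nat.le_of_not_lt h) h2
theorem lo_1327_1332 : ∀ b, 1327 ≤ b → b < 1332 → ∃ J, chkPBlk P 5 31 18 31671 b J = true := fun b h1 h2 =>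
  if h : b < 1329 then lo_1327_1329 b h1 h else lo_1329_1332 b (Nat.le_of_not_lt h) h2
theorem lo_1323_1332 : ∀ b, 1323 ≤ b → b < 1332 → ∃ J, chkPBlk P 5 31 18 31671 b J = true := fun b h1 h2 =>
  if h : b < 1327 then lo_1323_1327 b h1 h else lo_1327_1332 b (Nat.le_of_not_lt h) h2
theorem lo_1332_1333 : ∀ b, 1332 ≤ b → b < 1333 → ∃ J, chkPBlk P 5 31 18 31671 b J = true := fun b h1 h2 => by
  have hb : b = 1332 := Nat.le_antisymm (Nat.le_of_lt_succ h2) h1
  subst hb; exact ⟨_, lblk_1332⟩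
theorem lo_1333_1334 : ∀ b, 1333 ≤ b → b < 1334 → ∃ J, chkPBlk P 5 31 18 31671 b J = true := fun b h1 h2 => by
  have hb : b = 1333 := Nat.le_antisymm (Nat.le_of_lt_succ h2) h1
  subst hb; exact ⟨_, lblk_1333⟩
theorem lo_1332_1334 : ∀ b, 1332 ≤ b → b < 1334 → ∃ J, chkPBlk P 5 31 18 31671 b J = true := fun b h1 h2 =>
  if h : b < 1333 then lo_1332_1333 b h1 h else lo_1333_1334 b (Nat.le_of_not_lt h) h2
theorem lo_1334_1335 : ∀ b, 1334 ≤ b → b < 1335 → ∃ J, chkPBlk P 5 31 18 31671 b J = true := fun b h1 h2 => by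
  have hb : b = 1334 := Nat.le_antisymm (Nat.le_of_lt_succ h2) h1
  subst hb; exact ⟨_, lblk_1334⟩
theorem lo_1335_1336 : ∀ b, 1335 ≤ b → b < 1336 → ∃ J, chkPBlk P 5 31 18 31671 b J = true := fun b h1 h2 => by
  have hb : b = 1335 := Nat.le_antisymm (Nat.le_of_lt_succ h2) h1
  subst hb; exact ⟨_, lblk_1335⟩
theorem lo_1334_1336 : ∀ b, 1334 ≤ b → b < 1336 → ∃ J, chkPBlk P 5 31 18 31671 b J = true := fun b h1 h2 =>
  if h : b < 1335 then lo_1334_1335 b h1 h else lo_1335_1336 b (Nat.le_of_not_lt h) h2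
theorem lo_1332_1336 : ∀ b, 1332 ≤ b → b < 1336 → ∃ J, chkPBlk P 5 31 18 31671 b J = true := fun b h1 h2 =>
  if h : b < 1334 then lo_1332_1334 b h1 h else lo_1334_1336 b (Nat.le_of_not_lt h) h2
theorem lo_1336_1337 : ∀ b, 1336 ≤ b → b < 1337 → ∃ J, chkPBlk P 5 31 18 31671 b J = true := fun b h1 h2 => by
  have hb : b = 1336 := Nat.le_antisymm (Nat.le_of_lt_succ h2) h1
  subst hb; exact ⟨_, lblk_1336⟩
theorem lo_1337_1338 : ∀ b, 1337 ≤ b → b < 1338 → ∃ J, chkPBlk P 5 31 18 31671 b J = true := fun b h1 h2 => by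
  have hb : b = 1337 := Nat.le_antisymm (Nat.le_of_lt_succ h2) h1
  subst hb; exact ⟨_, lblk_1337⟩
theorem lo_1336_1338 : ∀ b, 1336 ≤ b → b < 1338 → ∃ J, chkPBlk P 5 31 18 31671 b J = true := fun b h1 h2 =>
  if h : b < 1337 then lo_1336_1337 b h1 h else lo_1337_1338 b (Nat.le_of_not_lt h) h2
theorem lo_1338_1339 : ∀ b, 1338 ≤ b → b < 1339 → ∃ J, chkPBlk P 5 31 18 31671 b J = true := fun b h1 h2 => by
  have hb : b = 1338 := Nat.le_antisymm (Nat.le_of_lt_succ h2) h1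
  subst hb; exact ⟨_, lblk_1338⟩
theorem lo_1339_1340 : ∀ b, 1339 ≤ b → b < 1340 → ∃ J, chkPBlk P 5 31 18 31671 b J = true := fun b h1 h2 => by
  have hb : b = 1339 := Nat.le_antisymm (Nat.le_of_lt_succ h2) h1
  subst hb; exact ⟨_, lblk_1339⟩
theorem lo_1340_1341 : ∀ b, 1340 ≤ b → b < 1341 → ∃ J, chkPBlk P 5 31 18 31671 b J = true := fun b h1 h2 => by
  have hb : b = 1340 := Nat.le_antisymm (Nat.le_of_lt_succ h2) h1
  subst hb; exact ⟨_, lblk_1340⟩
theorem lo_1339_1341 : ∀ b, 1339 ≤ b → b < 1341 → ∃ J, chkPBlk P 5 31 18 31671 b J = true := fun b h1 h2 =>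
  if h : b < 1340 then lo_1339_1340 b h1 h else lo_1340_1341 b (Nat.le_of_not_lt h) h2
theorem lo_1338_1341 : ∀ b, 1338 ≤ b → b < 1341 → ∃ J, chkPBlk P 5 31 18 31671 b J = true := fun b h1 h2 =>
  if h : b < 1339 then lo_1338_1339 b h1 h else lo_1339_1341 b (Nat.le_of_not_lt h) h2
theorem lo_1336_1341 : ∀ b, 1336 ≤ b → b < 1341 → ∃ J, chkPBlk P 5 31 18 31671 b J = true := fun b h1 h2 =>
  if h : b < 1338 then lo_1336_1338 b h1 h else lo_1338_1341 b (Nat.le_of_not_lt h) h2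
theorem lo_1332_1341 : ∀ b, 1332 ≤ b → b < 1341 → ∃ J, chkPBlk P 5 31 18 31671 b J = true := fun b h1 h2 =>
  if h : b < 1336 then lo_1332_1336 b h1 h else lo_1336_1341 b (Nat.le_of_not_lt h) h2
theorem lo_1323_1341 : ∀ b, 1323 ≤ b → b < 1341 → ∃ J, chkPBlk P 5 31 18 31671 b J = true := fun b h1 h2 =>
  if h : b < 1332 then lo_1323_1332 b h1 h else lo_1332_1341 b (Nat.le_of_not_lt h) h2
theorem lo_1341_1342 : ∀ b, 1341 ≤ b → b < 1342 → ∃ J, chkPBlk P 5 31 18 31671 b J = true := fun b h1 h2 => by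
  have hb : b = 1341 := Nat.le_antisymm (Nat.le_of_lt_succ h2) h1
  subst hb; exact ⟨_, lblk_1341⟩
theorem lo_1342_1343 : ∀ b, 1342 ≤ b → b < 1343 → ∃ J, chkPBlk P 5 31 18 31671 b J = true := fun b h1 h2 => by
  have hb : b = 1342 := Nat.le_antisymm (Nat.le_of_lt_succ h2) h1
  subst hb; exact ⟨_, lblk_1342⟩
theorem lo_1341_1343 : ∀ b, 1341 ≤ b → b < 1343 → ∃ J, chkPBlk P 5 31 18 31671 b J = true := fun b h1 h2 =>
  if h : b < 1342 then lo_1341_1342 b h1 h else lo_1342_1343 b (Nat.le_of_not_lt h) h2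
theorem lo_1343_1344 : ∀ b, 1343 ≤ b → b < 1344 → ∃ J, chkPBlk P 5 31 18 31671 b J = true := fun b h1 h2 => by
  have hb : b = 1343 := Nat.le_antisymm (Nat.le_of_lt_succ h2) h1
  subst hb; exact ⟨_, lblk_1343⟩
theorem lo_1344_1345 : ∀ b, 1344 ≤ b → b < 1345 → ∃ J, chkPBlk P 5 31 18 31671 b J = true := fun b h1 h2 => by
  have hb : b = 1344 := Nat.le_antisymm (Nat.le_of_lt_succ h2) h1
  subst hb; exact ⟨_, lblk_1344⟩
theorem lo_1343_1345 : ∀ b, 1343 ≤ b → b < 1345 → ∃ J, chkPBlk P 5 31 18 31671 b J = true := fun b h1 h2 =>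
  if h : b < 1344 then lo_1343_1344 b h1 h else lo_1344_1345 b (Nat.le_of_not_lt h) h2
theorem lo_1341_1345 : ∀ b, 1341 ≤ b → b < 1345 → ∃ J, chkPBlk P 5 31 18 31671 b J = true := fun b h1 h2 =>
  if h : b < 1343 then lo_1341_1343 b h1 h else lo_1343_1345 b (Nat.le_of_not_lt h) h2
theorem lo_1345_1346 : ∀ b, 1345 ≤ b → b < 1346 → ∃ J, chkPBlk P 5 31 18 31671 b J = true := fun b h1 h2 => by
  have hb : b = 1345 := Nat.le_antisymm (Nat.le_of_lt_succ h2) h1
  subst hb; exact ⟨_, lblk_1345⟩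
theorem lo_1346_1347 : ∀ b, 1346 ≤ b → b < 1347 → ∃ J, chkPBlk P 5 31 18 31671 b J = true := fun b h1 h2 => by
  have hb : b = 1346 := Nat.le_antisymm (Nat.le_of_lt_succ h2) h1
  subst hb; exact ⟨_, lblk_1346⟩
theorem lo_1345_1347 : ∀ b, 1345 ≤ b → b < 1347 → ∃ J, chkPBlk P 5 31 18 31671 b J = true := fun b h1 h2 =>
  if h : b < 1346 then lo_1345_1346 b h1 h else lo_1346_1347 b (Nat.le_of_not_lt h) h2
theorem lo_1347_1348 : ∀ b, 1347 ≤ b → b < 1348 → ∃ J, chkPBlk P 5 31 18 31671 b J = true := fun b h1 h2 => by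
  have hb : b = 1347 := Nat.le_antisymm (Nat.le_of_lt_succ h2) h1
  subst hb; exact ⟨_, lblk_1347⟩
theorem lo_1348_1349 : ∀ b, 1348 ≤ b → b < 1349 → ∃ J, chkPBlk P 5 31 18 31671 b J = true := fun b h1 h2 => by
  have hb : b = 1348 := Nat.le_antisymm (Nat.le_of_lt_succ h2) h1
  subst hb; exact ⟨_, lblk_1348⟩
theorem lo_1349_1350 : ∀ b, 1349 ≤ b → b < 1350 → ∃ J, chkPBlk P 5 31 18 31671 b J = true := fun b h1 h2 => by
  have hb : b = 1349 := Nat.le_antisymm (Nat.le_of_lt_succ h2) h1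
  subst hb; exact ⟨_, lblk_1349⟩
theorem lo_1348_1350 : ∀ b, 1348 ≤ b → b < 1350 → ∃ J, chkPBlk P 5 31 18 31671 b J = true := fun b h1 h2 =>
  if h : b < 1349 then lo_1348_1349 b h1 h else lo_1349_1350 b (Nat.le_of_not_lt h) h2
theorem lo_1347_1350 : ∀ b, 1347 ≤ b → b < 1350 → ∃ J, chkPBlk P 5 31 18 31671 b J = true := fun b h1 h2 =>
  if h : b < 1348 then lo_1347_1348 b h1 h else lo_1348_1350 b (Nat.le_of_not_lt h) h2
theorem lo_1345_1350 : ∀ b, 1345 ≤ b → b < 1350 → ∃ J, chkPBlk P 5 31 18 31671 b J = true := fun b h1 h2 =>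
  if h : b < 1347 then lo_1345_1347 b h1 h else lo_1347_1350 b (Nat.le_of_not_lt h) h2
theorem lo_1341_1350 : ∀ b, 1341 ≤ b → b < 1350 → ∃ J, chkPBlk P 5 31 18 31671 b J = true := fun b h1 h2 =>
  if h : b < 1345 then lo_1341_1345 b h1 h else lo_1345_1350 b (Nat.le_of_not_lt h) h2
theorem lo_1350_1351 : ∀ b, 1350 ≤ b → b < 1351 → ∃ J, chkPBlk P 5 31 18 31671 b J = true := fun b h1 h2 => by
  have hb : b = 1350 := Nat.le_antisymm (Nat.le_of_lt_succ h2) h1
  subst hb; exact ⟨_, lblk_1350⟩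
theorem lo_1351_1352 : ∀ b, 1351 ≤ b → b < 1352 → ∃ J, chkPBlk P 5 31 18 31671 b J = true := fun b h1 h2 => by
  have hb : b = 1351 := Nat.le_antisymm (Nat.le_of_lt_succ h2) h1
  subst hb; exact ⟨_, lblk_1351⟩
theorem lo_1350_1352 : ∀ b, 1350 ≤ b → b < 1352 → ∃ J, chkPBlk P 5 31 18 31671 b J = true := fun b h1 h2 =>
  if h : b < 1351 then lo_1350_1351 b h1 h else lo_1351_1352 b (Nat.le_of_not_lt h) h2
theorem lo_1352_1353 : ∀ b, 1352 ≤ b → b < 1353 → ∃ J, chkPBlk P 5 31 18 31671 b J = true := fun b h1 h2 => by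
  have hb : b = 1352 := Nat.le_antisymm (Nat.le_of_lt_succ h2) h1
  subst hb; exact ⟨_, lblk_1352⟩
theorem lo_1353_1354 : ∀ b, 1353 ≤ b → b < 1354 → ∃ J, chkPBlk P 5 31 18 31671 b J = true := fun b h1 h2 => by
  have hb : b = 1353 := Nat.le_antisymm (Nat.le_of_lt_succ h2) h1
  subst hb; exact ⟨_, lblk_1353⟩
theorem lo_1352_1354 : ∀ b, 1352 ≤ b → b < 1354 → ∃ J, chkPBlk P 5 31 18 31671 b J = true := fun b h1 h2 =>
  if h : b < 1353 then lo_1352_1353 b h1 h else lo_1353_1354 b (Nat.le_of_not_lt h) h2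
theorem lo_1350_1354 : ∀ b, 1350 ≤ b → b < 1354 → ∃ J, chkPBlk P 5 31 18 31671 b J = true := fun b h1 h2 =>
  if h : b < 1352 then lo_1350_1352 b h1 h else lo_1352_1354 b (Nat.le_of_not_lt h) h2
theorem lo_1354_1355 : ∀ b, 1354 ≤ b → b < 1355 → ∃ J, chkPBlk P 5 31 18 31671 b J = true := fun b h1 h2 => by
  have hb : b = 1354 := Nat.le_antisymm (Nat.le_of_lt_succ h2) h1
  subst hb; exact ⟨_, lblk_1354⟩
theorem lo_1355_1356 : ∀ b, 1355 ≤ b → b < 1356 → ∃ J, chkPBlk P 5 31 18 31671 b J = true := fun b h1 h2 => by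
  have hb : b = 1355 := Nat.le_antisymm (Nat.le_of_lt_succ h2) h1
  subst hb; exact ⟨_, lblk_1355⟩
theorem lo_1354_1356 : ∀ b, 1354 ≤ b → b < 1356 → ∃ J, chkPBlk P 5 31 18 31671 b J = true := fun b h1 h2 =>
  if h : b < 1355 then lo_1354_1355 b h1 h else lo_1355_1356 b (Nat.le_of_not_lt h) h2
theorem lo_1356_1357 : ∀ b, 1356 ≤ b → b < 1357 → ∃ J, chkPBlk P 5 31 18 31671 b J = true := fun b h1 h2 => by
  have hb : b = 1356 := Nat.le_antisymm (Nat.le_of_lt_succ h2) h1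
  subst hb; exact ⟨_, lblk_1356⟩
theorem lo_1357_1358 : ∀ b, 1357 ≤ b → b < 1358 → ∃ J, chkPBlk P 5 31 18 31671 b J = true := fun b h1 h2 => by
  have hb : b = 1357 := Nat.le_antisymm (Nat.le_of_lt_succ h2) h1
  subst hb; exact ⟨_, lblk_1357⟩
theorem lo_1358_1359 : ∀ b, 1358 ≤ b → b < 1359 → ∃ J, chkPBlk P 5 31 18 31671 b J = true := fun b h1 h2 => by
  have hb : b = 1358 := Nat.le_antisymm (Nat.le_of_lt_succ h2) h1
  subst hb; exact ⟨_, lblk_1358⟩
theorem lo_1357_1359 : ∀ b, 1357 ≤ b → b < 1359 → ∃ J, chkPBlk P 5 31 18 31671 b J = true := fun b h1 h2 =>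
  if h : b < 1358 then lo_1357_1358 b h1 h else lo_1358_1359 b (Nat.le_of_not_lt h) h2
theorem lo_1356_1359 : ∀ b, 1356 ≤ b → b < 1359 → ∃ J, chkPBlk P 5 31 18 31671 b J = true := fun b h1 h2 =>
  if h : b < 1357 then lo_1356_1357 b h1 h else lo_1357_1359 b (Nat.le_of_not_lt h) h2
theorem lo_1354_1359 : ∀ b, 1354 ≤ b → b < 1359 → ∃ J, chkPBlk P 5 31 18 31671 b J = true := fun b h1 h2 =>
  if h : b < 1356 then lo_1354_1356 b h1 h else lo_1356_1359 b (Nat.le_of_not_lt h) h2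
theorem lo_1350_1359 : ∀ b, 1350 ≤ b → b < 1359 → ∃ J, chkPBlk P 5 31 18 31671 b J = true := fun b h1 h2 =>
  if h : b < 1354 then lo_1350_1354 b h1 h else lo_1354_1359 b (Nat.le_of_not_lt h) h2
theorem lo_1341_1359 : ∀ b, 1341 ≤ b → b < 1359 → ∃ J, chkPBlk P 5 31 18 31671 b J = true := fun b h1 h2 =>
  if h : b < 1350 then lo_1341_1350 b h1 h else lo_1350_1359 b (Nat.le_of_not_lt h) h2
theorem lo_1323_1359 : ∀ b, 1323 ≤ b → b < 1359 → ∃ J, chkPBlk P 5 31 18 31671 b J = true := fun b h1 h2 =>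
  if h : b < 1341 then lo_1323_1341 b h1 h else lo_1341_1359 b (Nat.le_of_not_lt h) h2
theorem lo_1359_1360 : ∀ b, 1359 ≤ b → b < 1360 → ∃ J, chkPBlk P 5 31 18 31671 b J = true := fun b h1 h2 => by
  have hb : b = 1359 := Nat.le_antisymm (Nat.le_of_lt_succ h2) h1
  subst hb; exact ⟨_, lblk_1359⟩
theorem lo_1360_1361 : ∀ b, 1360 ≤ b → b < 1361 → ∃ J, chkPBlk P 5 31 18 31671 b J = true := fun b h1 h2 => by
  have hb : b = 1360 := Nat.le_antisymm (Nat.le_of_lt_succ h2) h1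
  subst hb; exact ⟨_, lblk_1360⟩
theorem lo_1359_1361 : ∀ b, 1359 ≤ b → b < 1361 → ∃ J, chkPBlk P 5 31 18 31671 b J = true := fun b h1 h2 =>
  if h : b < 1360 then lo_1359_1360 b h1 h else lo_1360_1361 b (Nat.le_of_not_lt h) h2
theorem lo_1361_1362 : ∀ b, 1361 ≤ b → b < 1362 → ∃ J, chkPBlk P 5 31 18 31671 b J = true := fun b h1 h2 => by
  have hb : b = 1361 := Nat.le_antisymm (Nat.le_of_lt_succ h2) h1
  subst hb; exact ⟨_, lblk_1361⟩
theorem lo_1362_1363 : ∀ b, 1362 ≤ b → b < 1363 → ∃ J, chkPBlk P 5 31 18 31671 b J = true := fun b h1 h2 => by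
  have hb : b = 1362 := Nat.le_antisymm (Nat.le_of_lt_succ h2) h1
  subst hb; exact ⟨_, lblk_1362⟩
theorem lo_1361_1363 : ∀ b, 1361 ≤ b → b < 1363 → ∃ J, chkPBlk P 5 31 18 31671 b J = true := fun b h1 h2 =>
  if h : b < 1362 then lo_1361_1362 b h1 h else lo_1362_1363 b (Nat.le_of_not_lt h) h2
theorem lo_1359_1363 : ∀ b, 1359 ≤ b → b < 1363 → ∃ J, chkPBlk P 5 31 18 31671 b J = true := fun b h1 h2 =>
  if h : b < 1361 then lo_1359_1361 b h1 h else lo_1361_1363 b (Nat.le_of_not_lt h) h2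
theorem lo_1363_1364 : ∀ b, 1363 ≤ b → b < 1364 → ∃ J, chkPBlk P 5 31 18 31671 b J = true := fun b h1 h2 => by
  have hb : b = 1363 := Nat.le_antisymm (Nat.le_of_lt_succ h2) h1
  subst hb; exact ⟨_, lblk_1363⟩
theorem lo_1364_1365 : ∀ b, 1364 ≤ b → b < 1365 → ∃ J, chkPBlk P 5 31 18 31671 b J = true := fun b h1 h2 => by
  have hb : b = 1364 := Nat.le_antisymm (Nat.le_of_lt_succ h2) h1
  subst hb; exact ⟨_, lblk_1364⟩
theorem lo_1363_1365 : ∀ b, 1363 ≤ b → b < 1365 → ∃ J, chkPBlk P 5 31 18 31671 b J = true := fun b h1 h2 =>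
  if h : b < 1364 then lo_1363_1364 b h1 h else lo_1364_1365 b (Nat.le_of_not_lt h) h2
theorem lo_1365_1366 : ∀ b, 1365 ≤ b → b < 1366 → ∃ J, chkPBlk P 5 31 18 31671 b J = true := fun b h1 h2 => by
  have hb : b = 1365 := Nat.le_antisymm (Nat.le_of_lt_succ h2) h1
  subst hb; exact ⟨_, lblk_1365⟩
theorem lo_1366_1367 : ∀ b, 1366 ≤ b → b < 1367 → ∃ J, chkPBlk P 5 31 18 31671 b J = true := fun b h1 h2 => by
  have hb : b = 1366 := Nat.le_antisymm (Nat.le_of_lt_succ h2) h1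
  subst hb; exact ⟨_, lblk_1366⟩
theorem lo_1367_1368 : ∀ b, 1367 ≤ b → b < 1368 → ∃ J, chkPBlk P 5 31 18 31671 b J = true := fun b h1 h2 => by
  have hb : b = 1367 := Nat.le_antisymm (Nat.le_of_lt_succ h2) h1
  subst hb; exact ⟨_, lblk_1367⟩
theorem lo_1366_1368 : ∀ b, 1366 ≤ b → b < 1368 → ∃ J, chkPBlk P 5 31 18 31671 b J = true := fun b h1 h2 =>
  if h : b < 1367 then lo_1366_1367 b h1 h else lo_1367_1368 b (Nat.le_of_not_lt h) h2
theorem lo_1365_1368 : ∀ b, 1365 ≤ b → b < 1368 → ∃ J, chkPBlk P 5 31 18 31671 b J = true := fun b h1 h2 =>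
  if h : b < 1366 then lo_1365_1366 b h1 h else lo_1366_1368 b (Nat.le_of_not_lt h) h2
theorem lo_1363_1368 : ∀ b, 1363 ≤ b → b < 1368 → ∃ J, chkPBlk P 5 31 18 31671 b J = true := fun b h1 h2 =>
  if h : b < 1365 then lo_1363_1365 b h1 h else lo_1365_1368 b (Nat.le_of_not_lt h) h2
theorem lo_1359_1368 : ∀ b, 1359 ≤ b → b < 1368 → ∃ J, chkPBlk P 5 31 18 31671 b J = true := fun b h1 h2 =>
  if h : b < 1363 then lo_1359_1363 b h1 h else lo_1363_1368 b (Nat.le_of_not_lt h) h2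
theorem lo_1368_1369 : ∀ b, 1368 ≤ b → b < 1369 → ∃ J, chkPBlk P 5 31 18 31671 b J = true := fun b h1 h2 => by
  have hb : b = 1368 := Nat.le_antisymm (Nat.le_of_lt_succ h2) h1
  subst hb; exact ⟨_, lblk_1368⟩
theorem lo_1369_1370 : ∀ b, 1369 ≤ b → b < 1370 → ∃ J, chkPBlk P 5 31 18 31671 b J = true := fun b h1 h2 => by
  have hb : b = 1369 := Nat.le_antisymm (Nat.le_of_lt_succ h2) h1
  subst hb; exact ⟨_, lblk_1369⟩
theorem lo_1368_1370 : ∀ b, 1368 ≤ b → b < 1370 → ∃ J, chkPBlk P 5 31 18 31671 b J = true := fun b h1 h2 =>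
  if h : b < 1369 then lo_1368_1369 b h1 h else lo_1369_1370 b (Nat.le_of_not_lt h) h2
theorem lo_1370_1371 : ∀ b, 1370 ≤ b → b < 1371 → ∃ J, chkPBlk P 5 31 18 31671 b J = true := fun b h1 h2 => by
  have hb : b = 1370 := Nat.le_antisymm (Nat.le_of_lt_succ h2) h1
  subst hb; exact ⟨_, lblk_1370⟩
theorem lo_1371_1372 : ∀ b, 1371 ≤ b → b < 1372 → ∃ J, chkPBlk P 5 31 18 31671 b J = true := fun b h1 h2 => by
  have hb : b = 1371 := Nat.le_antisymm (Nat.le_of_lt_succ h2) h1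
  subst hb; exact ⟨_, lblk_1371⟩
theorem lo_1370_1372 : ∀ b, 1370 ≤ b → b < 1372 → ∃ J, chkPBlk P 5 31 18 31671 b J = true := fun b h1 h2 =>
  if h : b < 1371 then lo_1370_1371 b h1 h else lo_1371_1372 b (Nat.le_of_not_lt h) h2
theorem lo_1368_1372 : ∀ b, 1368 ≤ b → b < 1372 → ∃ J, chkPBlk P 5 31 18 31671 b J = true := fun b h1 h2 =>
  if h : b < 1370 then lo_1368_1370 b h1 h else lo_1370_1372 b (Nat.le_of_not_lt h) h2
theorem lo_1372_1373 : ∀ b, 1372 ≤ b → b < 1373 → ∃ J, chkPBlk P 5 31 18 31671 b J = true := fun b h1 h2 => by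
  have hb : b = 1372 := Nat.le_antisymm (Nat.le_of_lt_succ h2) h1
  subst hb; exact ⟨_, lblk_1372⟩
theorem lo_1373_1374 : ∀ b, 1373 ≤ b → b < 1374 → ∃ J, chkPBlk P 5 31 18 31671 b J = true := fun b h1 h2 => by
  have hb : b = 1373 := Nat.le_antisymm (Nat.le_of_lt_succ h2) h1
  subst hb; exact ⟨_, lblk_1373⟩
theorem lo_1372_1374 : ∀ b, 1372 ≤ b → b < 1374 → ∃ J, chkPBlk P 5 31 18 31671 b J = true := fun b h1 h2 =>
  if h : b < 1373 then lo_1372_1373 b h1 h else lo_1373_1374 b (Nat.le_of_not_lt h) h2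
theorem lo_1374_1375 : ∀ b, 1374 ≤ b → b < 1375 → ∃ J, chkPBlk P 5 31 18 31671 b J = true := fun b h1 h2 => by
  have hb : b = 1374 := Nat.le_antisymm (Nat.le_of_lt_succ h2) h1
  subst hb; exact ⟨_, lblk_1374⟩
theorem lo_1375_1376 : ∀ b, 1375 ≤ b → b < 1376 → ∃ J, chkPBlk P 5 31 18 31671 b J = true := fun b h1 h2 => by
  have hb : b = 1375 := Nat.le_antisymm (Nat.le_of_lt_succ h2) h1
  subst hb; exact ⟨_, lblk_1375⟩
theorem lo_1376_1377 : ∀ b, 1376 ≤ b → b < 1377 → ∃ J, chkPBlk P 5 31 18 31671 b J = true := fun b h1 h2 => by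
  have hb : b = 1376 := Nat.le_antisymm (Nat.le_of_lt_succ h2) h1
  subst hb; exact ⟨_, lblk_1376⟩
theorem lo_1375_1377 : ∀ b, 1375 ≤ b → b < 1377 → ∃ J, chkPBlk P 5 31 18 31671 b J = true := fun b h1 h2 =>
  if h : b < 1376 then lo_1375_1376 b h1 h else lo_1376_1377 b (Nat.le_of_not_lt h) h2
theorem lo_1374_1377 : ∀ b, 1374 ≤ b → b < 1377 → ∃ J, chkPBlk P 5 31 18 31671 b J = true := fun b h1 h2 =>
  if h : b < 1375 then lo_1374_1375 b h1 h else lo_1375_1377 b (Nat.le_of_not_lt h) h2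
theorem lo_1372_1377 : ∀ b, 1372 ≤ b → b < 1377 → ∃ J, chkPBlk P 5 31 18 31671 b J = true := fun b h1 h2 =>
  if h : b < 1374 then lo_1372_1374 b h1 h else lo_1374_1377 b (Nat.le_of_not_lt h) h2
theorem lo_1368_1377 : ∀ b, 1368 ≤ b → b < 1377 → ∃ J, chkPBlk P 5 31 18 31671 b J = true := fun b h1 h2 =>
  if h : b < 1372 then lo_1368_1372 b h1 h else lo_1372_1377 b (Nat.le_of_not_lt h) h2
theorem lo_1359_1377 : ∀ b, 1359 ≤ b → b < 1377 → ∃ J, chkPBlk P 5 31 18 31671 b J = true := fun b h1 h2 =>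
  if h : b < 1368 then lo_1359_1368 b h1 h else lo_1368_1377 b (Nat.le_of_not_lt h) h2
theorem lo_1377_1378 : ∀ b, 1377 ≤ b → b < 1378 → ∃ J, chkPBlk P 5 31 18 31671 b J = true := fun b h1 h2 => by
  have hb : b = 1377 := Nat.le_antisymm (Nat.le_of_lt_succ h2) h1
  subst hb; exact ⟨_, lblk_1377⟩
theorem lo_1378_1379 : ∀ b, 1378 ≤ b → b < 1379 → ∃ J, chkPBlk P 5 31 18 31671 b J = true := fun b h1 h2 => by
  have hb : b = 1378 := Nat.le_antisymm (Nat.le_of_lt_succ h2) h1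
  subst hb; exact ⟨_, lblk_1378⟩
theorem lo_1377_1379 : ∀ b, 1377 ≤ b → b < 1379 → ∃ J, chkPBlk P 5 31 18 31671 b J = true := fun b h1 h2 =>
  if h : b < 1378 then lo_1377_1378 b h1 h else lo_1378_1379 b (Nat.le_of_not_lt h) h2
theorem lo_1379_1380 : ∀ b, 1379 ≤ b → b < 1380 → ∃ J, chkPBlk P 5 31 18 31671 b J = true := fun b h1 h2 => by
  have hb : b = 1379 := Nat.le_antisymm (Nat.le_of_lt_succ h2) h1
  subst hb; exact ⟨_, lblk_1379⟩
theorem lo_1380_1381 : ∀ b, 1380 ≤ b → b < 1381 → ∃ J, chkPBlk P 5 31 18 31671 b J = true := fun b h1 h2 => by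
  have hb : b = 1380 := Nat.le_antisymm (Nat.le_of_lt_succ h2) h1
  subst hb; exact ⟨_, lblk_1380⟩
theorem lo_1379_1381 : ∀ b, 1379 ≤ b → b < 1381 → ∃ J, chkPBlk P 5 31 18 31671 b J = true := fun b h1 h2 =>
  if h : b < 1380 then lo_1379_1380 b h1 h else lo_1380_1381 b (Nat.le_of_not_lt h) h2
theorem lo_1377_1381 : ∀ b, 1377 ≤ b → b < 1381 → ∃ J, chkPBlk P 5 31 18 31671 b J = true := fun b h1 h2 =>
  if h : b < 1379 then lo_1377_1379 b h1 h else lo_1379_1381 b (Nat.le_of_not_lt h) h2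
theorem lo_1381_1382 : ∀ b, 1381 ≤ b → b < 1382 → ∃ J, chkPBlk P 5 31 18 31671 b J = true := fun b h1 h2 => by
  have hb : b = 1381 := Nat.le_antisymm (Nat.le_of_lt_succ h2) h1
  subst hb; exact ⟨_, lblk_1381⟩
theorem lo_1382_1383 : ∀ b, 1382 ≤ b → b < 1383 → ∃ J, chkPBlk P 5 31 18 31671 b J = true := fun b h1 h2 => by
  have hb : b = 1382 := Nat.le_antisymm (Nat.le_of_lt_succ h2) h1
  subst hb; exact ⟨_, lblk_1382⟩
theorem lo_1381_1383 : ∀ b, 1381 ≤ b → b < 1383 → ∃ J, chkPBlk P 5 31 18 31671 b J = true := fun b h1 h2 =>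
  if h : b < 1382 then lo_1381_1382 b h1 h else lo_1382_1383 b (Nat.le_of_not_lt h) h2
theorem lo_1383_1384 : ∀ b, 1383 ≤ b → b < 1384 → ∃ J, chkPBlk P 5 31 18 31671 b J = true := fun b h1 h2 => by
  have hb : b = 1383 := Nat.le_antisymm (Nat.le_of_lt_succ h2) h1
  subst hb; exact ⟨_, lblk_1383⟩
theorem lo_1384_1385 : ∀ b, 1384 ≤ b → b < 1385 → ∃ J, chkPBlk P 5 31 18 31671 b J = true := fun b h1 h2 => by
  have hb : b = 1384 := Nat.le_antisymm (Nat.le_of_lt_succ h2) h1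
  subst hb; exact ⟨_, lblk_1384⟩
theorem lo_1385_1386 : ∀ b, 1385 ≤ b → b < 1386 → ∃ J, chkPBlk P 5 31 18 31671 b J = true := fun b h1 h2 => by
  have hb : b = 1385 := Nat.le_antisymm (Nat.le_of_lt_succ h2) h1
  subst hb; exact ⟨_, lblk_1385⟩
theorem lo_1384_1386 : ∀ b, 1384 ≤ b → b < 1386 → ∃ J, chkPBlk P 5 31 18 31671 b J = true := fun b h1 h2 =>
  if h : b < 1385 then lo_1384_1385 b h1 h else lo_1385_1386 b (Nat.le_of_not_lt h) h2
theorem lo_1383_1386 : ∀ b, 1383 ≤ b → b < 1386 → ∃ J, chkPBlk P 5 31 18 31671 b J = true := fun b h1 h2 =>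
  if h : b < 1384 then lo_1383_1384 b h1 h else lo_1384_1386 b (Nat.le_of_not_lt h) h2
theorem lo_1381_1386 : ∀ b, 1381 ≤ b → b < 1386 → ∃ J, chkPBlk P 5 31 18 31671 b J = true := fun b h1 h2 =>
  if h : b < 1383 then lo_1381_1383 b h1 h else lo_1383_1386 b (Nat.le_of_not_lt h) h2
theorem lo_1377_1386 : ∀ b, 1377 ≤ b → b < 1386 → ∃ J, chkPBlk P 5 31 18 31671 b J = true := fun b h1 h2 =>
  if h : b < 1381 then lo_1377_1381 b h1 h else lo_1381_1386 b (Nat.le_of_not_lt h) h2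
theorem lo_1386_1387 : ∀ b, 1386 ≤ b → b < 1387 → ∃ J, chkPBlk P 5 31 18 31671 b J = true := fun b h1 h2 => by
  have hb : b = 1386 := Nat.le_antisymm (Nat.le_of_lt_succ h2) h1
  subst hb; exact ⟨_, lblk_1386⟩
theorem lo_1387_1388 : ∀ b, 1387 ≤ b → b < 1388 → ∃ J, chkPBlk P 5 31 18 31671 b J = true := fun b h1 h2 => by
  have hb : b = 1387 := Nat.le_antisymm (Nat.le_of_lt_succ h2) h1
  subst hb; exact ⟨_, lblk_1387⟩
theorem lo_1386_1388 : ∀ b, 1386 ≤ b → b < 1388 → ∃ J, chkPBlk P 5 31 18 31671 b J = true := fun b h1 h2 =>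
  if h : b < 1387 then lo_1386_1387 b h1 h else lo_1387_1388 b (Nat.le_of_not_lt h) h2
theorem lo_1388_1389 : ∀ b, 1388 ≤ b → b < 1389 → ∃ J, chkPBlk P 5 31 18 31671 b J = true := fun b h1 h2 => by
  have hb : b = 1388 := Nat.le_antisymm (Nat.le_of_lt_succ h2) h1
  subst hb; exact ⟨_, lblk_1388⟩
theorem lo_1389_1390 : ∀ b, 1389 ≤ b → b < 1390 → ∃ J, chkPBlk P 5 31 18 31671 b J = true := fun b h1 h2 => by
  have hb : b = 1389 := Nat.le_antisymm (Nat.le_of_lt_succ h2) h1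
  subst hb; exact ⟨_, lblk_1389⟩
theorem lo_1390_1391 : ∀ b, 1390 ≤ b → b < 1391 → ∃ J, chkPBlk P 5 31 18 31671 b J = true := fun b h1 h2 => by
  have hb : b = 1390 := Nat.le_antisymm (Nat.le_of_lt_succ h2) h1
  subst hb; exact ⟨_, lblk_1390⟩
theorem lo_1389_1391 : ∀ b, 1389 ≤ b → b < 1391 → ∃ J, chkPBlk P 5 31 18 31671 b J = true := fun b h1 h2 =>
  if h : b < 1390 then lo_1389_1390 b h1 h else lo_1390_1391 b (Nat.le_of_not_lt h) h2
theorem lo_1388_1391 : ∀ b, 1388 ≤ b → b < 1391 → ∃ J, chkPBlk P 5 31 18 31671 b J = true := fun b h1 h2 =>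
  if h : b < 1389 then lo_1388_1389 b h1 h else lo_1389_1391 b (Nat.le_of_not_lt h) h2
theorem lo_1386_1391 : ∀ b, 1386 ≤ b → b < 1391 → ∃ J, chkPBlk P 5 31 18 31671 b J = true := fun b h1 h2 =>
  if h : b < 1388 then lo_1386_1388 b h1 h else lo_1388_1391 b (Nat.le_of_not_lt h) h2
theorem lo_1391_1392 : ∀ b, 1391 ≤ b → b < 1392 → ∃ J, chkPBlk P 5 31 18 31671 b J = true := fun b h1 h2 => by
  have hb : b = 1391 := Nat.le_antisymm (Nat.le_of_lt_succ h2) h1
  subst hb; exact ⟨_, lblk_1391⟩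
theorem lo_1392_1393 : ∀ b, 1392 ≤ b → b < 1393 → ∃ J, chkPBlk P 5 31 18 31671 b J = true := fun b h1 h2 => by
  have hb : b = 1392 := Nat.le_antisymm (Nat.le_of_lt_succ h2) h1
  subst hb; exact ⟨_, lblk_1392⟩
theorem lo_1391_1393 : ∀ b, 1391 ≤ b → b < 1393 → ∃ J, chkPBlk P 5 31 18 31671 b J = true := fun b h1 h2 =>
  if h : b < 1392 then lo_1391_1392 b h1 h else lo_1392_1393 b (Nat.le_of_not_lt h) h2
theorem lo_1393_1394 : ∀ b, 1393 ≤ b → b < 1394 → ∃ J, chkPBlk P 5 31 18 31671 b J = true := fun b h1 h2 => by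
  have hb : b = 1393 := Nat.le_antisymm (Nat.le_of_lt_succ h2) h1
  subst hb; exact ⟨_, lblk_1393⟩
theorem lo_1394_1395 : ∀ b, 1394 ≤ b → b < 1395 → ∃ J, chkPBlk P 5 31 18 31671 b J = true := fun b h1 h2 => by
  have hb : b = 1394 := Nat.le_antisymm (Nat.le_of_lt_succ h2) h1
  subst hb; exact ⟨_, lblk_1394⟩
theorem lo_1395_1396 : ∀ b, 1395 ≤ b → b < 1396 → ∃ J, chkPBlk P 5 31 18 31671 b J = true := fun b h1 h2 => by
  have hb : b = 1395 := Nat.le_antisymm (Nat.le_of_lt_succ h2) h1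
  subst hb; exact ⟨_, lblk_1395⟩
theorem lo_1394_1396 : ∀ b, 1394 ≤ b → b < 1396 → ∃ J, chkPBlk P 5 31 18 31671 b J = true := fun b h1 h2 =>
  if h : b < 1395 then lo_1394_1395 b h1 h else lo_1395_1396 b (Nat.le_of_not_lt h) h2
theorem lo_1393_1396 : ∀ b, 1393 ≤ b → b < 1396 → ∃ J, chkPBlk P 5 31 18 31671 b J = true := fun b h1 h2 =>
  if h : b < 1394 then lo_1393_1394 b h1 h else lo_1394_1396 b (Nat.le_of_not_lt h) h2
theorem lo_1391_1396 : ∀ b, 1391 ≤ b → b < 1396 → ∃ J, chkPBlk P 5 31 18 31671 b J = true := fun b h1 h2 =>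
  if h : b < 1393 then lo_1391_1393 b h1 h else lo_1393_1396 b (Nat.le_of_not_lt h) h2
theorem lo_1386_1396 : ∀ b, 1386 ≤ b → b < 1396 → ∃ J, chkPBlk P 5 31 18 31671 b J = true := fun b h1 h2 =>
  if h : b < 1391 then lo_1386_1391 b h1 h else lo_1391_1396 b (Nat.le_of_not_lt h) h2
theorem lo_1377_1396 : ∀ b, 1377 ≤ b → b < 1396 → ∃ J, chkPBlk P 5 31 18 31671 b J = true := fun b h1 h2 =>
  if h : b < 1386 then lo_1377_1386 b h1 h else lo_1386_1396 b (Nat.le_of_not_lt h) h2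
theorem lo_1359_1396 : ∀ b, 1359 ≤ b → b < 1396 → ∃ J, chkPBlk P 5 31 18 31671 b J = true := fun b h1 h2 =>
  if h : b < 1377 then lo_1359_1377 b h1 h else lo_1377_1396 b (Nat.le_of_not_lt h) h2
theorem lo_1323_1396 : ∀ b, 1323 ≤ b → b < 1396 → ∃ J, chkPBlk P 5 31 18 31671 b J = true := fun b h1 h2 =>
  if h : b < 1359 then lo_1323_1359 b h1 h else lo_1359_1396 b (Nat.le_of_not_lt h) h2
theorem lo_1396_1397 : ∀ b, 1396 ≤ b → b < 1397 → ∃ J, chkPBlk P 5 31 18 31671 b J = true := fun b h1 h2 => by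
  have hb : b = 1396 := Nat.le_antisymm (Nat.le_of_lt_succ h2) h1
  subst hb; exact ⟨_, lblk_1396⟩
theorem lo_1397_1398 : ∀ b, 1397 ≤ b → b < 1398 → ∃ J, chkPBlk P 5 31 18 31671 b J = true := fun b h1 h2 => by
  have hb : b = 1397 := Nat.le_antisymm (Nat.le_of_lt_succ h2) h1
  subst hb; exact ⟨_, lblk_1397⟩
theorem lo_1396_1398 : ∀ b, 1396 ≤ b → b < 1398 → ∃ J, chkPBlk P 5 31 18 31671 b J = true := fun b h1 h2 =>
  if h : b < 1397 then lo_1396_1397 b h1 h else lo_1397_1398 b (Nat.le_of_not_lt h) h2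
theorem lo_1398_1399 : ∀ b, 1398 ≤ b → b < 1399 → ∃ J, chkPBlk P 5 31 18 31671 b J = true := fun b h1 h2 => by
  have hb : b = 1398 := Nat.le_antisymm (Nat.le_of_lt_succ h2) h1
  subst hb; exact ⟨_, lblk_1398⟩
theorem lo_1399_1400 : ∀ b, 1399 ≤ b → b < 1400 → ∃ J, chkPBlk P 5 31 18 31671 b J = true := fun b h1 h2 => by
  have hb : b = 1399 := Nat.le_antisymm (Nat.le_of_lt_succ h2) h1
  subst hb; exact ⟨_, lblk_1399⟩
theorem lo_1398_1400 : ∀ b, 1398 ≤ b → b < 1400 → ∃ J, chkPBlk P 5 31 18 31671 b J = true := fun b h1 h2 =>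
  if h : b < 1399 then lo_1398_1399 b h1 h else lo_1399_1400 b (Nat.le_of_not_lt h) h2
theorem lo_1396_1400 : ∀ b, 1396 ≤ b → b < 1400 → ∃ J, chkPBlk P 5 31 18 31671 b J = true := fun b h1 h2 =>
  if h : b < 1398 then lo_1396_1398 b h1 h else lo_1398_1400 b (Nat.le_of_not_lt h) h2
theorem lo_1400_1401 : ∀ b, 1400 ≤ b → b < 1401 → ∃ J, chkPBlk P 5 31 18 31671 b J = true := fun b h1 h2 => by
  have hb : b = 1400 := Nat.le_antisymm (Nat.le_of_lt_succ h2) h1
  subst hb; exact ⟨_, lblk_1400⟩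
theorem lo_1401_1402 : ∀ b, 1401 ≤ b → b < 1402 → ∃ J, chkPBlk P 5 31 18 31671 b J = true := fun b h1 h2 => by
  have hb : b = 1401 := Nat.le_antisymm (Nat.le_of_lt_succ h2) h1
  subst hb; exact ⟨_, lblk_1401⟩
theorem lo_1400_1402 : ∀ b, 1400 ≤ b → b < 1402 → ∃ J, chkPBlk P 5 31 18 31671 b J = true := fun b h1 h2 =>
  if h : b < 1401 then lo_1400_1401 b h1 h else lo_1401_1402 b (Nat.le_of_not_lt h) h2
theorem lo_1402_1403 : ∀ b, 1402 ≤ b → b < 1403 → ∃ J, chkPBlk P 5 31 18 31671 b J = true := fun b h1 h2 => by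
  have hb : b = 1402 := Nat.le_antisymm (Nat.le_of_lt_succ h2) h1
  subst hb; exact ⟨_, lblk_1402⟩
theorem lo_1403_1404 : ∀ b, 1403 ≤ b → b < 1404 → ∃ J, chkPBlk P 5 31 18 31671 b J = true := fun b h1 h2 => by
  have hb : b = 1403 := Nat.le_antisymm (Nat.le_of_lt_succ h2) h1
  subst hb; exact ⟨_, lblk_1403⟩
theorem lo_1404_1405 : ∀ b, 1404 ≤ b → b < 1405 → ∃ J, chkPBlk P 5 31 18 31671 b J = true := fun b h1 h2 => by
  have hb : b = 1404 := Nat.le_antisymm (Nat.le_of_lt_succ h2) h1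
  subst hb; exact ⟨_, lblk_1404⟩
theorem lo_1403_1405 : ∀ b, 1403 ≤ b → b < 1405 → ∃ J, chkPBlk P 5 31 18 31671 b J = true := fun b h1 h2 =>
  if h : b < 1404 then lo_1403_1404 b h1 h else lo_1404_1405 b (Nat.le_of_not_lt h) h2
theorem lo_1402_1405 : ∀ b, 1402 ≤ b → b < 1405 → ∃ J, chkPBlk P 5 31 18 31671 b J = true := fun b h1 h2 =>
  if h : b < 1403 then lo_1402_1403 b h1 h else lo_1403_1405 b (Nat.le_of_not_lt h) h2
theorem lo_1400_1405 : ∀ b, 1400 ≤ b → b < 1405 → ∃ J, chkPBlk P 5 31 18 31671 b J = true := fun b h1 h2 =>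
  if h : b < 1402 then lo_1400_1402 b h1 h else lo_1402_1405 b (Nat.le_of_not_lt h) h2
theorem lo_1396_1405 : ∀ b, 1396 ≤ b → b < 1405 → ∃ J, chkPBlk P 5 31 18 31671 b J = true := fun b h1 h2 =>
  if h : b < 1400 then lo_1396_1400 b h1 h else lo_1400_1405 b (Nat.le_of_not_lt h) h2
theorem lo_1405_1406 : ∀ b, 1405 ≤ b → b < 1406 → ∃ J, chkPBlk P 5 31 18 31671 b J = true := fun b h1 h2 => by
  have hb : b = 1405 := Nat.le_antisymm (Nat.le_of_lt_succ h2) h1
  subst hb; exact ⟨_, lblk_1405⟩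
theorem lo_1406_1407 : ∀ b, 1406 ≤ b → b < 1407 → ∃ J, chkPBlk P 5 31 18 31671 b J = true := fun b h1 h2 => by
  have hb : b = 1406 := Nat.le_antisymm (Nat.le_of_lt_succ h2) h1
  subst hb; exact ⟨_, lblk_1406⟩
theorem lo_1405_1407 : ∀ b, 1405 ≤ b → b < 1407 → ∃ J, chkPBlk P 5 31 18 31671 b J = true := fun b h1 h2 =>
  if h : b < 1406 then lo_1405_1406 b h1 h else lo_1406_1407 b (Nat.le_of_not_lt h) h2
theorem lo_1407_1408 : ∀ b, 1407 ≤ b → b < 1408 → ∃ J, chkPBlk P 5 31 18 31671 b J = true := fun b h1 h2 => by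
  have hb : b = 1407 := Nat.le_antisymm (Nat.le_of_lt_succ h2) h1
  subst hb; exact ⟨_, lblk_1407⟩
theorem lo_1408_1409 : ∀ b, 1408 ≤ b → b < 1409 → ∃ J, chkPBlk P 5 31 18 31671 b J = true := fun b h1 h2 => by
  have hb : b = 1408 := Nat.le_antisymm (Nat.le_of_lt_succ h2) h1
  subst hb; exact ⟨_, lblk_1408⟩
theorem lo_1407_1409 : ∀ b, 1407 ≤ b → b < 1409 → ∃ J, chkPBlk P 5 31 18 31671 b J = true := fun b h1 h2 =>
  if h : b < 1408 then lo_1407_1408 b h1 h else lo_1408_1409 b (Nat.le_of_not_lt h) h2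
theorem lo_1405_1409 : ∀ b, 1405 ≤ b → b < 1409 → ∃ J, chkPBlk P 5 31 18 31671 b J = true := fun b h1 h2 =>
  if h : b < 1407 then lo_1405_1407 b h1 h else lo_1407_1409 b (Nat.le_of_not_lt h) h2
theorem lo_1409_1410 : ∀ b, 1409 ≤ b → b < 1410 → ∃ J, chkPBlk P 5 31 18 31671 b J = true := fun b h1 h2 => by
  have hb : b = 1409 := Nat.le_antisymm (Nat.le_of_lt_succ h2) h1
  subst hb; exact ⟨_, lblk_1409⟩
theorem lo_1410_1411 : ∀ b, 1410 ≤ b → b < 1411 → ∃ J, chkPBlk P 5 31 18 31671 b J = true := fun b h1 h2 => by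
  have hb : b = 1410 := Nat.le_antisymm (Nat.le_of_lt_succ h2) h1
  subst hb; exact ⟨_, lblk_1410⟩
theorem lo_1409_1411 : ∀ b, 1409 ≤ b → b < 1411 → ∃ J, chkPBlk P 5 31 18 31671 b J = true := fun b h1 h2 =>
  if h : b < 1410 then lo_1409_1410 b h1 h else lo_1410_1411 b (Nat.le_of_not_lt h) h2
theorem lo_1411_1412 : ∀ b, 1411 ≤ b → b < 1412 → ∃ J, chkPBlk P 5 31 18 31671 b J = true := fun b h1 h2 => by
  have hb : b = 1411 := Nat.le_antisymm (Nat.le_of_lt_succ h2) h1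
  subst hb; exact ⟨_, lblk_1411⟩
theorem lo_1412_1413 : ∀ b, 1412 ≤ b → b < 1413 → ∃ J, chkPBlk P 5 31 18 31671 b J = true := fun b h1 h2 => by
  have hb : b = 1412 := Nat.le_antisymm (Nat.le_of_lt_succ h2) h1
  subst hb; exact ⟨_, lblk_1412⟩
theorem lo_1413_1414 : ∀ b, 1413 ≤ b → b < 1414 → ∃ J, chkPBlk P 5 31 18 31671 b J = true := fun b h1 h2 => by
  have hb : b = 1413 := Nat.le_antisymm (Nat.le_of_lt_succ h2) h1
  subst hb; exact ⟨_, lblk_1413⟩
theorem lo_1412_1414 : ∀ b, 1412 ≤ b → b < 1414 → ∃ J, chkPBlk P 5 31 18 31671 b J = true := fun b h1 h2 =>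
  if h : b < 1413 then lo_1412_1413 b h1 h else lo_1413_1414 b (Nat.le_of_not_lt h) h2
theorem lo_1411_1414 : ∀ b, 1411 ≤ b → b < 1414 → ∃ J, chkPBlk P 5 31 18 31671 b J = true := fun b h1 h2 =>
  if h : b < 1412 then lo_1411_1412 b h1 h else lo_1412_1414 b (Nat.le_of_not_lt h) h2
theorem lo_1409_1414 : ∀ b, 1409 ≤ b → b < 1414 → ∃ J, chkPBlk P 5 31 18 31671 b J = true := fun b h1 h2 =>
  if h : b < 1411 then lo_1409_1411 b h1 h else lo_1411_1414 b (Nat.le_of_not_lt h) h2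
theorem lo_1405_1414 : ∀ b, 1405 ≤ b → b < 1414 → ∃ J, chkPBlk P 5 31 18 31671 b J = true := fun b h1 h2 =>
  if h : b < 1409 then lo_1405_1409 b h1 h else lo_1409_1414 b (Nat.le_of_not_lt h) h2
theorem lo_1396_1414 : ∀ b, 1396 ≤ b → b < 1414 → ∃ J, chkPBlk P 5 31 18 31671 b J = true := fun b h1 h2 =>
  if h : b < 1405 then lo_1396_1405 b h1 h else lo_1405_1414 b (Nat.le_of_not_lt h) h2
theorem lo_1414_1415 : ∀ b, 1414 ≤ b → b < 1415 → ∃ J, chkPBlk P 5 31 18 31671 b J = true := fun b h1 h2 => by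
  have hb : b = 1414 := Nat.le_antisymm (Nat.le_of_lt_succ h2) h1
  subst hb; exact ⟨_, lblk_1414⟩
theorem lo_1415_1416 : ∀ b, 1415 ≤ b → b < 1416 → ∃ J, chkPBlk P 5 31 18 31671 b J = true := fun b h1 h2 => by
  have hb : b = 1415 := Nat.le_antisymm (Nat.le_of_lt_succ h2) h1
  subst hb; exact ⟨_, lblk_1415⟩
theorem lo_1414_1416 : ∀ b, 1414 ≤ b → b < 1416 → ∃ J, chkPBlk P 5 31 18 31671 b J = true := fun b h1 h2 =>
  if h : b < 1415 then lo_1414_1415 b h1 h else lo_1415_1416 b (Nat.le_of_not_lt h) h2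
theorem lo_1416_1417 : ∀ b, 1416 ≤ b → b < 1417 → ∃ J, chkPBlk P 5 31 18 31671 b J = true := fun b h1 h2 => by
  have hb : b = 1416 := Nat.le_antisymm (Nat.le_of_lt_succ h2) h1
  subst hb; exact ⟨_, lblk_1416⟩
theorem lo_1417_1418 : ∀ b, 1417 ≤ b → b < 1418 → ∃ J, chkPBlk P 5 31 18 31671 b J = true := fun b h1 h2 => by
  have hb : b = 1417 := Nat.le_antisymm (Nat.le_of_lt_succ h2) h1
  subst hb; exact ⟨_, lblk_1417⟩
theorem lo_1416_1418 : ∀ b, 1416 ≤ b → b < 1418 → ∃ J, chkPBlk P 5 31 18 31671 b J = true := fun b h1 h2 =>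
  if h : b < 1417 then lo_1416_1417 b h1 h else lo_1417_1418 b (Nat.le_of_not_lt h) h2
theorem lo_1414_1418 : ∀ b, 1414 ≤ b → b < 1418 → ∃ J, chkPBlk P 5 31 18 31671 b J = true := fun b h1 h2 =>
  if h : b < 1416 then lo_1414_1416 b h1 h else lo_1416_1418 b (Nat.le_of_not_lt h) h2
theorem lo_1418_1419 : ∀ b, 1418 ≤ b → b < 1419 → ∃ J, chkPBlk P 5 31 18 31671 b J = true := fun b h1 h2 => by
  have hb : b = 1418 := Nat.le_antisymm (Nat.le_of_lt_succ h2) h1
  subst hb; exact ⟨_, lblk_1418⟩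
theorem lo_1419_1420 : ∀ b, 1419 ≤ b → b < 1420 → ∃ J, chkPBlk P 5 31 18 31671 b J = true := fun b h1 h2 => by
  have hb : b = 1419 := Nat.le_antisymm (Nat.le_of_lt_succ h2) h1
  subst hb; exact ⟨_, lblk_1419⟩
theorem lo_1418_1420 : ∀ b, 1418 ≤ b → b < 1420 → ∃ J, chkPBlk P 5 31 18 31671 b J = true := fun b h1 h2 =>
  if h : b < 1419 then lo_1418_1419 b h1 h else lo_1419_1420 b (Nat.le_of_not_lt h) h2
theorem lo_1420_1421 : ∀ b, 1420 ≤ b → b < 1421 → ∃ J, chkPBlk P 5 31 18 31671 b J = true := fun b h1 h2 => by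
  have hb : b = 1420 := Nat.le_antisymm (Nat.le_of_lt_succ h2) h1
  subst hb; exact ⟨_, lblk_1420⟩
theorem lo_1421_1422 : ∀ b, 1421 ≤ b → b < 1422 → ∃ J, chkPBlk P 5 31 18 31671 b J = true := fun b h1 h2 => by
  have hb : b = 1421 := Nat.le_antisymm (Nat.le_of_lt_succ h2) h1
  subst hb; exact ⟨_, lblk_1421⟩
theorem lo_1422_1423 : ∀ b, 1422 ≤ b → b < 1423 → ∃ J, chkPBlk P 5 31 18 31671 b J = true := fun b h1 h2 => by
  have hb : b = 1422 := Nat.le_antisymm (Nat.le_of_lt_succ h2) h1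
  subst hb; exact ⟨_, lblk_1422⟩
theorem lo_1421_1423 : ∀ b, 1421 ≤ b → b < 1423 → ∃ J, chkPBlk P 5 31 18 31671 b J = true := fun b h1 h2 =>
  if h : b < 1422 then lo_1421_1422 b h1 h else lo_1422_1423 b (Nat.le_of_not_lt h) h2
theorem lo_1420_1423 : ∀ b, 1420 ≤ b → b < 1423 → ∃ J, chkPBlk P 5 31 18 31671 b J = true := fun b h1 h2 =>
  if h : b < 1421 then lo_1420_1421 b h1 h else lo_1421_1423 b (Nat.le_of_not_lt h) h2
theorem lo_1418_1423 : ∀ b, 1418 ≤ b → b < 1423 → ∃ J, chkPBlk P 5 31 18 31671 b J = true := fun b h1 h2 =>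
  if h : b < 1420 then lo_1418_1420 b h1 h else lo_1420_1423 b (Nat.le_of_not_lt h) h2
theorem lo_1414_1423 : ∀ b, 1414 ≤ b → b < 1423 → ∃ J, chkPBlk P 5 31 18 31671 b J = true := fun b h1 h2 =>
  if h : b < 1418 then lo_1414_1418 b h1 h else lo_1418_1423 b (Nat.le_of_not_lt h) h2
theorem lo_1423_1424 : ∀ b, 1423 ≤ b → b < 1424 → ∃ J, chkPBlk P 5 31 18 31671 b J = true := fun b h1 h2 => by
  have hb : b = 1423 := Nat.le_antisymm (Nat.le_of_lt_succ h2) h1
  subst hb; exact ⟨_, lblk_1423⟩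
theorem lo_1424_1425 : ∀ b, 1424 ≤ b → b < 1425 → ∃ J, chkPBlk P 5 31 18 31671 b J = true := fun b h1 h2 => by
  have hb : b = 1424 := Nat.le_antisymm (Nat.le_of_lt_succ h2) h1
  subst hb; exact ⟨_, lblk_1424⟩
theorem lo_1423_1425 : ∀ b, 1423 ≤ b → b < 1425 → ∃ J, chkPBlk P 5 31 18 31671 b J = true := fun b h1 h2 =>
  if h : b < 1424 then lo_1423_1424 b h1 h else lo_1424_1425 b (Nat.le_of_not_lt h) h2
theorem lo_1425_1426 : ∀ b, 1425 ≤ b → b < 1426 → ∃ J, chkPBlk P 5 31 18 31671 b J = true := fun b h1 h2 => by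
  have hb : b = 1425 := Nat.le_antisymm (Nat.le_of_lt_succ h2) h1
  subst hb; exact ⟨_, lblk_1425⟩
theorem lo_1426_1427 : ∀ b, 1426 ≤ b → b < 1427 → ∃ J, chkPBlk P 5 31 18 31671 b J = true := fun b h1 h2 => by
  have hb : b = 1426 := Nat.le_antisymm (Nat.le_of_lt_succ h2) h1
  subst hb; exact ⟨_, lblk_1426⟩
theorem lo_1427_1428 : ∀ b, 1427 ≤ b → b < 1428 → ∃ J, chkPBlk P 5 31 18 31671 b J = true := fun b h1 h2 => by
  have hb : b = 1427 := Nat.le_antisymm (Nat.le_of_lt_succ h2) h1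
  subst hb; exact ⟨_, lblk_1427⟩
theorem lo_1426_1428 : ∀ b, 1426 ≤ b → b < 1428 → ∃ J, chkPBlk P 5 31 18 31671 b J = true := fun b h1 h2 =>
  if h : b < 1427 then lo_1426_1427 b h1 h else lo_1427_1428 b (Nat.le_of_not_lt h) h2
theorem lo_1425_1428 : ∀ b, 1425 ≤ b → b < 1428 → ∃ J, chkPBlk P 5 31 18 31671 b J = true := fun b h1 h2 =>
  if h : b < 1426 then lo_1425_1426 b h1 h else lo_1426_1428 b (Nat.le_of_not_lt h) h2
theorem lo_1423_1428 : ∀ b, 1423 ≤ b → b < 1428 → ∃ J, chkPBlk P 5 31 18 31671 b J = true := fun b h1 h2 =>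
  if h : b < 1425 then lo_1423_1425 b h1 h else lo_1425_1428 b (Nat.le_of_not_lt h) h2
theorem lo_1428_1429 : ∀ b, 1428 ≤ b → b < 1429 → ∃ J, chkPBlk P 5 31 18 31671 b J = true := fun b h1 h2 => by
  have hb : b = 1428 := Nat.le_antisymm (Nat.le_of_lt_succ h2) h1
  subst hb; exact ⟨_, lblk_1428⟩
theorem lo_1429_1430 : ∀ b, 1429 ≤ b → b < 1430 → ∃ J, chkPBlk P 5 31 18 31671 b J = true := fun b h1 h2 => by
  have hb : b = 1429 := Nat.le_antisymm (Nat.le_of_lt_succ h2) h1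
  subst hb; exact ⟨_, lblk_1429⟩
theorem lo_1428_1430 : ∀ b, 1428 ≤ b → b < 1430 → ∃ J, chkPBlk P 5 31 18 31671 b J = true := fun b h1 h2 =>
  if h : b < 1429 then lo_1428_1429 b h1 h else lo_1429_1430 b (Nat.le_of_not_lt h) h2
theorem lo_1430_1431 : ∀ b, 1430 ≤ b → b < 1431 → ∃ J, chkPBlk P 5 31 18 31671 b J = true := fun b h1 h2 => by
  have hb : b = 1430 := Nat.le_antisymm (Nat.le_of_lt_succ h2) h1
  subst hb; exact ⟨_, lblk_1430⟩
theorem lo_1431_1432 : ∀ b, 1431 ≤ b → b < 1432 → ∃ J, chkPBlk P 5 31 18 31671 b J = true := fun b h1 h2 => by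
  have hb : b = 1431 := Nat.le_antisymm (Nat.le_of_lt_succ h2) h1
  subst hb; exact ⟨_, lblk_1431⟩
theorem lo_1432_1433 : ∀ b, 1432 ≤ b → b < 1433 → ∃ J, chkPBlk P 5 31 18 31671 b J = true := fun b h1 h2 => by
  have hb : b = 1432 := Nat.le_antisymm (Nat.le_of_lt_succ h2) h1
  subst hb; exact ⟨_, lblk_1432⟩
theorem lo_1431_1433 : ∀ b, 1431 ≤ b → b < 1433 → ∃ J, chkPBlk P 5 31 18 31671 b J = true := fun b h1 h2 =>
  if h : b < 1432 then lo_1431_1432 b h1 h else lo_1432_1433 b (Nat.le_of_not_lt h) h2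
theorem lo_1430_1433 : ∀ b, 1430 ≤ b → b < 1433 → ∃ J, chkPBlk P 5 31 18 31671 b J = true := fun b h1 h2 =>
  if h : b < 1431 then lo_1430_1431 b h1 h else lo_1431_1433 b (Nat.le_of_not_lt h) h2
theorem lo_1428_1433 : ∀ b, 1428 ≤ b → b < 1433 → ∃ J, chkPBlk P 5 31 18 31671 b J = true := fun b h1 h2 =>
  if h : b < 1430 then lo_1428_1430 b h1 h else lo_1430_1433 b (Nat.le_of_not_lt h) h2
theorem lo_1423_1433 : ∀ b, 1423 ≤ b → b < 1433 → ∃ J, chkPBlk P 5 31 18 31671 b J = true := fun b h1 h2 =>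
  if h : b < 1428 then lo_1423_1428 b h1 h else lo_1428_1433 b (Nat.le_of_not_lt h) h2
theorem lo_1414_1433 : ∀ b, 1414 ≤ b → b < 1433 → ∃ J, chkPBlk P 5 31 18 31671 b J = true := fun b h1 h2 =>
  if h : b < 1423 then lo_1414_1423 b h1 h else lo_1423_1433 b (Nat.le_of_not_lt h) h2
theorem lo_1396_1433 : ∀ b, 1396 ≤ b → b < 1433 → ∃ J, chkPBlk P 5 31 18 31671 b J = true := fun b h1 h2 =>
  if h : b < 1414 then lo_1396_1414 b h1 h else lo_1414_1433 b (Nat.le_of_not_lt h) h2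
theorem lo_1433_1434 : ∀ b, 1433 ≤ b → b < 1434 → ∃ J, chkPBlk P 5 31 18 31671 b J = true := fun b h1 h2 => by
  have hb : b = 1433 := Nat.le_antisymm (Nat.le_of_lt_succ h2) h1
  subst hb; exact ⟨_, lblk_1433⟩
theorem lo_1434_1435 : ∀ b, 1434 ≤ b → b < 1435 → ∃ J, chkPBlk P 5 31 18 31671 b J = true := fun b h1 h2 => by
  have hb : b = 1434 := Nat.le_antisymm (Nat.le_of_lt_succ h2) h1
  subst hb; exact ⟨_, lblk_1434⟩
theorem lo_1433_1435 : ∀ b, 1433 ≤ b → b < 1435 → ∃ J, chkPBlk P 5 31 18 31671 b J = true := fun b h1 h2 =>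
  if h : b < 1434 then lo_1433_1434 b h1 h else lo_1434_1435 b (Nat.le_of_not_lt h) h2
theorem lo_1435_1436 : ∀ b, 1435 ≤ b → b < 1436 → ∃ J, chkPBlk P 5 31 18 31671 b J = true := fun b h1 h2 => by
  have hb : b = 1435 := Nat.le_antisymm (Nat.le_of_lt_succ h2) h1
  subst hb; exact ⟨_, lblk_1435⟩
theorem lo_1436_1437 : ∀ b, 1436 ≤ b → b < 1437 → ∃ J, chkPBlk P 5 31 18 31671 b J = true := fun b h1 h2 => by
  have hb : b = 1436 := Nat.le_antisymm (Nat.le_of_lt_succ h2) h1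
  subst hb; exact ⟨_, lblk_1436⟩
theorem lo_1435_1437 : ∀ b, 1435 ≤ b → b < 1437 → ∃ J, chkPBlk P 5 31 18 31671 b J = true := fun b h1 h2 =>
  if h : b < 1436 then lo_1435_1436 b h1 h else lo_1436_1437 b (Nat.le_of_not_lt h) h2
theorem lo_1433_1437 : ∀ b, 1433 ≤ b → b < 1437 → ∃ J, chkPBlk P 5 31 18 31671 b J = true := fun b h1 h2 =>
  if h : b < 1435 then lo_1433_1435 b h1 h else lo_1435_1437 b (Nat.le_of_not_lt h) h2
theorem lo_1437_1438 : ∀ b, 1437 ≤ b → b < 1438 → ∃ J, chkPBlk P 5 31 18 31671 b J = true := fun b h1 h2 => by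
  have hb : b = 1437 := Nat.le_antisymm (Nat.le_of_lt_succ h2) h1
  subst hb; exact ⟨_, lblk_1437⟩
theorem lo_1438_1439 : ∀ b, 1438 ≤ b → b < 1439 → ∃ J, chkPBlk P 5 31 18 31671 b J = true := fun b h1 h2 => by
  have hb : b = 1438 := Nat.le_antisymm (Nat.le_of_lt_succ h2) h1
  subst hb; exact ⟨_, lblk_1438⟩
theorem lo_1437_1439 : ∀ b, 1437 ≤ b → b < 1439 → ∃ J, chkPBlk P 5 31 18 31671 b J = true := fun b h1 h2 =>
  if h : b < 1438 then lo_1437_1438 b h1 h else lo_1438_1439 b (Nat.le_of_not_lt h) h2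
theorem lo_1439_1440 : ∀ b, 1439 ≤ b → b < 1440 → ∃ J, chkPBlk P 5 31 18 31671 b J = true := fun b h1 h2 => by
  have hb : b = 1439 := Nat.le_antisymm (Nat.le_of_lt_succ h2) h1
  subst hb; exact ⟨_, lblk_1439⟩
theorem lo_1440_1441 : ∀ b, 1440 ≤ b → b < 1441 → ∃ J, chkPBlk P 5 31 18 31671 b J = true := fun b h1 h2 => by
  have hb : b = 1440 := Nat.le_antisymm (Nat.le_of_lt_succ h2) h1
  subst hb; exact ⟨_, lblk_1440⟩
theorem lo_1441_1442 : ∀ b, 1441 ≤ b → b < 1442 → ∃ J, chkPBlk P 5 31 18 31671 b J = true := fun b h1 h2 => by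
  have hb : b = 1441 := Nat.le_antisymm (Nat.le_of_lt_succ h2) h1
  subst hb; exact ⟨_, lblk_1441⟩
theorem lo_1440_1442 : ∀ b, 1440 ≤ b → b < 1442 → ∃ J, chkPBlk P 5 31 18 31671 b J = true := fun b h1 h2 =>
  if h : b < 1441 then lo_1440_1441 b h1 h else lo_1441_1442 b (Nat.le_of_not_lt h) h2
theorem lo_1439_1442 : ∀ b, 1439 ≤ b → b < 1442 → ∃ J, chkPBlk P 5 31 18 31671 b J = true := fun b h1 h2 =>
  if h : b < 1440 then lo_1439_1440 b h1 h else lo_1440_1442 b (Nat.le_of_not_lt h) h2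
theorem lo_1437_1442 : ∀ b, 1437 ≤ b → b < 1442 → ∃ J, chkPBlk P 5 31 18 31671 b J = true := fun b h1 h2 =>
  if h : b < 1439 then lo_1437_1439 b h1 h else lo_1439_1442 b (Nat.le_of_not_lt h) h2
theorem lo_1433_1442 : ∀ b, 1433 ≤ b → b < 1442 → ∃ J, chkPBlk P 5 31 18 31671 b J = true := fun b h1 h2 =>
  if h : b < 1437 then lo_1433_1437 b h1 h else lo_1437_1442 b (Nat.le_of_not_lt h) h2
theorem lo_1442_1443 : ∀ b, 1442 ≤ b → b < 1443 → ∃ J, chkPBlk P 5 31 18 31671 b J = true := fun b h1 h2 => by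
  have hb : b = 1442 := Nat.le_antisymm (Nat.le_of_lt_succ h2) h1
  subst hb; exact ⟨_, lblk_1442⟩
theorem lo_1443_1444 : ∀ b, 1443 ≤ b → b < 1444 → ∃ J, chkPBlk P 5 31 18 31671 b J = true := fun b h1 h2 => by
  have hb : b = 1443 := Nat.le_antisymm (Nat.le_of_lt_succ h2) h1
  subst hb; exact ⟨_, lblk_1443⟩
theorem lo_1442_1444 : ∀ b, 1442 ≤ b → b < 1444 → ∃ J, chkPBlk P 5 31 18 31671 b J = true := fun b h1 h2 =>
  if h : b < 1443 then lo_1442_1443 b h1 h else lo_1443_1444 b (Nat.le_of_not_lt h) h2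
theorem lo_1444_1445 : ∀ b, 1444 ≤ b → b < 1445 → ∃ J, chkPBlk P 5 31 18 31671 b J = true := fun b h1 h2 => by
  have hb : b = 1444 := Nat.le_antisymm (Nat.le_of_lt_succ h2) h1
  subst hb; exact ⟨_, lblk_1444⟩
theorem lo_1445_1446 : ∀ b, 1445 ≤ b → b < 1446 → ∃ J, chkPBlk P 5 31 18 31671 b J = true := fun b h1 h2 => by
  have hb : b = 1445 := Nat.le_antisymm (Nat.le_of_lt_succ h2) h1
  subst hb; exact ⟨_, lblk_1445⟩
theorem lo_1444_1446 : ∀ b, 1444 ≤ b → b < 1446 → ∃ J, chkPBlk P 5 31 18 31671 b J = true := fun b h1 h2 =>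
  if h : b < 1445 then lo_1444_1445 b h1 h else lo_1445_1446 b (Nat.le_of_not_lt h) h2
theorem lo_1442_1446 : ∀ b, 1442 ≤ b → b < 1446 → ∃ J, chkPBlk P 5 31 18 31671 b J = true := fun b h1 h2 =>
  if h : b < 1444 then lo_1442_1444 b h1 h else lo_1444_1446 b (Nat.le_of_not_lt h) h2
theorem lo_1446_1447 : ∀ b, 1446 ≤ b → b < 1447 → ∃ J, chkPBlk P 5 31 18 31671 b J = true := fun b h1 h2 => by
  have hb : b = 1446 := Nat.le_antisymm (Nat.le_of_lt_succ h2) h1
  subst hb; exact ⟨_, lblk_1446⟩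
theorem lo_1447_1448 : ∀ b, 1447 ≤ b → b < 1448 → ∃ J, chkPBlk P 5 31 18 31671 b J = true := fun b h1 h2 => by
  have hb : b = 1447 := Nat.le_antisymm (Nat.le_of_lt_succ h2) h1
  subst hb; exact ⟨_, lblk_1447⟩
theorem lo_1446_1448 : ∀ b, 1446 ≤ b → b < 1448 → ∃ J, chkPBlk P 5 31 18 31671 b J = true := fun b h1 h2 =>
  if h : b < 1447 then lo_1446_1447 b h1 h else lo_1447_1448 b (Nat.le_of_not_lt h) h2
theorem lo_1448_1449 : ∀ b, 1448 ≤ b → b < 1449 → ∃ J, chkPBlk P 5 31 18 31671 b J = true := fun b h1 h2 => by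
  have hb : b = 1448 := Nat.le_antisymm (Nat.le_of_lt_succ h2) h1
  subst hb; exact ⟨_, lblk_1448⟩
theorem lo_1449_1450 : ∀ b, 1449 ≤ b → b < 1450 → ∃ J, chkPBlk P 5 31 18 31671 b J = true := fun b h1 h2 => by
  have hb : b = 1449 := Nat.le_antisymm (Nat.le_of_lt_succ h2) h1
  subst hb; exact ⟨_, lblk_1449⟩
theorem lo_1450_1451 : ∀ b, 1450 ≤ b → b < 1451 → ∃ J, chkPBlk P 5 31 18 31671 b J = true := fun b h1 h2 => by
  have hb : b = 1450 := Nat.le_antisymm (Nat.le_of_lt_succ h2) h1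
  subst hb; exact ⟨_, lblk_1450⟩
theorem lo_1449_1451 : ∀ b, 1449 ≤ b → b < 1451 → ∃ J, chkPBlk P 5 31 18 31671 b J = true := fun b h1 h2 =>
  if h : b < 1450 then lo_1449_1450 b h1 h else lo_1450_1451 b (Nat.le_of_not_lt h) h2
theorem lo_1448_1451 : ∀ b, 1448 ≤ b → b < 1451 → ∃ J, chkPBlk P 5 31 18 31671 b J = true := fun b h1 h2 =>
  if h : b < 1449 then lo_1448_1449 b h1 h else lo_1449_1451 b (Nat.le_of_not_lt h) h2
theorem lo_1446_1451 : ∀ b, 1446 ≤ b → b < 1451 → ∃ J, chkPBlk P 5 31 18 31671 b J = true := fun b h1 h2 =>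
  if h : b < 1448 then lo_1446_1448 b h1 h else lo_1448_1451 b (Nat.le_of_not_lt h) h2
theorem lo_1442_1451 : ∀ b, 1442 ≤ b → b < 1451 → ∃ J, chkPBlk P 5 31 18 31671 b J = true := fun b h1 h2 =>
  if h : b < 1446 then lo_1442_1446 b h1 h else lo_1446_1451 b (Nat.le_of_not_lt h) h2
theorem lo_1433_1451 : ∀ b, 1433 ≤ b → b < 1451 → ∃ J, chkPBlk P 5 31 18 31671 b J = true := fun b h1 h2 =>
  if h : b < 1442 then lo_1433_1442 b h1 h else lo_1442_1451 b (Nat.le_of_not_lt h) h2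
theorem lo_1451_1452 : ∀ b, 1451 ≤ b → b < 1452 → ∃ J, chkPBlk P 5 31 18 31671 b J = true := fun b h1 h2 => by
  have hb : b = 1451 := Nat.le_antisymm (Nat.le_of_lt_succ h2) h1
  subst hb; exact ⟨_, lblk_1451⟩
theorem lo_1452_1453 : ∀ b, 1452 ≤ b → b < 1453 → ∃ J, chkPBlk P 5 31 18 31671 b J = true := fun b h1 h2 => by
  have hb : b = 1452 := Nat.le_antisymm (Nat.le_of_lt_succ h2) h1
  subst hb; exact ⟨_, lblk_1452⟩
theorem lo_1451_1453 : ∀ b, 1451 ≤ b → b < 1453 → ∃ J, chkPBlk P 5 31 18 31671 b J = true := fun b h1 h2 =>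
  if h : b < 1452 then lo_1451_1452 b h1 h else lo_1452_1453 b (Nat.le_of_not_lt h) h2
theorem lo_1453_1454 : ∀ b, 1453 ≤ b → b < 1454 → ∃ J, chkPBlk P 5 31 18 31671 b J = true := fun b h1 h2 => by
  have hb : b = 1453 := Nat.le_antisymm (Nat.le_of_lt_succ h2) h1
  subst hb; exact ⟨_, lblk_1453⟩
theorem lo_1454_1455 : ∀ b, 1454 ≤ b → b < 1455 → ∃ J, chkPBlk P 5 31 18 31671 b J = true := fun b h1 h2 => by
  have hb : b = 1454 := Nat.le_antisymm (Nat.le_of_lt_succ h2) h1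
  subst hb; exact ⟨_, lblk_1454⟩
theorem lo_1453_1455 : ∀ b, 1453 ≤ b → b < 1455 → ∃ J, chkPBlk P 5 31 18 31671 b J = true := fun b h1 h2 =>
  if h : b < 1454 then lo_1453_1454 b h1 h else lo_1454_1455 b (Nat.le_of_not_lt h) h2
theorem lo_1451_1455 : ∀ b, 1451 ≤ b → b < 1455 → ∃ J, chkPBlk P 5 31 18 31671 b J = true := fun b h1 h2 =>
  if h : b < 1453 then lo_1451_1453 b h1 h else lo_1453_1455 b (Nat.le_of_not_lt h) h2
theorem lo_1455_1456 : ∀ b, 1455 ≤ b → b < 1456 → ∃ J, chkPBlk P 5 31 18 31671 b J = true := fun b h1 h2 => by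
  have hb : b = 1455 := Nat.le_antisymm (Nat.le_of_lt_succ h2) h1
  subst hb; exact ⟨_, lblk_1455⟩
theorem lo_1456_1457 : ∀ b, 1456 ≤ b → b < 1457 → ∃ J, chkPBlk P 5 31 18 31671 b J = true := fun b h1 h2 => by
  have hb : b = 1456 := Nat.le_antisymm (Nat.le_of_lt_succ h2) h1
  subst hb; exact ⟨_, lblk_1456⟩
theorem lo_1455_1457 : ∀ b, 1455 ≤ b → b < 1457 → ∃ J, chkPBlk P 5 31 18 31671 b J = true := fun b h1 h2 =>
  if h : b < 1456 then lo_1455_1456 b h1 h else lo_1456_1457 b (Nat.le_of_not_lt h) h2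
theorem lo_1457_1458 : ∀ b, 1457 ≤ b → b < 1458 → ∃ J, chkPBlk P 5 31 18 31671 b J = true := fun b h1 h2 => by
  have hb : b = 1457 := Nat.le_antisymm (Nat.le_of_lt_succ h2) h1
  subst hb; exact ⟨_, lblk_1457⟩
theorem lo_1458_1459 : ∀ b, 1458 ≤ b → b < 1459 → ∃ J, chkPBlk P 5 31 18 31671 b J = true := fun b h1 h2 => by
  have hb : b = 1458 := Nat.le_antisymm (Nat.le_of_lt_succ h2) h1
  subst hb; exact ⟨_, lblk_1458⟩
theorem lo_1459_1460 : ∀ b, 1459 ≤ b → b < 1460 → ∃ J, chkPBlk P 5 31 18 31671 b J = true := fun b h1 h2 => by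
  have hb : b = 1459 := Nat.le_antisymm (Nat.le_of_lt_succ h2) h1
  subst hb; exact ⟨_, lblk_1459⟩
theorem lo_1458_1460 : ∀ b, 1458 ≤ b → b < 1460 → ∃ J, chkPBlk P 5 31 18 31671 b J = true := fun b h1 h2 =>
  if h : b < 1459 then lo_1458_1459 b h1 h else lo_1459_1460 b (Nat.le_of_not_lt h) h2
theorem lo_1457_1460 : ∀ b, 1457 ≤ b → b < 1460 → ∃ J, chkPBlk P 5 31 18 31671 b J = true := fun b h1 h2 =>
  if h : b < 1458 then lo_1457_1458 b h1 h else lo_1458_1460 b (Nat.le_of_not_lt h) h2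
theorem lo_1455_1460 : ∀ b, 1455 ≤ b → b < 1460 → ∃ J, chkPBlk P 5 31 18 31671 b J = true := fun b h1 h2 =>
  if h : b < 1457 then lo_1455_1457 b h1 h else lo_1457_1460 b (Nat.le_of_not_lt h) h2
theorem lo_1451_1460 : ∀ b, 1451 ≤ b → b < 1460 → ∃ J, chkPBlk P 5 31 18 31671 b J = true := fun b h1 h2 =>
  if h : b < 1455 then lo_1451_1455 b h1 h else lo_1455_1460 b (Nat.le_of_not_lt h) h2
theorem lo_1460_1461 : ∀ b, 1460 ≤ b → b < 1461 → ∃ J, chkPBlk P 5 31 18 31671 b J = true := fun b h1 h2 => by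
  have hb : b = 1460 := Nat.le_antisymm (Nat.le_of_lt_succ h2) h1
  subst hb; exact ⟨_, lblk_1460⟩
theorem lo_1461_1462 : ∀ b, 1461 ≤ b → b < 1462 → ∃ J, chkPBlk P 5 31 18 31671 b J = true := fun b h1 h2 => by
  have hb : b = 1461 := Nat.le_antisymm (Nat.le_of_lt_succ h2) h1
  subst hb; exact ⟨_, lblk_1461⟩
theorem lo_1460_1462 : ∀ b, 1460 ≤ b → b < 1462 → ∃ J, chkPBlk P 5 31 18 31671 b J = true := fun b h1 h2 =>
  if h : b < 1461 then lo_1460_1461 b h1 h else lo_1461_1462 b (Nat.le_of_not_lt h) h2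
theorem lo_1462_1463 : ∀ b, 1462 ≤ b → b < 1463 → ∃ J, chkPBlk P 5 31 18 31671 b J = true := fun b h1 h2 => by
  have hb : b = 1462 := Nat.le_antisymm (Nat.le_of_lt_succ h2) h1
  subst hb; exact ⟨_, lblk_1462⟩
theorem lo_1463_1464 : ∀ b, 1463 ≤ b → b < 1464 → ∃ J, chkPBlk P 5 31 18 31671 b J = true := fun b h1 h2 => by
  have hb : b = 1463 := Nat.le_antisymm (Nat.le_of_lt_succ h2) h1
  subst hb; exact ⟨_, lblk_1463⟩
theorem lo_1464_1465 : ∀ b, 1464 ≤ b → b < 1465 → ∃ J, chkPBlk P 5 31 18 31671 b J = true := fun b h1 h2 => by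
  have hb : b = 1464 := Nat.le_antisymm (Nat.le_of_lt_succ h2) h1
  subst hb; exact ⟨_, lblk_1464⟩
theorem lo_1463_1465 : ∀ b, 1463 ≤ b → b < 1465 → ∃ J, chkPBlk P 5 31 18 31671 b J = true := fun b h1 h2 =>
  if h : b < 1464 then lo_1463_1464 b h1 h else lo_1464_1465 b (Nat.le_of_not_lt h) h2
theorem lo_1462_1465 : ∀ b, 1462 ≤ b → b < 1465 → ∃ J, chkPBlk P 5 31 18 31671 b J = true := fun b h1 h2 =>
  if h : b < 1463 then lo_1462_1463 b h1 h else lo_1463_1465 b (Nat.le_of_not_lt h) h2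
theorem lo_1460_1465 : ∀ b, 1460 ≤ b → b < 1465 → ∃ J, chkPBlk P 5 31 18 31671 b J = true := fun b h1 h2 =>
  if h : b < 1462 then lo_1460_1462 b h1 h else lo_1462_1465 b (Nat.le_of_not_lt h) h2
theorem lo_1465_1466 : ∀ b, 1465 ≤ b → b < 1466 → ∃ J, chkPBlk P 5 31 18 31671 b J = true := fun b h1 h2 => by
  have hb : b = 1465 := Nat.le_antisymm (Nat.le_of_lt_succ h2) h1
  subst hb; exact ⟨_, lblk_1465⟩
theorem lo_1466_1467 : ∀ b, 1466 ≤ b → b < 1467 → ∃ J, chkPBlk P 5 31 18 31671 b J = true := fun b h1 h2 => by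
  have hb : b = 1466 := Nat.le_antisymm (Nat.le_of_lt_succ h2) h1
  subst hb; exact ⟨_, lblk_1466⟩
theorem lo_1465_1467 : ∀ b, 1465 ≤ b → b < 1467 → ∃ J, chkPBlk P 5 31 18 31671 b J = true := fun b h1 h2 =>
  if h : b < 1466 then lo_1465_1466 b h1 h else lo_1466_1467 b (Nat.le_of_not_lt h) h2
theorem lo_1467_1468 : ∀ b, 1467 ≤ b → b < 1468 → ∃ J, chkPBlk P 5 31 18 31671 b J = true := fun b h1 h2 => by
  have hb : b = 1467 := Nat.le_antisymm (Nat.le_of_lt_succ h2) h1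
  subst hb; exact ⟨_, lblk_1467⟩
theorem lo_1468_1469 : ∀ b, 1468 ≤ b → b < 1469 → ∃ J, chkPBlk P 5 31 18 31671 b J = true := fun b h1 h2 => by
  have hb : b = 1468 := Nat.le_antisymm (Nat.le_of_lt_succ h2) h1
  subst hb; exact ⟨_, lblk_1468⟩
theorem lo_1469_1470 : ∀ b, 1469 ≤ b → b < 1470 → ∃ J, chkPBlk P 5 31 18 31671 b J = true := fun b h1 h2 => by
  have hb : b = 1469 := Nat.le_antisymm (Nat.le_of_lt_succ h2) h1
  subst hb; exact ⟨_, lblk_1469⟩
theorem lo_1468_1470 : ∀ b, 1468 ≤ b → b < 1470 → ∃ J, chkPBlk P 5 31 18 31671 b J = true := fun b h1 h2 =>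
  if h : b < 1469 then lo_1468_1469 b h1 h else lo_1469_1470 b (Nat.le_of_not_lt h) h2
theorem lo_1467_1470 : ∀ b, 1467 ≤ b → b < 1470 → ∃ J, chkPBlk P 5 31 18 31671 b J = true := fun b h1 h2 =>
  if h : b < 1468 then lo_1467_1468 b h1 h else lo_1468_1470 b (Nat.le_of_not_lt h) h2
theorem lo_1465_1470 : ∀ b, 1465 ≤ b → b < 1470 → ∃ J, chkPBlk P 5 31 18 31671 b J = true := fun b h1 h2 =>
  if h : b < 1467 then lo_1465_1467 b h1 h else lo_1467_1470 b (Nat.le_of_not_lt h) h2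
theorem lo_1460_1470 : ∀ b, 1460 ≤ b → b < 1470 → ∃ J, chkPBlk P 5 31 18 31671 b J = true := fun b h1 h2 =>
  if h : b < 1465 then lo_1460_1465 b h1 h else lo_1465_1470 b (Nat.le_of_not_lt h) h2
theorem lo_1451_1470 : ∀ b, 1451 ≤ b → b < 1470 → ∃ J, chkPBlk P 5 31 18 31671 b J = true := fun b h1 h2 =>
  if h : b < 1460 then lo_1451_1460 b h1 h else lo_1460_1470 b (Nat.le_of_not_lt h) h2
theorem lo_1433_1470 : ∀ b, 1433 ≤ b → b < 1470 → ∃ J, chkPBlk P 5 31 18 31671 b J = true := fun b h1 h2 =>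
  if h : b < 1451 then lo_1433_1451 b h1 h else lo_1451_1470 b (Nat.le_of_not_lt h) h2
theorem lo_1396_1470 : ∀ b, 1396 ≤ b → b < 1470 → ∃ J, chkPBlk P 5 31 18 31671 b J = true := fun b h1 h2 =>
  if h : b < 1433 then lo_1396_1433 b h1 h else lo_1433_1470 b (Nat.le_of_not_lt h) h2
theorem lo_1323_1470 : ∀ b, 1323 ≤ b → b < 1470 → ∃ J, chkPBlk P 5 31 18 31671 b J = true := fun b h1 h2 =>
  if h : b < 1396 then lo_1323_1396 b h1 h else lo_1396_1470 b (Nat.le_of_not_lt h) h2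

end Cfsg.Agent.Lib.Helper29.S1689
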